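import Mathlib.RingTheory.HopfAlgebra.Convolution
import Mathlib.RingTheory.Bialgebra.TensorProduct

set_option autoImplicit false
universe u v

open TensorProduct

namespace Groth.Agent.H83

variable (k : Type u) [CommRing k] (A : Type v) [CommRing A] [HopfAlgebra k A]

open WithConv in
/-- The antipode of a commutative Hopf algebra reverses the comultiplication. -/
theorem comul_antipode (a : A) :
    CoalgebraStruct.comul (R := k) (HopfAlgebraStruct.antipode k a) =
      TensorProduct.map (HopfAlgebraStruct.antipode k) (HopfAlgebraStruct.antipode k)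
        (TensorProduct.comm k A A (CoalgebraStruct.comul (R := k) a)) := by
  let i₁ : WithConv (A →ₐ[k] A ⊗[k] A) := toConv Algebra.TensorProduct.includeLeft
  let i₂ : WithConv (A →ₐ[k] A ⊗[k] A) := toConv Algebra.TensorProduct.includeRight
  let D : WithConv (A →ₐ[k] A ⊗[k] A) := toConv (Bialgebra.comulAlgHom k A)
  have hD : D = i₁ * i₂ := by
    apply WithConv.ofConv_injective
    apply AlgHom.ext
    intro x
    change CoalgebraStruct.comul (R := k) x = (i₁ * i₂).ofConv x
    have := AlgHom.convMul_apply i₁ i₂ x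
    rw [this]
    simp [i₁, i₂]
  have hinv : D⁻¹ = i₂⁻¹ * i₁⁻¹ := by rw [hD]; exact mul_inv_rev i₁ i₂
  have h1 : (D⁻¹).ofConv a = CoalgebraStruct.comul (R := k) (HopfAlgebraStruct.antipode k a) := rfl
  rw [← h1, hinv]
  have h2 := AlgHom.convMul_apply (i₂⁻¹) (i₁⁻¹) a
  rw [h2]
  generalize CoalgebraStruct.comul (R := k) a = z
  induction z using TensorProduct.induction_on with
  | zero => simp
  | tmul x y =>
    simp only [Algebra.TensorProduct.lift_tmul, TensorProduct.comm_tmul, TensorProduct.map_tmul]
    have e2 : i₂⁻¹.ofConv x = (1 : A) ⊗ₜ[k] (HopfAlgebraStruct.antipode k x) := rfl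
    have e1 : i₁⁻¹.ofConv y = (HopfAlgebraStruct.antipode k y) ⊗ₜ[k] (1 : A) := rfl
    rw [e1, e2, Algebra.TensorProduct.tmul_mul_tmul, one_mul, mul_one]
  | add x y hx hy => simp only [map_add, hx, hy]

end Groth.Agent.H83
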