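import Groth.Agent.H83.TkSub
import Groth.Agent.H83.HopfAux
import Groth.Agent.S8220

/-!
# Takeuchi's theorem in general: a commutative Hopf algebra over a field is faithfully flat over
every sub-Hopf-algebra
-/

set_option autoImplicit false

open TensorProduct WithConv
open Groth.Agent.H1.FinHopf

namespace Groth.Agent.H83.Tk

attribute [local instance] grp

universe u

/-- Bialgebra maps between commutative Hopf algebras commute with the antipodes. -/
theorem bialgHom_antipode {k : Type*} [CommRing k] {A B : Type*} [CommRing A] [CommRing B]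
    [HopfAlgebra k A] [HopfAlgebra k B] (f : A →ₐc[k] B) (a : A) :
    HopfAlgebraStruct.antipode k (f a) = f (HopfAlgebraStruct.antipode k a) := by
  have h1 : preComp B f ((toConv (AlgHom.id k B))⁻¹) = (preComp B f (toConv (AlgHom.id k B)))⁻¹ :=
    map_inv _ _
  exact DFunLike.congr_fun (congrArg ofConv h1) a

/-- The antipode of a commutative Hopf algebra is an involution. -/
theorem antipode_antipode' {k : Type*} [CommRing k] {A : Type*} [CommRing A] [HopfAlgebra k A]
    (a : A) : HopfAlgebraStruct.antipode k (HopfAlgebraStruct.antipode k a) = a := by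
  have h3 := inv_inv (toConv (AlgHom.id k A))
  exact DFunLike.congr_fun (congrArg ofConv h3) a

/-- The range of a bialgebra map is stable under comultiplication. -/
theorem range_comul {k : Type*} [Field k] {A B : Type*} [CommRing A] [CommRing B]
    [HopfAlgebra k A] [HopfAlgebra k B] (f : A →ₐc[k] B) :
    ∀ b ∈ (f : A →ₐ[k] B).range, Coalgebra.comul (R := k) b ∈
      (incl₂ (f : A →ₐ[k] B).range).range := by
  rintro _ ⟨a, rfl⟩
  have h1 : Coalgebra.comul (R := k) (f a) = TensorProduct.map (f : A →ₗ[k] B) (f : A →ₗ[k] B)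
      (Coalgebra.comul (R := k) a) := (CoalgHomClass.map_comp_comul_apply f a).symm
  change Coalgebra.comul (R := k) (f a) ∈ _
  rw [h1]
  generalize Coalgebra.comul (R := k) a = t
  induction t using TensorProduct.induction_on with
  | zero => rw [map_zero]; exact Subalgebra.zero_mem _
  | tmul x y =>
    exact ⟨(⟨f x, ⟨x, rfl⟩⟩ : (f : A →ₐ[k] B).range) ⊗ₜ[k]
      (⟨f y, ⟨y, rfl⟩⟩ : (f : A →ₐ[k] B).range), rfl⟩
  | add x y hx hy => rw [map_add]; exact Subalgebra.add_mem _ hx hy

/-- The range of a bialgebra map is stable under the antipode. -/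
theorem range_antipode {k : Type*} [Field k] {A B : Type*} [CommRing A] [CommRing B]
    [HopfAlgebra k A] [HopfAlgebra k B] (f : A →ₐc[k] B) :
    ∀ b ∈ (f : A →ₐ[k] B).range, HopfAlgebraStruct.antipode k b ∈ (f : A →ₐ[k] B).range := by
  rintro _ ⟨a, rfl⟩
  exact ⟨HopfAlgebraStruct.antipode k a, (bialgHom_antipode f a).symm⟩

/-- Every finite subset of a commutative Hopf algebra over a field lies in a finitely generated
sub-Hopf-algebra. -/
theorem exists_fg_hopfSub (k : Type u) [Field k] (A : Type u) [CommRing A] [HopfAlgebra k A]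
    (s : Finset A) :
    ∃ B : Subalgebra k A, (↑s : Set A) ⊆ B ∧ B.FG ∧
      (∀ b ∈ B, Coalgebra.comul (R := k) b ∈ (incl₂ B).range) ∧
      (∀ b ∈ B, HopfAlgebraStruct.antipode k b ∈ B) := by
  classical
  obtain ⟨D, hDfin, hxD, hDcomul⟩ := Groth.Agent.S8220.result (k := k) (A := A) s
  obtain ⟨t, ht⟩ : ∃ t : Finset A, Submodule.span k (t : Set A) = D := Module.Finite.iff_fg.mp hDfin
  set S := HopfAlgebra.antipodeAlgHom k A with hS
  have hSapp : ∀ a, S a = HopfAlgebraStruct.antipode k a := fun _ => rfl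
  set B : Subalgebra k A := Algebra.adjoin k ((t : Set A) ∪ S '' (t : Set A)) with hB
  have hDB : D ≤ Subalgebra.toSubmodule B := by
    rw [← ht, Submodule.span_le]
    intro a ha
    exact Algebra.subset_adjoin (Or.inl ha)
  have hSD : ∀ d ∈ D, S d ∈ B := by
    intro d hd
    rw [← ht] at hd
    refine Submodule.span_induction (p := fun d _ => S d ∈ B) ?_ ?_ ?_ ?_ hd
    · intro a ha
      exact Algebra.subset_adjoin (Or.inr ⟨a, ha, rfl⟩)
    · rw [map_zero]; exact B.zero_mem
    · intro a b _ _ ha hb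
      rw [map_add]; exact B.add_mem ha hb
    · intro c a _ ha
      rw [map_smul]; exact B.smul_mem ha c
  have hSB : ∀ b ∈ B, S b ∈ B := by
    have hle : B.map S ≤ B := by
      rw [hB, AlgHom.map_adjoin]
      apply Algebra.adjoin_le
      rintro _ ⟨a, ha | ⟨a', ha', rfl⟩, rfl⟩
      · exact Algebra.subset_adjoin (Or.inr ⟨a, ha, rfl⟩)
      · rw [hSapp, hSapp, antipode_antipode']
        exact Algebra.subset_adjoin (Or.inl ha')
    intro b hb
    exact hle ⟨b, hb, rfl⟩
  set R : Subalgebra k (A ⊗[k] A) := (incl₂ B).range with hR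
  have hDD : ∀ w : D ⊗[k] D, TensorProduct.map D.subtype D.subtype w ∈ R := by
    intro w
    induction w using TensorProduct.induction_on with
    | zero => rw [map_zero]; exact R.zero_mem
    | tmul a b =>
      exact ⟨(⟨a.1, hDB a.2⟩ : B) ⊗ₜ[k] (⟨b.1, hDB b.2⟩ : B), rfl⟩
    | add x y hx hy => rw [map_add]; exact R.add_mem hx hy
  have hDD' : ∀ w : D ⊗[k] D, TensorProduct.map (HopfAlgebraStruct.antipode k)
      (HopfAlgebraStruct.antipode k) (TensorProduct.comm k A A
        (TensorProduct.map D.subtype D.subtype w)) ∈ R := by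
    intro w
    induction w using TensorProduct.induction_on with
    | zero => simp only [map_zero]; exact R.zero_mem
    | tmul a b =>
      exact ⟨(⟨S b.1, hSD _ b.2⟩ : B) ⊗ₜ[k] (⟨S a.1, hSD _ a.2⟩ : B), rfl⟩
    | add x y hx hy => simp only [map_add]; exact R.add_mem hx hy
  have hcomulB : B ≤ R.comap (Bialgebra.comulAlgHom k A) := by
    rw [hB]
    apply Algebra.adjoin_le
    rintro a (ha | ⟨a', ha', rfl⟩)
    · have haD : a ∈ D := by rw [← ht]; exact Submodule.subset_span ha
      obtain ⟨w, hw⟩ := hDcomul a haD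
      show CoalgebraStruct.comul (R := k) a ∈ R
      rw [← hw]
      exact hDD w
    · have haD : a' ∈ D := by rw [← ht]; exact Submodule.subset_span ha'
      obtain ⟨w, hw⟩ := hDcomul a' haD
      show CoalgebraStruct.comul (R := k) (HopfAlgebraStruct.antipode k a') ∈ R
      rw [Groth.Agent.H83.comul_antipode, ← hw]
      exact hDD' w
  refine ⟨B, fun x hx => hDB (hxD hx), ⟨t ∪ t.image S, by
    rw [hB, Finset.coe_union, Finset.coe_image]⟩, ?_, ?_⟩
  · intro b hb
    exact hcomulB hb
  · intro b hb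
    exact hSB b hb

/-- Faithful flatness can be checked on subrings containing any given finite subset. -/
theorem faithfullyFlat_of_finset_approx {R A : Type u} [CommRing R] [CommRing A] [Algebra R A]
    (h : ∀ s : Finset R, ∃ (R₀ : Type u) (_ : CommRing R₀) (j : R₀ →+* R),
      ((↑s : Set R) ⊆ Set.range j) ∧ ((algebraMap R A).comp j).FaithfullyFlat) :
    Module.FaithfullyFlat R A := by
  classical
  have hflat : Module.Flat R A := by
    apply Module.Flat.of_forall_isTrivialRelation
    intro l f x hrel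
    obtain ⟨R₀, _, j, hs, hff⟩ := h (Finset.univ.image f)
    let _ : Algebra R₀ A := ((algebraMap R A).comp j).toAlgebra
    have hff' : Module.FaithfullyFlat R₀ A := hff
    have hsm : ∀ (r : R₀) (m : A), r • m = j r • m := fun r m => by
      rw [Algebra.smul_def, Algebra.smul_def]; rfl
    choose f' hf' using fun i => hs (Finset.mem_coe.mpr
      (Finset.mem_image_of_mem f (Finset.mem_univ i)))
    have hrel' : ∑ i, f' i • x i = 0 := by
      rw [← hrel]
      exact Finset.sum_congr rfl fun i _ => by rw [hsm, hf']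
    obtain ⟨κ, a', y, hxy, hfa⟩ := Module.Flat.isTrivialRelation_of_sum_smul_eq_zero (R := R₀) (M := A) hrel'
    refine ⟨κ, fun i j' => j (a' i j'), y, fun i => ?_, fun j' => ?_⟩
    · rw [hxy i]
      exact Finset.sum_congr rfl fun j' _ => hsm _ _
    · have := congrArg j (hfa j')
      rw [map_sum, map_zero] at this
      rw [← this]
      exact Finset.sum_congr rfl fun i _ => by rw [map_mul, hf']
  rw [Module.FaithfullyFlat.iff_flat_and_proper_ideal]
  refine ⟨hflat, fun I hI htop => ?_⟩
  rw [Ideal.smul_top_eq_map] at htop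
  have h1 : (1 : A) ∈ Ideal.map (algebraMap R A) I := by
    have : (1 : A) ∈ (Ideal.map (algebraMap R A) I).restrictScalars R := by
      rw [htop]; exact Submodule.mem_top
    exact this
  -- finite support
  have hfin : ∀ t ∈ Ideal.map (algebraMap R A) I, ∃ s : Finset R, (↑s : Set R) ⊆ I ∧
      t ∈ Ideal.span (algebraMap R A '' (↑s : Set R)) := by
    intro t ht
    refine Submodule.span_induction (p := fun t _ => ∃ s : Finset R, (↑s : Set R) ⊆ I ∧
      t ∈ Ideal.span (algebraMap R A '' (↑s : Set R))) ?_ ?_ ?_ ?_ ht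
    · rintro _ ⟨a, ha, rfl⟩
      exact ⟨{a}, by simpa using ha, Ideal.subset_span ⟨a, by simp, rfl⟩⟩
    · exact ⟨∅, by simp, Submodule.zero_mem _⟩
    · rintro x y _ _ ⟨s₁, hs₁, hx⟩ ⟨s₂, hs₂, hy⟩
      refine ⟨s₁ ∪ s₂, by rw [Finset.coe_union]; exact Set.union_subset hs₁ hs₂, ?_⟩
      refine Submodule.add_mem _ (Ideal.span_mono ?_ hx) (Ideal.span_mono ?_ hy)
      · exact Set.image_mono (by rw [Finset.coe_union]; exact Set.subset_union_left)
      · exact Set.image_mono (by rw [Finset.coe_union]; exact Set.subset_union_right)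
    · rintro c x _ ⟨s, hs, hx⟩
      exact ⟨s, hs, Submodule.smul_mem _ c hx⟩
  obtain ⟨s, hsI, hs1⟩ := hfin 1 h1
  obtain ⟨R₀, _, j, hs, hff⟩ := h s
  let _ : Algebra R₀ A := ((algebraMap R A).comp j).toAlgebra
  have hff' : Module.FaithfullyFlat R₀ A := hff
  have hle : Ideal.span (algebraMap R A '' (↑s : Set R)) ≤
      Ideal.map (algebraMap R₀ A) (Ideal.comap j I) := by
    apply Ideal.span_le.mpr
    rintro _ ⟨a, ha, rfl⟩
    obtain ⟨a', rfl⟩ := hs ha
    exact Ideal.mem_map_of_mem (algebraMap R₀ A) (show a' ∈ Ideal.comap j I from hsI ha)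
  have h2 : Ideal.map (algebraMap R₀ A) (Ideal.comap j I) = ⊤ :=
    (Ideal.eq_top_iff_one _).mpr (hle hs1)
  have h3 := Ideal.comap_map_eq_self_of_faithfullyFlat (B := A) (Ideal.comap j I)
  rw [h2, Ideal.comap_top] at h3
  have h4 : (1 : R₀) ∈ Ideal.comap j I := by rw [← h3]; exact Submodule.mem_top
  rw [Ideal.mem_comap, map_one] at h4
  exact hI ((Ideal.eq_top_iff_one _).mpr h4)

/-- **Takeuchi's theorem**: a commutative Hopf algebra over a field is faithfully flat over every
sub-Hopf-algebra. -/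
theorem hopfSub_faithfullyFlat (k : Type u) [Field k] (A : Type u) [CommRing A] [HopfAlgebra k A]
    (B : Subalgebra k A) (hS : ∀ b ∈ B, Coalgebra.comul (R := k) b ∈ (incl₂ B).range)
    (hanti : ∀ b ∈ B, HopfAlgebraStruct.antipode k b ∈ B) : Module.FaithfullyFlat ↥B A := by
  let _ := subHopf B hS hanti
  apply faithfullyFlat_of_finset_approx
  intro s
  obtain ⟨B₀, hs, hfg, hS₀, hanti₀⟩ := exists_fg_hopfSub k ↥B s
  let _ := subHopf B₀ hS₀ hanti₀
  have hft : Algebra.FiniteType k ↥B₀ := (Subalgebra.fg_iff_finiteType B₀).mp hfg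
  have hnoeth : IsNoetherianRing ↥B₀ := Algebra.FiniteType.isNoetherianRing k ↥B₀
  refine ⟨↥B₀, inferInstance, (B₀.val : ↥B₀ →+* ↥B), ?_, ?_⟩
  · intro x hx
    exact ⟨⟨x, hs hx⟩, rfl⟩
  · have hff : Module.FaithfullyFlat ↥B₀ A :=
      bialgHom_faithfullyFlat ((subVal B hS).comp (subVal B₀ hS₀))
        (fun x y hxy => Subtype.ext (Subtype.ext hxy)) (fun a => rfl)
    exact RingHom.faithfullyFlat_algebraMap_iff.mpr hff

end Groth.Agent.H83.Tk
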