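import Mathlib

/-!
# Kähler differentials of a commutative Hopf algebra over a field are free (helper83)

Part A: the shear automorphism `ψ` of `B ⊗[K] B` (as a left `B`-algebra) with `μ ∘ ψ = id ⊗ ε`.
-/

set_option autoImplicit false
universe u v

namespace Groth.Agent.H83.HopfKaehler

open TensorProduct Algebra.TensorProduct WithConv Bialgebra

section
variable (K : Type u) [CommRing K] (B : Type v) [CommRing B] [HopfAlgebra K B]

/-- left inclusion -/
noncomputable def i1 : B →ₐ[K] B ⊗[K] B := includeLeft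
/-- right inclusion -/
noncomputable def i2 : B →ₐ[K] B ⊗[K] B := includeRight

/-- `b ↦ Σ S(b₁) ⊗ b₂` -/
noncomputable def gpsi : B →ₐ[K] B ⊗[K] B := ((toConv (i1 K B))⁻¹ * toConv (i2 K B)).ofConv
/-- `b ↦ Σ b₁ ⊗ b₂` -/
noncomputable def gphi : B →ₐ[K] B ⊗[K] B := (toConv (i1 K B) * toConv (i2 K B)).ofConv

/-- `a ⊗ b ↦ Σ a S(b₁) ⊗ b₂` -/
noncomputable def psi : B ⊗[K] B →ₐ[B] B ⊗[K] B :=
  Algebra.TensorProduct.lift (Algebra.ofId B (B ⊗[K] B)) (gpsi K B) (fun _ _ => Commute.all _ _)
/-- `a ⊗ b ↦ Σ a b₁ ⊗ b₂` -/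
noncomputable def phi : B ⊗[K] B →ₐ[B] B ⊗[K] B :=
  Algebra.TensorProduct.lift (Algebra.ofId B (B ⊗[K] B)) (gphi K B) (fun _ _ => Commute.all _ _)

/-- `a ⊗ b ↦ a ε(b)` -/
noncomputable def theta : B ⊗[K] B →ₐ[B] B :=
  Algebra.TensorProduct.lift (AlgHom.id B B) ((Algebra.ofId K B).comp (Bialgebra.counitAlgHom K B))
    (fun _ _ => Commute.all _ _)

theorem comp_inv {C D : Type*} [CommRing C] [CommRing D] [Bialgebra K C] [Bialgebra K D]
    (h : C →ₐ[K] D) (f : WithConv (B →ₐ[K] C)) :
    h.comp (f⁻¹).ofConv = ((toConv (h.comp f.ofConv))⁻¹).ofConv := rfl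

theorem psi_i1 : ((psi K B).restrictScalars K).comp (i1 K B) = i1 K B := by
  apply AlgHom.ext
  intro a
  simp [psi, i1, Algebra.ofId_apply, Algebra.TensorProduct.algebraMap_apply]

theorem phi_i1 : ((phi K B).restrictScalars K).comp (i1 K B) = i1 K B := by
  apply AlgHom.ext
  intro a
  simp [phi, i1, Algebra.ofId_apply, Algebra.TensorProduct.algebraMap_apply]

theorem psi_i2 : ((psi K B).restrictScalars K).comp (i2 K B) = gpsi K B :=
  lift_comp_includeRight _ _ _

theorem phi_i2 : ((phi K B).restrictScalars K).comp (i2 K B) = gphi K B :=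
  lift_comp_includeRight _ _ _

theorem psi_gphi : ((psi K B).restrictScalars K).comp (gphi K B) = i2 K B := by
  unfold gphi
  rw [AlgHom.comp_convMul_distrib, psi_i1, psi_i2]
  unfold gpsi
  simp only [toConv_ofConv]
  exact congrArg ofConv (mul_inv_cancel_left (toConv (i1 K B)) (toConv (i2 K B)))

theorem phi_gpsi : ((phi K B).restrictScalars K).comp (gpsi K B) = i2 K B := by
  unfold gpsi
  rw [AlgHom.comp_convMul_distrib, comp_inv, phi_i1, phi_i2]
  unfold gphi
  simp only [toConv_ofConv]
  exact congrArg ofConv (inv_mul_cancel_left (toConv (i1 K B)) (toConv (i2 K B)))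

theorem psi_comp_phi : (psi K B).comp (phi K B) = AlgHom.id B _ := by
  apply Algebra.TensorProduct.ext
  · apply AlgHom.ext
    intro a
    simp [psi, phi, Algebra.ofId_apply, Algebra.TensorProduct.algebraMap_apply]
  · have h : (((psi K B).comp (phi K B)).restrictScalars K).comp includeRight =
        ((psi K B).restrictScalars K).comp (((phi K B).restrictScalars K).comp (i2 K B)) := rfl
    rw [h, phi_i2, psi_gphi]
    rfl

theorem phi_comp_psi : (phi K B).comp (psi K B) = AlgHom.id B _ := by
  apply Algebra.TensorProduct.ext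
  · apply AlgHom.ext
    intro a
    simp [psi, phi, Algebra.ofId_apply, Algebra.TensorProduct.algebraMap_apply]
  · have h : (((phi K B).comp (psi K B)).restrictScalars K).comp includeRight =
        ((phi K B).restrictScalars K).comp (((psi K B).restrictScalars K).comp (i2 K B)) := rfl
    rw [h, psi_i2, phi_gpsi]
    rfl

/-- the shear automorphism -/
noncomputable def Psi : (B ⊗[K] B) ≃ₐ[B] (B ⊗[K] B) :=
  AlgEquiv.ofAlgHom (psi K B) (phi K B) (psi_comp_phi K B) (phi_comp_psi K B)

theorem lmul_comp_psi : (Algebra.TensorProduct.lmul'' K (S := B)).comp (psi K B) = theta K B := by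
  apply Algebra.TensorProduct.ext
  · apply AlgHom.ext
    intro a
    simp [psi, theta, Algebra.ofId_apply, Algebra.TensorProduct.algebraMap_apply, lmul'']
  · have h : (((Algebra.TensorProduct.lmul'' K (S := B)).comp (psi K B)).restrictScalars K).comp
        includeRight = (Algebra.TensorProduct.lmul' K (S := B)).comp
          (((psi K B).restrictScalars K).comp (i2 K B)) := rfl
    rw [h, psi_i2]
    unfold gpsi
    rw [AlgHom.comp_convMul_distrib, comp_inv]
    have h1 : (Algebra.TensorProduct.lmul' K (S := B)).comp (i1 K B) = AlgHom.id K B :=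
      lmul'_comp_includeLeft
    have h2 : (Algebra.TensorProduct.lmul' K (S := B)).comp (i2 K B) = AlgHom.id K B :=
      lmul'_comp_includeRight
    rw [toConv_ofConv, h1, h2, inv_mul_cancel]
    exact (lift_comp_includeRight _ _ _).symm

theorem theta_eq (x : B ⊗[K] B) :
    theta K B x = Algebra.TensorProduct.lmul' K (S := B) (psi K B x) := by
  rw [← lmul_comp_psi]
  rfl

end


section
variable (K : Type u) [CommRing K] (B : Type v) [CommRing B] [HopfAlgebra K B]

/-- augmentation ideal -/
noncomputable def augI : Ideal B := RingHom.ker (Bialgebra.counitAlgHom K B)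

theorem sub_counit_mem (b : B) :
    b - algebraMap K B (Bialgebra.counitAlgHom K B b) ∈ augI K B := by
  rw [augI, RingHom.mem_ker, map_sub, AlgHom.commutes]
  simp

/-- `b ↦ [b − ε(b)]` -/
noncomputable def rmap : B →ₗ[K] (augI K B).Cotangent where
  toFun b := (augI K B).toCotangent ⟨b - algebraMap K B (Bialgebra.counitAlgHom K B b),
    sub_counit_mem K B b⟩
  map_add' b b' := by
    rw [← map_add]
    congr 1
    ext
    simp only [map_add, Submodule.coe_add]
    ring
  map_smul' c b := by
    rw [RingHom.id_apply, ← LinearMap.map_smul_of_tower]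
    congr 1
    ext
    simp only [Submodule.coe_smul_of_tower, Algebra.smul_def]
    simp
    ring

theorem rmap_apply (b : B) : rmap K B b = (augI K B).toCotangent
    ⟨b - algebraMap K B (Bialgebra.counitAlgHom K B b), sub_counit_mem K B b⟩ := rfl

theorem rmap_mul (b b' : B) : rmap K B (b * b') =
    Bialgebra.counitAlgHom K B b • rmap K B b' + Bialgebra.counitAlgHom K B b' • rmap K B b := by
  rw [rmap_apply, rmap_apply, rmap_apply, ← LinearMap.map_smul_of_tower,
    ← LinearMap.map_smul_of_tower, ← map_add, Ideal.toCotangent_eq]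
  have h : (b * b' - algebraMap K B (Bialgebra.counitAlgHom K B (b * b')) -
      ((Bialgebra.counitAlgHom K B b • (⟨b' - algebraMap K B (Bialgebra.counitAlgHom K B b'),
          sub_counit_mem K B b'⟩ : augI K B) +
        Bialgebra.counitAlgHom K B b' • (⟨b - algebraMap K B (Bialgebra.counitAlgHom K B b),
          sub_counit_mem K B b⟩ : augI K B) : augI K B) : B)) =
      (b - algebraMap K B (Bialgebra.counitAlgHom K B b)) *
        (b' - algebraMap K B (Bialgebra.counitAlgHom K B b')) := by
    simp only [Submodule.coe_add, Submodule.coe_smul_of_tower, Algebra.smul_def, map_mul]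
    ring
  rw [h, sq]
  exact Ideal.mul_mem_mul (sub_counit_mem K B b) (sub_counit_mem K B b')

/-- `a ⊗ b ↦ a ⊗ [b − ε(b)]` -/
noncomputable def RT : B ⊗[K] B →ₗ[B] B ⊗[K] (augI K B).Cotangent := (rmap K B).baseChange B

theorem RT_tmul (a b : B) : RT K B (a ⊗ₜ b) = a ⊗ₜ rmap K B b := LinearMap.baseChange_tmul ..

theorem theta_tmul (a b : B) :
    theta K B (a ⊗ₜ b) = a * algebraMap K B (Bialgebra.counitAlgHom K B b) := by
  simp [theta, Algebra.ofId_apply]

theorem RT_mul (s t : B ⊗[K] B) :
    RT K B (s * t) = theta K B s • RT K B t + theta K B t • RT K B s := by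
  induction s using TensorProduct.induction_on with
  | zero => simp
  | add s1 s2 h1 h2 =>
    rw [add_mul, map_add, h1, h2, map_add, map_add, add_smul, smul_add]
    abel
  | tmul a b =>
    induction t using TensorProduct.induction_on with
    | zero => simp
    | add t1 t2 h1 h2 =>
      rw [mul_add, map_add, h1, h2, map_add, map_add, add_smul, smul_add]
      abel
    | tmul a' b' =>
      rw [Algebra.TensorProduct.tmul_mul_tmul, RT_tmul, RT_tmul, RT_tmul, theta_tmul, theta_tmul,
        rmap_mul, TensorProduct.tmul_add, TensorProduct.tmul_smul, TensorProduct.tmul_smul,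
        TensorProduct.smul_tmul', TensorProduct.smul_tmul', TensorProduct.smul_tmul',
        TensorProduct.smul_tmul', smul_eq_mul, smul_eq_mul, Algebra.smul_def, Algebra.smul_def]
      congr 1
      · congr 1; ring
      · congr 1; ring

/-- kernel of `id ⊗ ε` -/
noncomputable def Ith : Ideal (B ⊗[K] B) := RingHom.ker (theta K B)

/-- `I_θ/I_θ² → B ⊗ I/I²` -/
noncomputable def Rbar : (Ith K B).Cotangent →ₗ[B] B ⊗[K] (augI K B).Cotangent :=
  Ideal.Cotangent.lift ((RT K B) ∘ₗ ((Ith K B).subtype.restrictScalars B)) (fun x y => by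
    show RT K B ((x : B ⊗[K] B) * (y : B ⊗[K] B)) = 0
    rw [RT_mul, (RingHom.mem_ker).mp x.2, (RingHom.mem_ker).mp y.2, zero_smul, zero_smul, add_zero])

theorem Rbar_toCotangent (x : Ith K B) :
    Rbar K B ((Ith K B).toCotangent x) = RT K B (x : B ⊗[K] B) := rfl

theorem augI_le : augI K B ≤ (Ith K B).comap (includeRight : B →ₐ[K] B ⊗[K] B) := by
  intro x hx
  rw [augI, RingHom.mem_ker] at hx
  rw [Ideal.mem_comap, Ith, RingHom.mem_ker, includeRight_apply, theta_tmul, hx, map_zero,
    mul_zero]

/-- `I/I² → I_θ/I_θ²` induced by `x ↦ 1 ⊗ x` -/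
noncomputable def gmap : (augI K B).Cotangent →ₗ[K] (Ith K B).Cotangent :=
  Ideal.mapCotangent (augI K B) (Ith K B) (includeRight : B →ₐ[K] B ⊗[K] B) (augI_le K B)

/-- `B ⊗ I/I² → I_θ/I_θ²` -/
noncomputable def Q : B ⊗[K] (augI K B).Cotangent →ₗ[B] (Ith K B).Cotangent :=
  (gmap K B).liftBaseChange B

theorem mem_Ith (t : B ⊗[K] B) : t - algebraMap B (B ⊗[K] B) (theta K B t) ∈ Ith K B := by
  rw [Ith, RingHom.mem_ker, map_sub, AlgHom.commutes, Algebra.algebraMap_self, RingHom.id_apply,
    sub_self]

theorem Q_RT (t : B ⊗[K] B) :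
    Q K B (RT K B t) = (Ith K B).toCotangent ⟨_, mem_Ith K B t⟩ := by
  induction t using TensorProduct.induction_on with
  | zero =>
    rw [map_zero, map_zero]
    symm
    rw [Ideal.toCotangent_eq_zero]
    simp
  | tmul a b =>
    rw [RT_tmul, Q, LinearMap.liftBaseChange_tmul, rmap_apply, gmap,
      Ideal.mapCotangent_toCotangent, ← LinearMap.map_smul_of_tower]
    congr 1
    ext
    simp only [Submodule.coe_smul_of_tower, includeRight_apply]
    rw [TensorProduct.smul_tmul', smul_eq_mul, mul_one, TensorProduct.tmul_sub, theta_tmul,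
      Algebra.TensorProduct.algebraMap_apply]
    congr 1
    rw [Algebra.algebraMap_eq_smul_one, TensorProduct.tmul_smul, mul_smul_comm, mul_one,
      Algebra.algebraMap_self, RingHom.id_apply, TensorProduct.smul_tmul']
  | add t1 t2 h1 h2 =>
    rw [map_add, map_add, h1, h2, ← map_add]
    congr 1
    ext
    simp only [map_add, Submodule.coe_add]
    ring

theorem Q_Rbar (z : (Ith K B).Cotangent) : Q K B (Rbar K B z) = z := by
  obtain ⟨x, rfl⟩ := (Ith K B).toCotangent_surjective z
  rw [Rbar_toCotangent, Q_RT]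
  congr 1
  ext
  have hx : theta K B (x : B ⊗[K] B) = 0 := (RingHom.mem_ker).mp x.2
  simp [hx]

theorem Rbar_Q (w : B ⊗[K] (augI K B).Cotangent) : Rbar K B (Q K B w) = w := by
  induction w using TensorProduct.induction_on with
  | zero => simp
  | add w1 w2 h1 h2 => rw [map_add, map_add, h1, h2]
  | tmul a m =>
    obtain ⟨x, rfl⟩ := (augI K B).toCotangent_surjective m
    rw [Q, LinearMap.liftBaseChange_tmul, map_smul, gmap, Ideal.mapCotangent_toCotangent,
      Rbar_toCotangent]
    show a • RT K B ((1 : B) ⊗ₜ[K] (x : B)) = _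
    rw [RT_tmul, TensorProduct.smul_tmul', smul_eq_mul, mul_one, rmap_apply]
    congr 2
    ext
    have hx : Bialgebra.counitAlgHom K B (x : B) = 0 := (RingHom.mem_ker).mp x.2
    simp [hx]

/-- `I_θ/I_θ² ≃ B ⊗ I/I²` -/
noncomputable def equivB : (Ith K B).Cotangent ≃ₗ[B] B ⊗[K] (augI K B).Cotangent :=
  LinearEquiv.ofLinearMap (Rbar K B) (Q K B) (LinearMap.ext (Rbar_Q K B)) (LinearMap.ext (Q_Rbar K B))

theorem Ith_le : Ith K B ≤ (KaehlerDifferential.ideal K B).comap (psi K B) := by
  intro x hx
  rw [Ith, RingHom.mem_ker, theta_eq] at hx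
  exact hx

theorem psi_phi (x : B ⊗[K] B) : psi K B (phi K B x) = x :=
  AlgHom.congr_fun (psi_comp_phi K B) x

theorem phi_psi (x : B ⊗[K] B) : phi K B (psi K B x) = x :=
  AlgHom.congr_fun (phi_comp_psi K B) x

theorem ideal_le : KaehlerDifferential.ideal K B ≤ (Ith K B).comap (phi K B) := by
  intro x hx
  rw [Ideal.mem_comap, Ith, RingHom.mem_ker, theta_eq, psi_phi]
  exact hx

/-- `I_θ/I_θ² ≃ J/J²` -/
noncomputable def equivJ : (Ith K B).Cotangent ≃ₗ[B] (KaehlerDifferential.ideal K B).Cotangent :=
  LinearEquiv.ofLinearMap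
    (Ideal.mapCotangent (Ith K B) (KaehlerDifferential.ideal K B) (psi K B) (Ith_le K B))
    (Ideal.mapCotangent (KaehlerDifferential.ideal K B) (Ith K B) (phi K B) (ideal_le K B))
    (by
      apply LinearMap.ext
      intro z
      obtain ⟨x, rfl⟩ := (KaehlerDifferential.ideal K B).toCotangent_surjective z
      rw [LinearMap.comp_apply, Ideal.mapCotangent_toCotangent, Ideal.mapCotangent_toCotangent,
        LinearMap.id_apply]
      exact congrArg _ (Subtype.ext (psi_phi K B _)))
    (by
      apply LinearMap.ext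
      intro z
      obtain ⟨x, rfl⟩ := (Ith K B).toCotangent_surjective z
      rw [LinearMap.comp_apply, Ideal.mapCotangent_toCotangent, Ideal.mapCotangent_toCotangent,
        LinearMap.id_apply]
      exact congrArg _ (Subtype.ext (phi_psi K B _)))

end

theorem free_kaehler (K : Type u) [Field K] (B : Type v) [CommRing B] [HopfAlgebra K B] :
    Module.Free B (KaehlerDifferential.ideal K B).Cotangent :=
  Module.Free.of_equiv ((equivB K B).symm.trans (equivJ K B))

end Groth.Agent.H83.HopfKaehler
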