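import Mathlib

set_option autoImplicit false
universe u
open IsLocalRing

namespace Groth.Agent.H83.Sit_E1

variable (A : Type u) [CommRing A] [IsNoetherianRing A] (I : Ideal A)

/-- The completion of the local ring `A_r` along `I A_r`. -/
abbrev Rh (r : PrimeSpectrum A) : Type u :=
  AdicCompletion (I.map (algebraMap A (Localization.AtPrime r.asIdeal)))
    (Localization.AtPrime r.asIdeal)

theorem exists_prime_completion (p r : PrimeSpectrum A) (hpI : ¬ I ≤ p.asIdeal)
    (hr : r.asIdeal ∈ (p.asIdeal ⊔ I).minimalPrimes) :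
    ∃ p' : PrimeSpectrum (Rh A I r), p'.asIdeal.comap (algebraMap A (Rh A I r)) = p.asIdeal ∧
      p'.asIdeal ∈ (p.asIdeal.map (algebraMap A (Rh A I r))).minimalPrimes ∧
      ∀ q' : PrimeSpectrum (Rh A I r), p' ≤ q' → I.map (algebraMap A (Rh A I r)) ≤ q'.asIdeal →
        q'.asIdeal.IsMaximal := by
  have hpr : p.asIdeal ≤ r.asIdeal := le_sup_left.trans hr.1.2
  have hIr : I ≤ r.asIdeal := le_sup_right.trans hr.1.2
  haveI : IsNoetherianRing (Localization.AtPrime r.asIdeal) :=
    IsLocalization.isNoetherianRing r.asIdeal.primeCompl _ inferInstance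
  have hmax : ∀ K : Ideal A, K ≤ r.asIdeal →
      K.map (algebraMap A (Localization.AtPrime r.asIdeal)) ≤
        maximalIdeal (Localization.AtPrime r.asIdeal) := by
    intro K hK
    rw [← IsLocalization.AtPrime.map_eq_maximalIdeal r.asIdeal (Localization.AtPrime r.asIdeal)]
    exact Ideal.map_mono hK
  haveI : IsScalarTower A (Localization.AtPrime r.asIdeal) (Rh A I r) :=
    IsScalarTower.of_algebraMap_eq (fun x => rfl)
  have hMM : ((maximalIdeal (Localization.AtPrime r.asIdeal)).map
      (algebraMap (Localization.AtPrime r.asIdeal) (Rh A I r))).IsMaximal :=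
    AdicCompletion.isMaximal_map_of_le _ (maximalIdeal (Localization.AtPrime r.asIdeal))
      (hmax I hIr) (IsNoetherian.noetherian _)
  have hmapA : ∀ K : Ideal A, K.map (algebraMap A (Rh A I r)) =
      (K.map (algebraMap A (Localization.AtPrime r.asIdeal))).map
        (algebraMap (Localization.AtPrime r.asIdeal) (Rh A I r)) := by
    intro K
    rw [Ideal.map_map, ← IsScalarTower.algebraMap_eq]
  have hpMM : p.asIdeal.map (algebraMap A (Rh A I r)) ≤
      (maximalIdeal (Localization.AtPrime r.asIdeal)).map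
        (algebraMap (Localization.AtPrime r.asIdeal) (Rh A I r)) := by
    rw [hmapA]
    exact Ideal.map_mono (hmax _ hpr)
  haveI := hMM.isPrime
  obtain ⟨P', hP'min, hP'le⟩ := Ideal.exists_minimalPrimes_le hpMM
  haveI hP'prime : P'.IsPrime := hP'min.1.1
  haveI : Module.Flat A (Rh A I r) :=
    Module.Flat.trans A (Localization.AtPrime r.asIdeal) (Rh A I r)
  -- going down
  have hcomap : P'.comap (algebraMap A (Rh A I r)) = p.asIdeal := by
    have hle : p.asIdeal ≤ P'.comap (algebraMap A (Rh A I r)) :=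
      Ideal.map_le_iff_le_comap.1 hP'min.1.2
    haveI : (P'.comap (algebraMap A (Rh A I r))).IsPrime := Ideal.comap_isPrime _ _
    haveI : P'.LiesOver (P'.comap (algebraMap A (Rh A I r))) := ⟨rfl⟩
    obtain ⟨Q, hQle, hQprime, hQover⟩ :=
      Ideal.exists_ideal_le_liesOver_of_le (p := p.asIdeal) P' hle
    have hQ : p.asIdeal.map (algebraMap A (Rh A I r)) ≤ Q := by
      rw [Ideal.map_le_iff_le_comap]
      exact (hQover.over).le
    have hPQ : P' ≤ Q := hP'min.2 ⟨hQprime, hQ⟩ hQle
    have hQP : Q = P' := le_antisymm hQle hPQ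
    rw [← hQP]
    exact (hQover.over).symm
  refine ⟨⟨P', hP'prime⟩, hcomap, hP'min, ?_⟩
  intro q' hle hIq
  -- the contraction of q' to A is r
  have hq'prime : q'.asIdeal.IsPrime := q'.2
  set P := q'.asIdeal.comap (algebraMap A (Rh A I r)) with hP
  haveI hPprime : P.IsPrime := Ideal.comap_isPrime _ _
  have hpP : p.asIdeal ⊔ I ≤ P := by
    refine sup_le ?_ ?_
    · rw [← hcomap]
      exact Ideal.comap_mono hle
    · exact Ideal.map_le_iff_le_comap.1 hIq
  have hPr : P ≤ r.asIdeal := by
    have h1 : P = (q'.asIdeal.comap (algebraMap (Localization.AtPrime r.asIdeal) (Rh A I r))).comap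
        (algebraMap A (Localization.AtPrime r.asIdeal)) := by
      rw [hP, Ideal.comap_comap, ← IsScalarTower.algebraMap_eq]
    haveI : (q'.asIdeal.comap
        (algebraMap (Localization.AtPrime r.asIdeal) (Rh A I r))).IsPrime :=
      Ideal.comap_isPrime _ _
    have h2 : q'.asIdeal.comap (algebraMap (Localization.AtPrime r.asIdeal) (Rh A I r)) ≤
        maximalIdeal (Localization.AtPrime r.asIdeal) :=
      IsLocalRing.le_maximalIdeal (Ideal.IsPrime.ne_top inferInstance)
    have h3 : Ideal.comap (algebraMap A (Localization.AtPrime r.asIdeal))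
        (maximalIdeal (Localization.AtPrime r.asIdeal)) = r.asIdeal :=
      IsLocalization.AtPrime.comap_maximalIdeal (Localization.AtPrime r.asIdeal) r.asIdeal
    rw [h1]
    exact (Ideal.comap_mono h2).trans h3.le
  have hrP : r.asIdeal ≤ P := hr.2 ⟨hPprime, hpP⟩ hPr
  have hMMle : (maximalIdeal (Localization.AtPrime r.asIdeal)).map
      (algebraMap (Localization.AtPrime r.asIdeal) (Rh A I r)) ≤ q'.asIdeal := by
    rw [← IsLocalization.AtPrime.map_eq_maximalIdeal r.asIdeal (Localization.AtPrime r.asIdeal),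
      ← hmapA, Ideal.map_le_iff_le_comap]
    exact hrP
  have heq : (maximalIdeal (Localization.AtPrime r.asIdeal)).map
      (algebraMap (Localization.AtPrime r.asIdeal) (Rh A I r)) = q'.asIdeal :=
    hMM.eq_of_le hq'prime.ne_top hMMle
  rw [← heq]
  exact hMM

end Groth.Agent.H83.Sit_E1
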