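import Mathlib
import Groth.Agent.S0389
import Groth.Agent.H57.RelAssGen.Defs

set_option autoImplicit false
universe u
open Groth.Agent.H57.RelAssGen
open scoped TensorProduct

namespace Groth.Agent.H83.RA

/-- existence of a prime over `p` containing `q₀`, for `p` in a nonempty open -/
theorem exists_prime_over {A B : Type u} [CommRing A] [IsDomain A] [CommRing B] [Algebra A B]
    [Algebra.FiniteType A B] (q₀ : Ideal B) [q₀.IsPrime] (hq₀ : q₀.comap (algebraMap A B) = ⊥) :
    ∃ a : A, a ≠ 0 ∧ ∀ p : Ideal A, p.IsPrime → a ∉ p →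
      ∃ q : Ideal B, q.IsPrime ∧ q₀ ≤ q ∧ q.comap (algebraMap A B) = p := by
  classical
  obtain ⟨a, ha0, -, hfree, -, -⟩ :=
    Groth.Agent.S0389.result (R := A) (S := B ⧸ q₀) (M := B ⧸ q₀)
  refine ⟨a, ha0, ?_⟩
  intro p hp hap
  have hinj : Function.Injective (algebraMap A (B ⧸ q₀)) := by
    rw [injective_iff_map_eq_zero]
    intro x hx
    have h1 : algebraMap A B x ∈ q₀ := by
      rw [← Ideal.Quotient.eq_zero_iff_mem]
      rw [IsScalarTower.algebraMap_apply A B (B ⧸ q₀)] at hx
      exact hx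
    have h2 : x ∈ q₀.comap (algebraMap A B) := h1
    rw [hq₀] at h2
    simpa using h2
  have hnt : Nontrivial (Localization.Away a ⊗[A] (B ⧸ q₀)) := by
    have hunit : ∀ y : Submonoid.powers a,
        IsUnit (algebraMap A (FractionRing (B ⧸ q₀)) (y : A)) := by
      rintro ⟨_, n, rfl⟩
      rw [map_pow]
      apply IsUnit.pow
      apply IsUnit.mk0
      rw [IsScalarTower.algebraMap_apply A (B ⧸ q₀) (FractionRing (B ⧸ q₀))]
      intro h
      have h3 := (IsFractionRing.injective (B ⧸ q₀) (FractionRing (B ⧸ q₀)))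
        (h.trans (map_zero _).symm)
      exact ha0 (hinj (h3.trans (map_zero _).symm))
    let f1 : Localization.Away a →ₐ[A] FractionRing (B ⧸ q₀) :=
      IsLocalization.liftAlgHom (M := Submonoid.powers a)
        (f := Algebra.ofId A (FractionRing (B ⧸ q₀))) hunit
    let f : Localization.Away a ⊗[A] (B ⧸ q₀) →ₐ[A] FractionRing (B ⧸ q₀) :=
      Algebra.TensorProduct.lift f1 (IsScalarTower.toAlgHom A (B ⧸ q₀) (FractionRing (B ⧸ q₀)))
        (fun _ _ => Commute.all _ _)
    exact f.toRingHom.domain_nontrivial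
  have hff : Module.FaithfullyFlat (Localization.Away a) (Localization.Away a ⊗[A] (B ⧸ q₀)) :=
    inferInstance
  have hdisj : Disjoint (Submonoid.powers a : Set A) (p : Set A) := by
    rw [Set.disjoint_left]
    rintro _ ⟨n, rfl⟩ hn
    exact hap (hp.mem_of_pow_mem n hn)
  have hPprime : (p.map (algebraMap A (Localization.Away a))).IsPrime :=
    IsLocalization.isPrime_of_isPrime_disjoint (Submonoid.powers a) _ p hp hdisj
  have hPcomap : (p.map (algebraMap A (Localization.Away a))).comap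
      (algebraMap A (Localization.Away a)) = p :=
    IsLocalization.comap_map_of_isPrime_disjoint (Submonoid.powers a) _ hp hdisj
  obtain ⟨Q, hQ⟩ := PrimeSpectrum.comap_surjective_of_faithfullyFlat
    (A := Localization.Away a) (B := Localization.Away a ⊗[A] (B ⧸ q₀))
    ⟨p.map (algebraMap A (Localization.Away a)), hPprime⟩
  have hQ' : Q.asIdeal.comap (algebraMap (Localization.Away a)
      (Localization.Away a ⊗[A] (B ⧸ q₀))) = p.map (algebraMap A (Localization.Away a)) :=
    congrArg PrimeSpectrum.asIdeal hQ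
  let g : B →+* Localization.Away a ⊗[A] (B ⧸ q₀) :=
    (Algebra.TensorProduct.includeRight :
      (B ⧸ q₀) →ₐ[A] Localization.Away a ⊗[A] (B ⧸ q₀)).toRingHom.comp (Ideal.Quotient.mk q₀)
  refine ⟨Q.asIdeal.comap g, Ideal.comap_isPrime _ _, ?_, ?_⟩
  · intro x hx
    show g x ∈ Q.asIdeal
    have : g x = 0 := by
      simp only [g, RingHom.comp_apply, Ideal.Quotient.eq_zero_iff_mem.mpr hx, map_zero]
    rw [this]; exact zero_mem _
  · have hcomp : g.comp (algebraMap A B) =
        (algebraMap (Localization.Away a) (Localization.Away a ⊗[A] (B ⧸ q₀))).comp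
          (algebraMap A (Localization.Away a)) := by
      ext x
      simp only [g, RingHom.comp_apply]
      rw [← IsScalarTower.algebraMap_apply A (Localization.Away a)]
      have : (Ideal.Quotient.mk q₀) (algebraMap A B x) = algebraMap A (B ⧸ q₀) x := rfl
      rw [this]
      exact (Algebra.TensorProduct.includeRight :
        (B ⧸ q₀) →ₐ[A] Localization.Away a ⊗[A] (B ⧸ q₀)).commutes x
    rw [Ideal.comap_comap, hcomp, ← Ideal.comap_comap, hQ', hPcomap]

/-- (B2b) existence of generic points of the fibres of `V(q₀)` over a nonempty open. -/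
theorem core_generic_exists {A B : Type u} [CommRing A] [IsDomain A] [CommRing B] [Algebra A B]
    [Algebra.FiniteType A B] (q₀ : Ideal B) [q₀.IsPrime] (hq₀ : q₀.comap (algebraMap A B) = ⊥) :
    ∃ a : A, a ≠ 0 ∧ ∀ p : Ideal A, p.IsPrime → a ∉ p →
      ∃ q : Ideal B, q.IsPrime ∧ q₀ ≤ q ∧ q.comap (algebraMap A B) = p ∧
        ∀ q' : Ideal B, q'.IsPrime → q₀ ≤ q' → q' ≤ q →
          q'.comap (algebraMap A B) = q.comap (algebraMap A B) → q' = q := by
  obtain ⟨a, ha0, h⟩ := exists_prime_over q₀ hq₀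
  refine ⟨a, ha0, ?_⟩
  intro p hp hap
  obtain ⟨q₁, hq₁p, hq₀q₁, hq₁A⟩ := h p hp hap
  obtain ⟨q, hqmin, hqle⟩ := Ideal.exists_minimalPrimes_le
    (I := q₀ ⊔ p.map (algebraMap A B)) (J := q₁)
    (sup_le hq₀q₁ (Ideal.map_le_iff_le_comap.mpr hq₁A.ge))
  have hqprime : q.IsPrime := hqmin.1.1
  have hIq : q₀ ⊔ p.map (algebraMap A B) ≤ q := hqmin.1.2
  have hqA : q.comap (algebraMap A B) = p := by
    apply le_antisymm
    · rw [← hq₁A]; exact Ideal.comap_mono hqle
    · exact Ideal.map_le_iff_le_comap.mp (le_sup_right.trans hIq)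
  refine ⟨q, hqprime, le_sup_left.trans hIq, hqA, ?_⟩
  intro q' hq'p hq₀q' hq'q hq'A
  have hIq' : q₀ ⊔ p.map (algebraMap A B) ≤ q' := by
    refine sup_le hq₀q' (Ideal.map_le_iff_le_comap.mpr ?_)
    rw [hq'A, hqA]
  exact le_antisymm hq'q (hqmin.2 ⟨hq'p, hIq'⟩ hq'q)

end Groth.Agent.H83.RA
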