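import Mathlib

set_option autoImplicit false
universe u
open scoped TensorProduct

namespace Groth.Agent.H83.RA

/-- (L2) if `(M/N)[1/a]` is free over `A[1/a]`, then `N ∩ pM ⊆ pN` up to a power of `a`. -/
theorem exists_pow_smul_mem_smul_of_free_quotient {A B M : Type u} [CommRing A] [CommRing B]
    [Algebra A B] [AddCommGroup M] [Module B M] [Module A M] [IsScalarTower A B M]
    (N : Submodule B M) (a : A)
    (hfree : Module.Free (Localization.Away a) (Localization.Away a ⊗[A] (M ⧸ N)))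
    (p : Ideal A) (y : M) (hyN : y ∈ N) (hyp : y ∈ p • (⊤ : Submodule A M)) :
    ∃ k : ℕ, a ^ k • y ∈ p • (N.restrictScalars A) := by
  classical
  let Aa := Localization.Away a
  let S := Submonoid.powers a
  let N' : Submodule A M := N.restrictScalars A
  let gN : N' →ₗ[A] M := N'.subtype
  let fC : M →ₗ[A] (M ⧸ N) := N.mkQ.restrictScalars A
  have hgN : Function.Injective gN := N'.injective_subtype
  have hfC : Function.Surjective fC := N.mkQ_surjective
  have hex : Function.Exact gN fC := by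
    intro x
    constructor
    · intro hx
      have : x ∈ N := (Submodule.Quotient.mk_eq_zero N).mp hx
      exact ⟨⟨x, this⟩, rfl⟩
    · rintro ⟨n, rfl⟩
      exact (Submodule.Quotient.mk_eq_zero N).mpr n.2
  -- localized sequence
  let ι : Aa ⊗[A] N' →ₗ[A] Aa ⊗[A] M := gN.lTensor Aa
  let π : Aa ⊗[A] M →ₗ[A] Aa ⊗[A] (M ⧸ N) := fC.lTensor Aa
  have hι : Function.Injective ι := Module.Flat.lTensor_preserves_injective_linearMap gN hgN
  have hπ : Function.Surjective π := LinearMap.lTensor_surjective Aa hfC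
  have hex' : Function.Exact ι π := Module.Flat.lTensor_exact Aa hex
  have hflatAa : Module.Flat Aa (Aa ⊗[A] (M ⧸ N)) := inferInstance
  have hflat : Module.Flat A (Aa ⊗[A] (M ⧸ N)) := Module.Flat.trans A Aa _
  have hinj : Function.Injective (ι.lTensor (A ⧸ p)) :=
    LinearMap.lTensor_injective_of_exact_of_flat π hπ ι hι hex' (A ⧸ p)
  -- the element
  let mkN : N' →ₗ[A] Aa ⊗[A] N' := TensorProduct.mk A Aa N' 1
  let mkM : M →ₗ[A] Aa ⊗[A] M := TensorProduct.mk A Aa M 1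
  let L : M →ₗ[A] (A ⧸ p) ⊗[A] (Aa ⊗[A] M) := (TensorProduct.mk A (A ⧸ p) _ 1) ∘ₗ mkM
  have hL : p • (⊤ : Submodule A M) ≤ LinearMap.ker L := by
    rw [Submodule.smul_le]
    intro f hf m _
    rw [LinearMap.mem_ker, map_smul]
    show f • ((1 : A ⧸ p) ⊗ₜ[A] mkM m) = 0
    rw [TensorProduct.smul_tmul']
    have : f • (1 : A ⧸ p) = 0 := by
      rw [Algebra.smul_def, mul_one]
      exact Ideal.Quotient.eq_zero_iff_mem.mpr hf
    rw [this, TensorProduct.zero_tmul]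
  have hLy : L y = 0 := hL hyp
  have hz : ((1 : A ⧸ p) ⊗ₜ[A] mkN ⟨y, hyN⟩ : (A ⧸ p) ⊗[A] (Aa ⊗[A] N')) = 0 := by
    apply hinj
    rw [map_zero]
    exact hLy
  have hmem : mkN ⟨y, hyN⟩ ∈ p • (⊤ : Submodule A (Aa ⊗[A] N')) := by
    have h1 := congrArg (TensorProduct.quotTensorEquivQuotSMul (Aa ⊗[A] N') p) hz
    rw [TensorProduct.quotTensorEquivQuotSMul_mk_one_tmul, map_zero] at h1
    exact (Submodule.Quotient.mk_eq_zero _).mp h1
  -- descend
  have hdesc : ∀ w ∈ p • (⊤ : Submodule A (Aa ⊗[A] N')), ∃ k : ℕ,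
      ∃ n ∈ p • (⊤ : Submodule A N'), a ^ k • w = mkN n := by
    intro w hw
    refine Submodule.smul_induction_on hw ?_ ?_
    · intro f hf w _
      obtain ⟨⟨n', ⟨_, k, rfl⟩⟩, hn'⟩ := IsLocalizedModule.surj S mkN w
      refine ⟨k, f • n', Submodule.smul_mem_smul hf trivial, ?_⟩
      have h2 : a ^ k • w = mkN n' := hn'
      rw [smul_comm, h2, map_smul]
    · rintro w₁ w₂ ⟨k₁, n₁, hn₁, h₁⟩ ⟨k₂, n₂, hn₂, h₂⟩
      refine ⟨k₁ + k₂, a ^ k₂ • n₁ + a ^ k₁ • n₂,
        add_mem (Submodule.smul_mem _ _ hn₁) (Submodule.smul_mem _ _ hn₂), ?_⟩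
      rw [smul_add, map_add, map_smul, map_smul, ← h₁, ← h₂, pow_add, mul_smul, mul_smul,
        smul_comm (a ^ k₁) (a ^ k₂) w₁]
  obtain ⟨k, n, hn, hkn⟩ := hdesc _ hmem
  have h3 : mkN (a ^ k • ⟨y, hyN⟩ - n) = 0 := by
    rw [map_sub, map_smul, hkn, sub_self]
  rw [IsLocalizedModule.eq_zero_iff S mkN] at h3
  obtain ⟨⟨_, l, rfl⟩, hl⟩ := h3
  have h4 : a ^ l • (a ^ k • (⟨y, hyN⟩ : N') - n) = 0 := hl
  refine ⟨l + k, ?_⟩
  have h5 : (a ^ (l + k) • (⟨y, hyN⟩ : N')) = a ^ l • n := by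
    rw [smul_sub, sub_eq_zero] at h4
    rw [pow_add, mul_smul]; exact h4
  have h6 : a ^ l • n ∈ p • (⊤ : Submodule A N') := Submodule.smul_mem _ _ hn
  have h7 : N'.subtype (a ^ (l + k) • (⟨y, hyN⟩ : N')) ∈
      (p • (⊤ : Submodule A N')).map N'.subtype := Submodule.mem_map_of_mem (h5 ▸ h6)
  rw [Submodule.map_smul'', Submodule.map_top, Submodule.range_subtype] at h7
  simpa using h7

end Groth.Agent.H83.RA
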