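import Mathlib
import Groth.Agent.H58.RA_NOE

set_option autoImplicit false
universe u

namespace Groth.Agent.H83.RA

open Groth.Agent.H58.RA_NOE

/-- (L3) an ideal of a finite type algebra over a domain is finitely generated up to torsion. -/
theorem exists_finset_gen_up_to_torsion {A B : Type u} [CommRing A] [IsDomain A] [CommRing B]
    [Algebra A B] [Algebra.FiniteType A B] (q₀ : Ideal B) :
    ∃ G : Finset B, (G : Set B) ⊆ q₀ ∧ ∀ b ∈ q₀, ∃ α : A, α ≠ 0 ∧
      algebraMap A B α * b ∈ Ideal.span (G : Set B) := by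
  classical
  set T := Algebra.algebraMapSubmonoid B (nonZeroDivisors A) with hT
  have hN : IsNoetherianRing (Localization T) := isNoetherianRing_localization_generic A B
  set f := algebraMap B (Localization T) with hf
  have hfg : (q₀.map f).FG := IsNoetherian.noetherian _
  have hmap : q₀.map f = Ideal.span (f '' (q₀ : Set B)) := rfl
  rw [hmap] at hfg
  obtain ⟨s', hs'sub, hs'eq⟩ := (Submodule.fg_span_iff_fg_span_finset_subset _).mp hfg
  obtain ⟨G, hGsub, hGimg⟩ := Finset.subset_set_image_iff.mp hs'sub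
  refine ⟨G, hGsub, ?_⟩
  intro b hb
  have h1 : f b ∈ Ideal.span (f '' (q₀ : Set B)) := Ideal.subset_span ⟨b, hb, rfl⟩
  have h2 : f b ∈ (Ideal.span (G : Set B)).map f := by
    rw [Ideal.map_span]
    have : (f '' (G : Set B)) = ((G.image f : Finset _) : Set _) := by simp
    rw [this, hGimg]
    have h1' : f b ∈ Submodule.span (Localization T) (f '' (q₀ : Set B)) := h1
    rw [hs'eq] at h1'
    exact h1'
  rw [IsLocalization.mem_map_algebraMap_iff T] at h2
  obtain ⟨⟨u, t⟩, hut⟩ := h2
  rw [← map_mul, IsLocalization.eq_iff_exists T] at hut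
  obtain ⟨t', ht'⟩ := hut
  obtain ⟨α, hα, hαt⟩ : ∃ α ∈ nonZeroDivisors A, algebraMap A B α = (t' * t : T) :=
    (t' * t).2
  refine ⟨α, nonZeroDivisors.ne_zero hα, ?_⟩
  have : algebraMap A B α * b = t'.1 * u.1 := by
    rw [hαt, Submonoid.coe_mul, mul_assoc, mul_comm (t : B) b, ht']
  rw [this]
  exact Ideal.mul_mem_left _ _ u.2

end Groth.Agent.H83.RA
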