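import Mathlib

set_option autoImplicit false
universe u
open scoped TensorProduct

namespace Groth.Agent.H83.RA

/-- (L4) if `M[1/a]` is free over the domain `A[1/a]`, torsion elements of `M` are `a`-power torsion -/
theorem exists_pow_smul_eq_zero_of_torsion {A M : Type u} [CommRing A] [IsDomain A]
    [AddCommGroup M] [Module A M] (a : A) (ha : a ≠ 0)
    (hfree : Module.Free (Localization.Away a) (Localization.Away a ⊗[A] M))
    (x : M) (α : A) (hα : α ≠ 0) (hx : α • x = 0) : ∃ n : ℕ, a ^ n • x = 0 := by
  have hle : Submonoid.powers a ≤ nonZeroDivisors A :=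
    powers_le_nonZeroDivisors_of_noZeroDivisors ha
  have hdom : IsDomain (Localization.Away a) := IsLocalization.isDomain_localization hle
  have hz : algebraMap A (Localization.Away a) α • ((1 : Localization.Away a) ⊗ₜ[A] x) = 0 := by
    rw [algebraMap_smul, TensorProduct.smul_tmul', TensorProduct.smul_tmul, hx,
      TensorProduct.tmul_zero]
  have hα' : algebraMap A (Localization.Away a) α ≠ 0 := by
    intro h
    exact hα ((IsLocalization.injective (Localization.Away a) hle) (h.trans (map_zero _).symm))
  have h0 : (1 : Localization.Away a) ⊗ₜ[A] x = 0 := (smul_eq_zero.mp hz).resolve_left hα'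
  have h1 : TensorProduct.mk A (Localization.Away a) M 1 x = 0 := h0
  rw [IsLocalizedModule.eq_zero_iff (Submonoid.powers a)] at h1
  obtain ⟨⟨_, n, rfl⟩, hc⟩ := h1
  exact ⟨n, hc⟩

/-- (L1) `(pB) M = p M`. -/
theorem mem_map_smul_top_iff {A B M : Type u} [CommRing A] [CommRing B] [Algebra A B]
    [AddCommGroup M] [Module B M] [Module A M] [IsScalarTower A B M] (p : Ideal A) (x : M) :
    x ∈ (p.map (algebraMap A B)) • (⊤ : Submodule B M) ↔ x ∈ p • (⊤ : Submodule A M) := by
  constructor
  · intro hx
    refine Submodule.smul_induction_on hx ?_ ?_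
    · intro c hc m _
      have key : ∀ c ∈ p.map (algebraMap A B), ∀ m : M, c • m ∈ p • (⊤ : Submodule A M) := by
        intro c hc
        refine Submodule.span_induction ?_ ?_ ?_ ?_ hc
        · rintro _ ⟨f, hf, rfl⟩ m
          rw [algebraMap_smul]
          exact Submodule.smul_mem_smul hf trivial
        · intro m; rw [zero_smul]; exact zero_mem _
        · intro c₁ c₂ _ _ h₁ h₂ m
          rw [add_smul]; exact add_mem (h₁ m) (h₂ m)
        · intro b c _ h m
          rw [smul_eq_mul, mul_comm, mul_smul]
          exact h (b • m)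
      exact key c hc m
    · intro y z hy hz; exact add_mem hy hz
  · intro hx
    refine Submodule.smul_induction_on hx ?_ ?_
    · intro f hf m _
      rw [← algebraMap_smul B f m]
      exact Submodule.smul_mem_smul (Ideal.mem_map_of_mem _ hf) trivial
    · intro y z hy hz; exact add_mem hy hz

end Groth.Agent.H83.RA
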