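import Mathlib
import Groth.Agent.H58.RA_NOE

set_option autoImplicit false
universe u

namespace Groth.Agent.H83.RA

open Groth.Agent.H58.RA_NOE

/-- (L5) socle element at a minimal prime lying over `0` of a finite type algebra over a domain -/
theorem exists_socle_of_minimalPrime {A' D : Type u} [CommRing A'] [IsDomain A'] [CommRing D]
    [Algebra A' D] [Algebra.FiniteType A' D] (𝔮 : Ideal D) (h𝔮 : 𝔮 ∈ minimalPrimes D)
    (hcomap : 𝔮.comap (algebraMap A' D) = ⊥) :
    ∃ t : D, (∀ s, s ∉ 𝔮 → s * t ≠ 0) ∧
      ∀ b ∈ 𝔮, ∃ α : A', α ≠ 0 ∧ algebraMap A' D α * b * t = 0 := by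
  classical
  set T := Algebra.algebraMapSubmonoid D (nonZeroDivisors A') with hT
  have hN : IsNoetherianRing (Localization T) := isNoetherianRing_localization_generic A' D
  have hprime : 𝔮.IsPrime := h𝔮.1.1
  have hdisj : Disjoint (T : Set D) (𝔮 : Set D) := by
    rw [Set.disjoint_left]
    rintro x ⟨α, hα, rfl⟩ hx
    have : α ∈ 𝔮.comap (algebraMap A' D) := hx
    rw [hcomap] at this
    exact nonZeroDivisors.ne_zero hα (by simpa using this)
  set f := algebraMap D (Localization T) with hf
  set P := 𝔮.map f with hP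
  have hPcomap : P.comap f = 𝔮 :=
    IsLocalization.under_map_of_isPrime_disjoint T (Localization T) hprime hdisj
  have hPmin : P ∈ minimalPrimes (Localization T) := by
    have h1 := IsLocalization.minimalPrimes_map T (Localization T) (⊥ : Ideal D)
    rw [Ideal.map_bot] at h1
    have h2 : P ∈ Ideal.under D ⁻¹' (⊥ : Ideal D).minimalPrimes := by
      show P.comap f ∈ (⊥ : Ideal D).minimalPrimes
      rw [hPcomap]; exact h𝔮
    rw [← h1] at h2
    exact h2
  have hann : Module.annihilator (Localization T) (Localization T) = ⊥ := by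
    rw [eq_bot_iff]
    intro x hx
    have := Module.mem_annihilator.mp hx 1
    simpa using this
  have hass : P ∈ associatedPrimes (Localization T) (Localization T) := by
    apply Module.associatedPrimes.minimalPrimes_annihilator_subset_associatedPrimes
    rw [hann]; exact hPmin
  obtain ⟨-, ξ, hξ⟩ := (isAssociatedPrime_iff (I := P) (M := Localization T)).mp hass
  have hmem : ∀ r : Localization T, r ∈ P ↔ r * ξ = 0 := by
    intro r
    rw [hξ, Submodule.mem_colon_singleton]
    simp
  obtain ⟨t, τ, rfl⟩ := IsLocalization.exists_mk'_eq T ξ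
  refine ⟨t, ?_, ?_⟩
  · intro s hs hst
    apply hs
    rw [← hPcomap]
    show f s ∈ P
    rw [hmem, hf, ← IsLocalization.mk'_one (M := T) (Localization T) s, ← IsLocalization.mk'_mul,
      hst, IsLocalization.mk'_zero]
  · intro b hb
    have hfb : f b ∈ P := Ideal.mem_map_of_mem _ hb
    rw [hmem, hf, ← IsLocalization.mk'_one (M := T) (Localization T) b, ← IsLocalization.mk'_mul,
      IsLocalization.mk'_eq_zero_iff] at hfb
    obtain ⟨m, hm⟩ := hfb
    obtain ⟨α, hα, hαm⟩ : ∃ α ∈ nonZeroDivisors A', algebraMap A' D α = (m : D) := m.2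
    refine ⟨α, nonZeroDivisors.ne_zero hα, ?_⟩
    rw [hαm, mul_assoc]
    exact hm

end Groth.Agent.H83.RA
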