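import Mathlib
import Groth.Agent.H83.RA_L5

set_option autoImplicit false
universe u

namespace Groth.Agent.H83.RA

/-- (L6) socle element modulo `I` at a minimal prime `q` of `I`, with `I ∩ A = q ∩ A`. -/
theorem exists_socle_mod {A B : Type u} [CommRing A] [CommRing B] [Algebra A B]
    [Algebra.FiniteType A B] (q : Ideal B) [hq : q.IsPrime] (I : Ideal B)
    (hqmin : q ∈ I.minimalPrimes)
    (hcomap : I.comap (algebraMap A B) = q.comap (algebraMap A B)) :
    ∃ t : B, (∀ s, s ∉ q → s * t ∉ I) ∧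
      ∀ b ∈ q, ∃ α : A, α ∉ q.comap (algebraMap A B) ∧ algebraMap A B α * b * t ∈ I := by
  classical
  have hIq : I ≤ q := hqmin.1.2
  haveI hpprime : (I.comap (algebraMap A B)).IsPrime := by rw [hcomap]; infer_instance
  have hft0 : Algebra.FiniteType A (B ⧸ I) :=
    Algebra.FiniteType.of_surjective (Ideal.Quotient.mkₐ A I) (Ideal.Quotient.mkₐ_surjective A I)
  haveI : IsScalarTower A (A ⧸ I.comap (algebraMap A B)) (B ⧸ I) :=
    IsScalarTower.of_algebraMap_eq (fun x => rfl)
  have hft : Algebra.FiniteType (A ⧸ I.comap (algebraMap A B)) (B ⧸ I) :=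
    Algebra.FiniteType.of_restrictScalars_finiteType A _ _
  have hmk : ∀ x : B, Ideal.Quotient.mk I x ∈ q.map (Ideal.Quotient.mk I) ↔ x ∈ q := by
    intro x
    rw [Ideal.mem_map_iff_of_surjective _ Ideal.Quotient.mk_surjective]
    constructor
    · rintro ⟨y, hy, hyx⟩
      have : y - x ∈ I := Ideal.Quotient.eq.mp hyx
      have h2 : x = y - (y - x) := by ring
      rw [h2]; exact sub_mem hy (hIq this)
    · intro hx; exact ⟨x, hx, rfl⟩
  have h𝔮 : q.map (Ideal.Quotient.mk I) ∈ minimalPrimes (B ⧸ I) := by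
    have h1 := Ideal.minimalPrimes_map_of_surjective (f := Ideal.Quotient.mk I)
      Ideal.Quotient.mk_surjective I
    rw [Ideal.map_quotient_self, Ideal.mk_ker, sup_idem] at h1
    show q.map (Ideal.Quotient.mk I) ∈ (⊥ : Ideal (B ⧸ I)).minimalPrimes
    rw [h1]
    exact ⟨q, hqmin, rfl⟩
  have h𝔮comap : (q.map (Ideal.Quotient.mk I)).comap
      (algebraMap (A ⧸ I.comap (algebraMap A B)) (B ⧸ I)) = ⊥ := by
    rw [eq_bot_iff]
    intro x hx
    obtain ⟨x, rfl⟩ := Ideal.Quotient.mk_surjective x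
    have h1 : Ideal.Quotient.mk I (algebraMap A B x) ∈ q.map (Ideal.Quotient.mk I) := hx
    rw [hmk] at h1
    have h2 : x ∈ I.comap (algebraMap A B) := by rw [hcomap]; exact h1
    simp only [Submodule.mem_bot]
    exact Ideal.Quotient.eq_zero_iff_mem.mpr h2
  obtain ⟨t, ht1, ht2⟩ := exists_socle_of_minimalPrime (A' := A ⧸ I.comap (algebraMap A B))
    (D := B ⧸ I) (q.map (Ideal.Quotient.mk I)) h𝔮 h𝔮comap
  obtain ⟨t, rfl⟩ := Ideal.Quotient.mk_surjective t
  refine ⟨t, ?_, ?_⟩
  · intro s hs hst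
    apply ht1 (Ideal.Quotient.mk I s) (fun h => hs ((hmk s).mp h))
    rw [← map_mul]
    exact Ideal.Quotient.eq_zero_iff_mem.mpr hst
  · intro b hb
    obtain ⟨α, hα, hαb⟩ := ht2 (Ideal.Quotient.mk I b) ((hmk b).mpr hb)
    obtain ⟨α, rfl⟩ := Ideal.Quotient.mk_surjective α
    refine ⟨α, ?_, ?_⟩
    · intro h
      apply hα
      rw [← hcomap] at h
      exact Ideal.Quotient.eq_zero_iff_mem.mpr h
    · have h1 : Ideal.Quotient.mk I (algebraMap A B α * b * t) = 0 := by
        rw [map_mul, map_mul]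
        exact hαb
      exact Ideal.Quotient.eq_zero_iff_mem.mp h1

end Groth.Agent.H83.RA
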