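import Mathlib
import Groth.Agent.S0389
import Groth.Agent.H57.RelAssGen.Defs
import Groth.Agent.H83.RA_L2
import Groth.Agent.H83.RA_L3
import Groth.Agent.H83.RA_L4
import Groth.Agent.H83.RA_L6

set_option autoImplicit false
universe u
open Groth.Agent.H57.RelAssGen

namespace Groth.Agent.H83.RA

section Domain

variable {A B M : Type u} [CommRing A] [IsDomain A] [CommRing B] [Algebra A B]
  [Algebra.FiniteType A B] [AddCommGroup M] [Module B M] [Module A M] [IsScalarTower A B M]
  [Module.Finite B M]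

/-- (B2a) generic points of the fibres of the closure of an associated point of the generic fibre
are associated points of the fibres, over a nonempty open. -/
theorem core_generic_min (q₀ : Ideal B) [q₀.IsPrime] (hq₀ : q₀.comap (algebraMap A B) = ⊥)
    (h₀ : SocAt (fibI A q₀) q₀ M) :
    ∃ a : A, a ≠ 0 ∧ ∀ q : Ideal B, q.IsPrime → q₀ ≤ q → algebraMap A B a ∉ q →
      (∀ q' : Ideal B, q'.IsPrime → q₀ ≤ q' → q' ≤ q →
        q'.comap (algebraMap A B) = q.comap (algebraMap A B) → q' = q) →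
      SocAt (fibI A q) q M := by
  classical
  have hq₀prime : q₀.IsPrime := inferInstance
  have hfib0 : fibI A q₀ = ⊥ := by unfold fibI; rw [hq₀, Ideal.map_bot]
  obtain ⟨m₀, hm₀1, hm₀2⟩ := h₀
  rw [hfib0] at hm₀1 hm₀2
  simp only [Submodule.bot_smul, Submodule.mem_bot] at hm₀1 hm₀2
  -- Step 1
  obtain ⟨G, hGsub, hG⟩ := exists_finset_gen_up_to_torsion (A := A) q₀
  choose! sg hsg using hm₀2
  set σ := ∏ g ∈ G, sg g with hσdef
  have hσ : σ ∉ q₀ := by
    intro h
    obtain ⟨g, hg, hgq⟩ := (Ideal.IsPrime.prod_mem_iff).mp h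
    exact (hsg g (hGsub hg)).1 hgq
  set m₁ := σ • m₀ with hm₁
  have F1 : ∀ b : B, b • m₁ = 0 → b ∈ q₀ := by
    intro b hb
    by_contra hbq
    have : b * σ ∉ q₀ := fun h => (hq₀prime.mem_or_mem h).elim hbq hσ
    exact hm₀1 (b * σ) this (by rw [mul_smul]; exact hb)
  have F2g : ∀ g ∈ G, g • m₁ = 0 := by
    intro g hg
    obtain ⟨r, hr⟩ : sg g ∣ σ := Finset.dvd_prod_of_mem sg hg
    show g • (σ • m₀) = 0
    rw [hr, ← mul_smul, show g * (sg g * r) = r * (sg g * g) by ring, mul_smul,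
      (hsg g (hGsub hg)).2, smul_zero]
  have F2 : ∀ u ∈ Ideal.span (G : Set B), u • m₁ = 0 := by
    intro u hu
    refine Submodule.span_induction ?_ ?_ ?_ ?_ hu
    · intro g hg; exact F2g g hg
    · exact zero_smul _ _
    · intro x y _ _ hx hy; rw [add_smul, hx, hy, add_zero]
    · intro c x _ hx; rw [smul_eq_mul, mul_smul, hx, smul_zero]
  have F3 : ∀ b ∈ q₀, ∃ α : A, α ≠ 0 ∧ α • (b • m₁) = 0 := by
    intro b hb
    obtain ⟨α, hα, hαb⟩ := hG b hb
    refine ⟨α, hα, ?_⟩
    rw [← algebraMap_smul B α (b • m₁), ← mul_smul]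
    exact F2 _ hαb
  -- Step 2: generic freeness
  obtain ⟨a₁, ha₁, hfree₁, -, -, -⟩ := Groth.Agent.S0389.result (R := A) (S := B) (M := M)
  obtain ⟨a₂, ha₂, hfree₂, -, -, -⟩ :=
    Groth.Agent.S0389.result (R := A) (S := B) (M := M ⧸ (Submodule.span B {m₁}))
  have F4 : ∀ b ∈ q₀, ∃ n : ℕ, a₁ ^ n • (b • m₁) = 0 := fun b hb => by
    obtain ⟨α, hα, h⟩ := F3 b hb
    exact exists_pow_smul_eq_zero_of_torsion a₁ ha₁ hfree₁ _ α hα h
  refine ⟨a₁ * a₂, mul_ne_zero ha₁ ha₂, ?_⟩
  intro q hq hq₀q haq hmin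
  have ha₁q : algebraMap A B a₁ ∉ q := fun h => haq (by rw [map_mul]; exact q.mul_mem_right _ h)
  have ha₂q : algebraMap A B a₂ ∉ q := fun h => haq (by rw [map_mul]; exact q.mul_mem_left _ h)
  set p := q.comap (algebraMap A B) with hp
  set I : Ideal B := q₀ ⊔ p.map (algebraMap A B) with hI
  have hIq : I ≤ q := sup_le hq₀q Ideal.map_comap_le
  have hIcomap : I.comap (algebraMap A B) = p := by
    apply le_antisymm
    · exact Ideal.comap_mono hIq
    · exact Ideal.map_le_iff_le_comap.mp le_sup_right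
  -- Step 3: q is a minimal prime over I
  have hqmin : q ∈ I.minimalPrimes := by
    refine ⟨⟨hq, hIq⟩, ?_⟩
    rintro q' ⟨hq'prime, hIq'⟩ hq'q
    have : q' = q := hmin q' hq'prime (le_sup_left.trans hIq') hq'q (by
      apply le_antisymm
      · exact Ideal.comap_mono hq'q
      · exact Ideal.map_le_iff_le_comap.mp (le_sup_right.trans hIq'))
    rw [this]
  -- Step 4: socle element
  obtain ⟨t, ht1, ht2⟩ := exists_socle_mod (A := A) q (hq := hq) I hqmin hIcomap
  -- Step 5: witness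
  have hfibq : fibI A q = p.map (algebraMap A B) := rfl
  rw [hfibq]
  refine ⟨t • m₁, ?_, ?_⟩
  · intro s hs hmem
    have hmem' : (s * t) • m₁ ∈ p • (⊤ : Submodule A M) := by
      rw [← mem_map_smul_top_iff (B := B), mul_smul]; exact hmem
    obtain ⟨k, hk⟩ := exists_pow_smul_mem_smul_of_free_quotient (Submodule.span B {m₁}) a₂ hfree₂ p
      ((s * t) • m₁) (Submodule.smul_mem _ _ (Submodule.mem_span_singleton_self m₁)) hmem'
    have hclaim : ∀ w ∈ p • ((Submodule.span B {m₁}).restrictScalars A),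
        ∃ c ∈ p.map (algebraMap A B), w = c • m₁ := by
      intro w hw
      refine Submodule.smul_induction_on hw ?_ ?_
      · intro f hf n hn
        obtain ⟨b, rfl⟩ := Submodule.mem_span_singleton.mp hn
        exact ⟨algebraMap A B f * b, Ideal.mul_mem_right _ _ (Ideal.mem_map_of_mem _ hf),
          by rw [mul_smul, algebraMap_smul]⟩
      · rintro w₁ w₂ ⟨c₁, hc₁, rfl⟩ ⟨c₂, hc₂, rfl⟩
        exact ⟨c₁ + c₂, add_mem hc₁ hc₂, (add_smul _ _ _).symm⟩
    obtain ⟨c, hc, hkc⟩ := hclaim _ hk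
    have h8 : (algebraMap A B (a₂ ^ k) * (s * t) - c) ∈ q₀ := by
      apply F1
      rw [sub_smul, mul_smul, algebraMap_smul, hkc, sub_self]
    have h9 : (algebraMap A B (a₂ ^ k) * s) * t ∈ I := by
      have e : (algebraMap A B (a₂ ^ k) * s) * t =
          (algebraMap A B (a₂ ^ k) * (s * t) - c) + c := by ring
      rw [e]
      exact add_mem (Ideal.mem_sup_left h8) (Ideal.mem_sup_right hc)
    have h10 : algebraMap A B (a₂ ^ k) * s ∉ q := by
      rw [map_pow]
      intro h
      rcases hq.mem_or_mem h with h | h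
      · exact ha₂q (hq.mem_of_pow_mem _ h)
      · exact hs h
    exact ht1 _ h10 h9
  · intro b hb
    obtain ⟨α, hα, hαbt⟩ := ht2 b hb
    obtain ⟨u, hu, w, hw, huw⟩ := Submodule.mem_sup.mp hαbt
    obtain ⟨n, hn⟩ := F4 u hu
    refine ⟨algebraMap A B (a₁ ^ n) * algebraMap A B α, ?_, ?_⟩
    · intro h
      rcases hq.mem_or_mem h with h | h
      · rw [map_pow] at h; exact ha₁q (hq.mem_of_pow_mem _ h)
      · exact hα h
    · have e : ((algebraMap A B (a₁ ^ n) * algebraMap A B α) * b) • (t • m₁) =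
          a₁ ^ n • (u • m₁) + (algebraMap A B (a₁ ^ n) * w) • m₁ := by
        rw [← mul_smul, show (algebraMap A B (a₁ ^ n) * algebraMap A B α) * b * t =
          algebraMap A B (a₁ ^ n) * (algebraMap A B α * b * t) by ring, ← huw, mul_add, add_smul,
          mul_smul, algebraMap_smul]
      rw [e, hn, zero_add]
      exact Submodule.smul_mem_smul (Ideal.mul_mem_left _ _ hw) trivial

end Domain

end Groth.Agent.H83.RA
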