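import Mathlib

set_option autoImplicit false
universe u

namespace Groth.Agent.H83.Hyp

/-- finitely many subspaces none of which becomes everything after adding a vector:
there is a pencil `a v₀ + b v₁` avoiding all of them (away from `0`). -/
theorem exists_pair_avoiding {k E : Type*} [Field k] [Infinite k] [AddCommGroup E] [Module k E]
    {ι : Type*} (s : Finset ι) (L : ι → Submodule k E)
    (h2 : ∀ i ∈ s, ∀ v : E, L i ⊔ Submodule.span k {v} ≠ ⊤) :
    ∃ v₀ v₁ : E, ∀ a b : k, (a ≠ 0 ∨ b ≠ 0) → ∀ i ∈ s, a • v₀ + b • v₁ ∉ L i := by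
  classical
  -- general avoidance statement
  have avoid : ∀ (M : ι → Submodule k E), (∀ i ∈ s, M i ≠ ⊤) → ∃ v : E, ∀ i ∈ s, v ∉ M i := by
    intro M hM
    have hne : ⋃ p ∈ s.image M, (p : Set E) ≠ Set.univ := by
      apply Subspace.biUnion_ne_univ_of_top_notMem
      intro htop
      obtain ⟨i, hi, hiM⟩ := Finset.mem_image.mp htop
      exact hM i hi hiM
    obtain ⟨v, hv⟩ := (Set.ne_univ_iff_exists_notMem _).mp hne
    refine ⟨v, fun i hi hvi => hv ?_⟩
    simp only [Set.mem_iUnion]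
    exact ⟨M i, Finset.mem_image_of_mem M hi, hvi⟩
  have hL : ∀ i ∈ s, L i ≠ ⊤ := by
    intro i hi h
    apply h2 i hi 0
    rw [h]; simp
  obtain ⟨v₀, hv₀⟩ := avoid L hL
  obtain ⟨v₁, hv₁⟩ := avoid (fun i => L i ⊔ Submodule.span k {v₀}) (fun i hi => h2 i hi v₀)
  refine ⟨v₀, v₁, ?_⟩
  intro a b hab i hi hmem
  by_cases hb : b = 0
  · subst hb
    have ha : a ≠ 0 := by
      rcases hab with h | h
      · exact h
      · exact absurd rfl h
    rw [zero_smul, add_zero] at hmem
    apply hv₀ i hi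
    have := (L i).smul_mem a⁻¹ hmem
    rwa [smul_smul, inv_mul_cancel₀ ha, one_smul] at this
  · apply hv₁ i hi
    have h1 : b • v₁ ∈ L i ⊔ Submodule.span k {v₀} := by
      have e : b • v₁ = (a • v₀ + b • v₁) - a • v₀ := by abel
      rw [e]
      exact Submodule.sub_mem _ (Submodule.mem_sup_left hmem)
        (Submodule.mem_sup_right (Submodule.smul_mem _ _ (Submodule.mem_span_singleton_self v₀)))
    have := (L i ⊔ Submodule.span k {v₀}).smul_mem b⁻¹ h1
    rwa [smul_smul, inv_mul_cancel₀ hb, one_smul] at this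

end Groth.Agent.H83.Hyp
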