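import Mathlib

set_option autoImplicit false
universe u

namespace Groth.Agent.H83.Hyp

theorem exists_eigen_pair {k V W : Type*} [Field k] [IsAlgClosed k] [AddCommGroup V] [Module k V]
    [AddCommGroup W] [Module k W] [Module.Finite k W] (φ₀ φ₁ : V →ₗ[k] W)
    (h0 : Function.Injective φ₀) (hVW : Module.finrank k W ≤ Module.finrank k V)
    (hW : 1 ≤ Module.finrank k W) :
    ∃ (c : k) (t : V), t ≠ 0 ∧ φ₁ t = c • φ₀ t := by
  have hVfin : Module.Finite k V := Module.Finite.of_injective φ₀ h0
  have hle : Module.finrank k V ≤ Module.finrank k W := LinearMap.finrank_le_finrank_of_injective h0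
  have heq : Module.finrank k V = Module.finrank k W := le_antisymm hle hVW
  have hsurj : Function.Surjective φ₀ :=
    (LinearMap.injective_iff_surjective_of_finrank_eq_finrank heq).mp h0
  let e : V ≃ₗ[k] W := LinearEquiv.ofBijective φ₀ ⟨h0, hsurj⟩
  let f : Module.End k V := e.symm.toLinearMap ∘ₗ φ₁
  have hnt : Nontrivial V := by
    apply Module.nontrivial_of_finrank_pos (R := k)
    omega
  obtain ⟨c, hc⟩ := Module.End.exists_eigenvalue f
  obtain ⟨t, ht⟩ := hc.exists_hasEigenvector
  refine ⟨c, t, ht.2, ?_⟩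
  have h1 : f t = c • t := ht.apply_eq_smul
  have h2 : e (f t) = φ₁ t := by simp [f]
  rw [← h2, h1, map_smul]
  rfl

end Groth.Agent.H83.Hyp
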