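import Mathlib
import Groth.Prelude.Def_CohB1

set_option autoImplicit false
universe u

namespace Groth.Agent.H83.Hyp

open MvPolynomial

/-- If the linear forms vanishing at `x ∈ P^N_k` together with one more linear form `v` span all
linear forms, then `x` is a closed point. -/
theorem isClosed_singleton_of_sup_span_eq_top (k : Type u) [Field k] (N : ℕ)
    (x : ProjectiveSpectrum (CohB1.polyGrading N k)) (v : ↥(CohB1.polyGrading N k 1))
    (Lx : Submodule k ↥(CohB1.polyGrading N k 1))
    (hLx : ∀ ℓ ∈ Lx, ℓ.1 ∈ x.asHomogeneousIdeal)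
    (htop : Lx ⊔ Submodule.span k {v} = ⊤) :
    IsClosed ({x} : Set (ProjectiveSpectrum (CohB1.polyGrading N k))) := by
  classical
  set px : Ideal (MvPolynomial (Fin (N + 1)) k) := x.asHomogeneousIdeal.toIdeal with hpx
  -- every linear form is `l + c v` with `l ∈ px`
  have hlin : ∀ ℓ : MvPolynomial (Fin (N + 1)) k, ℓ ∈ CohB1.polyGrading N k 1 →
      ∃ c : k, ℓ - C c * v.1 ∈ px := by
    intro ℓ hℓ
    have hmem : (⟨ℓ, hℓ⟩ : ↥(CohB1.polyGrading N k 1)) ∈ Lx ⊔ Submodule.span k {v} := by
      rw [htop]; trivial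
    obtain ⟨l, hl, w, hw, hlw⟩ := Submodule.mem_sup.mp hmem
    obtain ⟨c, rfl⟩ := Submodule.mem_span_singleton.mp hw
    refine ⟨c, ?_⟩
    have h1 : ℓ = l.1 + c • v.1 := by
      have := congrArg Subtype.val hlw
      simpa using this.symm
    rw [h1, smul_eq_C_mul, add_sub_cancel_right]
    exact hLx l hl
  -- Claim K
  have hK : ∀ (d : ℕ) (f : MvPolynomial (Fin (N + 1)) k), f ∈ CohB1.polyGrading N k d →
      ∃ a : k, f - C a * v.1 ^ d ∈ px := by
    intro d
    induction d with
    | zero =>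
      intro f hf
      have hf' : f ∈ homogeneousSubmodule (Fin (N + 1)) k 0 := hf
      rw [homogeneousSubmodule_zero] at hf'
      obtain ⟨a, rfl⟩ := hf'
      exact ⟨a, by simp [smul_eq_C_mul]⟩
    | succ d ih =>
      intro f hf
      have hf' : f ∈ homogeneousSubmodule (Fin (N + 1)) k (d + 1) := hf
      rw [← homogeneousSubmodule_one_pow, pow_succ, homogeneousSubmodule_one_pow] at hf'
      refine Submodule.mul_induction_on hf' ?_ ?_
      · intro g hg ℓ hℓ
        obtain ⟨b, hb⟩ := ih g hg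
        obtain ⟨c, hc⟩ := hlin ℓ hℓ
        refine ⟨b * c, ?_⟩
        have e : g * ℓ - C (b * c) * v.1 ^ (d + 1) =
            g * (ℓ - C c * v.1) + (g - C b * v.1 ^ d) * (C c * v.1) := by
          rw [C_mul, pow_succ]; ring
        rw [e]
        exact add_mem (px.mul_mem_left _ hc) (px.mul_mem_right _ hb)
      · rintro p q ⟨a, ha⟩ ⟨b, hb⟩
        refine ⟨a + b, ?_⟩
        have e : p + q - C (a + b) * v.1 ^ (d + 1) =
            (p - C a * v.1 ^ (d + 1)) + (q - C b * v.1 ^ (d + 1)) := by
          rw [C_add]; ring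
        rw [e]; exact add_mem ha hb
  apply isClosed_of_closure_subset
  intro y hy
  have hxy : x ≤ y := (ProjectiveSpectrum.le_iff_mem_closure _ x y).mpr hy
  have hxy' : px ≤ y.asHomogeneousIdeal.toIdeal := hxy
  set py : Ideal (MvPolynomial (Fin (N + 1)) k) := y.asHomogeneousIdeal.toIdeal with hpy
  have hpyprime : py.IsPrime := y.isPrime
  -- (1) v ∉ py
  have hv : v.1 ∉ py := by
    intro hvy
    apply y.not_irrelevant_le
    intro f hf
    have hf' : f ∈ (HomogeneousIdeal.irrelevant (CohB1.polyGrading N k)).toAddSubmonoid := hf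
    rw [HomogeneousIdeal.irrelevant_eq_closure] at hf'
    have hle : AddSubmonoid.closure (⋃ i > 0, ((CohB1.polyGrading N k i : Set (MvPolynomial (Fin (N + 1)) k))))
        ≤ py.toAddSubmonoid := by
      rw [AddSubmonoid.closure_le]
      intro g hg
      simp only [Set.mem_iUnion] at hg
      obtain ⟨i, hi, hgi⟩ := hg
      obtain ⟨a, ha⟩ := hK i g hgi
      have e : g = (g - C a * v.1 ^ i) + C a * v.1 ^ i := by ring
      show g ∈ py
      rw [e]
      refine add_mem (hxy' ha) (py.mul_mem_left _ ?_)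
      obtain ⟨j, rfl⟩ : ∃ j, i = j + 1 := ⟨i - 1, by omega⟩
      rw [pow_succ]; exact py.mul_mem_left _ hvy
    exact hle hf'
  -- (2)
  have h2 : ∀ (d : ℕ) (f : MvPolynomial (Fin (N + 1)) k), f ∈ CohB1.polyGrading N k d → f ∈ py →
      f ∈ px := by
    intro d f hfd hfy
    obtain ⟨a, ha⟩ := hK d f hfd
    have h3 : C a * v.1 ^ d ∈ py := by
      have e : C a * v.1 ^ d = f - (f - C a * v.1 ^ d) := by ring
      rw [e]; exact sub_mem hfy (hxy' ha)
    have ha0 : a = 0 := by
      by_contra hne
      rcases hpyprime.mem_or_mem h3 with h | h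
      · apply hpyprime.ne_top
        rw [Ideal.eq_top_iff_one]
        have : C a⁻¹ * C a ∈ py := py.mul_mem_left _ h
        rwa [← C_mul, inv_mul_cancel₀ hne, C_1] at this
      · exact hv (hpyprime.mem_of_pow_mem d h)
    rw [ha0] at ha
    simpa using ha
  -- (3)
  have h3 : py ≤ px := by
    intro f hf
    rw [← DirectSum.sum_support_decompose (CohB1.polyGrading N k) f]
    refine Ideal.sum_mem _ fun i _ => ?_
    exact h2 i _ (Subtype.prop _) (y.asHomogeneousIdeal.isHomogeneous i hf)
  have hyx : y ≤ x := h3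
  exact le_antisymm hyx hxy

end Groth.Agent.H83.Hyp
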