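import Mathlib
import Groth.Agent.H21.Hyp.Defs
import Groth.Agent.H83.Hyp_Ccore

set_option autoImplicit false
universe u

namespace Groth.Agent.H83.Hyp

theorem Lx_sup_span_ne_top (k : Type u) [Field k] (N : ℕ)
    (x : ProjectiveSpectrum (CohB1.polyGrading N k))
    (hx : ¬ IsClosed ({x} : Set (ProjectiveSpectrum (CohB1.polyGrading N k))))
    (v : ↥(CohB1.polyGrading N k 1)) :
    Groth.Agent.H21.Hyp.Lx k N x ⊔ Submodule.span k {v} ≠ ⊤ := by
  intro htop
  exact hx (isClosed_singleton_of_sup_span_eq_top k N x v (Groth.Agent.H21.Hyp.Lx k N x)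
    (fun ℓ hℓ => (Groth.Agent.H21.Hyp.mem_Lx k N x ℓ).mp hℓ) htop)

end Groth.Agent.H83.Hyp
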