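import Mathlib

set_option autoImplicit false
universe u
open TensorProduct Polynomial

namespace Groth.Agent.H83.FDS_QA

/-- (QA) if `k[X] → B`, `X ↦ a` is quasi-finite, then `a` is transcendental modulo every
non-maximal prime. -/
theorem transcendental_of_quasiFinite {k B : Type u} [Field k] [CommRing B] [Algebra k B]
    [Algebra.FiniteType k B] (a : B)
    (ha : (Polynomial.aeval (R := k) a).toRingHom.QuasiFinite) (Q : Ideal B) [Q.IsPrime]
    (hQ : ¬ Q.IsMaximal) : Transcendental k (Ideal.Quotient.mk Q a) := by
  intro halg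
  apply hQ
  have hψ : ((Ideal.Quotient.mk Q).comp (Polynomial.aeval (R := k) a).toRingHom).QuasiFinite :=
    RingHom.QuasiFinite.comp
      (RingHom.QuasiFinite.of_finite (RingHom.Finite.of_surjective _ Ideal.Quotient.mk_surjective))
      ha
  let K : Subalgebra k (B ⧸ Q) := Algebra.adjoin k {Ideal.Quotient.mk Q a}
  haveI hKfin : Module.Finite k K := Module.Finite.iff_fg.mpr halg.isIntegral.fg_adjoin_singleton
  haveI : IsArtinianRing K := IsArtinianRing.of_finite k K
  let a' : K := ⟨Ideal.Quotient.mk Q a, Algebra.subset_adjoin rfl⟩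
  have hfac : (Ideal.Quotient.mk Q).comp (Polynomial.aeval (R := k) a).toRingHom =
      (algebraMap K (B ⧸ Q)).comp (Polynomial.aeval (R := k) a').toRingHom := by
    apply Polynomial.ringHom_ext
    · intro c
      simp [a']
    · simp [a']
  rw [hfac] at hψ
  have hval : (algebraMap K (B ⧸ Q)).QuasiFinite := RingHom.QuasiFinite.of_comp hψ
  haveI : Algebra.QuasiFinite K (B ⧸ Q) := RingHom.quasiFinite_algebraMap.mp hval
  haveI : Module.Finite K (B ⧸ Q) := Module.Finite.of_quasiFinite
  haveI : Module.Finite k (B ⧸ Q) := Module.Finite.trans K (B ⧸ Q)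
  haveI : Algebra.IsIntegral k (B ⧸ Q) := inferInstance
  exact Ideal.Quotient.maximal_of_isField Q
    (isField_of_isIntegral_of_isField' (R := k) (Field.toIsField k))

end Groth.Agent.H83.FDS_QA
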