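import Mathlib

set_option autoImplicit false
universe u
open TensorProduct Polynomial

namespace Groth.Agent.H83.FDS_QB

/-- (QB) in dimension `≤ 1`, `X ↦ c` is quasi-finite as soon as `c` is transcendental modulo every
non-maximal prime. -/
theorem quasiFinite_of_transcendental {k B : Type u} [Field k] [CommRing B] [Algebra k B]
    [Algebra.FiniteType k B] (hdim : ringKrullDim B ≤ 1) (c : B)
    (hc : ∀ (Q : Ideal B) [Q.IsPrime], ¬ Q.IsMaximal →
      Transcendental k (Ideal.Quotient.mk Q c)) :
    (Polynomial.aeval (R := k) c).toRingHom.QuasiFinite := by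
  classical
  haveI : IsNoetherianRing B := Algebra.FiniteType.isNoetherianRing k B
  have hdim1 : Ring.KrullDimLE 1 B := Ring.krullDimLE_iff.mpr hdim
  have hmm := Ring.krullDimLE_one_iff.mp hdim1
  letI : Algebra k[X] B := (Polynomial.aeval (R := k) c).toRingHom.toAlgebra
  have halgmap : ∀ g : k[X], algebraMap k[X] B g = Polynomial.aeval c g := fun g => rfl
  haveI : IsScalarTower k k[X] B := IsScalarTower.of_algebraMap_eq (fun x => by
    rw [halgmap, Polynomial.algebraMap_apply, Polynomial.aeval_C]; rfl)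
  haveI : Algebra.FiniteType k[X] B := Algebra.FiniteType.of_restrictScalars_finiteType k k[X] B
  show Algebra.QuasiFinite k[X] B
  have hmk : ∀ (Q : Ideal B) (g : k[X]),
      Ideal.Quotient.mk Q (algebraMap k[X] B g) = Polynomial.aeval (Ideal.Quotient.mk Q c) g := by
    intro Q g
    rw [halgmap, ← Ideal.Quotient.mkₐ_eq_mk k, ← Polynomial.aeval_algHom_apply]
  rw [Algebra.QuasiFinite.iff_finite_primesOver]
  intro P hP
  have hfinmin : (minimalPrimes B).Finite := minimalPrimes.finite_of_isNoetherianRing B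
  have hmax : ∀ Q : Ideal B, Q.IsMaximal → Q.LiesOver P → P ≠ ⊥ := by
    intro Q hQ hQP hbot
    letI := Ideal.Quotient.field Q
    haveI : Module.Finite k (B ⧸ Q) := finite_of_finite_type_of_isJacobsonRing k (B ⧸ Q)
    have halg : IsAlgebraic k (Ideal.Quotient.mk Q c) := Algebra.IsAlgebraic.isAlgebraic _
    obtain ⟨g, hg0, hg⟩ := halg
    have h1 : algebraMap k[X] B g ∈ Q := by
      rw [← Ideal.Quotient.eq_zero_iff_mem, hmk, hg]
    have h2 : g ∈ P := by
      rw [hQP.over]; exact h1
    rw [hbot] at h2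
    exact hg0 (by simpa using h2)
  by_cases hPbot : P = ⊥
  · refine hfinmin.subset ?_
    rintro Q ⟨hQprime, hQP⟩
    rcases hmm Q hQprime with h | h
    · exact h
    · exact absurd hPbot (hmax Q h hQP)
  · obtain ⟨f, hfP, hf0⟩ : ∃ f ∈ P, f ≠ 0 := Submodule.exists_mem_ne_zero_of_ne_bot hPbot
    have hfin2 : (⋃ q ∈ minimalPrimes B,
        (q ⊔ Ideal.span {algebraMap k[X] B f}).minimalPrimes).Finite :=
      hfinmin.biUnion fun q _ => Ideal.finite_minimalPrimes_of_isNoetherianRing B _
    refine (hfinmin.union hfin2).subset ?_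
    rintro Q ⟨hQprime, hQP⟩
    by_cases hQmin : Q ∈ minimalPrimes B
    · exact Or.inl hQmin
    · right
      have hQmax : Q.IsMaximal := (hmm Q hQprime).resolve_left hQmin
      obtain ⟨q, hqmin, hqQ⟩ := Ideal.exists_minimalPrimes_le (show (⊥ : Ideal B) ≤ Q from bot_le)
      haveI hqprime : q.IsPrime := hqmin.1.1
      have hqne : q ≠ Q := fun h => hQmin (h ▸ hqmin)
      have hqnotmax : ¬ q.IsMaximal := fun h => hqne (h.eq_of_le hQprime.ne_top hqQ)
      have htr := hc q hqnotmax
      have hfq : algebraMap k[X] B f ∉ q := by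
        intro hmem
        apply hf0
        apply (transcendental_iff.mp htr) f
        rw [← hmk, Ideal.Quotient.eq_zero_iff_mem]
        exact hmem
      have hfQ : algebraMap k[X] B f ∈ Q := by
        have h3 : f ∈ Q.under k[X] := hQP.over ▸ hfP
        exact h3
      refine Set.mem_biUnion hqmin ⟨⟨hQprime, sup_le hqQ
        ((Ideal.span_singleton_le_iff_mem _).mpr hfQ)⟩, ?_⟩
      rintro Q' ⟨hQ'prime, hJQ'⟩ hQ'Q
      rcases hmm Q' hQ'prime with h | h
      · exfalso
        have hqQ' : q ≤ Q' := le_sup_left.trans hJQ'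
        have h4 : Q' ≤ q := h.2 ⟨hqprime, bot_le⟩ hqQ'
        exact hfq (h4 (hJQ' (Ideal.mem_sup_right (Ideal.mem_span_singleton_self _))))
      · exact (h.eq_of_le hQprime.ne_top hQ'Q).ge

end Groth.Agent.H83.FDS_QB
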