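import Mathlib
import Groth.Agent.H87.LimSystem
import Groth.Agent.Lead.CompleteNoetherian

set_option autoImplicit false
universe u

namespace Groth.Agent.H83.KerALG

section stepB

variable {B : Type u} [CommRing B] (J : Ideal B)
  {M P : ℕ → Type u} [∀ n, AddCommGroup (M n)] [∀ n, Module B (M n)]
  [∀ n, AddCommGroup (P n)] [∀ n, Module B (P n)]
  (T : ∀ {n m : ℕ}, n ≤ m → M m →ₗ[B] M n)
  (a : ∀ n, M n →ₗ[B] P n)
  {LM LP : Type u} [AddCommGroup LM] [Module B LM] [AddCommGroup LP] [Module B LP]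
  (ah : LM →ₗ[B] LP) (πM : ∀ n, LM →ₗ[B] M n) (πP : ∀ n, LP →ₗ[B] P n)

theorem chase
    (hπMs : ∀ n, Function.Surjective (πM n))
    (hπMk : ∀ n, LinearMap.ker (πM n) = J ^ (n + 1) • ⊤)
    (hπPk : ∀ n, LinearMap.ker (πP n) = J ^ (n + 1) • ⊤)
    (hTπ : ∀ {n m : ℕ} (h : n ≤ m), (T h).comp (πM m) = πM n)
    (haπ : ∀ n, (a n).comp (πM n) = (πP n).comp ah)
    (c c' : ℕ)
    (hAR1 : ∀ r, (J ^ (r + c) • ⊤ : Submodule B LP) ⊓ LinearMap.range ah ≤
      J ^ r • LinearMap.range ah)
    (hAR2 : ∀ r, (J ^ (r + c') • ⊤ : Submodule B LM) ⊓ LinearMap.ker ah ≤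
      J ^ r • LinearMap.ker ah) :
    (∀ (n m : ℕ) (h : n + c ≤ m),
        Submodule.map (T (le_of_add_le_left h)) (LinearMap.ker (a m)) =
          Submodule.map (T (Nat.le_add_right n c)) (LinearMap.ker (a (n + c)))) ∧
      (∀ (j m k : ℕ) (h : j ≤ m), k + c' ≤ j + 1 →
        Submodule.map (T (Nat.le_add_right m c)) (LinearMap.ker (a (m + c))) ⊓
            LinearMap.ker (T h) ≤
          J ^ k • Submodule.map (T (Nat.le_add_right m c)) (LinearMap.ker (a (m + c)))) := by
  have key : ∀ (n m : ℕ) (h : n ≤ m), n + c ≤ m →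
      Submodule.map (T h) (LinearMap.ker (a m)) =
        Submodule.map (πM n) (LinearMap.ker ah) := by
    intro n m h hc
    apply le_antisymm
    · rintro _ ⟨y, hy, rfl⟩
      obtain ⟨x, rfl⟩ := hπMs m y
      have h1 : ah x ∈ LinearMap.ker (πP m) := by
        rw [LinearMap.mem_ker, ← LinearMap.comp_apply, ← haπ m, LinearMap.comp_apply]
        exact hy
      rw [hπPk m] at h1
      have h2 : ah x ∈ J ^ (m + 1 - c) • LinearMap.range ah := by
        apply hAR1 (m + 1 - c)
        refine ⟨?_, LinearMap.mem_range_self ah x⟩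
        have e : m + 1 - c + c = m + 1 := by omega
        rw [e]; exact h1
      rw [← Submodule.map_top, ← Submodule.map_smul''] at h2
      obtain ⟨z, hz, hzx⟩ := h2
      refine ⟨x - z, ?_, ?_⟩
      · show x - z ∈ LinearMap.ker ah
        rw [LinearMap.mem_ker, map_sub, hzx, sub_self]
      · have hz0 : πM n z = 0 := by
          rw [← LinearMap.mem_ker, hπMk n]
          exact Submodule.smul_mono_left (Ideal.pow_le_pow_right (by omega)) hz
        rw [map_sub, hz0, sub_zero, ← hTπ h]; rfl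
    · rintro _ ⟨x, hx, rfl⟩
      refine ⟨πM m x, ?_, ?_⟩
      · show πM m x ∈ LinearMap.ker (a m)
        rw [LinearMap.mem_ker, ← LinearMap.comp_apply, haπ m, LinearMap.comp_apply,
          LinearMap.mem_ker.1 hx, map_zero]
      · rw [← LinearMap.comp_apply, hTπ h]
  refine ⟨fun n m h => ?_, fun j m k h hk => ?_⟩
  · rw [key n m _ h, key n (n + c) _ le_rfl]
  · rw [key m (m + c) _ le_rfl]
    rintro _ ⟨⟨x, hx, rfl⟩, hker⟩
    have h0 : πM j x = 0 := by
      rw [← hTπ h]; exact LinearMap.mem_ker.1 hker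
    have h1 : x ∈ (J ^ (j + 1) • ⊤ : Submodule B LM) := by
      rw [← hπMk j]; exact LinearMap.mem_ker.2 h0
    have h2 : x ∈ J ^ (j + 1 - c') • LinearMap.ker ah := by
      apply hAR2 (j + 1 - c')
      refine ⟨?_, hx⟩
      have e : j + 1 - c' + c' = j + 1 := by omega
      rw [e]; exact h1
    have h3 : x ∈ J ^ k • LinearMap.ker ah :=
      Submodule.smul_mono_left (Ideal.pow_le_pow_right (by omega)) h2
    rw [← Submodule.map_smul'']
    exact ⟨x, h3, rfl⟩

end stepB

section stepA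

theorem AR_restrict {B Bh : Type u} [CommRing B] [CommRing Bh] [Algebra B Bh]
    [IsNoetherianRing Bh] (J : Ideal B)
    {L : Type u} [AddCommGroup L] [Module B L] [Module Bh L] [IsScalarTower B Bh L]
    [Module.Finite Bh L] (N : Submodule Bh L) :
    ∃ c, ∀ r, (J ^ (r + c) • ⊤ : Submodule B L) ⊓ N.restrictScalars B ≤
      J ^ r • N.restrictScalars B := by
  obtain ⟨k, hk⟩ := Ideal.exists_pow_inf_eq_pow_smul (J.map (algebraMap B Bh)) N
  refine ⟨k, fun r x hx => ?_⟩
  obtain ⟨hx1, hx2⟩ := hx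
  have h1 : x ∈ ((J.map (algebraMap B Bh)) ^ (r + k) • (⊤ : Submodule Bh L)) := by
    have : x ∈ (((J ^ (r + k)).map (algebraMap B Bh)) •
        (⊤ : Submodule Bh L)).restrictScalars B := by
      rw [Submodule.restrictScalars_map_smul_eq, Submodule.restrictScalars_top]
      exact hx1
    rw [Ideal.map_pow] at this
    exact this
  have h2 : x ∈ (J.map (algebraMap B Bh)) ^ (r + k) • (⊤ : Submodule Bh L) ⊓ N := ⟨h1, hx2⟩
  rw [hk (r + k) (by omega)] at h2
  have e : r + k - k = r := by omega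
  rw [e] at h2
  have h3 : x ∈ (J.map (algebraMap B Bh)) ^ r • N :=
    Submodule.smul_mono le_rfl inf_le_right h2
  rw [← Ideal.map_pow] at h3
  have h4 : x ∈ (((J ^ r).map (algebraMap B Bh)) • N).restrictScalars B := h3
  rw [Submodule.restrictScalars_map_smul_eq] at h4
  exact h4

end stepA

section construction

variable {B : Type u} [CommRing B]
  (M : ℕ → Type u) [∀ n, AddCommGroup (M n)] [∀ n, Module B (M n)]
  (T : ∀ {n m : ℕ}, n ≤ m → M m →ₗ[B] M n)

/-- The inverse limit as a `B`-module. -/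
def Lim : Submodule B (∀ n, M n) where
  carrier := {x | ∀ (n m : ℕ) (h : n ≤ m), T h (x m) = x n}
  add_mem' := by
    intro x y hx hy n m h
    simp only [Pi.add_apply, map_add]
    rw [hx n m h, hy n m h]
  zero_mem' := by
    intro n m h
    simp
  smul_mem' := by
    intro b x hx n m h
    simp only [Pi.smul_apply, map_smul]
    rw [hx n m h]

/-- Projection from the limit. -/
def proj (n : ℕ) : Lim M @T →ₗ[B] M n := (LinearMap.proj n).comp (Lim M @T).subtype

theorem proj_apply (n : ℕ) (x : Lim M @T) : proj M @T n x = x.1 n := rfl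

theorem T_proj {n m : ℕ} (h : n ≤ m) : (T h).comp (proj M @T m) = proj M @T n := by
  ext x
  exact x.2 n m h

theorem proj_inj (x : Lim M @T) (hx : ∀ n, proj M @T n x = 0) : x = 0 := by
  apply Subtype.ext
  funext n
  exact hx n

theorem proj_lift (hT0 : ∀ n, T (le_refl n) = LinearMap.id)
    (hT : ∀ {n m k : ℕ} (h : n ≤ m) (h' : m ≤ k), (T h).comp (T h') = T (h.trans h'))
    (y : ∀ n, M n) (hy : ∀ n, T (Nat.le_succ n) (y (n + 1)) = y n) :
    ∃ x : Lim M @T, ∀ n, proj M @T n x = y n := by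
  refine ⟨⟨y, ?_⟩, fun n => rfl⟩
  intro n m h
  induction m, h using Nat.le_induction with
  | base => rw [hT0]; rfl
  | succ m h ih =>
    have e := hT h (Nat.le_succ m)
    have e2 : T (h.trans (Nat.le_succ m)) (y (m + 1)) = T h (T (Nat.le_succ m) (y (m + 1))) := by
      rw [← e]; rfl
    rw [e2, hy m, ih]

end construction

section facts

open Groth.Agent.H87

variable {B : Type u} [CommRing B] [IsNoetherianRing B] (J : Ideal B)
  (M : ℕ → Type u) [∀ n, AddCommGroup (M n)] [∀ n, Module B (M n)]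
  (T : ∀ {n m : ℕ}, n ≤ m → M m →ₗ[B] M n)

theorem lim_complete (hT0 : ∀ n, T (le_refl n) = LinearMap.id)
    (hT : ∀ {n m k : ℕ} (h : n ≤ m) (h' : m ≤ k), (T h).comp (T h') = T (h.trans h'))
    (hTs : ∀ {n m : ℕ} (h : n ≤ m), Function.Surjective (T h))
    (hTk : ∀ {n m : ℕ} (h : n ≤ m), LinearMap.ker (T h) = J ^ (n + 1) • ⊤) :
    IsAdicComplete J (Lim M @T) :=
  LimSystem.isAdicComplete (I := J) (fun n => T (Nat.le_succ n)) (proj M @T)
    (IsNoetherian.noetherian J) (fun n => hTs _) (fun n => hTk _) (fun n => T_proj M @T _)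
    (proj_inj M @T) (proj_lift M @T hT0 hT)

variable [IsAdicComplete J (Lim M @T)]

/-- Projection from the completed limit. -/
noncomputable def projh (n : ℕ) : AdicCompletion J (Lim M @T) →ₗ[B] M n :=
  (proj M @T n).comp (AdicCompletion.ofLinearEquiv J (Lim M @T)).symm.toLinearMap

theorem projh_of (n : ℕ) (x : Lim M @T) :
    projh J M @T n (AdicCompletion.of J _ x) = proj M @T n x := by
  simp [projh]

theorem T_projh {n m : ℕ} (h : n ≤ m) : (T h).comp (projh J M @T m) = projh J M @T n := by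
  rw [projh, ← LinearMap.comp_assoc, T_proj]; rfl

theorem projh_inj (x : AdicCompletion J (Lim M @T)) (hx : ∀ n, projh J M @T n x = 0) :
    x = 0 := by
  have h1 : (AdicCompletion.ofLinearEquiv J (Lim M @T)).symm x = 0 :=
    proj_inj M @T _ hx
  exact (LinearEquiv.map_eq_zero_iff _).1 h1

theorem projh_lift (hT0 : ∀ n, T (le_refl n) = LinearMap.id)
    (hT : ∀ {n m k : ℕ} (h : n ≤ m) (h' : m ≤ k), (T h).comp (T h') = T (h.trans h'))
    (y : ∀ n, M n) (hy : ∀ n, T (Nat.le_succ n) (y (n + 1)) = y n) :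
    ∃ x : AdicCompletion J (Lim M @T), ∀ n, projh J M @T n x = y n := by
  obtain ⟨x0, hx0⟩ := proj_lift M @T hT0 hT y hy
  exact ⟨AdicCompletion.of J _ x0, fun n => by rw [projh_of, hx0]⟩

theorem projh_surj (hT0 : ∀ n, T (le_refl n) = LinearMap.id)
    (hT : ∀ {n m k : ℕ} (h : n ≤ m) (h' : m ≤ k), (T h).comp (T h') = T (h.trans h'))
    (hTs : ∀ {n m : ℕ} (h : n ≤ m), Function.Surjective (T h)) (n : ℕ) :
    Function.Surjective (projh J M @T n) :=
  LimSystem.π_surjective (fun n => T (Nat.le_succ n)) (projh J M @T) (fun n => hTs _)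
    (projh_lift J M @T hT0 hT) n

theorem ker_projh (hT0 : ∀ n, T (le_refl n) = LinearMap.id)
    (hT : ∀ {n m k : ℕ} (h : n ≤ m) (h' : m ≤ k), (T h).comp (T h') = T (h.trans h'))
    (hTs : ∀ {n m : ℕ} (h : n ≤ m), Function.Surjective (T h))
    (hTk : ∀ {n m : ℕ} (h : n ≤ m), LinearMap.ker (T h) = J ^ (n + 1) • ⊤) (n : ℕ) :
    LinearMap.ker (projh J M @T n) = J ^ (n + 1) • ⊤ :=
  le_antisymm
    (LimSystem.ker_le_smul_top (I := J) (fun n => T (Nat.le_succ n)) (projh J M @T)
      (IsNoetherian.noetherian J) (fun n => hTs _) (fun n => hTk _) (fun n => T_projh J M @T _)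
      (projh_inj J M @T) (projh_lift J M @T hT0 hT) n)
    (LimSystem.smul_top_le_ker (I := J) (fun n => T (Nat.le_succ n)) (projh J M @T)
      (fun n => hTs _) (fun n => hTk _) n)

theorem finite_limh [Module.Finite B (M 0)] (hT0 : ∀ n, T (le_refl n) = LinearMap.id)
    (hT : ∀ {n m k : ℕ} (h : n ≤ m) (h' : m ≤ k), (T h).comp (T h') = T (h.trans h'))
    (hTs : ∀ {n m : ℕ} (h : n ≤ m), Function.Surjective (T h))
    (hTk : ∀ {n m : ℕ} (h : n ≤ m), LinearMap.ker (T h) = J ^ (n + 1) • ⊤) :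
    Module.Finite (AdicCompletion J B) (AdicCompletion J (Lim M @T)) :=
  LimSystem.finite_adicCompletion (I := J) (fun n => T (Nat.le_succ n)) (projh J M @T)
    (IsNoetherian.noetherian J) (fun n => hTs _) (fun n => hTk _) (fun n => T_projh J M @T _)
    (projh_inj J M @T) (projh_lift J M @T hT0 hT)

end facts

theorem alg_AR {B : Type u} [CommRing B] [IsNoetherianRing B] (J : Ideal B)
    (M P : ℕ → Type u) [∀ n, AddCommGroup (M n)] [∀ n, Module B (M n)]
    [∀ n, Module.Finite B (M n)]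
    [∀ n, AddCommGroup (P n)] [∀ n, Module B (P n)] [∀ n, Module.Finite B (P n)]
    (T : ∀ {n m : ℕ}, n ≤ m → M m →ₗ[B] M n) (S : ∀ {n m : ℕ}, n ≤ m → P m →ₗ[B] P n)
    (hT0 : ∀ n, T (le_refl n) = LinearMap.id)
    (hT : ∀ {n m k : ℕ} (h : n ≤ m) (h' : m ≤ k), (T h).comp (T h') = T (h.trans h'))
    (hS0 : ∀ n, S (le_refl n) = LinearMap.id)
    (hS : ∀ {n m k : ℕ} (h : n ≤ m) (h' : m ≤ k), (S h).comp (S h') = S (h.trans h'))
    (a : ∀ n, M n →ₗ[B] P n)
    (ha : ∀ {n m : ℕ} (h : n ≤ m), (S h).comp (a m) = (a n).comp (T h))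
    (hTs : ∀ {n m : ℕ} (h : n ≤ m), Function.Surjective (T h))
    (hTk : ∀ {n m : ℕ} (h : n ≤ m), LinearMap.ker (T h) = J ^ (n + 1) • ⊤)
    (hSs : ∀ {n m : ℕ} (h : n ≤ m), Function.Surjective (S h))
    (hSk : ∀ {n m : ℕ} (h : n ≤ m), LinearMap.ker (S h) = J ^ (n + 1) • ⊤) :
    ∃ c c' : ℕ,
      (∀ (n m : ℕ) (h : n + c ≤ m),
        Submodule.map (T (le_of_add_le_left h)) (LinearMap.ker (a m)) =
          Submodule.map (T (Nat.le_add_right n c)) (LinearMap.ker (a (n + c)))) ∧
      (∀ (j m k : ℕ) (h : j ≤ m), k + c' ≤ j + 1 →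
        Submodule.map (T (Nat.le_add_right m c)) (LinearMap.ker (a (m + c))) ⊓ LinearMap.ker (T h) ≤
          J ^ k • Submodule.map (T (Nat.le_add_right m c)) (LinearMap.ker (a (m + c)))) := by
  haveI cM : IsAdicComplete J (Lim M @T) := lim_complete J M @T hT0 hT hTs hTk
  haveI cP : IsAdicComplete J (Lim P @S) := lim_complete J P @S hS0 hS hSs hSk
  haveI : IsNoetherianRing (AdicCompletion J B) :=
    Groth.Agent.Lead.isNoetherianRing_adicCompletion J (IsNoetherian.noetherian J)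
  haveI fM := finite_limh J M @T hT0 hT hTs hTk
  haveI fP := finite_limh J P @S hS0 hS hSs hSk
  let ab : Lim M @T →ₗ[B] Lim P @S :=
    LinearMap.codRestrict (Lim P @S) (LinearMap.pi fun n => (a n).comp (proj M @T n)) (by
      intro x n m h
      show S h (a m (x.1 m)) = a n (x.1 n)
      rw [← LinearMap.comp_apply, ha h, LinearMap.comp_apply, x.2 n m h])
  let ah : AdicCompletion J (Lim M @T) →ₗ[AdicCompletion J B] AdicCompletion J (Lim P @S) :=
    AdicCompletion.map J ab
  obtain ⟨c, hc⟩ := AR_restrict J (LinearMap.range ah)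
  obtain ⟨c', hc'⟩ := AR_restrict J (LinearMap.ker ah)
  refine ⟨c, c', ?_⟩
  refine chase J @T a (ah.restrictScalars B) (projh J M @T) (projh J P @S)
    (projh_surj J M @T hT0 hT hTs) (ker_projh J M @T hT0 hT hTs hTk)
    (ker_projh J P @S hS0 hS hSs hSk) (fun h => T_projh J M @T h) ?_ c c' ?_ ?_
  · intro n
    refine LinearMap.ext fun x => ?_
    obtain ⟨y, rfl⟩ := (AdicCompletion.of_bijective J (Lim M @T)).2 x
    show a n (projh J M @T n (AdicCompletion.of J _ y)) =
      projh J P @S n (AdicCompletion.map J ab (AdicCompletion.of J _ y))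
    rw [AdicCompletion.map_of, projh_of, projh_of]
    rfl
  · exact hc
  · exact hc'

end Groth.Agent.H83.KerALG
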