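import Mathlib
import Groth.Prelude.Def_W4bk4grossh1223Act

set_option autoImplicit false
universe u
open CategoryTheory MonoidalCategory CartesianMonoidalCategory MonObj GrpObj AlgebraicGeometry
open scoped TensorProduct

namespace Groth.Agent.H83.GMod_SUB

variable {k : Type u} [Field k] {G : Over (Spec (CommRingCat.of k))} [GrpObj G]
variable {A : Type u} [CommRing A] [Algebra k A] (ρ : VecGrp.GMod G A) (hρ : ρ.IsMult)
  (S : Subalgebra k A) (hS : ρ.IsStable (𝟙 G) (Subalgebra.toSubmodule S))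

section Fix

variable (B : Type u) [CommRing B] [Algebra k B]

/-- the inclusion `B ⊗ S → B ⊗ A` -/
noncomputable def inc : B ⊗[k] ↥S →ₐ[B] B ⊗[k] A :=
  Algebra.TensorProduct.map (AlgHom.id B B) S.val

theorem inc_tmul (b : B) (s : S) : inc S B (b ⊗ₜ[k] s) = b ⊗ₜ[k] (s : A) := rfl

theorem inc_injective : Function.Injective (inc S B) := by
  have h := Module.Flat.lTensor_preserves_injective_linearMap (M := B) S.val.toLinearMap
    Subtype.val_injective
  intro x y hxy
  apply h
  have e : ∀ z : B ⊗[k] ↥S, (S.val.toLinearMap.lTensor B) z = inc S B z := by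
    intro z
    induction z using TensorProduct.induction_on with
    | zero => simp
    | tmul b s => rfl
    | add x x' hx hx' => rw [map_add, map_add, hx, hx']
  rw [e, e, hxy]

include hS in
theorem mem_range (g : VecGrp.pt k B ⟶ G) (x : B ⊗[k] ↥S) :
    ρ.ρ B g (inc S B x) ∈ LinearMap.range (inc S B).toLinearMap := by
  have hle : (Subalgebra.toSubmodule S).baseChange B ≤ LinearMap.range (inc S B).toLinearMap := by
    rw [Submodule.baseChange_eq_span]
    apply Submodule.span_le.mpr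
    rintro _ ⟨m, hm, rfl⟩
    exact ⟨(1 : B) ⊗ₜ[k] ⟨m, hm⟩, rfl⟩
  induction x using TensorProduct.induction_on with
  | zero => simp
  | tmul b s =>
    have e : (inc S B (b ⊗ₜ[k] s) : B ⊗[k] A) = b • ((1 : B) ⊗ₜ[k] (s : A)) := by
      rw [inc_tmul, TensorProduct.smul_tmul', smul_eq_mul, _root_.mul_one]
    rw [e, map_smul]
    apply Submodule.smul_mem
    apply hle
    have := hS B g (s : A) s.2
    rwa [Category.comp_id] at this
  | add x y hx hy =>
    rw [map_add, map_add]
    exact Submodule.add_mem _ hx hy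

/-- the restricted action, as a linear map -/
noncomputable def τ (g : VecGrp.pt k B ⟶ G) : B ⊗[k] ↥S →ₗ[B] B ⊗[k] ↥S :=
  (LinearEquiv.ofInjective (inc S B).toLinearMap (inc_injective S B)).symm.toLinearMap ∘ₗ
    LinearMap.codRestrict (LinearMap.range (inc S B).toLinearMap)
      ((ρ.ρ B g).toLinearMap ∘ₗ (inc S B).toLinearMap) (fun x => mem_range ρ S hS B g x)

theorem inc_τ (g : VecGrp.pt k B ⟶ G) (x : B ⊗[k] ↥S) :
    inc S B (τ ρ S hS B g x) = ρ.ρ B g (inc S B x) := by
  have := LinearEquiv.apply_symm_apply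
    (LinearEquiv.ofInjective (inc S B).toLinearMap (inc_injective S B))
    (LinearMap.codRestrict (LinearMap.range (inc S B).toLinearMap)
      ((ρ.ρ B g).toLinearMap ∘ₗ (inc S B).toLinearMap) (fun x => mem_range ρ S hS B g x) x)
  exact congrArg Subtype.val this

theorem τ_mul (g g' : VecGrp.pt k B ⟶ G) :
    τ ρ S hS B (g * g') = τ ρ S hS B g * τ ρ S hS B g' := by
  apply LinearMap.ext
  intro x
  apply inc_injective S B
  rw [Module.End.mul_apply, inc_τ, inc_τ, inc_τ, map_mul]
  rfl

theorem τ_one : τ ρ S hS B (1 : VecGrp.pt k B ⟶ G) = 1 := by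
  apply LinearMap.ext
  intro x
  apply inc_injective S B
  rw [inc_τ, map_one]
  rfl

include hρ in
theorem τ_map_mul (g : VecGrp.pt k B ⟶ G) (x y : B ⊗[k] ↥S) :
    τ ρ S hS B g (x * y) = τ ρ S hS B g x * τ ρ S hS B g y := by
  apply inc_injective S B
  rw [inc_τ, map_mul (inc S B) x y, (hρ B g).1, map_mul (inc S B), inc_τ, inc_τ]

include hρ in
theorem τ_map_one (g : VecGrp.pt k B ⟶ G) : τ ρ S hS B g 1 = 1 := by
  apply inc_injective S B
  rw [inc_τ, map_one, (hρ B g).2]

end Fix

section Nat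

variable {B B' : Type u} [CommRing B] [Algebra k B] [CommRing B'] [Algebra k B'] (φ : B →ₐ[k] B')

theorem Wmap_inc (u : B ⊗[k] ↥S) :
    VecGrp.Wmap φ (inc S B u) = inc S B' (VecGrp.Wmap φ u) := by
  induction u using TensorProduct.induction_on with
  | zero => simp
  | tmul b a => rfl
  | add x x' hx hx' => rw [map_add, map_add, map_add, map_add, hx, hx']

theorem τ_nat (g : VecGrp.pt k B ⟶ G) (x : B ⊗[k] ↥S) :
    VecGrp.Wmap φ (τ ρ S hS B g x) = τ ρ S hS B' (VecGrp.ptMap φ ≫ g) (VecGrp.Wmap φ x) := by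
  apply inc_injective S B'
  rw [← Wmap_inc, inc_τ, inc_τ, ρ.naturality, Wmap_inc]

end Nat

/-- the restricted action as a monoid hom into endomorphisms -/
noncomputable def τhom (B : Type u) [CommRing B] [Algebra k B] :
    (VecGrp.pt k B ⟶ G) →* Module.End B (B ⊗[k] ↥S) where
  toFun g := τ ρ S hS B g
  map_one' := τ_one ρ S hS B
  map_mul' g g' := τ_mul ρ S hS B g g'

/-- the restricted `G`-module -/
noncomputable def σ : VecGrp.GMod G ↥S where
  ρ B _ _ := (LinearMap.GeneralLinearGroup.generalLinearEquiv B (B ⊗[k] ↥S)).toMonoidHom.comp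
    ((τhom ρ S hS B).toHomUnits)
  naturality {B B'} _ _ _ _ φ g x := by
    change VecGrp.Wmap φ (τ ρ S hS B g x) = τ ρ S hS B' (VecGrp.ptMap φ ≫ g) (VecGrp.Wmap φ x)
    exact τ_nat ρ S hS φ g x

theorem σ_apply (B : Type u) [CommRing B] [Algebra k B] (g : VecGrp.pt k B ⟶ G)
    (x : B ⊗[k] ↥S) : (σ ρ S hS).ρ B g x = τ ρ S hS B g x := rfl

/-- (SUB) restriction of a rational action by algebra automorphisms to a stable subalgebra -/
theorem exists_restrict {A : Type u} [CommRing A] [Algebra k A] (ρ : VecGrp.GMod G A)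
    (hρ : ρ.IsMult) (S : Subalgebra k A)
    (hS : ρ.IsStable (𝟙 G) (Subalgebra.toSubmodule S)) :
    ∃ σ : VecGrp.GMod G ↥S, σ.IsMult ∧
      ∀ (B : Type u) [CommRing B] [Algebra k B] (g : VecGrp.pt k B ⟶ G) (x : B ⊗[k] ↥S),
        Algebra.TensorProduct.map (AlgHom.id k B) S.val (σ.ρ B g x) =
          ρ.ρ B g (Algebra.TensorProduct.map (AlgHom.id k B) S.val x) := by
  have e : ∀ (B : Type u) [CommRing B] [Algebra k B] (x : B ⊗[k] ↥S),
      Algebra.TensorProduct.map (AlgHom.id k B) S.val x = inc S B x := by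
    intro B _ _ x
    induction x using TensorProduct.induction_on with
    | zero => simp
    | tmul b a => rfl
    | add x x' hx hx' => rw [map_add, map_add, hx, hx']
  refine ⟨σ ρ S hS, ?_, ?_⟩
  · intro B _ _ g
    refine ⟨fun x y => ?_, ?_⟩
    · rw [σ_apply, σ_apply, σ_apply, τ_map_mul ρ hρ]
    · rw [σ_apply, τ_map_one ρ hρ]
  · intro B _ _ g x
    rw [e, e, σ_apply, inc_τ]

end Groth.Agent.H83.GMod_SUB
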