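import Mathlib
import Groth.Prelude.Def_W4bk4grossh1223Act

set_option autoImplicit false
universe u
open CategoryTheory MonoidalCategory CartesianMonoidalCategory MonObj GrpObj AlgebraicGeometry
open scoped TensorProduct

namespace Groth.Agent.H83.GMod_TP

variable {k : Type u} [Field k] {G : Over (Spec (CommRingCat.of k))} [GrpObj G]

section One

variable {A : Type u} [CommRing A] [Algebra k A] (ρ : VecGrp.GMod G A) (hρ : ρ.IsMult)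
  (B : Type u) [CommRing B] [Algebra k B]

/-- a multiplicative action acts by `B`-algebra endomorphisms -/
noncomputable def R (g : VecGrp.pt k B ⟶ G) : B ⊗[k] A →ₐ[B] B ⊗[k] A :=
  AlgHom.ofLinearMap (ρ.ρ B g).toLinearMap (hρ B g).2 (hρ B g).1

theorem R_apply (g : VecGrp.pt k B ⟶ G) (x : B ⊗[k] A) : R ρ hρ B g x = ρ.ρ B g x := rfl

/-- the coaction-like map `a ↦ g • (1 ⊗ a)` -/
noncomputable def c (g : VecGrp.pt k B ⟶ G) : A →ₐ[k] B ⊗[k] A :=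
  ((R ρ hρ B g).restrictScalars k).comp Algebra.TensorProduct.includeRight

theorem c_apply (g : VecGrp.pt k B ⟶ G) (a : A) : c ρ hρ B g a = ρ.ρ B g ((1 : B) ⊗ₜ[k] a) := rfl

end One

variable {A₁ A₂ : Type u} [CommRing A₁] [Algebra k A₁] [CommRing A₂] [Algebra k A₂]

section Two

variable (k A₁ A₂) (B : Type u) [CommRing B] [Algebra k B]

/-- `B ⊗ A₁ → B ⊗ (A₁ ⊗ A₂)` -/
noncomputable def L : B ⊗[k] A₁ →ₐ[B] B ⊗[k] (A₁ ⊗[k] A₂) :=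
  Algebra.TensorProduct.map (AlgHom.id B B)
    (Algebra.TensorProduct.includeLeft : A₁ →ₐ[k] A₁ ⊗[k] A₂)

/-- `B ⊗ A₂ → B ⊗ (A₁ ⊗ A₂)` -/
noncomputable def Rr : B ⊗[k] A₂ →ₐ[B] B ⊗[k] (A₁ ⊗[k] A₂) :=
  Algebra.TensorProduct.map (AlgHom.id B B)
    (Algebra.TensorProduct.includeRight : A₂ →ₐ[k] A₁ ⊗[k] A₂)

theorem L_tmul (b : B) (a : A₁) : L k A₁ A₂ B (b ⊗ₜ[k] a) = b ⊗ₜ[k] (a ⊗ₜ[k] (1 : A₂)) := rfl

theorem Rr_tmul (b : B) (a : A₂) : Rr k A₁ A₂ B (b ⊗ₜ[k] a) = b ⊗ₜ[k] ((1 : A₁) ⊗ₜ[k] a) := rfl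

end Two

variable (ρ₁ : VecGrp.GMod G A₁) (h₁ : ρ₁.IsMult) (ρ₂ : VecGrp.GMod G A₂) (h₂ : ρ₂.IsMult)
  (B : Type u) [CommRing B] [Algebra k B]

/-- the map `A₁ ⊗ A₂ → B ⊗ (A₁ ⊗ A₂)` -/
noncomputable def θ (g : VecGrp.pt k B ⟶ G) : A₁ ⊗[k] A₂ →ₐ[k] B ⊗[k] (A₁ ⊗[k] A₂) :=
  Algebra.TensorProduct.lift (((L k A₁ A₂ B).restrictScalars k).comp (c ρ₁ h₁ B g))
    (((Rr k A₁ A₂ B).restrictScalars k).comp (c ρ₂ h₂ B g)) (fun _ _ => Commute.all _ _)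

theorem θ_tmul (g : VecGrp.pt k B ⟶ G) (a₁ : A₁) (a₂ : A₂) :
    θ ρ₁ h₁ ρ₂ h₂ B g (a₁ ⊗ₜ[k] a₂) =
      L k A₁ A₂ B (ρ₁.ρ B g ((1 : B) ⊗ₜ[k] a₁)) * Rr k A₁ A₂ B (ρ₂.ρ B g ((1 : B) ⊗ₜ[k] a₂)) := by
  rw [θ, Algebra.TensorProduct.lift_tmul]
  rfl

/-- the tensor product action -/
noncomputable def S (g : VecGrp.pt k B ⟶ G) :
    B ⊗[k] (A₁ ⊗[k] A₂) →ₐ[B] B ⊗[k] (A₁ ⊗[k] A₂) :=
  Algebra.TensorProduct.lift (Algebra.ofId B _) (θ ρ₁ h₁ ρ₂ h₂ B g) (fun _ _ => Commute.all _ _)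

theorem S_tmul (g : VecGrp.pt k B ⟶ G) (b : B) (z : A₁ ⊗[k] A₂) :
    S ρ₁ h₁ ρ₂ h₂ B g (b ⊗ₜ[k] z) = b • θ ρ₁ h₁ ρ₂ h₂ B g z := by
  rw [S, Algebra.TensorProduct.lift_tmul]
  exact (Algebra.smul_def b _).symm

theorem S_L (g : VecGrp.pt k B ⟶ G) (x : B ⊗[k] A₁) :
    S ρ₁ h₁ ρ₂ h₂ B g (L k A₁ A₂ B x) = L k A₁ A₂ B (ρ₁.ρ B g x) := by
  induction x using TensorProduct.induction_on with
  | zero => simp
  | tmul b a =>
    have e : (b ⊗ₜ[k] a : B ⊗[k] A₁) = b • ((1 : B) ⊗ₜ[k] a) := by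
      rw [TensorProduct.smul_tmul', smul_eq_mul, _root_.mul_one]
    rw [L_tmul, S_tmul, θ_tmul]
    have e2 : ρ₂.ρ B g ((1 : B) ⊗ₜ[k] (1 : A₂)) = 1 := (h₂ B g).2
    rw [e2, map_one, _root_.mul_one, e, map_smul, map_smul]
  | add x y hx hy => rw [map_add, map_add, map_add, map_add, hx, hy]

theorem S_Rr (g : VecGrp.pt k B ⟶ G) (x : B ⊗[k] A₂) :
    S ρ₁ h₁ ρ₂ h₂ B g (Rr k A₁ A₂ B x) = Rr k A₁ A₂ B (ρ₂.ρ B g x) := by
  induction x using TensorProduct.induction_on with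
  | zero => simp
  | tmul b a =>
    have e : (b ⊗ₜ[k] a : B ⊗[k] A₂) = b • ((1 : B) ⊗ₜ[k] a) := by
      rw [TensorProduct.smul_tmul', smul_eq_mul, _root_.mul_one]
    rw [Rr_tmul, S_tmul, θ_tmul]
    have e2 : ρ₁.ρ B g ((1 : B) ⊗ₜ[k] (1 : A₁)) = 1 := (h₁ B g).2
    rw [e2, map_one, _root_.one_mul, e, map_smul, map_smul]
  | add x y hx hy => rw [map_add, map_add, map_add, map_add, hx, hy]

/-- a `B`-algebra endomorphism of `B ⊗ (A₁ ⊗ A₂)` is determined by its values on the two factors -/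
theorem algHom_ext {C : Type u} [CommRing C] [Algebra B C]
    (F F' : B ⊗[k] (A₁ ⊗[k] A₂) →ₐ[B] C)
    (hL : ∀ a : A₁, F ((1 : B) ⊗ₜ[k] (a ⊗ₜ[k] (1 : A₂))) = F' ((1 : B) ⊗ₜ[k] (a ⊗ₜ[k] (1 : A₂))))
    (hR : ∀ a : A₂, F ((1 : B) ⊗ₜ[k] ((1 : A₁) ⊗ₜ[k] a)) = F' ((1 : B) ⊗ₜ[k] ((1 : A₁) ⊗ₜ[k] a))) :
    F = F' := by
  have hz : ∀ z : A₁ ⊗[k] A₂, F ((1 : B) ⊗ₜ[k] z) = F' ((1 : B) ⊗ₜ[k] z) := by
    intro z
    induction z using TensorProduct.induction_on with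
    | zero => simp
    | tmul a₁ a₂ =>
      have e3 : ((1 : B) ⊗ₜ[k] (a₁ ⊗ₜ[k] a₂) : B ⊗[k] (A₁ ⊗[k] A₂)) =
          ((1 : B) ⊗ₜ[k] (a₁ ⊗ₜ[k] (1 : A₂))) * ((1 : B) ⊗ₜ[k] ((1 : A₁) ⊗ₜ[k] a₂)) := by
        rw [Algebra.TensorProduct.tmul_mul_tmul, Algebra.TensorProduct.tmul_mul_tmul,
          _root_.mul_one, _root_.mul_one, _root_.one_mul]
      rw [e3, map_mul, map_mul, hL, hR]
    | add z z' hz hz' => rw [TensorProduct.tmul_add, map_add, map_add, hz, hz']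
  apply AlgHom.ext
  intro x
  induction x using TensorProduct.induction_on with
  | zero => simp
  | tmul b z =>
    have e : (b ⊗ₜ[k] z : B ⊗[k] (A₁ ⊗[k] A₂)) = b • ((1 : B) ⊗ₜ[k] z) := by
      rw [TensorProduct.smul_tmul', smul_eq_mul, _root_.mul_one]
    rw [e, map_smul, map_smul, hz]
  | add x y hx hy => rw [map_add, map_add, hx, hy]

theorem S_mul (g g' : VecGrp.pt k B ⟶ G) :
    S ρ₁ h₁ ρ₂ h₂ B (g * g') = (S ρ₁ h₁ ρ₂ h₂ B g).comp (S ρ₁ h₁ ρ₂ h₂ B g') := by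
  apply algHom_ext
  · intro a
    rw [AlgHom.comp_apply, ← L_tmul, S_L, S_L, S_L, map_mul]
    rfl
  · intro a
    rw [AlgHom.comp_apply, ← Rr_tmul, S_Rr, S_Rr, S_Rr, map_mul]
    rfl

theorem S_one : S ρ₁ h₁ ρ₂ h₂ B (1 : VecGrp.pt k B ⟶ G) = AlgHom.id B _ := by
  apply algHom_ext
  · intro a
    rw [AlgHom.id_apply, ← L_tmul, S_L, map_one]
    rfl
  · intro a
    rw [AlgHom.id_apply, ← Rr_tmul, S_Rr, map_one]
    rfl

section Nat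

variable {B} {B' : Type u} [CommRing B'] [Algebra k B'] (φ : B →ₐ[k] B')

theorem Wmap_eq {C : Type u} [CommRing C] [Algebra k C] (z : B ⊗[k] C) :
    VecGrp.Wmap φ z = Algebra.TensorProduct.map φ (AlgHom.id k C) z := by
  induction z using TensorProduct.induction_on with
  | zero => simp
  | tmul b F => rfl
  | add x x' hx hx' => rw [map_add, map_add, hx, hx']

theorem Wmap_mul {C : Type u} [CommRing C] [Algebra k C] (x y : B ⊗[k] C) :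
    VecGrp.Wmap φ (x * y) = VecGrp.Wmap φ x * VecGrp.Wmap φ y := by
  rw [Wmap_eq, Wmap_eq, Wmap_eq, map_mul]

theorem Wmap_L (u : B ⊗[k] A₁) :
    VecGrp.Wmap φ (L k A₁ A₂ B u) = L k A₁ A₂ B' (VecGrp.Wmap φ u) := by
  induction u using TensorProduct.induction_on with
  | zero => simp
  | tmul b a => rfl
  | add x x' hx hx' => rw [map_add, map_add, map_add, map_add, hx, hx']

theorem Wmap_Rr (u : B ⊗[k] A₂) :
    VecGrp.Wmap φ (Rr k A₁ A₂ B u) = Rr k A₁ A₂ B' (VecGrp.Wmap φ u) := by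
  induction u using TensorProduct.induction_on with
  | zero => simp
  | tmul b a => rfl
  | add x x' hx hx' => rw [map_add, map_add, map_add, map_add, hx, hx']

theorem θ_nat (g : VecGrp.pt k B ⟶ G) (z : A₁ ⊗[k] A₂) :
    VecGrp.Wmap φ (θ ρ₁ h₁ ρ₂ h₂ B g z) = θ ρ₁ h₁ ρ₂ h₂ B' (VecGrp.ptMap φ ≫ g) z := by
  induction z using TensorProduct.induction_on with
  | zero => simp
  | tmul a₁ a₂ =>
    rw [θ_tmul, θ_tmul, Wmap_mul, Wmap_L, Wmap_Rr, ρ₁.naturality, ρ₂.naturality,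
      VecGrp.Wmap_tmul, VecGrp.Wmap_tmul, map_one]
  | add x x' hx hx' => rw [map_add, map_add, map_add, hx, hx']

theorem S_nat (g : VecGrp.pt k B ⟶ G) (x : B ⊗[k] (A₁ ⊗[k] A₂)) :
    VecGrp.Wmap φ (S ρ₁ h₁ ρ₂ h₂ B g x) =
      S ρ₁ h₁ ρ₂ h₂ B' (VecGrp.ptMap φ ≫ g) (VecGrp.Wmap φ x) := by
  induction x using TensorProduct.induction_on with
  | zero => simp
  | tmul b z =>
    rw [VecGrp.Wmap_tmul, S_tmul, S_tmul, VecGrp.Wmap_smul, θ_nat]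
  | add x x' hx hx' => rw [map_add, map_add, map_add, map_add, hx, hx']

end Nat

/-- the tensor product action as a monoid hom into endomorphisms -/
noncomputable def Shom : (VecGrp.pt k B ⟶ G) →* Module.End B (B ⊗[k] (A₁ ⊗[k] A₂)) where
  toFun g := (S ρ₁ h₁ ρ₂ h₂ B g).toLinearMap
  map_one' := by
    rw [S_one]
    rfl
  map_mul' g g' := by
    rw [S_mul]
    rfl

/-- the tensor product `G`-module -/
noncomputable def σ : VecGrp.GMod G (A₁ ⊗[k] A₂) where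
  ρ B _ _ := (LinearMap.GeneralLinearGroup.generalLinearEquiv B
      (B ⊗[k] (A₁ ⊗[k] A₂))).toMonoidHom.comp ((Shom ρ₁ h₁ ρ₂ h₂ B).toHomUnits)
  naturality {B B'} _ _ _ _ φ g x := by
    change VecGrp.Wmap φ (S ρ₁ h₁ ρ₂ h₂ B g x) =
      S ρ₁ h₁ ρ₂ h₂ B' (VecGrp.ptMap φ ≫ g) (VecGrp.Wmap φ x)
    exact S_nat ρ₁ h₁ ρ₂ h₂ φ g x

theorem σ_apply (g : VecGrp.pt k B ⟶ G) (x : B ⊗[k] (A₁ ⊗[k] A₂)) :
    (σ ρ₁ h₁ ρ₂ h₂).ρ B g x = S ρ₁ h₁ ρ₂ h₂ B g x := rfl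

/-- (TP) tensor product of two rational actions by algebra automorphisms -/
theorem exists_tensor {A₁ A₂ : Type u} [CommRing A₁] [Algebra k A₁] [CommRing A₂] [Algebra k A₂]
    (ρ₁ : VecGrp.GMod G A₁) (h₁ : ρ₁.IsMult) (ρ₂ : VecGrp.GMod G A₂) (h₂ : ρ₂.IsMult) :
    ∃ σ : VecGrp.GMod G (A₁ ⊗[k] A₂), σ.IsMult ∧
      (∀ (B : Type u) [CommRing B] [Algebra k B] (g : VecGrp.pt k B ⟶ G) (x : B ⊗[k] A₁),
        σ.ρ B g (Algebra.TensorProduct.map (AlgHom.id k B)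
            (Algebra.TensorProduct.includeLeft : A₁ →ₐ[k] A₁ ⊗[k] A₂) x) =
          Algebra.TensorProduct.map (AlgHom.id k B)
            (Algebra.TensorProduct.includeLeft : A₁ →ₐ[k] A₁ ⊗[k] A₂) (ρ₁.ρ B g x)) ∧
      (∀ (B : Type u) [CommRing B] [Algebra k B] (g : VecGrp.pt k B ⟶ G) (x : B ⊗[k] A₂),
        σ.ρ B g (Algebra.TensorProduct.map (AlgHom.id k B)
            (Algebra.TensorProduct.includeRight : A₂ →ₐ[k] A₁ ⊗[k] A₂) x) =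
          Algebra.TensorProduct.map (AlgHom.id k B)
            (Algebra.TensorProduct.includeRight : A₂ →ₐ[k] A₁ ⊗[k] A₂) (ρ₂.ρ B g x)) := by
  have eL : ∀ (B : Type u) [CommRing B] [Algebra k B] (x : B ⊗[k] A₁),
      Algebra.TensorProduct.map (AlgHom.id k B)
        (Algebra.TensorProduct.includeLeft : A₁ →ₐ[k] A₁ ⊗[k] A₂) x = L k A₁ A₂ B x := by
    intro B _ _ x
    induction x using TensorProduct.induction_on with
    | zero => simp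
    | tmul b a => rfl
    | add x x' hx hx' => rw [map_add, map_add, hx, hx']
  have eR : ∀ (B : Type u) [CommRing B] [Algebra k B] (x : B ⊗[k] A₂),
      Algebra.TensorProduct.map (AlgHom.id k B)
        (Algebra.TensorProduct.includeRight : A₂ →ₐ[k] A₁ ⊗[k] A₂) x = Rr k A₁ A₂ B x := by
    intro B _ _ x
    induction x using TensorProduct.induction_on with
    | zero => simp
    | tmul b a => rfl
    | add x x' hx hx' => rw [map_add, map_add, hx, hx']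
  refine ⟨σ ρ₁ h₁ ρ₂ h₂, ?_, ?_, ?_⟩
  · intro B _ _ g
    refine ⟨fun x y => ?_, ?_⟩
    · rw [σ_apply, σ_apply, σ_apply, map_mul]
    · rw [σ_apply, map_one]
  · intro B _ _ g x
    rw [eL, eL, σ_apply, S_L]
  · intro B _ _ g x
    rw [eR, eR, σ_apply, S_Rr]

end Groth.Agent.H83.GMod_TP
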