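import Mathlib

/-!
# A freeness criterion over local rings with nilpotent maximal ideal
(helper library for the Takeuchi cluster)
-/

set_option autoImplicit false

open TensorProduct

namespace Groth.Agent.H83.Tk

section Nak

variable {R : Type*} [CommRing R] {M : Type*} [AddCommGroup M] [Module R M]

/-- Nakayama for a nilpotent ideal, sup form. -/
theorem eq_top_of_sup_smul_top (I : Ideal R) (n : ℕ) (hI : I ^ n = ⊥) (N : Submodule R M)
    (h : N ⊔ I • (⊤ : Submodule R M) = ⊤) : N = ⊤ := by
  have key : ∀ j : ℕ, N ⊔ (I ^ j) • (⊤ : Submodule R M) = ⊤ := by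
    intro j
    induction j with
    | zero => rw [pow_zero, Ideal.one_eq_top, Submodule.top_smul, sup_top_eq]
    | succ j ih =>
      have h1 : (I ^ j) • (⊤ : Submodule R M) ≤ N ⊔ (I ^ (j + 1)) • (⊤ : Submodule R M) := by
        calc (I ^ j) • (⊤ : Submodule R M) = (I ^ j) • (N ⊔ I • (⊤ : Submodule R M)) := by rw [h]
          _ = (I ^ j) • N ⊔ (I ^ j) • (I • (⊤ : Submodule R M)) := Submodule.smul_sup _ _ _
          _ ≤ N ⊔ (I ^ (j + 1)) • (⊤ : Submodule R M) := by
              apply sup_le_sup Submodule.smul_le_right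
              rw [← Submodule.mul_smul, ← pow_succ]
      apply eq_top_iff.mpr
      calc (⊤ : Submodule R M) = N ⊔ (I ^ j) • (⊤ : Submodule R M) := ih.symm
        _ ≤ N ⊔ (I ^ (j + 1)) • (⊤ : Submodule R M) := sup_le le_sup_left h1
  have := key n
  rw [hI, Submodule.bot_smul, sup_bot_eq] at this
  exact this

/-- Nakayama for a nilpotent ideal. -/
theorem eq_bot_of_le_smul (I : Ideal R) (n : ℕ) (hI : I ^ n = ⊥) (K : Submodule R M)
    (h : K ≤ I • K) : K = ⊥ := by
  have key : ∀ j : ℕ, K ≤ (I ^ j) • K := by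
    intro j
    induction j with
    | zero => rw [pow_zero, Ideal.one_eq_top, Submodule.top_smul]
    | succ j ih =>
      calc K ≤ (I ^ j) • K := ih
        _ ≤ (I ^ j) • (I • K) := Submodule.smul_mono le_rfl h
        _ = (I ^ (j + 1)) • K := by rw [← Submodule.mul_smul, ← pow_succ]
  have := key n
  rw [hI, Submodule.bot_smul] at this
  exact le_bot_iff.mp this

end Nak

theorem linearCombination_bijective_of_projective
    {R : Type*} [CommRing R] (I : Ideal R) (n : ℕ) (hI : I ^ n = ⊥)
    {M : Type*} [AddCommGroup M] [Module R M] {ι : Type*} (e : ι → M)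
    (hspan : Submodule.span R (Set.range e) ⊔ I • (⊤ : Submodule R M) = ⊤)
    (hind : ∀ c : ι →₀ R, Finsupp.linearCombination R e c = 0 → ∀ i, c i ∈ I)
    {S : Type*} [CommRing S] [Algebra R S] (hinj : Function.Injective (algebraMap R S))
    [Module.Projective S (S ⊗[R] M)] :
    Function.Bijective (Finsupp.linearCombination R e) := by
  classical
  set φ := Finsupp.linearCombination R e with hφ
  have hφsurj : Function.Surjective φ := by
    rw [← LinearMap.range_eq_top, hφ, Finsupp.range_linearCombination]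
    exact eq_top_of_sup_smul_top I n hI _ hspan
  have hker : LinearMap.ker φ ≤ I • (⊤ : Submodule R (ι →₀ R)) := by
    intro c hc
    have hci := hind c (LinearMap.mem_ker.mp hc)
    have h : c.sum Finsupp.single ∈ I • (⊤ : Submodule R (ι →₀ R)) := by
      refine Submodule.sum_mem _ fun i _ => ?_
      rw [← Finsupp.smul_single_one]
      exact Submodule.smul_mem_smul (hci i) Submodule.mem_top
    rwa [Finsupp.sum_single] at h
  let Φ : S ⊗[R] (ι →₀ R) →ₗ[S] S ⊗[R] M := φ.baseChange S
  have hΦsurj : Function.Surjective Φ := fun y => by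
    obtain ⟨x, hx⟩ := LinearMap.lTensor_surjective S hφsurj y
    exact ⟨x, hx⟩
  obtain ⟨s, hs⟩ := Module.projective_lifting_property Φ LinearMap.id hΦsurj
  have hs' : ∀ y, Φ (s y) = y := fun y => LinearMap.congr_fun hs y
  set KR : Submodule R (S ⊗[R] (ι →₀ R)) := (LinearMap.ker Φ).restrictScalars R with hKR
  have hmemK : ∀ x, x ∈ KR ↔ Φ x = 0 := fun x => by simp [hKR]
  have h3 : KR ≤ I • (⊤ : Submodule R (S ⊗[R] (ι →₀ R))) := by
    intro x hx
    have hx0 : φ.lTensor S x = 0 := (hmemK x).mp hx
    have hex := lTensor_exact (M := LinearMap.ker φ) (f := (LinearMap.ker φ).subtype) (g := φ) S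
      (LinearMap.exact_subtype_ker_map φ) hφsurj
    obtain ⟨y, rfl⟩ := (hex x).mp hx0
    clear hx hx0
    induction y using TensorProduct.induction_on with
    | zero => simp
    | tmul a c =>
      rw [LinearMap.lTensor_tmul]
      have hc : (LinearMap.ker φ).subtype c ∈ I • (⊤ : Submodule R (ι →₀ R)) := hker c.2
      have := Submodule.mem_map_of_mem (f := TensorProduct.mk R S (ι →₀ R) a) hc
      rw [Submodule.map_smul''] at this
      exact Submodule.smul_mono le_rfl le_top this
    | add y z hy hz => rw [map_add]; exact Submodule.add_mem _ hy hz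
  let eR : S ⊗[R] (ι →₀ R) →ₗ[R] S ⊗[R] (ι →₀ R) := (LinearMap.id - s ∘ₗ Φ).restrictScalars R
  have heR : ∀ x, eR x = x - s (Φ x) := fun x => rfl
  have h4 : KR ≤ I • KR := by
    intro x hx
    have hxe : eR x = x := by rw [heR, (hmemK x).mp hx, map_zero, sub_zero]
    have h := Submodule.mem_map_of_mem (f := eR) (h3 hx)
    rw [Submodule.map_smul'', hxe] at h
    refine Submodule.smul_mono le_rfl ?_ h
    rintro _ ⟨y, -, rfl⟩
    rw [hmemK, heR, map_sub, hs', sub_self]
  have h5 : KR = ⊥ := eq_bot_of_le_smul I n hI KR h4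
  have hφinj : Function.Injective φ := by
    rw [← LinearMap.ker_eq_bot, eq_bot_iff]
    intro c hc
    have h1 : (1 : S) ⊗ₜ[R] c ∈ KR := by
      rw [hmemK]
      change φ.baseChange S (1 ⊗ₜ c) = 0
      rw [LinearMap.baseChange_tmul, LinearMap.mem_ker.mp hc, TensorProduct.tmul_zero]
    rw [h5, Submodule.mem_bot] at h1
    rw [Submodule.mem_bot]
    ext i
    have h2 := congrArg (fun x => TensorProduct.rid R S
      ((Finsupp.lapply i : (ι →₀ R) →ₗ[R] R).lTensor S x)) h1
    simp only [LinearMap.lTensor_tmul, Finsupp.lapply_apply, TensorProduct.rid_tmul,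
      map_zero] at h2
    rw [← Algebra.algebraMap_eq_smul_one] at h2
    exact (map_eq_zero_iff _ hinj).mp h2
  exact ⟨hφinj, hφsurj⟩

section Local

variable {R : Type*} [CommRing R] [IsLocalRing R]

local notation "𝔪" => IsLocalRing.maximalIdeal R

/-- Over a local ring with nilpotent maximal ideal, a module whose base change to an extension
ring is projective is free. -/
theorem free_of_projective_baseChange (n : ℕ) (hn : 𝔪 ^ n = ⊥)
    {M : Type*} [AddCommGroup M] [Module R M]
    {S : Type*} [CommRing S] [Algebra R S] (hinj : Function.Injective (algebraMap R S))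
    [Module.Projective S (S ⊗[R] M)] : Module.Free R M := by
  classical
  let _ : Field (R ⧸ 𝔪) := Ideal.Quotient.field 𝔪
  let bV := Module.Free.chooseBasis (R ⧸ 𝔪) (M ⧸ (𝔪 • (⊤ : Submodule R M)))
  have hmk : ∀ v : M ⧸ (𝔪 • (⊤ : Submodule R M)), ∃ x : M, Submodule.Quotient.mk x = v :=
    Submodule.Quotient.mk_surjective _
  choose e he using fun i => hmk (bV i)
  have hsmul : ∀ (r : R) (v : M ⧸ (𝔪 • (⊤ : Submodule R M))),
      (Ideal.Quotient.mk 𝔪 r) • v = r • v := by
    intro r v
    obtain ⟨x, rfl⟩ := hmk v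
    rfl
  have key := linearCombination_bijective_of_projective 𝔪 n hn e ?_ ?_ hinj (S := S)
  · exact Module.Free.of_equiv (LinearEquiv.ofBijective _ key)
  · rw [sup_comm, ← Submodule.map_mkQ_eq_top, eq_top_iff]
    intro v _
    rw [← bV.linearCombination_repr v, Finsupp.linearCombination_apply, Finsupp.sum]
    refine Submodule.sum_mem _ fun i _ => ?_
    obtain ⟨r, hr⟩ := Ideal.Quotient.mk_surjective (bV.repr v i)
    rw [← hr, hsmul]
    refine Submodule.smul_mem _ _ ?_
    exact ⟨e i, Submodule.subset_span ⟨i, rfl⟩, he i⟩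
  · intro c hc i
    have h1 : Finsupp.linearCombination (R ⧸ 𝔪) bV
        (c.mapRange (Ideal.Quotient.mk 𝔪) (map_zero _)) = 0 := by
      rw [Finsupp.linearCombination_apply, Finsupp.sum_mapRange_index
        (h := fun i (a : R ⧸ 𝔪) => a • bV i) (fun i => zero_smul _ _)]
      have h2 := congrArg (Submodule.Quotient.mk (p := 𝔪 • (⊤ : Submodule R M))) hc
      rw [Finsupp.linearCombination_apply, Submodule.Quotient.mk_zero] at h2
      have h3 : (c.sum fun i a => (Ideal.Quotient.mk 𝔪 a) • bV i) =
          Submodule.Quotient.mk (p := 𝔪 • (⊤ : Submodule R M)) (c.sum fun i a => a • e i) := by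
        rw [Finsupp.sum, Finsupp.sum, ← Submodule.mkQ_apply, map_sum]
        refine Finset.sum_congr rfl fun i _ => ?_
        rw [hsmul, ← he i]
        rfl
      rw [h3, h2]
    have h4 := linearIndependent_iff.mp bV.linearIndependent _ h1
    have h5 := DFunLike.congr_fun h4 i
    rw [Finsupp.mapRange_apply, Finsupp.zero_apply] at h5
    exact Ideal.Quotient.eq_zero_iff_mem.mp h5

end Local

end Groth.Agent.H83.Tk
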