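import Groth.Agent.H83.TkConv

/-!
# The shear isomorphism `C ⊗[A] B ≃ C ⊗[k] B/(A⁺B)` (helper library for the Takeuchi cluster)
-/

set_option autoImplicit false

open TensorProduct WithConv

namespace Groth.Agent.H83.Tk

attribute [local instance] grp

section Bbar

variable {k : Type*} [Field k] {A B : Type*} [CommRing A] [CommRing B] [HopfAlgebra k A]
  [HopfAlgebra k B] (f : A →ₐc[k] B)

/-- The ideal of `B` generated by the image of the augmentation ideal of `A`. -/
def Ibar : Ideal B := Ideal.span ((f : A → B) '' {a | Coalgebra.counit (R := k) a = 0})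

/-- The quotient `B / A⁺B`. -/
abbrev Bbar := B ⧸ Ibar f

/-- The projection `B → B / A⁺B`. -/
noncomputable def piBar : B →ₐ[k] Bbar f := Ideal.Quotient.mkₐ k (Ibar f)

theorem piBar_f (a : A) : piBar f (f a) = algebraMap k (Bbar f) (Coalgebra.counit a) := by
  have h : f (a - algebraMap k A (Coalgebra.counit a)) ∈ Ibar f :=
    Ideal.subset_span ⟨_, by simp, rfl⟩
  have h2 : piBar f (f (a - algebraMap k A (Coalgebra.counit a))) = 0 :=
    Ideal.Quotient.eq_zero_iff_mem.mpr h
  rw [map_sub, map_sub, sub_eq_zero] at h2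
  rw [h2]
  exact (congrArg (piBar f) (AlgHomClass.commutes f _)).trans (AlgHomClass.commutes (piBar f) _)

theorem preComp_piBar : preComp (Bbar f) f (toConv (piBar f)) = 1 := by
  apply WithConv.ofConv_injective
  ext a
  exact piBar_f f a

end Bbar

section Shear

variable {k : Type*} [Field k] {A B : Type*} [CommRing A] [CommRing B] [HopfAlgebra k A]
  [HopfAlgebra k B] (f : A →ₐc[k] B)
  (C : Type*) [CommRing C] [Algebra k C]

/-- The point `(incl ∘ u) * (incl ∘ π)` of `B` with values in `C ⊗ B/(A⁺B)`. -/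
noncomputable def vHom (u : B →ₐ[k] C) : B →ₐ[k] C ⊗[k] Bbar f :=
  (postComp (Algebra.TensorProduct.includeLeft : C →ₐ[k] C ⊗[k] Bbar f) (toConv u) *
    toConv ((Algebra.TensorProduct.includeRight : Bbar f →ₐ[k] C ⊗[k] Bbar f).comp
      (piBar f))).ofConv

theorem preComp_vHom (u : B →ₐ[k] C) :
    preComp _ f (toConv (vHom f C u)) =
      preComp _ f (postComp
        (Algebra.TensorProduct.includeLeft : C →ₐ[k] C ⊗[k] Bbar f) (toConv u)) := by
  have h : preComp _ f (toConv ((Algebra.TensorProduct.includeRight :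
      Bbar f →ₐ[k] C ⊗[k] Bbar f).comp (piBar f))) = 1 := by
    change postComp (Algebra.TensorProduct.includeRight : Bbar f →ₐ[k] C ⊗[k] Bbar f)
      (preComp _ f (toConv (piBar f))) = 1
    rw [preComp_piBar, map_one]
  change preComp _ f (postComp _ (toConv u) * toConv _) = _
  rw [map_mul, h]
  exact mul_one (preComp (C ⊗[k] Bbar f) f (postComp
    (Algebra.TensorProduct.includeLeft : C →ₐ[k] C ⊗[k] Bbar f) (toConv u)))

theorem vHom_f (u : B →ₐ[k] C) (a : A) : vHom f C u (f a) = u (f a) ⊗ₜ 1 := by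
  have := congrArg (fun x => x.ofConv a) (preComp_vHom f C u)
  exact this

variable [Algebra A B] [IsScalarTower k A B] [Algebra A C] [IsScalarTower k A C]

/-- `vHom` as an `A`-algebra map. -/
noncomputable def vA (hf : ∀ a, algebraMap A B a = f a) (u : B →ₐ[k] C)
    (hu : ∀ a, u (f a) = algebraMap A C a) : B →ₐ[A] C ⊗[k] Bbar f :=
  { (vHom f C u : B →+* C ⊗[k] Bbar f) with
    commutes' := fun a => by
      change vHom f C u (algebraMap A B a) = algebraMap A (C ⊗[k] Bbar f) a
      rw [hf, vHom_f, hu, Algebra.TensorProduct.algebraMap_apply] }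

/-- The shear map `C ⊗[A] B → C ⊗[k] B/(A⁺B)`. -/
noncomputable def Psi (hf : ∀ a, algebraMap A B a = f a) (u : B →ₐ[k] C)
    (hu : ∀ a, u (f a) = algebraMap A C a) : C ⊗[A] B →ₐ[C] C ⊗[k] Bbar f :=
  Algebra.TensorProduct.lift (Algebra.ofId C _) (vA f C hf u hu) (fun _ _ => Commute.all _ _)

/-- `includeLeft` as a `k`-algebra map into `C ⊗[A] B`. -/
noncomputable def incLA : C →ₐ[k] C ⊗[A] B := Algebra.TensorProduct.includeLeft

/-- `includeRight` as a `k`-algebra map into `C ⊗[A] B`. -/
noncomputable def incRA : B →ₐ[k] C ⊗[A] B :=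
  (Algebra.TensorProduct.includeRight : B →ₐ[A] C ⊗[A] B).restrictScalars k

/-- The point `(incl ∘ u)⁻¹ * incl` of `B` with values in `C ⊗[A] B`. -/
noncomputable def wHom (u : B →ₐ[k] C) : B →ₐ[k] C ⊗[A] B :=
  ((postComp (incLA (k := k) (A := A) (B := B) C) (toConv u))⁻¹ *
    toConv (incRA (k := k) (A := A) (B := B) C)).ofConv

theorem preComp_incRA (hf : ∀ a, algebraMap A B a = f a) (u : B →ₐ[k] C)
    (hu : ∀ a, u (f a) = algebraMap A C a) :
    preComp _ f (toConv (incRA (k := k) (A := A) (B := B) C)) =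
      preComp _ f (postComp (incLA (k := k) (A := A) (B := B) C) (toConv u)) := by
  apply WithConv.ofConv_injective
  ext a
  change (1 : C) ⊗ₜ[A] (f a) = u (f a) ⊗ₜ[A] (1 : B)
  rw [hu, ← hf, Algebra.algebraMap_eq_smul_one, Algebra.algebraMap_eq_smul_one,
    TensorProduct.smul_tmul]

theorem preComp_wHom (hf : ∀ a, algebraMap A B a = f a) (u : B →ₐ[k] C)
    (hu : ∀ a, u (f a) = algebraMap A C a) :
    preComp _ f (toConv (wHom (k := k) (A := A) (B := B) C u)) = 1 := by
  change preComp _ f ((postComp (incLA (k := k) (A := A) (B := B) C) (toConv u))⁻¹ *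
    toConv (incRA (k := k) (A := A) (B := B) C)) = 1
  rw [map_mul, map_inv, preComp_incRA f C hf u hu, inv_mul_cancel]

theorem wHom_mem (hf : ∀ a, algebraMap A B a = f a) (u : B →ₐ[k] C)
    (hu : ∀ a, u (f a) = algebraMap A C a) :
    ∀ x ∈ Ibar f, wHom (k := k) (A := A) (B := B) C u x = 0 := by
  have hle : Ibar f ≤ RingHom.ker (wHom (k := k) (A := A) (B := B) C u : B →+* C ⊗[A] B) := by
    apply Ideal.span_le.mpr
    rintro _ ⟨a, ha, rfl⟩
    have h2 : wHom (k := k) (A := A) (B := B) C u (f a) =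
        algebraMap k (C ⊗[A] B) (Coalgebra.counit a) :=
      congrArg (fun x => x.ofConv a) (preComp_wHom f C hf u hu)
    have ha' : Coalgebra.counit (R := k) a = 0 := ha
    change wHom (k := k) (A := A) (B := B) C u (f a) = 0
    rw [h2, ha', map_zero]
  intro x hx
  exact RingHom.mem_ker.mp (hle hx)

/-- `wHom` descends to `B/(A⁺B)`. -/
noncomputable def wBar (hf : ∀ a, algebraMap A B a = f a) (u : B →ₐ[k] C)
    (hu : ∀ a, u (f a) = algebraMap A C a) : Bbar f →ₐ[k] C ⊗[A] B :=
  Ideal.Quotient.liftₐ (Ibar f) (wHom (k := k) (A := A) (B := B) C u) (wHom_mem f C hf u hu)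

theorem wBar_comp (hf : ∀ a, algebraMap A B a = f a) (u : B →ₐ[k] C)
    (hu : ∀ a, u (f a) = algebraMap A C a) :
    (wBar f C hf u hu).comp (piBar f) = wHom (k := k) (A := A) (B := B) C u :=
  Ideal.Quotient.liftₐ_comp _ _ _

/-- The inverse shear map `C ⊗[k] B/(A⁺B) → C ⊗[A] B`. -/
noncomputable def Phi (hf : ∀ a, algebraMap A B a = f a) (u : B →ₐ[k] C)
    (hu : ∀ a, u (f a) = algebraMap A C a) : C ⊗[k] Bbar f →ₐ[C] C ⊗[A] B :=
  Algebra.TensorProduct.lift (Algebra.ofId C _) (wBar f C hf u hu) (fun _ _ => Commute.all _ _)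

variable (hf : ∀ a, algebraMap A B a = f a) (u : B →ₐ[k] C)
    (hu : ∀ a, u (f a) = algebraMap A C a)

theorem Phi_incL :
    ((Phi f C hf u hu).restrictScalars k).comp
      (Algebra.TensorProduct.includeLeft : C →ₐ[k] C ⊗[k] Bbar f) = incLA C := by
  ext c
  simp [Phi, incLA, Algebra.ofId_apply, Algebra.TensorProduct.algebraMap_apply]

theorem Phi_incR :
    ((Phi f C hf u hu).restrictScalars k).comp
      (Algebra.TensorProduct.includeRight : Bbar f →ₐ[k] C ⊗[k] Bbar f) = wBar f C hf u hu := by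
  ext b
  simp [Phi]

theorem Psi_incL :
    ((Psi f C hf u hu).restrictScalars k).comp (incLA C) =
      (Algebra.TensorProduct.includeLeft : C →ₐ[k] C ⊗[k] Bbar f) := by
  ext c
  simp [Psi, incLA, Algebra.ofId_apply, Algebra.TensorProduct.algebraMap_apply]

theorem Psi_incR :
    ((Psi f C hf u hu).restrictScalars k).comp (incRA C) = vHom f C u := by
  ext b
  change Psi f C hf u hu (1 ⊗ₜ b) = vHom f C u b
  rw [Psi, Algebra.TensorProduct.lift_tmul, map_one, one_mul]
  rfl

theorem Phi_Psi : (Phi f C hf u hu).comp (Psi f C hf u hu) = AlgHom.id C _ := by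
  have key : ((Phi f C hf u hu).restrictScalars k).comp
      (((Psi f C hf u hu).restrictScalars k).comp (incRA C)) = incRA C := by
    rw [Psi_incR]
    apply WithConv.toConv_injective
    change postComp ((Phi f C hf u hu).restrictScalars k)
      (postComp (Algebra.TensorProduct.includeLeft : C →ₐ[k] C ⊗[k] Bbar f) (toConv u) *
        toConv ((Algebra.TensorProduct.includeRight : Bbar f →ₐ[k] C ⊗[k] Bbar f).comp
          (piBar f))) = _
    rw [map_mul, postComp_comp, Phi_incL]
    have h3 : postComp ((Phi f C hf u hu).restrictScalars k)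
        (toConv ((Algebra.TensorProduct.includeRight : Bbar f →ₐ[k] C ⊗[k] Bbar f).comp
          (piBar f))) = toConv (wHom (k := k) (A := A) (B := B) C u) := by
      rw [postComp_apply, ofConv_toConv, ← AlgHom.comp_assoc, Phi_incR, wBar_comp]
    rw [h3]
    change postComp (incLA C) (toConv u) * ((postComp (incLA C) (toConv u))⁻¹ *
      toConv (incRA C)) = _
    rw [mul_inv_cancel_left]
  apply Algebra.TensorProduct.ext
  · ext
  · ext b
    exact DFunLike.congr_fun key b

theorem Psi_Phi : (Psi f C hf u hu).comp (Phi f C hf u hu) = AlgHom.id C _ := by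
  have key : (((Psi f C hf u hu).restrictScalars k).comp
      (((Phi f C hf u hu).restrictScalars k).comp
        (Algebra.TensorProduct.includeRight : Bbar f →ₐ[k] C ⊗[k] Bbar f))).comp (piBar f) =
      (Algebra.TensorProduct.includeRight : Bbar f →ₐ[k] C ⊗[k] Bbar f).comp (piBar f) := by
    rw [Phi_incR, AlgHom.comp_assoc, wBar_comp]
    apply WithConv.toConv_injective
    change postComp ((Psi f C hf u hu).restrictScalars k)
      ((postComp (incLA (k := k) (A := A) (B := B) C) (toConv u))⁻¹ *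
        toConv (incRA (k := k) (A := A) (B := B) C)) = _
    rw [map_mul, map_inv, postComp_comp, Psi_incL]
    have h3 : postComp ((Psi f C hf u hu).restrictScalars k)
        (toConv (incRA (k := k) (A := A) (B := B) C)) = toConv (vHom f C u) := by
      rw [postComp_apply, ofConv_toConv, Psi_incR]
    rw [h3]
    change (postComp (Algebra.TensorProduct.includeLeft : C →ₐ[k] C ⊗[k] Bbar f) (toConv u))⁻¹ *
      (postComp (Algebra.TensorProduct.includeLeft : C →ₐ[k] C ⊗[k] Bbar f) (toConv u) *
        toConv ((Algebra.TensorProduct.includeRight : Bbar f →ₐ[k] C ⊗[k] Bbar f).comp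
          (piBar f))) = _
    rw [inv_mul_cancel_left]
  apply Algebra.TensorProduct.ext
  · ext
  · apply Ideal.Quotient.algHom_ext
    exact key

include hf hu in
/-- **Shear isomorphism**: `C ⊗[A] B` is a free `C`-module. -/
theorem shear_free : Module.Free C (C ⊗[A] B) := by
  let e : C ⊗[A] B ≃ₐ[C] C ⊗[k] Bbar f :=
    AlgEquiv.ofAlgHom (Psi f C hf u hu) (Phi f C hf u hu) (Psi_Phi f C hf u hu)
      (Phi_Psi f C hf u hu)
  exact Module.Free.of_equiv e.toLinearEquiv.symm

end Shear

end Groth.Agent.H83.Tk
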