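import Groth.Agent.H83.TkTheta
import Groth.Agent.H83.TkShear

/-!
# Faithfulness: every point is a product of two generic points
(helper library for the Takeuchi cluster)
-/

set_option autoImplicit false

open TensorProduct WithConv

namespace Groth.Agent.H83.Tk

attribute [local instance] grp

universe u v w z

theorem exists_pushout_of_flat {k : Type u} [CommRing k] {A : Type v} {B : Type w} {W : Type z}
    [CommRing A] [CommRing B] [CommRing W] [Nontrivial W] [Algebra k A] [Algebra k B]
    [Algebra k W] (f : A →ₐ[k] B) (hf : Function.Injective f) (x : A →ₐ[k] W)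
    (hx : x.toRingHom.Flat) :
    ∃ (Z : Type (max z w)) (_ : CommRing Z) (_ : Algebra k Z) (_ : Nontrivial Z)
      (j : W →ₐ[k] Z) (x' : B →ₐ[k] Z), x'.comp f = j.comp x := by
  let _ : Algebra A B := f.toRingHom.toAlgebra
  let _ : Algebra A W := x.toRingHom.toAlgebra
  have : IsScalarTower k A B := IsScalarTower.of_algebraMap_eq (fun c => (f.commutes c).symm)
  have : IsScalarTower k A W := IsScalarTower.of_algebraMap_eq (fun c => (x.commutes c).symm)
  have : Module.Flat A W := hx
  have hinj : Function.Injective (Algebra.TensorProduct.includeLeft : W →ₐ[k] W ⊗[A] B) :=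
    Algebra.TensorProduct.includeLeft_injective (S := k) (A := W) (R := A) (B := B) hf
  refine ⟨W ⊗[A] B, inferInstance, inferInstance, hinj.nontrivial,
    (Algebra.TensorProduct.includeLeft : W →ₐ[k] W ⊗[A] B),
    (Algebra.TensorProduct.includeRight : B →ₐ[A] W ⊗[A] B).restrictScalars k, ?_⟩
  ext a
  change (1 : W) ⊗ₜ[A] (f a) = x a ⊗ₜ[A] (1 : B)
  have h1 : f a = algebraMap A B a := rfl
  have h2 : x a = algebraMap A W a := rfl
  rw [h1, h2, Algebra.algebraMap_eq_smul_one, Algebra.algebraMap_eq_smul_one,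
    TensorProduct.smul_tmul]

theorem exists_pushout_of_faithfullyFlat {k : Type u} [CommRing k] {A : Type v} {B : Type w}
    [CommRing A] [CommRing B] [Algebra k A] [Algebra k B] (f : A →ₐ[k] B)
    [Algebra A B] [IsScalarTower k A B] (hf : ∀ a, algebraMap A B a = f a)
    (R : Type*) [CommRing R] [Algebra k R] [Algebra A R] [IsScalarTower k A R]
    [Module.FaithfullyFlat R (R ⊗[A] B)]
    {W : Type z} [CommRing W] [Nontrivial W] [Algebra k W] (r : R →ₐ[k] W) :
    ∃ (Z : Type (max z w)) (_ : CommRing Z) (_ : Algebra k Z) (_ : Nontrivial Z)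
      (j : W →ₐ[k] Z) (y' : B →ₐ[k] Z),
      y'.comp f = (j.comp r).comp (IsScalarTower.toAlgHom k A R) := by
  let _ : Algebra R W := r.toRingHom.toAlgebra
  let _ : Algebra A W := (r.toRingHom.comp (algebraMap A R)).toAlgebra
  have : IsScalarTower A R W := IsScalarTower.of_algebraMap_eq' rfl
  have : IsScalarTower k R W := IsScalarTower.of_algebraMap_eq (fun c => (r.commutes c).symm)
  have : IsScalarTower k A W := IsScalarTower.of_algebraMap_eq (fun c => by
    change algebraMap k W c = r (algebraMap A R (algebraMap k A c))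
    rw [← IsScalarTower.algebraMap_apply k A R, r.commutes])
  have hnt : Nontrivial (W ⊗[R] (R ⊗[A] B)) := inferInstance
  have hnt2 : Nontrivial (W ⊗[A] B) :=
    (TensorProduct.AlgebraTensorModule.cancelBaseChange A R W W B).symm.toEquiv.nontrivial
  refine ⟨W ⊗[A] B, inferInstance, inferInstance, hnt2,
    (Algebra.TensorProduct.includeLeft : W →ₐ[k] W ⊗[A] B),
    (Algebra.TensorProduct.includeRight : B →ₐ[A] W ⊗[A] B).restrictScalars k, ?_⟩
  ext a
  change (1 : W) ⊗ₜ[A] (f a) = r (algebraMap A R a) ⊗ₜ[A] (1 : B)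
  have h2 : r (algebraMap A R a) = algebraMap A W a := rfl
  rw [← hf, h2, Algebra.algebraMap_eq_smul_one, Algebra.algebraMap_eq_smul_one,
    TensorProduct.smul_tmul]

/-- **Faithfulness**: a flat injective bialgebra map which is faithfully flat over a nonzero flat
`A`-algebra `R` is faithfully flat. -/
theorem faithful_of_generic {k : Type*} [Field k] {A B : Type*} [CommRing A] [CommRing B]
    [HopfAlgebra k A] [HopfAlgebra k B] (f : A →ₐc[k] B) (hinj : Function.Injective f)
    [Algebra A B] [IsScalarTower k A B] (hf : ∀ a, algebraMap A B a = f a) [Module.Flat A B]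
    (R : Type*) [CommRing R] [Nontrivial R] [Algebra k R] [Algebra A R] [IsScalarTower k A R]
    [Module.Flat A R] [Module.FaithfullyFlat R (R ⊗[A] B)] : Module.FaithfullyFlat A B := by
  rw [Module.FaithfullyFlat.iff_flat_and_proper_ideal]
  refine ⟨inferInstance, fun I hI htop => ?_⟩
  have : Nontrivial (A ⧸ I) := Ideal.Quotient.nontrivial_iff.mpr hI
  let h : A →ₐ[k] A ⧸ I := Ideal.Quotient.mkₐ k I
  let g : A →ₐ[k] R := IsScalarTower.toAlgHom k A R
  have hg : g.toRingHom.Flat := RingHom.flat_algebraMap_iff.mpr inferInstance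
  let x : A →ₐ[k] (A ⧸ I) ⊗[k] R := thetaHom h g
  have hx : x.toRingHom.Flat := thetaHom_flat h g hg
  obtain ⟨Z₁, _, _, _, j₁, x', hx'⟩ := exists_pushout_of_flat (f : A →ₐ[k] B) hinj x hx
  obtain ⟨Z₂, _, _, _, j₂, y', hy'⟩ := exists_pushout_of_faithfullyFlat (f : A →ₐ[k] B)
    (fun a => hf a) R
    (j₁.comp (Algebra.TensorProduct.includeRight : R →ₐ[k] (A ⧸ I) ⊗[k] R))
  let β : B →ₐ[k] Z₂ := (toConv (j₂.comp x') * (toConv y')⁻¹).ofConv
  have hβ : β.comp (f : A →ₐ[k] B) = (j₂.comp j₁).comp
      ((Algebra.TensorProduct.includeLeft : A ⧸ I →ₐ[k] (A ⧸ I) ⊗[k] R).comp h) := by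
    apply WithConv.toConv_injective
    change preComp _ f (toConv (j₂.comp x') * (toConv y')⁻¹) = _
    rw [map_mul, map_inv]
    have e1 : preComp Z₂ f (toConv (j₂.comp x')) = postComp (j₂.comp j₁) (toConv x) := by
      change toConv ((j₂.comp x').comp (f : A →ₐ[k] B)) = toConv ((j₂.comp j₁).comp x)
      rw [AlgHom.comp_assoc, hx', ← AlgHom.comp_assoc]
    have e2 : preComp Z₂ f (toConv y') = postComp (j₂.comp j₁)
        (toConv ((Algebra.TensorProduct.includeRight : R →ₐ[k] (A ⧸ I) ⊗[k] R).comp g)) := by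
      change toConv (y'.comp (f : A →ₐ[k] B)) = _
      rw [hy']
      rfl
    have e3 : toConv x = postComp (Algebra.TensorProduct.includeLeft :
        A ⧸ I →ₐ[k] (A ⧸ I) ⊗[k] R) (toConv h) *
        toConv ((Algebra.TensorProduct.includeRight : R →ₐ[k] (A ⧸ I) ⊗[k] R).comp g) :=
      toConv_thetaHom h g
    rw [e1, e2, e3, map_mul, mul_inv_cancel_right]
    rfl
  have hker : ∀ b ∈ I • (⊤ : Submodule A B), β b = 0 := by
    intro b hb
    refine Submodule.smul_induction_on hb ?_ ?_
    · intro a ha b _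
      rw [Algebra.smul_def, hf, map_mul]
      have h3 : β (f a) = 0 := by
        have h4 := DFunLike.congr_fun hβ a
        change β (f a) = j₂ (j₁ ((Ideal.Quotient.mk I a) ⊗ₜ 1)) at h4
        rw [h4, Ideal.Quotient.eq_zero_iff_mem.mpr ha, TensorProduct.zero_tmul, map_zero,
          map_zero]
      rw [h3, zero_mul]
    · intro x y hx hy
      rw [map_add, hx, hy, add_zero]
  have h1 := hker 1 (by rw [htop]; exact Submodule.mem_top)
  rw [map_one] at h1
  exact one_ne_zero h1

end Groth.Agent.H83.Tk
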