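import Groth.Agent.H83.TkFlat
import Groth.Agent.H83.TkFaith
import Groth.Agent.H83.TkArt

/-!
# Faithful flatness of Hopf algebras over Noetherian Hopf subalgebras (Takeuchi)
-/

set_option autoImplicit false

open TensorProduct WithConv

namespace Groth.Agent.H83.Tk

section

variable {k : Type*} [Field k] {A B : Type*} [CommRing A] [CommRing B] [HopfAlgebra k A]
  [HopfAlgebra k B]

theorem incRA_f (f : A →ₐc[k] B) [Algebra A B] [IsScalarTower k A B]
    (hf : ∀ a, algebraMap A B a = f a) (R : Type*) [CommRing R] [Algebra k R] [Algebra A R]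
    [IsScalarTower k A R] (a : A) :
    incRA (k := k) (A := A) (B := B) R (f a) = algebraMap A (R ⊗[A] B) a := by
  change (1 : R) ⊗ₜ[A] f a = algebraMap A R a ⊗ₜ[A] (1 : B)
  rw [← hf, Algebra.algebraMap_eq_smul_one, Algebra.algebraMap_eq_smul_one,
    TensorProduct.smul_tmul]

theorem generic_free (f : A →ₐc[k] B) (hinj : Function.Injective f) [IsNoetherianRing A]
    [Algebra A B] [IsScalarTower k A B] (hf : ∀ a, algebraMap A B a = f a)
    (p : Ideal A) [p.IsPrime] (hp : p ∈ minimalPrimes A) :
    Module.Free (Localization.AtPrime p) (Localization.AtPrime p ⊗[A] B) := by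
  have hdim : Ring.KrullDimLE 0 (Localization.AtPrime p) :=
    Ring.KrullDimLE.of_isLocalization p hp _
  have hnil : IsNilpotent (IsLocalRing.maximalIdeal (Localization.AtPrime p)) := by
    rw [← Ring.KrullDimLE.nilradical_eq_maximalIdeal]
    exact IsNoetherianRing.isNilpotent_nilradical _
  obtain ⟨n, hn⟩ := hnil
  have hinjY : Function.Injective
      (algebraMap (Localization.AtPrime p) (Localization.AtPrime p ⊗[A] B)) :=
    Algebra.TensorProduct.includeLeft_injective (S := Localization.AtPrime p)
      (A := Localization.AtPrime p) (R := A) (B := B)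
      (fun x y hxy => hinj (by rw [← hf, ← hf]; exact hxy))
  have hfreeY : Module.Free (Localization.AtPrime p ⊗[A] B)
      ((Localization.AtPrime p ⊗[A] B) ⊗[A] B) :=
    shear_free f (Localization.AtPrime p ⊗[A] B) hf
      (incRA (k := k) (A := A) (B := B) (Localization.AtPrime p))
      (incRA_f f hf (Localization.AtPrime p))
  have hproj : Module.Projective (Localization.AtPrime p ⊗[A] B)
      ((Localization.AtPrime p ⊗[A] B) ⊗[Localization.AtPrime p]
        (Localization.AtPrime p ⊗[A] B)) :=
    Module.Projective.of_equiv (TensorProduct.AlgebraTensorModule.cancelBaseChange A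
      (Localization.AtPrime p) (Localization.AtPrime p ⊗[A] B)
      (Localization.AtPrime p ⊗[A] B) B).symm
  exact free_of_projective_baseChange n hn hinjY (M := Localization.AtPrime p ⊗[A] B)
    (S := Localization.AtPrime p ⊗[A] B)

/-- **Takeuchi's theorem**, Noetherian case: an injective bialgebra map from a Noetherian
commutative Hopf algebra to a commutative Hopf algebra over a field is faithfully flat. -/
theorem bialgHom_faithfullyFlat [IsNoetherianRing A] (f : A →ₐc[k] B)
    (hinj : Function.Injective f) [Algebra A B] [IsScalarTower k A B]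
    (hf : ∀ a, algebraMap A B a = f a) : Module.FaithfullyFlat A B := by
  have hntA : Nontrivial A := (Bialgebra.counitAlgHom k A).toRingHom.domain_nontrivial
  obtain ⟨⟨p, hp⟩⟩ := Ideal.nonempty_minimalPrimes (bot_ne_top : (⊥ : Ideal A) ≠ ⊤)
  have hpp : p.IsPrime := hp.1.1
  have hfree := generic_free f hinj hf p hp
  have hinjY : Function.Injective
      (algebraMap (Localization.AtPrime p) (Localization.AtPrime p ⊗[A] B)) :=
    Algebra.TensorProduct.includeLeft_injective (S := Localization.AtPrime p)
      (A := Localization.AtPrime p) (R := A) (B := B)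
      (fun x y hxy => hinj (by rw [← hf, ← hf]; exact hxy))
  have hntY : Nontrivial (Localization.AtPrime p ⊗[A] B) := hinjY.nontrivial
  have hff : Module.FaithfullyFlat (Localization.AtPrime p) (Localization.AtPrime p ⊗[A] B) :=
    inferInstance
  have hι : (incRA (k := k) (A := A) (B := B) (Localization.AtPrime p)).toRingHom.Flat :=
    includeRight_flat (k := A) (B := B) (K := Localization.AtPrime p)
  have hιf : ((incRA (k := k) (A := A) (B := B) (Localization.AtPrime p)).comp
      (f : A →ₐ[k] B)).toRingHom.Flat := by
    have hflatY : Module.Flat A (Localization.AtPrime p ⊗[A] B) :=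
      Module.Flat.trans A (Localization.AtPrime p) (Localization.AtPrime p ⊗[A] B)
    have h0 : ((incRA (k := k) (A := A) (B := B) (Localization.AtPrime p)).comp
        (f : A →ₐ[k] B)).toRingHom = algebraMap A (Localization.AtPrime p ⊗[A] B) :=
      RingHom.ext fun a => incRA_f f hf (Localization.AtPrime p) a
    rw [h0]
    exact RingHom.flat_algebraMap_iff.mpr hflatY
  have hflat : Module.Flat A B := flat_of_generic f hf _ hι hιf
  exact faithful_of_generic f hinj hf (Localization.AtPrime p)

end

end Groth.Agent.H83.Tk
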