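import Groth.Agent.H1.FinHopf.SubBialg
import Groth.Agent.H83.TkMain

/-!
# Hopf algebra structure on sub-Hopf-algebras and faithful flatness over Noetherian ones
-/

set_option autoImplicit false

open TensorProduct
open Groth.Agent.H1.FinHopf

namespace Groth.Agent.H83.Tk

section SubHopf

variable {k : Type*} [Field k] {A : Type*} [CommRing A] [HopfAlgebra k A] (S : Subalgebra k A)
  (hS : ∀ b ∈ S, Coalgebra.comul (R := k) b ∈ (incl₂ S).range)
  (hanti : ∀ b ∈ S, HopfAlgebraStruct.antipode k b ∈ S)

/-- The restricted antipode. -/
noncomputable def subAntipode : ↥S →ₐ[k] ↥S :=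
  ((HopfAlgebra.antipodeAlgHom k A).comp S.val).codRestrict S (fun b => hanti b.1 b.2)

theorem val_lift_subAntipode_id (t : ↥S ⊗[k] ↥S) :
    ((Algebra.TensorProduct.lift (subAntipode S hanti) (AlgHom.id k ↥S)
      (fun _ _ => Commute.all _ _) t : ↥S) : A) =
      Algebra.TensorProduct.lift (HopfAlgebra.antipodeAlgHom k A) (AlgHom.id k A)
        (fun _ _ => Commute.all _ _) (incl₂ S t) := by
  induction t using TensorProduct.induction_on with
  | zero => simp
  | tmul x y => rfl
  | add x y hx hy => simp only [map_add, Subalgebra.coe_add, hx, hy]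

theorem val_lift_id_subAntipode (t : ↥S ⊗[k] ↥S) :
    ((Algebra.TensorProduct.lift (AlgHom.id k ↥S) (subAntipode S hanti)
      (fun _ _ => Commute.all _ _) t : ↥S) : A) =
      Algebra.TensorProduct.lift (AlgHom.id k A) (HopfAlgebra.antipodeAlgHom k A)
        (fun _ _ => Commute.all _ _) (incl₂ S t) := by
  induction t using TensorProduct.induction_on with
  | zero => simp
  | tmul x y => rfl
  | add x y hx hy => simp only [map_add, Subalgebra.coe_add, hx, hy]

end SubHopf

theorem lift_antipode_id' {k : Type*} [CommRing k] {A : Type*} [CommRing A] [HopfAlgebra k A]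
    (t : A ⊗[k] A) :
    Algebra.TensorProduct.lift (HopfAlgebra.antipodeAlgHom k A) (AlgHom.id k A)
      (fun _ _ => Commute.all _ _) t =
      LinearMap.mul' k A ((HopfAlgebraStruct.antipode k).rTensor A t) := by
  induction t using TensorProduct.induction_on with
  | zero => simp
  | tmul x y => simp
  | add x y hx hy => simp only [map_add, hx, hy]

theorem lift_id_antipode' {k : Type*} [CommRing k] {A : Type*} [CommRing A] [HopfAlgebra k A]
    (t : A ⊗[k] A) :
    Algebra.TensorProduct.lift (AlgHom.id k A) (HopfAlgebra.antipodeAlgHom k A)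
      (fun _ _ => Commute.all _ _) t =
      LinearMap.mul' k A ((HopfAlgebraStruct.antipode k).lTensor A t) := by
  induction t using TensorProduct.induction_on with
  | zero => simp
  | tmul x y => simp
  | add x y hx hy => simp only [map_add, hx, hy]

section SubHopf2

variable {k : Type*} [Field k] {A : Type*} [CommRing A] [HopfAlgebra k A] (S : Subalgebra k A)
  (hS : ∀ b ∈ S, Coalgebra.comul (R := k) b ∈ (incl₂ S).range)
  (hanti : ∀ b ∈ S, HopfAlgebraStruct.antipode k b ∈ S)

/-- A subalgebra stable under comultiplication and antipode is a Hopf algebra. -/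
@[reducible] noncomputable def subHopf : HopfAlgebra k ↥S :=
  letI := subBialgebra S hS
  HopfAlgebra.ofAlgHom (subAntipode S hanti)
    (by
      apply AlgHom.ext
      intro b
      apply Subtype.ext
      have hc : Bialgebra.comulAlgHom k ↥S b = subComul S hS b := rfl
      rw [AlgHom.comp_apply, hc, val_lift_subAntipode_id, incl₂_subComul, lift_antipode_id',
        HopfAlgebra.mul_antipode_rTensor_comul_apply]
      rfl)
    (by
      apply AlgHom.ext
      intro b
      apply Subtype.ext
      have hc : Bialgebra.comulAlgHom k ↥S b = subComul S hS b := rfl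
      rw [AlgHom.comp_apply, hc, val_lift_id_subAntipode, incl₂_subComul, lift_id_antipode',
        HopfAlgebra.mul_antipode_lTensor_comul_apply]
      rfl)

/-- The inclusion of a sub-Hopf-algebra as a bialgebra map. -/
noncomputable def subVal : letI := subBialgebra S hS; ↥S →ₐc[k] A :=
  letI := subBialgebra S hS
  BialgHom.ofAlgHom S.val (by ext b; rfl)
    (by
      apply AlgHom.ext
      intro b
      exact incl₂_subComul S hS b)

include hS hanti in
/-- `A` is faithfully flat over a Noetherian sub-Hopf-algebra. -/
theorem faithfullyFlat_of_noetherian_sub [IsNoetherianRing ↥S] : Module.FaithfullyFlat ↥S A := by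
  let _ := subHopf S hS hanti
  exact bialgHom_faithfullyFlat (subVal S hS) Subtype.val_injective (fun a => rfl)

end SubHopf2

end Groth.Agent.H83.Tk
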