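import Mathlib

/-!
# A finite biproduct of copies of the unit is self-dual (helper library, requested by helper53)

* `zig1`, `zig2`: the two zigzag computations in an arbitrary monoidal category, for morphisms through the unit.
* `exactPairingBiproductUnit`, `exactPairing_biproduct_unit`: in a monoidal preadditive category with finite
  biproducts, `⨁ (fun _ : I => 𝟙_ 𝒞)` is its own (right) dual.
* `monoidalPreadditivePresheafOfModules`: presheaves of modules over a presheaf of commutative rings form a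
  monoidal preadditive category.
-/

open CategoryTheory MonoidalCategory Limits

universe v u w

namespace Groth.Agent.BiprodDual

section

variable {𝒞 : Type u} [Category.{v} 𝒞] [MonoidalCategory 𝒞]

theorem zig1 {W X Z : 𝒞} (a : 𝟙_ 𝒞 ⟶ X) (b : 𝟙_ 𝒞 ⟶ Z) (c : W ⟶ 𝟙_ 𝒞) (d : X ⟶ 𝟙_ 𝒞) :
    W ◁ ((λ_ (𝟙_ 𝒞)).inv ≫ (a ⊗ₘ b)) ≫ (α_ W X Z).inv ≫ ((c ⊗ₘ d) ≫ (λ_ (𝟙_ 𝒞)).hom) ▷ Z =
      (ρ_ W).hom ≫ c ≫ (a ≫ d) ≫ b ≫ (λ_ Z).inv := by
  simp only [MonoidalCategory.tensorHom_def, MonoidalCategory.whiskerLeft_comp, comp_whiskerRight,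
    Category.assoc]
  rw [associator_inv_naturality_right_assoc, associator_inv_naturality_middle_assoc,
    whisker_exchange_assoc, whisker_exchange_assoc, whisker_exchange]
  simp only [whiskerRight_id, Category.assoc, Iso.inv_hom_id_assoc]
  rw [whisker_exchange_assoc]
  simp [unitors_equal, unitors_inv_equal]

theorem zig2 {W X Z : 𝒞} (a : 𝟙_ 𝒞 ⟶ W) (b : 𝟙_ 𝒞 ⟶ X) (c : X ⟶ 𝟙_ 𝒞) (d : Z ⟶ 𝟙_ 𝒞) :
    ((λ_ (𝟙_ 𝒞)).inv ≫ (a ⊗ₘ b)) ▷ Z ≫ (α_ W X Z).hom ≫ W ◁ ((c ⊗ₘ d) ≫ (λ_ (𝟙_ 𝒞)).hom) =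
      (λ_ Z).hom ≫ d ≫ (b ≫ c) ≫ a ≫ (ρ_ W).inv := by
  simp only [MonoidalCategory.tensorHom_def', MonoidalCategory.whiskerLeft_comp, comp_whiskerRight,
    Category.assoc]
  rw [associator_naturality_left_assoc, associator_naturality_middle_assoc,
    ← whisker_exchange_assoc, ← whisker_exchange_assoc, ← whisker_exchange]
  simp only [id_whiskerLeft, Category.assoc, Iso.inv_hom_id_assoc]
  rw [← whisker_exchange_assoc]
  simp [unitors_equal, unitors_inv_equal]

variable [Preadditive 𝒞] [MonoidalPreadditive 𝒞] [HasFiniteBiproducts 𝒞]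

theorem biproduct_unit_ι_π (I : Type w) [Fintype I] [DecidableEq I] (i j : I) :
    biproduct.ι (fun _ : I => 𝟙_ 𝒞) i ≫ biproduct.π (fun _ : I => 𝟙_ 𝒞) j =
      if i = j then 𝟙 (𝟙_ 𝒞) else 0 := by
  rw [biproduct.ι_π]
  split_ifs with h
  · simp
  · rfl

/-- `biproduct.total` for an index type in an arbitrary universe. -/
theorem biproduct_unit_total (I : Type w) [Fintype I] :
    ∑ j, biproduct.π (fun _ : I => 𝟙_ 𝒞) j ≫ biproduct.ι (fun _ : I => 𝟙_ 𝒞) j =
      𝟙 (⨁ fun _ : I => 𝟙_ 𝒞) := by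
  classical
  apply biproduct.hom_ext
  intro j
  simp only [Preadditive.sum_comp, Category.assoc, biproduct_unit_ι_π, comp_ite, Category.comp_id,
    comp_zero, Finset.sum_ite_eq', Finset.mem_univ, if_true, Category.id_comp]

/-- A finite biproduct of copies of the unit object is its own dual. -/
noncomputable def exactPairingBiproductUnit (I : Type w) [Fintype I] :
    ExactPairing (⨁ fun _ : I => 𝟙_ 𝒞) (⨁ fun _ : I => 𝟙_ 𝒞) where
  coevaluation' := ∑ i, (λ_ (𝟙_ 𝒞)).inv ≫
    (biproduct.ι (fun _ : I => 𝟙_ 𝒞) i ⊗ₘ biproduct.ι (fun _ : I => 𝟙_ 𝒞) i)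
  evaluation' := ∑ j, (biproduct.π (fun _ : I => 𝟙_ 𝒞) j ⊗ₘ
    biproduct.π (fun _ : I => 𝟙_ 𝒞) j) ≫ (λ_ (𝟙_ 𝒞)).hom
  coevaluation_evaluation' := by
    classical
    rw [CategoryTheory.whiskerLeft_sum, CategoryTheory.sum_whiskerRight]
    simp only [Preadditive.sum_comp, Preadditive.comp_sum, zig1, biproduct_unit_ι_π]
    simp only [ite_comp, comp_ite, Category.id_comp, zero_comp, comp_zero, Finset.sum_ite_eq',
      Finset.mem_univ, if_true]
    rw [← Preadditive.comp_sum]
    simp only [← Category.assoc]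
    rw [← Preadditive.sum_comp, biproduct_unit_total, Category.id_comp]
  evaluation_coevaluation' := by
    classical
    rw [CategoryTheory.whiskerLeft_sum, CategoryTheory.sum_whiskerRight]
    simp only [Preadditive.sum_comp, Preadditive.comp_sum, zig2, biproduct_unit_ι_π]
    simp only [ite_comp, comp_ite, Category.id_comp, zero_comp, comp_zero, Finset.sum_ite_eq',
      Finset.mem_univ, if_true]
    rw [← Preadditive.comp_sum]
    simp only [← Category.assoc]
    rw [← Preadditive.sum_comp, biproduct_unit_total, Category.id_comp]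

theorem exactPairing_biproduct_unit (I : Type w) [Fintype I] :
    Nonempty (ExactPairing (⨁ fun _ : I => 𝟙_ 𝒞) (⨁ fun _ : I => 𝟙_ 𝒞)) :=
  ⟨exactPairingBiproductUnit I⟩

end

section

instance monoidalPreadditivePresheafOfModules {C : Type*} [Category C]
    (R : Cᵒᵖ ⥤ CommRingCat.{u}) :
    MonoidalPreadditive (PresheafOfModules.{u} (R ⋙ forget₂ CommRingCat RingCat)) where
  whiskerLeft_zero := by
    intros
    ext1 V
    exact MonoidalPreadditive.whiskerLeft_zero (C := ModuleCat (R.obj V))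
  zero_whiskerRight := by
    intros
    ext1 V
    exact MonoidalPreadditive.zero_whiskerRight (C := ModuleCat (R.obj V))
  whiskerLeft_add := by
    intro X Y Z f g
    ext1 V
    exact MonoidalPreadditive.whiskerLeft_add (C := ModuleCat (R.obj V)) (f.app V) (g.app V)
  add_whiskerRight := by
    intro X Y Z f g
    ext1 V
    exact MonoidalPreadditive.add_whiskerRight (C := ModuleCat (R.obj V)) (f.app V) (g.app V)

end

end Groth.Agent.BiprodDual
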