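import Mathlib

set_option autoImplicit false

namespace Groth.Agent.H83.CauchyBinet

open Module Set Set.powersetCard exteriorPower

/-- Cauchy–Binet, indexed by `Set.powersetCard`. -/
theorem cauchyBinet' {R : Type*} [CommRing R] (e r : ℕ) (A : Matrix (Fin e) (Fin r) R)
    (N : Matrix (Fin r) (Fin e) R) :
    (A * N).det = ∑ S : Set.powersetCard (Fin r) e,
      (A.submatrix id (ofFinEmbEquiv.symm S)).det * (N.submatrix (ofFinEmbEquiv.symm S) id).det := by
  classical
  let b : Basis (Fin r) R (Fin r → R) := Pi.basisFun R (Fin r)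
  let B := b.exteriorPower (n := e)
  let v : Fin e → (Fin r → R) := fun j i => N i j
  let f : Fin e → Module.Dual R (Fin r → R) := fun i => LinearMap.proj i ∘ₗ Matrix.mulVecLin A
  let Λ : Module.Dual R (⋀[R]^e (Fin r → R)) :=
    exteriorPower.pairingDual R (Fin r → R) e (exteriorPower.ιMulti R e f)
  have h1 : Λ (exteriorPower.ιMulti R e v) = (A * N).det := by
    simp only [Λ, pairingDual_ιMulti_ιMulti]
    rw [← Matrix.det_transpose]
    congr 1
  have h2 : ∀ S : Set.powersetCard (Fin r) e,
      B.repr (exteriorPower.ιMulti R e v) S = (N.submatrix (ofFinEmbEquiv.symm S) id).det := by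
    intro S
    rw [exteriorPower.basis_repr_apply, ιMultiDual_apply_ιMulti, ← Matrix.det_transpose]
    congr 1
  have h3 : ∀ S : Set.powersetCard (Fin r) e,
      Λ (B S) = (A.submatrix id (ofFinEmbEquiv.symm S)).det := by
    intro S
    rw [exteriorPower.basis_apply, ιMulti_family]
    simp only [Λ, pairingDual_ιMulti_ιMulti]
    rw [← Matrix.det_transpose]
    congr 1
    ext i j
    simp [f, b]
  rw [← h1]
  conv_lhs => rw [← B.sum_repr (exteriorPower.ιMulti R e v)]
  rw [map_sum]
  apply Finset.sum_congr rfl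
  intro S _
  rw [map_smul, smul_eq_mul, h2, h3, mul_comm]

/-- Cauchy–Binet, indexed by the subtype of finsets of given cardinality. -/
theorem cauchyBinet {R : Type*} [CommRing R] (e r : ℕ) (A : Matrix (Fin e) (Fin r) R)
    (N : Matrix (Fin r) (Fin e) R) :
    (A * N).det = ∑ j : {s : Finset (Fin r) // s.card = e},
      (A.submatrix id (j.1.orderEmbOfFin j.2)).det *
        (N.submatrix (j.1.orderEmbOfFin j.2) id).det := by
  rw [cauchyBinet']
  let E : Set.powersetCard (Fin r) e ≃ {s : Finset (Fin r) // s.card = e} :=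
    ⟨fun s => ⟨s.1, s.2⟩, fun s => ⟨s.1, s.2⟩, fun _ => rfl, fun _ => rfl⟩
  exact Fintype.sum_equiv E _ _ (fun S => rfl)

end Groth.Agent.H83.CauchyBinet
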