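import Mathlib

/-!
# Convolution groups of points and translations (helper library for the Takeuchi cluster)
-/

set_option autoImplicit false

open TensorProduct WithConv

namespace Groth.Agent.H83.Tk

section grp

variable {k : Type*} [CommRing k] {A : Type*} [CommRing A] [HopfAlgebra k A]

/-- The convolution group of points with values in any commutative algebra. -/
@[reducible] noncomputable def grp (C : Type*) [CommRing C] [Algebra k C] :
    Group (WithConv (A →ₐ[k] C)) :=
  { (inferInstance : Monoid (WithConv (A →ₐ[k] C))) with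
    inv := fun f => toConv (f.ofConv.comp (HopfAlgebra.antipodeAlgHom k A))
    inv_mul_cancel := fun f => by
      have H : (Algebra.TensorProduct.lmul' k).comp (Algebra.TensorProduct.map f.ofConv f.ofConv) =
        f.ofConv.comp (Algebra.TensorProduct.lmul' k) := by ext <;> simp
      change toConv ((Algebra.TensorProduct.lmul' k).comp
        ((Algebra.TensorProduct.map (f.ofConv.comp (HopfAlgebra.antipodeAlgHom k A)) f.ofConv).comp
          (Bialgebra.comulAlgHom k A))) = 1
      trans toConv <| ((Algebra.TensorProduct.lmul' k).comp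
        (Algebra.TensorProduct.map f.ofConv f.ofConv)).comp
        ((Algebra.TensorProduct.map
        (HopfAlgebra.antipodeAlgHom k A) (.id _ _)).comp (Bialgebra.comulAlgHom k A))
      · rw [AlgHom.comp_assoc, ← AlgHom.comp_assoc (Algebra.TensorProduct.map f.ofConv f.ofConv),
          ← Algebra.TensorProduct.map_comp]; rfl
      rw [H, AlgHom.comp_assoc, WithConv.ext_iff, ← AlgHom.toLinearMap_injective.eq_iff]
      change f.ofConv.toLinearMap.comp
          (toConv (HopfAlgebraStruct.antipode k (A := A)) * toConv LinearMap.id).ofConv =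
        ofConv (1 : WithConv <| A →ₗ[k] C)
      rw [LinearMap.antipode_mul_id]
      ext
      simp }

attribute [local instance] grp

/-- Post-composition with an algebra map, as a homomorphism of convolution groups. -/
noncomputable def postComp {C C' : Type*} [CommRing C] [Algebra k C] [CommRing C'] [Algebra k C']
    (φ : C →ₐ[k] C') : WithConv (A →ₐ[k] C) →* WithConv (A →ₐ[k] C') where
  toFun f := toConv (φ.comp f.ofConv)
  map_one' := by
    apply WithConv.ofConv_injective
    ext a
    simp [AlgHom.convOne_def]
  map_mul' f g := by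
    apply WithConv.ofConv_injective
    rw [WithConv.ofConv_toConv, AlgHom.comp_convMul_distrib]

@[simp] theorem postComp_apply {C C' : Type*} [CommRing C] [Algebra k C] [CommRing C']
    [Algebra k C'] (φ : C →ₐ[k] C') (f : WithConv (A →ₐ[k] C)) :
    postComp φ f = toConv (φ.comp f.ofConv) := rfl

theorem postComp_comp {C C' C'' : Type*} [CommRing C] [Algebra k C] [CommRing C'] [Algebra k C']
    [CommRing C''] [Algebra k C''] (φ : C →ₐ[k] C') (ψ : C' →ₐ[k] C'')
    (f : WithConv (A →ₐ[k] C)) :
    postComp ψ (postComp φ f) = postComp (ψ.comp φ) f := rfl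

/-- Pre-composition with a bialgebra map, as a homomorphism of convolution groups. -/
noncomputable def preComp {B : Type*} [CommRing B] [HopfAlgebra k B] (C : Type*) [CommRing C]
    [Algebra k C] (f : A →ₐc[k] B) : WithConv (B →ₐ[k] C) →* WithConv (A →ₐ[k] C) where
  toFun x := toConv (x.ofConv.comp (f : A →ₐ[k] B))
  map_one' := by
    apply WithConv.ofConv_injective
    ext a
    simp [AlgHom.convOne_def]
  map_mul' x y := by
    apply WithConv.ofConv_injective
    rw [WithConv.ofConv_toConv, AlgHom.convMul_comp_bialgHom_distrib]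

@[simp] theorem preComp_apply {B : Type*} [CommRing B] [HopfAlgebra k B] (C : Type*) [CommRing C]
    [Algebra k C] (f : A →ₐc[k] B) (x : WithConv (B →ₐ[k] C)) :
    preComp C f x = toConv (x.ofConv.comp (f : A →ₐ[k] B)) := rfl

theorem one_apply' {C : Type*} [CommRing C] [Algebra k C] (a : A) :
    (1 : WithConv (A →ₐ[k] C)).ofConv a = algebraMap k C (Coalgebra.counit a) := rfl

end grp

attribute [local instance] grp

section Lam

variable {k : Type*} [CommRing k] {B : Type*} [CommRing B] [HopfAlgebra k B]
variable {K : Type*} [CommRing K] [Algebra k K]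

/-- The point `(incl ∘ w) * includeRight` of `B` with values in `K ⊗ B`. -/
noncomputable def lamHom (w : B →ₐ[k] K) : B →ₐ[k] K ⊗[k] B :=
  (postComp (Algebra.TensorProduct.includeLeft : K →ₐ[k] K ⊗[k] B) (toConv w) *
    toConv (Algebra.TensorProduct.includeRight : B →ₐ[k] K ⊗[k] B)).ofConv

theorem toConv_lamHom (w : B →ₐ[k] K) :
    toConv (lamHom w) =
      postComp (Algebra.TensorProduct.includeLeft : K →ₐ[k] K ⊗[k] B) (toConv w) *
        toConv (Algebra.TensorProduct.includeRight : B →ₐ[k] K ⊗[k] B) := rfl

/-- Left translation by the point `w`, a `K`-algebra endomorphism of `K ⊗ B`. -/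
noncomputable def Lam (w : B →ₐ[k] K) : K ⊗[k] B →ₐ[K] K ⊗[k] B :=
  Algebra.TensorProduct.lift (Algebra.ofId K (K ⊗[k] B)) (lamHom w) (fun _ _ => Commute.all _ _)

theorem Lam_comp_includeRight (w : B →ₐ[k] K) :
    ((Lam w).restrictScalars k).comp
      (Algebra.TensorProduct.includeRight : B →ₐ[k] K ⊗[k] B) = lamHom w := by
  ext b
  simp [Lam]

theorem Lam_comp_includeLeft (w : B →ₐ[k] K) :
    ((Lam w).restrictScalars k).comp
      (Algebra.TensorProduct.includeLeft : K →ₐ[k] K ⊗[k] B) =
      Algebra.TensorProduct.includeLeft := by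
  ext c
  simp [Lam, Algebra.ofId_apply, Algebra.TensorProduct.algebraMap_apply]

theorem postComp_Lam_lamHom (w w' : B →ₐ[k] K) :
    postComp ((Lam w).restrictScalars k) (toConv (lamHom w')) =
      toConv (lamHom (toConv w' * toConv w).ofConv) := by
  rw [toConv_lamHom, map_mul, toConv_lamHom]
  have h1 : postComp ((Lam w).restrictScalars k)
      (postComp (Algebra.TensorProduct.includeLeft : K →ₐ[k] K ⊗[k] B) (toConv w')) =
      postComp (Algebra.TensorProduct.includeLeft : K →ₐ[k] K ⊗[k] B) (toConv w') := by
    rw [postComp_comp, Lam_comp_includeLeft]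
  have h2 : postComp ((Lam w).restrictScalars k)
      (toConv (Algebra.TensorProduct.includeRight : B →ₐ[k] K ⊗[k] B)) = toConv (lamHom w) := by
    rw [postComp_apply, ofConv_toConv, Lam_comp_includeRight]
  rw [h1, h2, toConv_lamHom, toConv_ofConv, map_mul, mul_assoc]

theorem Lam_comp (w w' : B →ₐ[k] K) :
    (Lam w).comp (Lam w') = Lam (toConv w' * toConv w).ofConv := by
  apply Algebra.TensorProduct.ext
  · ext
  · have h := postComp_Lam_lamHom w w'
    change ((Lam w).restrictScalars k).comp (((Lam w').restrictScalars k).comp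
      Algebra.TensorProduct.includeRight) = _
    rw [Lam_comp_includeRight, Lam_comp_includeRight]
    exact congrArg ofConv h

theorem Lam_one : Lam (1 : WithConv (B →ₐ[k] K)).ofConv = AlgHom.id K (K ⊗[k] B) := by
  apply Algebra.TensorProduct.ext
  · ext
  · change ((Lam _).restrictScalars k).comp Algebra.TensorProduct.includeRight =
      Algebra.TensorProduct.includeRight
    rw [Lam_comp_includeRight]
    apply WithConv.toConv_injective
    rw [toConv_lamHom, toConv_ofConv, map_one, one_mul]

theorem Lam_bijective (w : B →ₐ[k] K) : Function.Bijective (Lam w) := by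
  have h1 : (Lam w).comp (Lam ((toConv w)⁻¹).ofConv) = AlgHom.id K _ := by
    rw [Lam_comp, toConv_ofConv, inv_mul_cancel, Lam_one]
  have h2 : (Lam ((toConv w)⁻¹).ofConv).comp (Lam w) = AlgHom.id K _ := by
    rw [Lam_comp, toConv_ofConv, mul_inv_cancel, Lam_one]
  exact Function.bijective_iff_has_inverse.mpr
    ⟨Lam ((toConv w)⁻¹).ofConv, fun x => DFunLike.congr_fun h2 x, fun x => DFunLike.congr_fun h1 x⟩

/-- Translations are compatible with bialgebra maps. -/
theorem Lam_natural {A : Type*} [CommRing A] [HopfAlgebra k A] (f : A →ₐc[k] B)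
    (w : B →ₐ[k] K) :
    (Algebra.TensorProduct.map (AlgHom.id K K) (f : A →ₐ[k] B)).comp
        (Lam (w.comp (f : A →ₐ[k] B))) =
      (Lam w).comp (Algebra.TensorProduct.map (AlgHom.id K K) (f : A →ₐ[k] B)) := by
  apply Algebra.TensorProduct.ext
  · ext
  · set F := Algebra.TensorProduct.map (AlgHom.id K K) (f : A →ₐ[k] B) with hF
    have hFl : (F.restrictScalars k).comp
        (Algebra.TensorProduct.includeLeft : K →ₐ[k] K ⊗[k] A) =
        Algebra.TensorProduct.includeLeft := by
      ext c; simp [hF]
    have hFr : (F.restrictScalars k).comp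
        (Algebra.TensorProduct.includeRight : A →ₐ[k] K ⊗[k] A) =
        (Algebra.TensorProduct.includeRight : B →ₐ[k] K ⊗[k] B).comp (f : A →ₐ[k] B) := by
      ext c; simp [hF]
    change (F.restrictScalars k).comp (((Lam (w.comp (f : A →ₐ[k] B))).restrictScalars k).comp
      Algebra.TensorProduct.includeRight) =
      ((Lam w).restrictScalars k).comp ((F.restrictScalars k).comp
        Algebra.TensorProduct.includeRight)
    rw [Lam_comp_includeRight, hFr, ← AlgHom.comp_assoc, Lam_comp_includeRight]
    apply WithConv.toConv_injective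
    change postComp (F.restrictScalars k) (toConv (lamHom (w.comp (f : A →ₐ[k] B)))) =
      preComp _ f (toConv (lamHom w))
    rw [toConv_lamHom, toConv_lamHom, map_mul, map_mul, postComp_comp, hFl]
    congr 1

/-- Evaluation `K ⊗ B → K` at the point `u`. -/
noncomputable def evalK (u : B →ₐ[k] K) : K ⊗[k] B →ₐ[K] K :=
  Algebra.TensorProduct.lift (AlgHom.id K K) u (fun _ _ => Commute.all _ _)

theorem evalK_lamHom (u w : B →ₐ[k] K) :
    ((evalK u).restrictScalars k).comp (lamHom w) = (toConv w * toConv u).ofConv := by
  apply WithConv.toConv_injective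
  change postComp ((evalK u).restrictScalars k) (toConv (lamHom w)) = _
  rw [toConv_lamHom, map_mul, postComp_comp, toConv_ofConv]
  congr 1
  · apply WithConv.ofConv_injective
    ext b
    simp [evalK]
  · apply WithConv.ofConv_injective
    ext b
    simp [evalK]

end Lam

end Groth.Agent.H83.Tk
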