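import Mathlib
import Groth.Prelude.Def_SGA3b
import Groth.Agent.H83.TkConv

/-!
# Torsion ideals / power maps of groups of multiplicative type (helper library)

* `torsionIdeal_eq_bot_iff` : `torsionIdeal n = ⊥` iff the `n`-th power map is trivial.
* `powConv_bialgHom` : power maps are natural in bialgebra maps.
* `powConv_baseChange`, `triv_baseChange`, `triv_of_baseChange` : base change.
* `powConv_single`, `triv_of_pow_eq_one`, `pow_eq_one_of_triv` : group algebras.
* `exists_triv_of_finite`, `finite_of_triv` : the fpqc-local step.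
-/

set_option autoImplicit false

universe u

open TensorProduct WithConv

namespace Groth.Agent.H83.MultTors

attribute [local instance] Groth.Agent.H83.Tk.grp

section general

variable {R : Type u} [CommRing R] {A : Type u} [CommRing A] [HopfAlgebra R A]

theorem powConv_def (n : ℕ) :
    SGA3b.powConv R A n = (toConv (AlgHom.id R A) ^ n).ofConv := rfl

theorem torsionIdeal_eq_bot_iff (n : ℕ) :
    SGA3b.torsionIdeal R A n = ⊥ ↔
      ∀ a : A, SGA3b.powConv R A n a = algebraMap R A (Coalgebra.counit a) := by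
  unfold SGA3b.torsionIdeal
  rw [Ideal.map_eq_bot_iff_le_ker]
  constructor
  · intro h a
    have ha : a - algebraMap R A (Coalgebra.counit a) ∈
        RingHom.ker (Bialgebra.counitAlgHom R A) := by
      rw [RingHom.mem_ker, map_sub, AlgHom.commutes, Bialgebra.counitAlgHom_apply]
      simp
    have h2 := h ha
    rw [RingHom.mem_ker, map_sub, AlgHom.commutes, sub_eq_zero] at h2
    exact h2
  · intro h a ha
    rw [RingHom.mem_ker] at ha ⊢
    rw [h a]
    have h0 : Coalgebra.counit (R := R) a = 0 := ha
    rw [h0, map_zero]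

theorem convMul_groupLike {C : Type u} [CommRing C] [Algebra R C] (f h : WithConv (A →ₐ[R] C))
    {g : A} (hg : IsGroupLikeElem R g) : (f * h).ofConv g = f.ofConv g * h.ofConv g := by
  refine (AlgHom.convMul_apply f h g).trans ?_
  rw [hg.comul_eq_tmul_self, Algebra.TensorProduct.lift_tmul]

theorem convPow_groupLike {C : Type u} [CommRing C] [Algebra R C] (f : WithConv (A →ₐ[R] C))
    {g : A} (hg : IsGroupLikeElem R g) (n : ℕ) : (f ^ n).ofConv g = (f.ofConv g) ^ n := by
  induction n with
  | zero =>
    rw [pow_zero, pow_zero]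
    show algebraMap R C (Coalgebra.counit g) = 1
    rw [hg.counit_eq_one, map_one]
  | succ n ih => rw [pow_succ, convMul_groupLike _ _ hg, ih, pow_succ]

theorem powConv_bialgHom {B : Type u} [CommRing B] [HopfAlgebra R B] (e : A →ₐc[R] B) (n : ℕ)
    (a : A) : e (SGA3b.powConv R A n a) = SGA3b.powConv R B n (e a) := by
  have h2 : Tk.postComp (e : A →ₐ[R] B) (toConv (AlgHom.id R A)) = toConv (e : A →ₐ[R] B) := by
    apply WithConv.ofConv_injective; ext x; rfl
  have h3 : Tk.preComp B e (toConv (AlgHom.id R B)) = toConv (e : A →ₐ[R] B) := by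
    apply WithConv.ofConv_injective; ext x; rfl
  have h1 : Tk.postComp (e : A →ₐ[R] B) (toConv (AlgHom.id R A) ^ n) =
      Tk.preComp B e (toConv (AlgHom.id R B) ^ n) := by
    rw [map_pow, map_pow, h2, h3]
  exact congrArg (fun f => f.ofConv a) h1

theorem triv_mul {n : ℕ}
    (h : ∀ a : A, SGA3b.powConv R A n a = algebraMap R A (Coalgebra.counit a)) (k : ℕ) (a : A) :
    SGA3b.powConv R A (n * k) a = algebraMap R A (Coalgebra.counit a) := by
  have h1 : (toConv (AlgHom.id R A)) ^ n = 1 := by
    apply WithConv.ofConv_injective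
    ext x
    exact h x
  rw [powConv_def, pow_mul, h1, one_pow]
  rfl

/-- transport triviality of a power map along a bialgebra equivalence -/
theorem triv_of_equiv {B C : Type u} [CommRing B] [HopfAlgebra R B] [CommRing C] [HopfAlgebra R C]
    (e : B ≃ₐc[R] C) (n : ℕ)
    (h : ∀ c : C, SGA3b.powConv R C n c = algebraMap R C (Coalgebra.counit c)) (b : B) :
    SGA3b.powConv R B n b = algebraMap R B (Coalgebra.counit b) := by
  apply EquivLike.injective e
  have h1 := powConv_bialgHom e.toBialgHom n b
  have h2 : Coalgebra.counit (R := R) (e.toBialgHom b) = Coalgebra.counit b :=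
    CoalgHomClass.counit_comp_apply e.toBialgHom b
  have h3 := AlgHomClass.commutes e.toBialgHom (Coalgebra.counit (R := R) b)
  calc e (SGA3b.powConv R B n b) = SGA3b.powConv R C n (e b) := h1
    _ = algebraMap R C (Coalgebra.counit (e b)) := h (e b)
    _ = algebraMap R C (Coalgebra.counit b) := by
        rw [show Coalgebra.counit (R := R) (e b) = Coalgebra.counit b from h2]
    _ = e (algebraMap R B (Coalgebra.counit b)) := h3.symm

end general

section bc

variable {R : Type u} [CommRing R] {A : Type u} [CommRing A] [HopfAlgebra R A]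
  (S : Type u) [CommRing S] [Algebra R S]

/-- base change of an algebra endomorphism -/
noncomputable def bc (f : A →ₐ[R] A) : S ⊗[R] A →ₐ[S] S ⊗[R] A :=
  Algebra.TensorProduct.map (AlgHom.id S S) f

theorem bc_tmul (f : A →ₐ[R] A) (s : S) (a : A) : bc S f (s ⊗ₜ a) = s ⊗ₜ f a := by
  simp [bc]

theorem algHom_convMul_apply_repr (f g : WithConv (A →ₐ[R] A)) (a : A) :
    (f * g).ofConv a = ∑ i ∈ (Coalgebra.Repr.arbitrary R a).index,
      f.ofConv ((Coalgebra.Repr.arbitrary R a).left i) *
        g.ofConv ((Coalgebra.Repr.arbitrary R a).right i) := by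
  have h := AlgHom.convMul_apply f g a
  rw [← (Coalgebra.Repr.arbitrary R a).eq, map_sum] at h
  simpa using h

theorem bc_mul (f g : WithConv (A →ₐ[R] A)) :
    WithConv.toConv (bc S f.ofConv) * WithConv.toConv (bc S g.ofConv) =
      WithConv.toConv (bc S (f * g).ofConv) := by
  apply WithConv.ofConv_injective
  apply Algebra.TensorProduct.ext'
  intro s a
  have hs : (s ⊗ₜ[R] a : S ⊗[R] A) = s • ((1 : S) ⊗ₜ[R] a) := by
    rw [TensorProduct.smul_tmul', smul_eq_mul, mul_one]
  rw [hs, map_smul, map_smul]
  congr 1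
  have hL : (WithConv.toConv (bc S f.ofConv) * WithConv.toConv (bc S g.ofConv)).ofConv
      ((1 : S) ⊗ₜ[R] a) = (1 : S) ⊗ₜ[R] ((f * g).ofConv a) := by
    rw [algHom_convMul_apply_repr f g a]
    have h := AlgHom.convMul_apply (WithConv.toConv (bc S f.ofConv))
      (WithConv.toConv (bc S g.ofConv)) ((1 : S) ⊗ₜ[R] a)
    refine h.trans ?_
    rw [TensorProduct.comul_tmul, ← (Coalgebra.Repr.arbitrary R a).eq]
    simp [TensorProduct.tmul_sum, bc_tmul]
  rw [WithConv.ofConv_toConv, bc_tmul]
  exact hL

theorem bc_one : (1 : WithConv (S ⊗[R] A →ₐ[S] S ⊗[R] A)) =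
    WithConv.toConv (bc S (1 : WithConv (A →ₐ[R] A)).ofConv) := by
  apply WithConv.ofConv_injective
  apply Algebra.TensorProduct.ext'
  intro s a
  have hs : (s ⊗ₜ[R] a : S ⊗[R] A) = s • ((1 : S) ⊗ₜ[R] a) := by
    rw [TensorProduct.smul_tmul', smul_eq_mul, mul_one]
  rw [hs, map_smul, map_smul]
  congr 1
  rw [WithConv.ofConv_toConv, bc_tmul]
  simp [Algebra.algebraMap_eq_smul_one, Algebra.TensorProduct.one_def]

theorem bc_pow (f : WithConv (A →ₐ[R] A)) (n : ℕ) :
    WithConv.toConv (bc S f.ofConv) ^ n = WithConv.toConv (bc S (f ^ n).ofConv) := by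
  induction n with
  | zero => rw [pow_zero, pow_zero, bc_one]
  | succ n ih => rw [pow_succ, pow_succ, ih, bc_mul]

theorem powConv_baseChange (n : ℕ) (s : S) (a : A) :
    SGA3b.powConv S (S ⊗[R] A) n (s ⊗ₜ a) = s ⊗ₜ SGA3b.powConv R A n a := by
  have h1 : bc S (AlgHom.id R A) = AlgHom.id S (S ⊗[R] A) := by
    simp [bc]
  have h2 := bc_pow S (WithConv.toConv (AlgHom.id R A)) n
  rw [WithConv.ofConv_toConv, h1] at h2
  rw [powConv_def, powConv_def, h2, WithConv.ofConv_toConv, bc_tmul]

theorem counit_tmul_eq (s : S) (a : A) :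
    algebraMap S (S ⊗[R] A) (Coalgebra.counit (R := S) (s ⊗ₜ[R] a)) =
      s ⊗ₜ[R] algebraMap R A (Coalgebra.counit a) := by
  rw [TensorProduct.counit_tmul, Algebra.TensorProduct.algebraMap_apply,
    Algebra.algebraMap_eq_smul_one (R := R) (A := A), TensorProduct.tmul_smul,
    TensorProduct.smul_tmul']
  rfl

theorem triv_baseChange {n : ℕ}
    (h : ∀ a : A, SGA3b.powConv R A n a = algebraMap R A (Coalgebra.counit a))
    (x : S ⊗[R] A) :
    SGA3b.powConv S (S ⊗[R] A) n x = algebraMap S (S ⊗[R] A) (Coalgebra.counit x) := by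
  induction x using TensorProduct.induction_on with
  | zero => simp
  | tmul s a => rw [powConv_baseChange, h a, counit_tmul_eq]
  | add x y hx hy => rw [map_add, map_add, map_add, hx, hy]

theorem triv_of_baseChange [Module.FaithfullyFlat R S] {n : ℕ}
    (h : ∀ x : S ⊗[R] A,
      SGA3b.powConv S (S ⊗[R] A) n x = algebraMap S (S ⊗[R] A) (Coalgebra.counit x))
    (a : A) : SGA3b.powConv R A n a = algebraMap R A (Coalgebra.counit a) := by
  have h1 := h ((1 : S) ⊗ₜ[R] a)
  rw [powConv_baseChange, counit_tmul_eq] at h1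
  exact Module.FaithfullyFlat.tensorProduct_mk_injective (A := R) (B := S) A h1

end bc

section diag

variable {K : Type u} [CommRing K] {M : Type u} [CommGroup M]

theorem powConv_single (n : ℕ) (m : M) :
    SGA3b.powConv K (MonoidAlgebra K M) n (MonoidAlgebra.single m 1) =
      MonoidAlgebra.single (m ^ n) 1 := by
  rw [powConv_def, convPow_groupLike _ (MonoidAlgebra.isGroupLikeElem_single_one m) n,
    WithConv.ofConv_toConv, AlgHom.id_apply, MonoidAlgebra.single_pow, one_pow]

theorem algebraMap_counit_single (m : M) :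
    algebraMap K (MonoidAlgebra K M)
      (Coalgebra.counit (R := K) (MonoidAlgebra.single m (1 : K))) = MonoidAlgebra.single 1 1 := by
  rw [MonoidAlgebra.counit_single]
  simp

theorem triv_of_pow_eq_one (n : ℕ) (h : ∀ m : M, m ^ n = 1) (x : MonoidAlgebra K M) :
    SGA3b.powConv K (MonoidAlgebra K M) n x =
      algebraMap K (MonoidAlgebra K M) (Coalgebra.counit x) := by
  have key : SGA3b.powConv K (MonoidAlgebra K M) n =
      (Algebra.ofId K (MonoidAlgebra K M)).comp (Bialgebra.counitAlgHom K (MonoidAlgebra K M)) := by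
    refine MonoidAlgebra.algHom_ext (fun m => ?_) (Subsingleton.elim _ _)
    rw [powConv_single, h m]
    exact (algebraMap_counit_single m).symm
  rw [key]
  rfl

theorem pow_eq_one_of_triv [Nontrivial K] (n : ℕ)
    (h : ∀ x : MonoidAlgebra K M, SGA3b.powConv K (MonoidAlgebra K M) n x =
      algebraMap K (MonoidAlgebra K M) (Coalgebra.counit x)) (m : M) : m ^ n = 1 := by
  have h1 := h (MonoidAlgebra.single m 1)
  rw [powConv_single, algebraMap_counit_single] at h1
  exact (MonoidAlgebra.single_left_inj one_ne_zero).1 h1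

end diag

section loc

variable {L : Type u} [CommRing L] {H : Type u} [CommRing H] [HopfAlgebra L H]
  {R' : Type u} [CommRing R'] [Algebra L R'] {M : Type u} [CommGroup M]

theorem subsingleton_of_subsingleton [Module.FaithfullyFlat L R'] [Subsingleton R'] :
    Subsingleton H := by
  have : Subsingleton (R' ⊗[L] H) := Module.subsingleton R' _
  exact (Module.FaithfullyFlat.tensorProduct_mk_injective (A := L) (B := R') H).subsingleton

theorem exists_triv_of_finite [Module.FaithfullyFlat L R']
    (e : (R' ⊗[L] H) ≃ₐc[R'] MonoidAlgebra R' M) [Module.Finite L H] :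
    ∃ n : ℕ, 0 < n ∧
      ∀ x : H, SGA3b.powConv L H n x = algebraMap L H (Coalgebra.counit x) := by
  rcases subsingleton_or_nontrivial R' with hR' | hR'
  · have : Subsingleton H := subsingleton_of_subsingleton (L := L) (R' := R')
    exact ⟨1, one_pos, fun x => Subsingleton.elim _ _⟩
  · have hfin : Module.Finite R' (MonoidAlgebra R' M) :=
      Module.Finite.equiv e.toAlgEquiv.toLinearEquiv
    have : Finite M := Module.Finite.finite_basis (MonoidAlgebra.basis M R')
    refine ⟨Nat.card M, Nat.card_pos, ?_⟩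
    have h1 : ∀ c : MonoidAlgebra R' M, SGA3b.powConv R' _ (Nat.card M) c =
        algebraMap R' _ (Coalgebra.counit c) :=
      triv_of_pow_eq_one (Nat.card M) (fun m => pow_card_eq_one')
    exact triv_of_baseChange R' (triv_of_equiv e (Nat.card M) h1)

theorem finite_of_triv [Module.FaithfullyFlat L R']
    (e : (R' ⊗[L] H) ≃ₐc[R'] MonoidAlgebra R' M) [Algebra.FiniteType L H] {n : ℕ} (hn : 0 < n)
    (h : ∀ x : H, SGA3b.powConv L H n x = algebraMap L H (Coalgebra.counit x)) :
    Module.Finite L H := by
  rcases subsingleton_or_nontrivial R' with hR' | hR'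
  · have : Subsingleton H := subsingleton_of_subsingleton (L := L) (R' := R')
    infer_instance
  · have h1 := triv_baseChange R' h
    have h2 : ∀ c : MonoidAlgebra R' M, SGA3b.powConv R' _ n c =
        algebraMap R' _ (Coalgebra.counit c) := triv_of_equiv e.symm n h1
    have h3 : ∀ m : M, m ^ n = 1 := pow_eq_one_of_triv n h2
    have hft : Algebra.FiniteType R' (MonoidAlgebra R' M) :=
      Algebra.FiniteType.equiv inferInstance e.toAlgEquiv
    have hfg : Group.FG M := MonoidAlgebra.finiteType_iff_group_fg.1 hft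
    have : Finite M := CommGroup.finite_of_fg_isMulTorsion _
      (fun m => isOfFinOrder_iff_pow_eq_one.2 ⟨n, hn, h3 m⟩)
    have : Module.Finite R' (MonoidAlgebra R' M) :=
      Module.Finite.of_basis (MonoidAlgebra.basis M R')
    have : Module.Finite R' (R' ⊗[L] H) := Module.Finite.equiv e.symm.toAlgEquiv.toLinearEquiv
    exact Module.Finite.of_finite_tensorProduct_of_faithfullyFlat R'

end loc

end Groth.Agent.H83.MultTors
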