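import Mathlib
import Groth.Prelude.Def_SGA3b
import Groth.Agent.H83.MultTors
import Groth.Agent.S9407

/-!
# Density of torsion in groups of multiplicative type (helper library, part 2)
-/

set_option autoImplicit false

universe u

open TensorProduct WithConv

namespace Groth.Agent.H83.MultTors

section mem

variable {R : Type u} [CommRing R] {A : Type u} [CommRing A] [HopfAlgebra R A]

theorem tmul_mem_torsionIdeal (S : Type u) [CommRing S] [Algebra R S] {n : ℕ} {x : A}
    (hx : x ∈ SGA3b.torsionIdeal R A n) :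
    (1 : S) ⊗ₜ[R] x ∈ SGA3b.torsionIdeal S (S ⊗[R] A) n := by
  have hle : SGA3b.torsionIdeal R A n ≤
      Ideal.comap (Algebra.TensorProduct.includeRight : A →ₐ[R] S ⊗[R] A)
        (SGA3b.torsionIdeal S (S ⊗[R] A) n) := by
    unfold SGA3b.torsionIdeal
    rw [Ideal.map_le_iff_le_comap]
    intro z hz
    rw [Ideal.mem_comap, Ideal.mem_comap]
    show (1 : S) ⊗ₜ[R] (SGA3b.powConv R A n z) ∈ _
    rw [← powConv_baseChange]
    refine Ideal.mem_map_of_mem _ ?_
    rw [RingHom.mem_ker] at hz ⊢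
    have hz0 : Coalgebra.counit (R := R) z = 0 := hz
    show Coalgebra.counit (R := S) ((1 : S) ⊗ₜ[R] z) = 0
    rw [TensorProduct.counit_tmul, hz0, zero_smul]
  exact hle hx

theorem map_mem_torsionIdeal {B : Type u} [CommRing B] [HopfAlgebra R B] (e : A →ₐc[R] B) {n : ℕ}
    {x : A} (hx : x ∈ SGA3b.torsionIdeal R A n) : e x ∈ SGA3b.torsionIdeal R B n := by
  have hle : SGA3b.torsionIdeal R A n ≤
      Ideal.comap (e : A →ₐ[R] B) (SGA3b.torsionIdeal R B n) := by
    unfold SGA3b.torsionIdeal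
    rw [Ideal.map_le_iff_le_comap]
    intro z hz
    rw [Ideal.mem_comap, Ideal.mem_comap]
    show e (SGA3b.powConv R A n z) ∈ _
    rw [powConv_bialgHom]
    refine Ideal.mem_map_of_mem _ ?_
    rw [RingHom.mem_ker] at hz ⊢
    have hz0 : Coalgebra.counit (R := R) z = 0 := hz
    show Coalgebra.counit (R := R) (e z) = 0
    rw [CoalgHomClass.counit_comp_apply, hz0]
  exact hle hx

end mem

section diag2

variable {K : Type u} [CommRing K] {M : Type u} [CommGroup M]

theorem mapDomain_eq_zero (n : ℕ) {y : MonoidAlgebra K M}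
    (hy : y ∈ SGA3b.torsionIdeal K (MonoidAlgebra K M) n) :
    MonoidAlgebra.mapDomainAlgHom K K
      (QuotientGroup.mk' (powMonoidHom n : M →* M).range) y = 0 := by
  have key : (MonoidAlgebra.mapDomainAlgHom K K
      (QuotientGroup.mk' (powMonoidHom n : M →* M).range)).comp
        (SGA3b.powConv K (MonoidAlgebra K M) n) =
      (Algebra.ofId K (MonoidAlgebra K (M ⧸ (powMonoidHom n : M →* M).range))).comp
        (Bialgebra.counitAlgHom K (MonoidAlgebra K M)) := by
    refine MonoidAlgebra.algHom_ext (fun m => ?_) (Subsingleton.elim _ _)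
    have hR : ((Algebra.ofId K (MonoidAlgebra K (M ⧸ (powMonoidHom n : M →* M).range))).comp
        (Bialgebra.counitAlgHom K (MonoidAlgebra K M))) (MonoidAlgebra.single m 1) =
        MonoidAlgebra.single 1 1 := by
      show algebraMap K (MonoidAlgebra K (M ⧸ (powMonoidHom n : M →* M).range))
        (Coalgebra.counit (R := K) (MonoidAlgebra.single m (1 : K))) = MonoidAlgebra.single 1 1
      rw [MonoidAlgebra.counit_single]
      simp
    rw [hR, AlgHom.comp_apply, powConv_single, MonoidAlgebra.mapDomainAlgHom_apply,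
      MonoidAlgebra.mapDomain_single]
    have h1 : QuotientGroup.mk' (powMonoidHom n : M →* M).range (m ^ n) = 1 :=
      (QuotientGroup.eq_one_iff _).2 ⟨m, rfl⟩
    rw [h1]
  have hle : SGA3b.torsionIdeal K (MonoidAlgebra K M) n ≤
      RingHom.ker (MonoidAlgebra.mapDomainAlgHom K K
        (QuotientGroup.mk' (powMonoidHom n : M →* M).range)) := by
    unfold SGA3b.torsionIdeal
    rw [Ideal.map_le_iff_le_comap]
    intro z hz
    rw [Ideal.mem_comap, RingHom.mem_ker]
    have h2 := congrArg (fun f => f z) key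
    simp only [AlgHom.comp_apply] at h2
    rw [h2]
    have hz0 : Coalgebra.counit (R := K) z = 0 := hz
    show algebraMap K _ (Coalgebra.counit (R := K) z) = 0
    rw [hz0, map_zero]
  exact hle hy

theorem eq_zero_of_forall_mem (c : ℕ)
    (hK : ∀ T : Finset M, ∃ n : ℕ, 0 < n ∧ ¬ c ∣ n ∧
      ∀ a ∈ T, ∀ b ∈ T, (∃ x : M, x ^ n = a⁻¹ * b) → a = b)
    (y : MonoidAlgebra K M)
    (hy : ∀ n : ℕ, 0 < n → ¬ c ∣ n → y ∈ SGA3b.torsionIdeal K (MonoidAlgebra K M) n) :
    y = 0 := by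
  obtain ⟨n, hn, hcn, hinj⟩ := hK y.coeff.support
  have h1 := mapDomain_eq_zero n (hy n hn hcn)
  rw [MonoidAlgebra.mapDomainAlgHom_apply] at h1
  have hinjOn : Set.InjOn (QuotientGroup.mk' (powMonoidHom n : M →* M).range)
      (y.coeff.support : Set M) := by
    intro a ha b hb hab
    refine hinj a (Finset.mem_coe.1 ha) b (Finset.mem_coe.1 hb) ?_
    obtain ⟨x, hx⟩ := (QuotientGroup.eq).1 hab
    exact ⟨x, hx⟩
  have h2 : Finsupp.mapDomain (QuotientGroup.mk' (powMonoidHom n : M →* M).range) y.coeff =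
      Finsupp.mapDomain (QuotientGroup.mk' (powMonoidHom n : M →* M).range) 0 := by
    rw [Finsupp.mapDomain_zero]
    exact congrArg MonoidAlgebra.coeff h1
  have h3 := Finsupp.mapDomain_injOn _ hinjOn
    (show ((y.coeff.support : Finset M) : Set M) ⊆ _ from subset_rfl) (by simp) h2
  exact MonoidAlgebra.coeff_injective h3

end diag2

section grp

variable {M : Type u} [CommGroup M]

theorem not_dvd_mul {c a b : ℕ} (hc : c = 0 ∨ c.Prime) (ha : ¬ c ∣ a) (hb : ¬ c ∣ b) :
    ¬ c ∣ a * b := by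
  rcases hc with rfl | hc
  · rw [zero_dvd_iff] at *
    exact mul_ne_zero ha hb
  · intro h
    rcases (Nat.Prime.dvd_mul hc).1 h with h | h
    exacts [ha h, hb h]

theorem exists_prime_ne (c : ℕ) : ∃ ℓ : ℕ, ℓ.Prime ∧ ℓ ≠ c := by
  by_cases h : c = 2
  · exact ⟨3, Nat.prime_three, by omega⟩
  · exact ⟨2, Nat.prime_two, fun h' => h h'.symm⟩

theorem not_dvd_prime_pow {c ℓ : ℕ} (hc : c = 0 ∨ c.Prime) (hℓ : ℓ.Prime) (hne : ℓ ≠ c) (a : ℕ) :
    ¬ c ∣ ℓ ^ a := by
  rcases hc with rfl | hc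
  · rw [zero_dvd_iff]
    exact pow_ne_zero _ hℓ.ne_zero
  · intro h
    exact hne ((Nat.prime_dvd_prime_iff_eq hc hℓ).1 (hc.dvd_of_dvd_pow h)).symm

theorem zmod_pow_eq_one (n : ℕ) (g : Multiplicative (ZMod n)) : g ^ n = 1 := by
  apply Multiplicative.toAdd.injective
  rw [toAdd_pow, toAdd_one, nsmul_eq_mul, ZMod.natCast_self, zero_mul]

theorem exists_not_mem_range_pow [Group.FG M] {c : ℕ} (hc : c = 0 ∨ c.Prime)
    (hNT : c ≠ 0 → ∀ m : M, m ^ c = 1 → m = 1) {m : M} (hm : m ≠ 1) :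
    ∃ n : ℕ, 0 < n ∧ ¬ c ∣ n ∧ ∀ x : M, x ^ n ≠ m := by
  classical
  obtain ⟨ι, j, _, _, q, hq, e, ⟨φ⟩⟩ := CommGroup.equiv_free_prod_prod_multiplicative_zmod M
  by_cases hA : ∃ j₀ : j, (φ m).1 j₀ ≠ 1
  · obtain ⟨j₀, hj₀⟩ := hA
    obtain ⟨z, hz⟩ : ∃ z : ℤ, z = Multiplicative.toAdd ((φ m).1 j₀) := ⟨_, rfl⟩
    have hz0 : z ≠ 0 := by
      intro h
      apply hj₀
      apply Multiplicative.toAdd.injective
      rw [← hz, h, toAdd_one]
    obtain ⟨ℓ, hℓ, hne⟩ := exists_prime_ne c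
    refine ⟨ℓ ^ (z.natAbs + 1), pow_pos hℓ.pos _, not_dvd_prime_pow hc hℓ hne _, ?_⟩
    intro x hx
    have h1 : (φ m).1 j₀ = ((φ x).1 j₀) ^ (ℓ ^ (z.natAbs + 1)) := by
      rw [← hx, map_pow]
      rfl
    have h2 : Multiplicative.toAdd ((φ m).1 j₀) =
        (ℓ ^ (z.natAbs + 1)) • Multiplicative.toAdd ((φ x).1 j₀) := by
      rw [h1, toAdd_pow]
    have h3 : ((ℓ ^ (z.natAbs + 1) : ℕ) : ℤ) ∣ z :=
      ⟨Multiplicative.toAdd ((φ x).1 j₀), hz.trans (h2.trans (nsmul_eq_mul _ _))⟩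
    have h4 : ℓ ^ (z.natAbs + 1) ∣ z.natAbs := Int.natCast_dvd.1 h3
    have h5 := Nat.le_of_dvd (Int.natAbs_pos.2 hz0) h4
    have h6 : z.natAbs + 1 < ℓ ^ (z.natAbs + 1) := Nat.lt_pow_self hℓ.one_lt
    omega
  · push Not at hA
    have h1 : (φ m).1 = 1 := funext hA
    have h2 : ∃ i : ι, (φ m).2 i ≠ 1 := by
      by_contra hcon
      push Not at hcon
      apply hm
      apply φ.injective
      rw [map_one]
      exact Prod.ext h1 (funext hcon)
    obtain ⟨i, hi⟩ := h2
    refine ⟨q i ^ e i, pow_pos (hq i).pos _, ?_, ?_⟩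
    · rcases hc with rfl | hcp
      · rw [zero_dvd_iff]
        exact pow_ne_zero _ (hq i).ne_zero
      · intro hdvd
        have hcq : c = q i :=
          (Nat.prime_dvd_prime_iff_eq hcp (hq i)).1 (hcp.dvd_of_dvd_pow hdvd)
        obtain ⟨g, hg⟩ : ∃ g : Multiplicative (ZMod (q i ^ e i)), g = (φ m).2 i := ⟨_, rfl⟩
        have hg1 : g ≠ 1 := by rw [hg]; exact hi
        let w : (j → Multiplicative ℤ) × ((i : ι) → Multiplicative (ZMod (q i ^ e i))) :=
          (1, Pi.mulSingle i g)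
        have hw1 : φ.symm w ≠ 1 := by
          intro h
          have h' : w = 1 := by
            have := congrArg φ h
            rwa [φ.apply_symm_apply, map_one] at this
          have h'' : w.2 i = 1 := by rw [h']; rfl
          apply hg1
          rw [← h'']
          exact (Pi.mulSingle_eq_same (M := fun i => Multiplicative (ZMod (q i ^ e i))) i g).symm
        have hw2 : (φ.symm w) ^ (c ^ e i) = 1 := by
          rw [← map_pow]
          have : w ^ (c ^ e i) = 1 := by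
            refine Prod.ext ?_ ?_
            · show (1 : j → Multiplicative ℤ) ^ (c ^ e i) = 1
              exact one_pow _
            · show (Pi.mulSingle i g : (i : ι) → Multiplicative (ZMod (q i ^ e i))) ^ (c ^ e i) = 1
              rw [← Pi.mulSingle_pow, hcq, zmod_pow_eq_one, Pi.mulSingle_one]
          rw [this, map_one]
        have hNT' : ∀ a : ℕ, ∀ y : M, y ^ (c ^ a) = 1 → y = 1 := by
          intro a
          induction a with
          | zero => intro y hy; simpa using hy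
          | succ a ih =>
            intro y hy
            rw [pow_succ, pow_mul] at hy
            exact ih y (hNT hcp.ne_zero _ hy)
        exact hw1 (hNT' (e i) _ hw2)
    · intro x hx
      have h3 : (φ m).2 i = ((φ x).2 i) ^ (q i ^ e i) := by
        rw [← hx, map_pow]
        rfl
      rw [zmod_pow_eq_one] at h3
      exact hi h3

theorem exists_injOn [Group.FG M] {c : ℕ} (hc : c = 0 ∨ c.Prime)
    (hNT : c ≠ 0 → ∀ m : M, m ^ c = 1 → m = 1) (T : Finset M) :
    ∃ n : ℕ, 0 < n ∧ ¬ c ∣ n ∧ ∀ a ∈ T, ∀ b ∈ T, (∃ x : M, x ^ n = a⁻¹ * b) → a = b := by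
  classical
  have key : ∀ P : Finset (M × M), ∃ n : ℕ, 0 < n ∧ ¬ c ∣ n ∧
      ∀ p ∈ P, (∃ x : M, x ^ n = p.1⁻¹ * p.2) → p.1 = p.2 := by
    intro P
    induction P using Finset.induction_on with
    | empty =>
      refine ⟨1, one_pos, ?_, by simp⟩
      rcases hc with rfl | hc
      · simp
      · exact fun h => hc.one_lt.ne' (Nat.dvd_one.1 h)
    | insert p P hp ih =>
      obtain ⟨n, hn, hcn, h⟩ := ih
      by_cases hpe : p.1 = p.2
      · refine ⟨n, hn, hcn, ?_⟩
        intro p' hp' hx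
        rcases Finset.mem_insert.1 hp' with rfl | hp'
        · exact hpe
        · exact h p' hp' hx
      · have hm : p.1⁻¹ * p.2 ≠ 1 := fun h1 => hpe (inv_mul_eq_one.1 h1)
        obtain ⟨n', hn', hcn', h'⟩ := exists_not_mem_range_pow hc hNT hm
        refine ⟨n * n', Nat.mul_pos hn hn', not_dvd_mul hc hcn hcn', ?_⟩
        rintro p' hp' ⟨x, hx⟩
        rcases Finset.mem_insert.1 hp' with rfl | hp'
        · exact absurd (show (x ^ n) ^ n' = _ by rw [← pow_mul]; exact hx) (h' _)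
        · exact h p' hp' ⟨x ^ n', by rw [← pow_mul, mul_comm]; exact hx⟩
  obtain ⟨n, hn, hcn, h⟩ := key (T ×ˢ T)
  exact ⟨n, hn, hcn, fun a ha b hb hx => h (a, b) (Finset.mk_mem_product ha hb) hx⟩

end grp

section smooth

variable {M : Type u} [CommGroup M] {R' : Type u} [CommRing R']

theorem single_sub_one_pow_eq_zero {c : ℕ} (hc : c.Prime) (hc0 : (c : R') = 0)
    {m : M} (hm : m ^ c = 1) :
    (MonoidAlgebra.single m (1 : R') - 1 : MonoidAlgebra R' M) ^ c = 0 := by
  obtain ⟨r, hr⟩ := exists_add_pow_prime_eq hc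
    (MonoidAlgebra.single m (1 : R') - 1 : MonoidAlgebra R' M) 1
  have hc' : ((c : ℕ) : MonoidAlgebra R' M) = 0 := by
    have h1 : ((c : ℕ) : MonoidAlgebra R' M) = algebraMap R' (MonoidAlgebra R' M) (c : R') :=
      (map_natCast _ c).symm
    rw [h1, hc0, map_zero]
  rw [sub_add_cancel, hc', zero_mul, zero_mul, zero_mul, add_zero, one_pow,
    MonoidAlgebra.single_pow, hm, one_pow] at hr
  have h1 : (MonoidAlgebra.single (1 : M) (1 : R') : MonoidAlgebra R' M) = 1 := rfl
  rw [h1] at hr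
  exact add_eq_right.1 hr.symm

theorem tmul_single_sub_one_ne_zero (K' : Type u) [CommRing K'] [Algebra R' K'] [Nontrivial K']
    {m : M} (hm : m ≠ 1) :
    (1 : K') ⊗ₜ[R'] (MonoidAlgebra.single m (1 : R') - 1 : MonoidAlgebra R' M) ≠ 0 := by
  let b := (MonoidAlgebra.basis M R').baseChange K'
  have h1 : ∀ m' : M, b m' = (1 : K') ⊗ₜ[R'] (MonoidAlgebra.single m' (1 : R')) := by
    intro m'
    rw [Module.Basis.baseChange_apply, MonoidAlgebra.basis_apply]
  have h2 : (1 : K') ⊗ₜ[R'] (MonoidAlgebra.single m (1 : R') - 1 : MonoidAlgebra R' M) =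
      b m - b 1 := by
    rw [h1, h1, TensorProduct.tmul_sub]
    rfl
  rw [h2, sub_ne_zero]
  exact fun h => hm (b.injective h)

theorem eq_one_of_pow_eq_one_of_isReduced {B : Type u} [CommRing B] [Algebra R' B]
    (e : B ≃ₐ[R'] MonoidAlgebra R' M) (K' : Type u) [CommRing K'] [Algebra R' K'] [Nontrivial K']
    [IsReduced (K' ⊗[R'] B)] {c : ℕ} (hc : c.Prime) (hc0 : (c : R') = 0) {m : M}
    (hm : m ^ c = 1) : m = 1 := by
  by_contra hne
  have hz0 := single_sub_one_pow_eq_zero (R' := R') hc hc0 hm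
  have h1 : ((1 : K') ⊗ₜ[R'] (e.symm (MonoidAlgebra.single m (1 : R') - 1))) ^ c = 0 := by
    rw [Algebra.TensorProduct.tmul_pow, one_pow, ← map_pow, hz0, map_zero,
      TensorProduct.tmul_zero]
  have h2 : (1 : K') ⊗ₜ[R'] (e.symm (MonoidAlgebra.single m (1 : R') - 1)) = 0 :=
    IsReduced.eq_zero _ ⟨c, h1⟩
  have h3 := congrArg (LinearMap.lTensor K' e.toLinearMap) h2
  rw [LinearMap.lTensor_tmul, map_zero] at h3
  have h4 : e.toLinearMap (e.symm (MonoidAlgebra.single m (1 : R') - 1)) =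
      MonoidAlgebra.single m (1 : R') - 1 := e.apply_symm_apply _
  rw [h4] at h3
  exact tmul_single_sub_one_ne_zero K' hne h3

theorem eq_one_of_pow_eq_one_of_smooth {L : Type u} [CommRing L] [Algebra L R'] [Nontrivial R']
    {B : Type u} [CommRing B] [Algebra L B] [Algebra.Smooth L B]
    (e : (R' ⊗[L] B) ≃ₐ[R'] MonoidAlgebra R' M) {c : ℕ} (hc : c.Prime) (hc0 : (c : R') = 0)
    {m : M} (hm : m ^ c = 1) : m = 1 := by
  obtain ⟨𝔪, h𝔪⟩ := Ideal.exists_maximal R'
  have h𝔪p : 𝔪.IsPrime := h𝔪.isPrime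
  have hred : IsReduced ((R' ⧸ 𝔪) ⊗[R'] (R' ⊗[L] B)) := Groth.Agent.S9407.result (R' ⧸ 𝔪) _
  exact eq_one_of_pow_eq_one_of_isReduced e (R' ⧸ 𝔪) hc hc0 hm

end smooth

end Groth.Agent.H83.MultTors
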