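import Mathlib
import Groth.Prelude.Def_SGA3b
import Groth.Agent.H83.MultTors
import Groth.Agent.H83.MultTors2

/-!
# Quotients of groups of multiplicative type by torsion ideals (helper library)

* `nonempty_bialgEquiv_of_ker_eq`: two surjective bialgebra maps out of the same bialgebra with the same
  kernel have isomorphic targets (as bialgebras).
* `mem_torsionIdeal_of_mapDomain_eq_zero`: the kernel of `R[M] → R[M/Mⁿ]` is the `n`-torsion ideal.
* `triv_quot`: the `n`-th power map is trivial on `A ⧸ torsionIdeal n`.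
* `nonempty_equiv`: if `R' ⊗ (L ⊗ A) ≅ R'[M]` then `R' ⊗ (L ⊗ A/J) ≅ R'[M/Mⁿ]`, `J` the `n`-torsion ideal.
-/

set_option autoImplicit false

universe u

open TensorProduct WithConv

namespace Groth.Agent.H83.MultQuot

section Factor

variable {S B C D : Type u} [CommRing S] [CommRing B] [CommRing C] [CommRing D]
  [Bialgebra S B] [Bialgebra S C] [Bialgebra S D]

theorem nonempty_bialgEquiv_of_ker_eq (Ψ : B →ₐc[S] C) (Φ : B →ₐc[S] D)
    (hΨ : Function.Surjective Ψ) (hΦ : Function.Surjective Φ)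
    (hker : ∀ b : B, Ψ b = 0 ↔ Φ b = 0) : Nonempty (C ≃ₐc[S] D) := by
  have hΨ' : Function.Surjective (Ψ : B →ₐ[S] C) := hΨ
  have hΦ' : Function.Surjective (Φ : B →ₐ[S] D) := hΦ
  have hk : RingHom.ker (Ψ : B →ₐ[S] C) = RingHom.ker (Φ : B →ₐ[S] D) := by
    ext b
    exact hker b
  let θ : C ≃ₐ[S] D :=
    (Ideal.quotientKerAlgEquivOfSurjective hΨ').symm.trans
      ((Ideal.quotientEquivAlgOfEq S hk).trans (Ideal.quotientKerAlgEquivOfSurjective hΦ'))
  have hθ : ∀ b : B, θ (Ψ b) = Φ b := by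
    intro b
    show (Ideal.quotientKerAlgEquivOfSurjective hΦ')
      ((Ideal.quotientEquivAlgOfEq S hk)
        ((Ideal.quotientKerAlgEquivOfSurjective hΨ').symm ((Ψ : B →ₐ[S] C) b))) = Φ b
    rw [Ideal.quotientKerAlgEquivOfSurjective_symm_apply, Ideal.quotientEquivAlgOfEq_mk,
      Ideal.quotientKerAlgEquivOfSurjective_mk]
    rfl
  have hmap : ∀ z : B ⊗[S] B,
      Algebra.TensorProduct.map (θ : C →ₐ[S] D) (θ : C →ₐ[S] D)
        (TensorProduct.map (Ψ : B →ₗ[S] C) (Ψ : B →ₗ[S] C) z) =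
      TensorProduct.map (Φ : B →ₗ[S] D) (Φ : B →ₗ[S] D) z := by
    intro z
    induction z using TensorProduct.induction_on with
    | zero => simp
    | tmul x y =>
      rw [TensorProduct.map_tmul, TensorProduct.map_tmul, Algebra.TensorProduct.map_tmul]
      show (θ (Ψ x)) ⊗ₜ[S] (θ (Ψ y)) = (Φ x) ⊗ₜ[S] (Φ y)
      rw [hθ, hθ]
    | add a b ha hb => rw [map_add, map_add, map_add, ha, hb]
  refine ⟨BialgEquiv.ofAlgEquiv θ ?_ ?_⟩
  · apply AlgHom.ext
    intro c
    obtain ⟨b, rfl⟩ := hΨ c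
    show Coalgebra.counit (R := S) (θ (Ψ b)) = Coalgebra.counit (R := S) (Ψ b)
    rw [hθ, CoalgHomClass.counit_comp_apply, CoalgHomClass.counit_comp_apply]
  · apply AlgHom.ext
    intro c
    obtain ⟨b, rfl⟩ := hΨ c
    show Algebra.TensorProduct.map (θ : C →ₐ[S] D) (θ : C →ₐ[S] D)
        (Coalgebra.comul (R := S) (Ψ b)) = Coalgebra.comul (R := S) (θ (Ψ b))
    rw [hθ, ← CoalgHomClass.map_comp_comul_apply Ψ b, ← CoalgHomClass.map_comp_comul_apply Φ b]
    exact hmap _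

end Factor

section MapId

variable {R S : Type u} [CommRing R] [CommRing S] [Algebra R S]
  {B C : Type u} [CommRing B] [CommRing C] [Bialgebra R B] [Bialgebra R C]

theorem map_id_surjective (g : B →ₐc[R] C) (hg : Function.Surjective g) :
    Function.Surjective (Bialgebra.TensorProduct.map (BialgHom.id S S) g) := by
  intro y
  induction y using TensorProduct.induction_on with
  | zero => exact ⟨0, map_zero _⟩
  | tmul s c =>
    obtain ⟨b, rfl⟩ := hg c
    exact ⟨s ⊗ₜ[R] b, rfl⟩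
  | add y₁ y₂ h₁ h₂ =>
    obtain ⟨x₁, rfl⟩ := h₁
    obtain ⟨x₂, rfl⟩ := h₂
    exact ⟨x₁ + x₂, map_add _ _ _⟩

theorem map_id_eq (g : B →ₐc[R] C) (z : S ⊗[R] B) :
    Bialgebra.TensorProduct.map (BialgHom.id S S) g z =
      Algebra.TensorProduct.map (AlgHom.id R S) (g : B →ₐ[R] C) z := by
  induction z using TensorProduct.induction_on with
  | zero => simp
  | tmul s b => rfl
  | add a b ha hb => rw [map_add, map_add, ha, hb]

end MapId

section GroupAlg

variable {K : Type u} [CommRing K] {M : Type u} [CommGroup M]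

theorem single_pow_sub_one_mem (n : ℕ) (x : M) :
    (MonoidAlgebra.single (x ^ n) (1 : K) - 1 : MonoidAlgebra K M) ∈
      SGA3b.torsionIdeal K (MonoidAlgebra K M) n := by
  have hx : (MonoidAlgebra.single x (1 : K) - 1 : MonoidAlgebra K M) ∈
      RingHom.ker (Bialgebra.counitAlgHom K (MonoidAlgebra K M)) := by
    rw [RingHom.mem_ker, map_sub, map_one]
    show Coalgebra.counit (R := K) (MonoidAlgebra.single x (1 : K)) - 1 = 0
    rw [MonoidAlgebra.counit_single]
    simp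
  have h := Ideal.mem_map_of_mem (SGA3b.powConv K (MonoidAlgebra K M) n) hx
  rw [map_sub, map_one, MultTors.powConv_single] at h
  exact h

theorem mapDomain_surjective {N' : Type u} [CommGroup N'] (π : M →* N')
    (hπ : Function.Surjective π) :
    Function.Surjective (MonoidAlgebra.mapDomainAlgHom K K π) := by
  intro y
  induction y using MonoidAlgebra.induction_linear with
  | zero => exact ⟨0, map_zero _⟩
  | add f g hf hg =>
    obtain ⟨a, rfl⟩ := hf
    obtain ⟨b, rfl⟩ := hg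
    exact ⟨a + b, map_add _ _ _⟩
  | single q r =>
    obtain ⟨m, rfl⟩ := hπ q
    exact ⟨MonoidAlgebra.single m r, by
      rw [MonoidAlgebra.mapDomainAlgHom_apply, MonoidAlgebra.mapDomain_single]⟩

theorem mem_torsionIdeal_of_mapDomain_eq_zero (n : ℕ) {y : MonoidAlgebra K M}
    (hy : MonoidAlgebra.mapDomainAlgHom K K
      (QuotientGroup.mk' (powMonoidHom n : M →* M).range) y = 0) :
    y ∈ SGA3b.torsionIdeal K (MonoidAlgebra K M) n := by
  set I := SGA3b.torsionIdeal K (MonoidAlgebra K M) n with hI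
  let lam : M →* (MonoidAlgebra K M ⧸ I) :=
    ((Ideal.Quotient.mk I : MonoidAlgebra K M →+* MonoidAlgebra K M ⧸ I) :
      MonoidAlgebra K M →* MonoidAlgebra K M ⧸ I).comp (MonoidAlgebra.of K M)
  have hlam : (powMonoidHom n : M →* M).range ≤ lam.ker := by
    rintro _ ⟨x, rfl⟩
    rw [MonoidHom.mem_ker]
    show Ideal.Quotient.mk I (MonoidAlgebra.single (x ^ n) 1) = 1
    rw [← sub_eq_zero, ← map_one (Ideal.Quotient.mk I), ← map_sub,
      Ideal.Quotient.eq_zero_iff_mem]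
    exact single_pow_sub_one_mem n x
  let τ : MonoidAlgebra K (M ⧸ (powMonoidHom n : M →* M).range) →ₐ[K] (MonoidAlgebra K M ⧸ I) :=
    MonoidAlgebra.lift K _ _ (QuotientGroup.lift _ lam hlam)
  have hτ : τ.comp (MonoidAlgebra.mapDomainAlgHom K K
      (QuotientGroup.mk' (powMonoidHom n : M →* M).range)) = Ideal.Quotient.mkₐ K I := by
    refine MonoidAlgebra.algHom_ext (fun m => ?_) (Subsingleton.elim _ _)
    rw [AlgHom.comp_apply, MonoidAlgebra.mapDomainAlgHom_apply, MonoidAlgebra.mapDomain_single]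
    show MonoidAlgebra.lift K _ _ (QuotientGroup.lift _ lam hlam)
      (MonoidAlgebra.single (QuotientGroup.mk' _ m) 1) = _
    rw [MonoidAlgebra.lift_single, one_smul]
    rfl
  have h1 := congrArg (fun φ => φ y) hτ
  simp only [AlgHom.comp_apply] at h1
  rw [hy, map_zero] at h1
  exact Ideal.Quotient.eq_zero_iff_mem.1 h1.symm

end GroupAlg

section Quot

variable {R : Type u} [CommRing R] {A : Type u} [CommRing A] [HopfAlgebra R A]

theorem triv_quot (n : ℕ) (J : Ideal A) [J.IsHopfIdeal R] (hJ : J = SGA3b.torsionIdeal R A n)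
    (x : A ⧸ J) :
    SGA3b.powConv R (A ⧸ J) n x = algebraMap R (A ⧸ J) (Coalgebra.counit x) := by
  obtain ⟨a, rfl⟩ := Ideal.Quotient.mk_surjective x
  have h1 := MultTors.powConv_bialgHom (Bialgebra.Quotient.mkBialgHom (R := R) J) n a
  rw [Bialgebra.Quotient.mkBialgHom_apply, Bialgebra.Quotient.mkBialgHom_apply] at h1
  rw [← h1]
  have h2 : a - algebraMap R A (Coalgebra.counit a) ∈
      RingHom.ker (Bialgebra.counitAlgHom R A) := by
    rw [RingHom.mem_ker, map_sub, AlgHom.commutes]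
    show Coalgebra.counit a - algebraMap R R (Coalgebra.counit a) = 0
    simp
  have h3 : SGA3b.powConv R A n (a - algebraMap R A (Coalgebra.counit a)) ∈ J := by
    rw [hJ]
    exact Ideal.mem_map_of_mem _ h2
  rw [map_sub, AlgHom.commutes] at h3
  rw [(Ideal.Quotient.eq (I := J)).2 h3]
  rfl

end Quot

section Assembly

variable {R L R' : Type u} [CommRing R] [CommRing L] [CommRing R'] [Algebra R L] [Algebra L R']
  {A : Type u} [CommRing A] [HopfAlgebra R A] {M : Type u} [CommGroup M]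

theorem nonempty_equiv (n : ℕ) (J : Ideal A) [J.IsHopfIdeal R]
    (hJ : J = SGA3b.torsionIdeal R A n)
    (e : (R' ⊗[L] (L ⊗[R] A)) ≃ₐc[R'] MonoidAlgebra R' M) :
    Nonempty ((R' ⊗[L] (L ⊗[R] (A ⧸ J))) ≃ₐc[R']
      MonoidAlgebra R' (M ⧸ (powMonoidHom n : M →* M).range)) := by
  let Ψ₁ : L ⊗[R] A →ₐc[L] L ⊗[R] (A ⧸ J) :=
    Bialgebra.TensorProduct.map (BialgHom.id L L) (Bialgebra.Quotient.mkBialgHom (R := R) J)
  let Ψ₂ : R' ⊗[L] (L ⊗[R] A) →ₐc[R'] R' ⊗[L] (L ⊗[R] (A ⧸ J)) :=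
    Bialgebra.TensorProduct.map (BialgHom.id R' R') Ψ₁
  let Φ : R' ⊗[L] (L ⊗[R] A) →ₐc[R']
      MonoidAlgebra R' (M ⧸ (powMonoidHom n : M →* M).range) :=
    (MonoidAlgebra.mapDomainBialgHom R'
      (QuotientGroup.mk' (powMonoidHom n : M →* M).range)).comp e.toBialgHom
  have hΦapp : ∀ b, Φ b = MonoidAlgebra.mapDomainAlgHom R' R'
      (QuotientGroup.mk' (powMonoidHom n : M →* M).range) (e b) := fun b => rfl
  have hmk : Function.Surjective (Bialgebra.Quotient.mkBialgHom (R := R) J) :=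
    Ideal.Quotient.mk_surjective
  have hΨ₁surj : Function.Surjective Ψ₁ := map_id_surjective _ hmk
  have hΨ₂surj : Function.Surjective Ψ₂ := map_id_surjective _ hΨ₁surj
  have hΦsurj : Function.Surjective Φ := by
    intro y
    obtain ⟨z, rfl⟩ := mapDomain_surjective (K := R')
      (QuotientGroup.mk' (powMonoidHom n : M →* M).range) (QuotientGroup.mk'_surjective _) y
    obtain ⟨b, rfl⟩ := e.surjective z
    exact ⟨b, hΦapp b⟩
  -- elements of `J` die under `Φ`
  have hJle : ∀ x ∈ J, Φ ((1 : R') ⊗ₜ[L] ((1 : L) ⊗ₜ[R] x)) = 0 := by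
    intro x hx
    have hx' : x ∈ SGA3b.torsionIdeal R A n := hJ ▸ hx
    have h1 := MultTors.tmul_mem_torsionIdeal L hx'
    have h2 := MultTors.tmul_mem_torsionIdeal R' h1
    have h3 := MultTors.map_mem_torsionIdeal e.toBialgHom h2
    rw [hΦapp]
    exact MultTors.mapDomain_eq_zero n h3
  let incl₁ : A →ₐ[R] L ⊗[R] A := Algebra.TensorProduct.includeRight
  let incl₂ : (L ⊗[R] A) →ₐ[L] R' ⊗[L] (L ⊗[R] A) := Algebra.TensorProduct.includeRight
  let 𝔎 : Ideal (R' ⊗[L] (L ⊗[R] A)) :=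
    RingHom.ker (Φ : (R' ⊗[L] (L ⊗[R] A)) →ₐ[R']
      MonoidAlgebra R' (M ⧸ (powMonoidHom n : M →* M).range))
  have hA1 : ∀ h : L ⊗[R] A, Ψ₁ h = 0 → Φ ((1 : R') ⊗ₜ[L] h) = 0 := by
    intro h hh
    have hmem : h ∈ RingHom.ker
        (Algebra.TensorProduct.map (AlgHom.id R L) (Ideal.Quotient.mkₐ R J)) := by
      rw [RingHom.mem_ker]
      have := map_id_eq (S := L) (Bialgebra.Quotient.mkBialgHom (R := R) J) h
      exact this.symm.trans hh
    have hkJ : RingHom.ker (Ideal.Quotient.mkₐ R J) = J := by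
      ext z
      rw [RingHom.mem_ker]
      exact Ideal.Quotient.eq_zero_iff_mem
    rw [Algebra.TensorProduct.lTensor_ker (A := L) (g := Ideal.Quotient.mkₐ R J)
      (Ideal.Quotient.mkₐ_surjective R J), hkJ] at hmem
    have hle : J.map incl₁ ≤ Ideal.comap incl₂ 𝔎 := by
      rw [Ideal.map_le_iff_le_comap]
      intro x hx
      rw [Ideal.mem_comap, Ideal.mem_comap, RingHom.mem_ker]
      exact hJle x hx
    have h5 := hle hmem
    rw [Ideal.mem_comap, RingHom.mem_ker] at h5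
    exact h5
  have hA2 : ∀ b, Ψ₂ b = 0 → Φ b = 0 := by
    intro b hb
    have hmem : b ∈ RingHom.ker
        (Algebra.TensorProduct.map (AlgHom.id L R') (Ψ₁ : L ⊗[R] A →ₐ[L] L ⊗[R] (A ⧸ J))) := by
      rw [RingHom.mem_ker]
      have := map_id_eq (S := R') Ψ₁ b
      exact this.symm.trans hb
    rw [Algebra.TensorProduct.lTensor_ker (A := R')
      (g := (Ψ₁ : L ⊗[R] A →ₐ[L] L ⊗[R] (A ⧸ J))) hΨ₁surj] at hmem
    have hle : (RingHom.ker (Ψ₁ : L ⊗[R] A →ₐ[L] L ⊗[R] (A ⧸ J))).map incl₂ ≤ 𝔎 := by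
      rw [Ideal.map_le_iff_le_comap]
      intro h hh
      rw [Ideal.mem_comap, RingHom.mem_ker]
      exact hA1 h ((RingHom.mem_ker).1 hh)
    exact (RingHom.mem_ker).1 (hle hmem)
  have htrivq : ∀ z : R' ⊗[L] (L ⊗[R] (A ⧸ J)),
      SGA3b.powConv R' (R' ⊗[L] (L ⊗[R] (A ⧸ J))) n z =
        algebraMap R' (R' ⊗[L] (L ⊗[R] (A ⧸ J))) (Coalgebra.counit z) :=
    MultTors.triv_baseChange R' (MultTors.triv_baseChange L (triv_quot n J hJ))
  have hB : ∀ b, Φ b = 0 → Ψ₂ b = 0 := by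
    intro b hb
    rw [hΦapp] at hb
    have h1 : e b ∈ SGA3b.torsionIdeal R' (MonoidAlgebra R' M) n :=
      mem_torsionIdeal_of_mapDomain_eq_zero n hb
    have h2 := MultTors.map_mem_torsionIdeal e.symm.toBialgHom h1
    have h3 : e.symm.toBialgHom (e b) = b := e.symm_apply_apply b
    rw [h3] at h2
    have h4 := MultTors.map_mem_torsionIdeal (B := R' ⊗[L] (L ⊗[R] (A ⧸ J))) Ψ₂ h2
    rw [(MultTors.torsionIdeal_eq_bot_iff n).2 htrivq] at h4
    exact (Submodule.mem_bot _).1 h4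
  exact nonempty_bialgEquiv_of_ker_eq (B := R' ⊗[L] (L ⊗[R] A))
    (C := R' ⊗[L] (L ⊗[R] (A ⧸ J)))
    (D := MonoidAlgebra R' (M ⧸ (powMonoidHom n : M →* M).range)) Ψ₂ Φ hΨ₂surj hΦsurj
    (fun b => ⟨hA2 b, hB b⟩)

end Assembly

end Groth.Agent.H83.MultQuot
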