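import Mathlib
import Groth.Prelude.Def_SGA3b
import Groth.Agent.H83.MultQuot

/-!
# Group-like elements in groups of multiplicative type over a connected base (helper library)

* `mem_map_ann_of_smul_eq_zero`: flat base change of the annihilator of an element.
* `gl_coeff_mul`, `gl_smul_sub`: the coefficients of a group-like element of `S[M]` are orthogonal idempotents.
* `T`, `eps`: transfer of elements of `B` to `R'[M]` through a local trivialisation, and the coefficient at `1`.
* `eq_one_or_ann_eq_bot`: over a ring without nontrivial idempotents, a group-like element `h` of a Hopf algebra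
  of multiplicative type is `1` or `h - 1` has zero annihilator.
* `sum_eq_zero_of_sum_smul_eq_zero`: linear independence of distinct group-likes (grouped form).
* `mem_span_of_mapDomain_eq_zero`: kernel of `R[M] → R[M/N]`.
-/

set_option autoImplicit false

universe u

open TensorProduct

namespace Groth.Agent.H83.DiagSub

section FlatAnn

variable {L : Type u} [CommRing L] {N : Type u} [AddCommGroup N] [Module L N]

/-- The annihilator of an element, as an ideal. -/
def ann (b : N) : Ideal L := LinearMap.ker (LinearMap.toSpanSingleton L N b)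

theorem mem_ann {b : N} {r : L} : r ∈ ann b ↔ r • b = 0 := by
  unfold ann
  rw [LinearMap.mem_ker, LinearMap.toSpanSingleton_apply]

variable {R' : Type u} [CommRing R'] [Algebra L R'] [Module.Flat L R']

theorem mem_map_ann_of_smul_eq_zero (b : N) (ρ : R') (h : ρ • ((1 : R') ⊗ₜ[L] b) = 0) :
    ρ ∈ Ideal.map (algebraMap L R') (ann b) := by
  have hex : Function.Exact (ann b).subtype (LinearMap.toSpanSingleton L N b) := by
    intro r
    constructor
    · intro hr
      exact ⟨⟨r, hr⟩, rfl⟩
    · rintro ⟨⟨r', hr'⟩, rfl⟩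
      exact hr'
  have hex' := Module.Flat.lTensor_exact R' hex
  have h1 : (LinearMap.toSpanSingleton L N b).lTensor R' (ρ ⊗ₜ[L] (1 : L)) = 0 := by
    rw [LinearMap.lTensor_tmul, LinearMap.toSpanSingleton_apply, one_smul, ← h,
      TensorProduct.smul_tmul', smul_eq_mul, mul_one]
  obtain ⟨t, ht⟩ := (hex' _).1 h1
  have key : ∀ t : R' ⊗[L] (ann b),
      TensorProduct.rid L R' ((ann b).subtype.lTensor R' t) ∈
        Ideal.map (algebraMap L R') (ann b) := by
    intro t
    induction t using TensorProduct.induction_on with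
    | zero => simp
    | tmul r a =>
      rw [LinearMap.lTensor_tmul, TensorProduct.rid_tmul, Submodule.subtype_apply,
        Algebra.smul_def]
      exact Ideal.mul_mem_right _ _ (Ideal.mem_map_of_mem _ a.2)
    | add t t' h h' =>
      rw [map_add, map_add]
      exact Ideal.add_mem _ h h'
  have h2 := key t
  rw [ht, TensorProduct.rid_tmul, one_smul] at h2
  exact h2

end FlatAnn

section GLcoeff

variable {S : Type u} [CommRing S] {M : Type u} [CommGroup M]

/-- The coefficient at `μ`, as a linear form. -/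
noncomputable def lc (μ : M) : MonoidAlgebra S M →ₗ[S] S :=
  (Finsupp.lapply μ) ∘ₗ (MonoidAlgebra.coeffLinearEquiv S).toLinearMap

theorem lc_apply (μ : M) (x : MonoidAlgebra S M) : lc μ x = x.coeff μ := rfl

/-- The coefficient at `μ ⊗ ν`, as a linear form on the tensor square. -/
noncomputable def Lam (μ ν : M) : MonoidAlgebra S M ⊗[S] MonoidAlgebra S M →ₗ[S] S :=
  LinearMap.mul' S S ∘ₗ TensorProduct.map (lc μ) (lc ν)

theorem Lam_tmul (μ ν : M) (x y : MonoidAlgebra S M) :
    Lam μ ν (x ⊗ₜ[S] y) = x.coeff μ * y.coeff ν := by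
  simp [Lam, lc_apply]

theorem Lam_comul [DecidableEq M] (μ ν : M) (x : MonoidAlgebra S M) :
    Lam μ ν (Coalgebra.comul (R := S) x) = if μ = ν then x.coeff μ else 0 := by
  induction x using MonoidAlgebra.induction_linear with
  | zero => simp
  | add x y hx hy =>
    rw [map_add, map_add, hx, hy, MonoidAlgebra.coeff_add, Finsupp.add_apply]
    split_ifs <;> simp
  | single m r =>
    rw [MonoidAlgebra.comul_single, CommSemiring.comul_apply, TensorProduct.map_tmul,
      MonoidAlgebra.lsingle_apply, MonoidAlgebra.lsingle_apply, Lam_tmul,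
      MonoidAlgebra.coeff_single, MonoidAlgebra.coeff_single, Finsupp.single_apply,
      Finsupp.single_apply]
    split_ifs <;> simp_all

theorem gl_coeff_mul [DecidableEq M] {x : MonoidAlgebra S M} (hx : IsGroupLikeElem S x) (μ ν : M) :
    x.coeff μ * x.coeff ν = if μ = ν then x.coeff μ else 0 := by
  rw [← Lam_tmul, ← hx.comul_eq_tmul_self, Lam_comul]

theorem gl_coeff_idem {x : MonoidAlgebra S M} (hx : IsGroupLikeElem S x) :
    x.coeff 1 * x.coeff 1 = x.coeff 1 := by
  classical
  rw [gl_coeff_mul hx, if_pos rfl]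

theorem gl_smul_sub {x : MonoidAlgebra S M} (hx : IsGroupLikeElem S x) :
    x.coeff 1 • (x - 1) = 0 := by
  classical
  rw [smul_sub, sub_eq_zero]
  apply MonoidAlgebra.coeff_injective
  ext μ
  rw [MonoidAlgebra.coeff_smul, MonoidAlgebra.coeff_smul, Finsupp.smul_apply, Finsupp.smul_apply,
    smul_eq_mul, smul_eq_mul, gl_coeff_mul hx, MonoidAlgebra.one_def, MonoidAlgebra.coeff_single,
    Finsupp.single_apply]
  split_ifs with h
  · rw [mul_one]
  · rw [mul_zero]

end GLcoeff

section Tensor

variable {R L : Type u} [CommRing R] [CommRing L] [Algebra R L]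
  {B : Type u} [CommRing B] [HopfAlgebra R B]

theorem gl_tmul {h : B} (hh : IsGroupLikeElem R h) : IsGroupLikeElem L ((1 : L) ⊗ₜ[R] h) := by
  refine ⟨?_, ?_⟩
  · rw [TensorProduct.counit_tmul, hh.counit_eq_one, CommSemiring.counit_apply, one_smul]
  · rw [TensorProduct.comul_tmul, hh.comul_eq_tmul_self, CommSemiring.comul_apply]
    simp

end Tensor

section Local

variable {R L R' : Type u} [CommRing R] [CommRing L] [CommRing R'] [Algebra R L] [Algebra L R']
  {B : Type u} [CommRing B] [HopfAlgebra R B] {M : Type u} [CommGroup M]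
  (e : (R' ⊗[L] (L ⊗[R] B)) ≃ₐc[R'] MonoidAlgebra R' M)

/-- Transfer of an element of `B` to `R'[M]`. -/
noncomputable def T (b : B) : MonoidAlgebra R' M := e ((1 : R') ⊗ₜ[L] ((1 : L) ⊗ₜ[R] b))

/-- The composite `R → L → R'`. -/
noncomputable def rho (r : R) : R' := algebraMap L R' (algebraMap R L r)

theorem T_add (b b' : B) : T e (b + b') = T e b + T e b' := by
  unfold T
  rw [TensorProduct.tmul_add, TensorProduct.tmul_add, map_add]

theorem T_sub (b b' : B) : T e (b - b') = T e b - T e b' := by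
  unfold T
  rw [TensorProduct.tmul_sub, TensorProduct.tmul_sub, map_sub]

theorem T_zero : T e (0 : B) = 0 := by
  unfold T
  rw [TensorProduct.tmul_zero, TensorProduct.tmul_zero, map_zero]

theorem T_one : T e (1 : B) = 1 := by
  unfold T
  exact map_one e

theorem T_sum {ι : Type u} (s : Finset ι) (f : ι → B) : T e (∑ i ∈ s, f i) = ∑ i ∈ s, T e (f i) := by
  classical
  induction s using Finset.induction_on with
  | empty => simp [T_zero]
  | insert a s ha ih => rw [Finset.sum_insert ha, Finset.sum_insert ha, T_add, ih]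

theorem tmul_smul_eq (r : R) (b : B) :
    (1 : R') ⊗ₜ[L] ((1 : L) ⊗ₜ[R] (r • b)) =
      rho (L := L) (R' := R') r • ((1 : R') ⊗ₜ[L] ((1 : L) ⊗ₜ[R] b)) := by
  unfold rho
  rw [TensorProduct.tmul_smul, ← algebraMap_smul L r ((1 : L) ⊗ₜ[R] b), TensorProduct.tmul_smul,
    ← algebraMap_smul R' (algebraMap R L r) ((1 : R') ⊗ₜ[L] ((1 : L) ⊗ₜ[R] b))]

theorem T_smul (r : R) (b : B) : T e (r • b) = rho (L := L) (R' := R') r • T e b := by
  unfold T
  rw [tmul_smul_eq, map_smul]

theorem T_gl {h : B} (hh : IsGroupLikeElem R h) : IsGroupLikeElem R' (T e h) :=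
  (gl_tmul (L := R') (gl_tmul (L := L) hh)).map e

/-- The coefficient at `1` of the transfer. -/
noncomputable def eps (h : B) : R' := (T e h).coeff 1

theorem eps_one : eps e (1 : B) = 1 := by
  unfold eps
  rw [T_one, MonoidAlgebra.coeff_one_one]

theorem eps_idem {h : B} (hh : IsGroupLikeElem R h) : eps e h * eps e h = eps e h :=
  gl_coeff_idem (T_gl e hh)

theorem rho_mul_eps {h : B} {a : R} (ha : a • (h - 1) = 0) :
    rho (L := L) (R' := R') a * eps e h = rho (L := L) (R' := R') a := by
  have h1 : T e (a • (h - 1)) = 0 := by rw [ha, T_zero]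
  rw [T_smul, T_sub, T_one] at h1
  have h2 := congrArg (fun y : MonoidAlgebra R' M => y.coeff 1) h1
  simp only [MonoidAlgebra.coeff_smul, Finsupp.smul_apply, smul_eq_mul, MonoidAlgebra.coeff_zero,
    Finsupp.zero_apply] at h2
  have h3 : (T e h - 1).coeff 1 = eps e h - 1 := by
    show (MonoidAlgebra.coeffAddEquiv (T e h - 1)) 1 = _
    rw [map_sub]
    show (T e h).coeff 1 - (1 : MonoidAlgebra R' M).coeff 1 = _
    rw [MonoidAlgebra.coeff_one_one]
    rfl
  rw [h3, mul_sub, mul_one, sub_eq_zero] at h2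
  exact h2

variable [Module.Flat R L] [Module.Flat L R']

theorem eps_mem {h : B} (hh : IsGroupLikeElem R h) :
    eps e h ∈ ((ann (L := R) (h - 1)).map (algebraMap R L)).map (algebraMap L R') := by
  have h1 : eps e h • (T e h - 1) = 0 := gl_smul_sub (T_gl e hh)
  have h2 : eps e h • ((1 : R') ⊗ₜ[L] ((1 : L) ⊗ₜ[R] (h - 1))) = 0 := by
    have this : e ((1 : R') ⊗ₜ[L] ((1 : L) ⊗ₜ[R] (h - 1))) = T e h - 1 := by
      rw [← T_one e, ← T_sub]
      rfl
    have h0 : e (eps e h • ((1 : R') ⊗ₜ[L] ((1 : L) ⊗ₜ[R] (h - 1)))) = e 0 := by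
      rw [map_smul, map_zero, this]
      exact h1
    exact EquivLike.injective e h0
  have h3 := mem_map_ann_of_smul_eq_zero (L := L) (R' := R') ((1 : L) ⊗ₜ[R] (h - 1)) (eps e h) h2
  have hle : ann (L := L) ((1 : L) ⊗ₜ[R] (h - 1)) ≤ (ann (L := R) (h - 1)).map (algebraMap R L) := by
    intro ρ hρ
    exact mem_map_ann_of_smul_eq_zero (L := R) (R' := L) (h - 1) ρ (mem_ann.1 hρ)
  exact Ideal.map_mono hle h3

theorem map_map_ann_eq {h : B} (hh : IsGroupLikeElem R h) :
    ((ann (L := R) (h - 1)).map (algebraMap R L)).map (algebraMap L R') = Ideal.span {eps e h} := by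
  apply le_antisymm
  · rw [Ideal.map_le_iff_le_comap, Ideal.map_le_iff_le_comap]
    intro a ha
    rw [Ideal.mem_comap, Ideal.mem_comap, Ideal.mem_span_singleton']
    exact ⟨rho (L := L) (R' := R') a, rho_mul_eps e (mem_ann.1 ha)⟩
  · rw [Ideal.span_le, Set.singleton_subset_iff]
    exact eps_mem e hh

end Local

section Global

variable {R : Type u} [CommRing R] {B : Type u} [CommRing B] [HopfAlgebra R B]

theorem eq_one_or_ann_eq_bot (hconn : ∀ e : R, IsIdempotentElem e → e = 0 ∨ e = 1)
    (hB : SGA3b.IsMultType R B) {h : B} (hh : IsGroupLikeElem R h) :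
    h = 1 ∨ ann (L := R) (h - 1) = ⊥ := by
  obtain ⟨s, hs, hloc⟩ := hB
  have hfg : (ann (L := R) (h - 1)).FG := by
    refine Ideal.fg_of_localizationSpan s hs (fun g => ?_)
    obtain ⟨R', _, _, hff, M, _, ⟨e⟩⟩ := hloc g.1 g.2
    have := hff
    apply Ideal.FG.of_FG_map_of_faithfullyFlat (S := R')
    rw [map_map_ann_eq e hh]
    exact ⟨{eps e h}, by simp⟩
  have hidem : IsIdempotentElem (ann (L := R) (h - 1)) := by
    apply le_antisymm Ideal.mul_le_right
    intro a ha
    apply Submodule.mem_of_span_eq_top_of_smul_pow_mem _ s hs a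
    intro g
    obtain ⟨R', _, _, hff, M, _, ⟨e⟩⟩ := hloc g.1 g.2
    have := hff
    have h1 : algebraMap (Localization.Away g.1) R' (algebraMap R (Localization.Away g.1) a) ∈
        ((ann (L := R) (h - 1) * ann (L := R) (h - 1)).map
          (algebraMap R (Localization.Away g.1))).map (algebraMap (Localization.Away g.1) R') := by
      rw [Ideal.map_mul, Ideal.map_mul, map_map_ann_eq e hh,
        Ideal.span_singleton_mul_span_singleton, eps_idem e hh, ← map_map_ann_eq e hh]
      exact Ideal.mem_map_of_mem _ (Ideal.mem_map_of_mem _ ha)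
    have h2 : algebraMap R (Localization.Away g.1) a ∈
        (ann (L := R) (h - 1) * ann (L := R) (h - 1)).map
          (algebraMap R (Localization.Away g.1)) := by
      rw [← Ideal.comap_map_eq_self_of_faithfullyFlat (B := R')
        ((ann (L := R) (h - 1) * ann (L := R) (h - 1)).map (algebraMap R (Localization.Away g.1)))]
      exact h1
    rw [IsLocalization.mem_map_algebraMap_iff (Submonoid.powers g.1) (Localization.Away g.1)] at h2
    obtain ⟨⟨⟨c, hc⟩, ⟨_, n, rfl⟩⟩, hcn⟩ := h2
    have h3 : algebraMap R (Localization.Away g.1) (a * g.1 ^ n) =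
        algebraMap R (Localization.Away g.1) c := by
      rw [map_mul]
      exact hcn
    obtain ⟨⟨_, m, rfl⟩, hm⟩ :=
      (IsLocalization.eq_iff_exists (Submonoid.powers g.1) (Localization.Away g.1)).1 h3
    refine ⟨m + n, ?_⟩
    have h4 : (g.1 ^ (m + n)) • a = g.1 ^ m * c := by
      rw [smul_eq_mul, pow_add, mul_assoc, mul_comm (g.1 ^ n) a]
      exact hm
    rw [h4]
    exact Ideal.mul_mem_left _ _ hc
  obtain ⟨e₀, he₀, h𝔞⟩ := (Ideal.isIdempotentElem_iff_of_fg _ hfg).1 hidem
  rcases hconn e₀ he₀ with rfl | rfl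
  · right
    rw [h𝔞]
    simp
  · left
    have h1 : (1 : R) ∈ ann (L := R) (h - 1) := by
      rw [h𝔞]
      exact Ideal.mem_span_singleton_self 1
    have h2 := mem_ann.1 h1
    rw [one_smul] at h2
    exact sub_eq_zero.1 h2

/-- Grouped linear independence of group-like elements. -/
theorem sum_eq_zero_of_sum_smul_eq_zero (hconn : ∀ e : R, IsIdempotentElem e → e = 0 ∨ e = 1)
    (hB : SGA3b.IsMultType R B) {M₀ : Type u} [Group M₀] (g : M₀ →* B)
    (hgl : ∀ m, IsGroupLikeElem R (g m)) (S : Finset M₀) (c : M₀ → R)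
    (hc : ∑ m ∈ S, c m • g m = 0) (m₀ : M₀) (S' : Finset M₀) (hS' : S' ⊆ S)
    (hmem : ∀ m ∈ S, (m ∈ S' ↔ g m = g m₀)) : ∑ m ∈ S', c m = 0 := by
  have hB' := hB
  obtain ⟨s, hs, hloc⟩ := hB
  have hc' : ∑ m ∈ S, c m • g (m * m₀⁻¹) = 0 := by
    have : ∑ m ∈ S, c m • g (m * m₀⁻¹) = (∑ m ∈ S, c m • g m) * g m₀⁻¹ := by
      rw [Finset.sum_mul]
      refine Finset.sum_congr rfl fun m _ => ?_
      rw [map_mul, smul_mul_assoc]
    rw [this, hc, zero_mul]
  have hiff : ∀ m, g (m * m₀⁻¹) = 1 ↔ g m = g m₀ := by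
    intro m
    have hinv : g m₀⁻¹ * g m₀ = 1 := by rw [← map_mul, inv_mul_cancel, map_one]
    have hinv' : g m₀ * g m₀⁻¹ = 1 := by rw [← map_mul, mul_inv_cancel, map_one]
    constructor
    · intro h1
      rw [map_mul] at h1
      calc g m = g m * (g m₀⁻¹ * g m₀) := by rw [hinv, mul_one]
        _ = (g m * g m₀⁻¹) * g m₀ := by rw [mul_assoc]
        _ = g m₀ := by rw [h1, one_mul]
    · intro h1
      rw [map_mul, h1, hinv']
  apply (Submodule.mem_bot R).1
  apply Submodule.mem_of_span_eq_top_of_smul_pow_mem ⊥ s hs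
  intro f
  obtain ⟨R', _, _, hff, M, _, ⟨e⟩⟩ := hloc f.1 f.2
  have := hff
  -- the key computation in `R'`
  have hrho : rho (L := Localization.Away f.1) (R' := R') (∑ m ∈ S', c m) = 0 := by
    have h1 : T e (∑ m ∈ S, c m • g (m * m₀⁻¹)) = 0 := by rw [hc', T_zero]
    rw [T_sum] at h1
    have h2 := congrArg (fun y : MonoidAlgebra R' M => y.coeff 1) h1
    simp only [MonoidAlgebra.coeff_sum, Finsupp.finsetSum_apply, T_smul, MonoidAlgebra.coeff_smul,
      Finsupp.smul_apply, smul_eq_mul, MonoidAlgebra.coeff_zero, Finsupp.zero_apply] at h2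
    have h3 : ∑ m ∈ S, rho (L := Localization.Away f.1) (R' := R') (c m) *
        (T e (g (m * m₀⁻¹))).coeff 1 =
        ∑ m ∈ S', rho (L := Localization.Away f.1) (R' := R') (c m) := by
      rw [← Finset.sum_subset hS' (fun m hm hm' => ?_)]
      · refine Finset.sum_congr rfl fun m hm => ?_
        have h4 : g (m * m₀⁻¹) = 1 := (hiff m).2 ((hmem m (hS' hm)).1 hm)
        rw [h4]
        show _ * eps e (1 : B) = _
        rw [eps_one, mul_one]
      · have h4 : g (m * m₀⁻¹) ≠ 1 := fun h5 => hm' ((hmem m hm).2 ((hiff m).1 h5))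
        rcases eq_one_or_ann_eq_bot hconn hB' (hgl (m * m₀⁻¹)) with h5 | h5
        · exact absurd h5 h4
        · have h6 := eps_mem e (hgl (m * m₀⁻¹))
          rw [h5, Ideal.map_bot, Ideal.map_bot] at h6
          show _ * eps e (g (m * m₀⁻¹)) = 0
          rw [(Submodule.mem_bot _).1 h6, mul_zero]
    rw [h3] at h2
    unfold rho
    rw [map_sum, map_sum]
    exact h2
  have h5 : algebraMap R (Localization.Away f.1) (∑ m ∈ S', c m) = 0 := by
    apply FaithfulSMul.algebraMap_injective (Localization.Away f.1) R'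
    rw [map_zero]
    exact hrho
  obtain ⟨⟨_, n, rfl⟩, hn⟩ :=
    (IsLocalization.map_eq_zero_iff (Submonoid.powers f.1) (Localization.Away f.1) _).1 h5
  exact ⟨n, by rw [Submodule.mem_bot, smul_eq_mul]; exact hn⟩

end Global

section KerMap

variable {K : Type u} [CommRing K] {M : Type u} [CommGroup M]

theorem mem_span_of_mapDomain_eq_zero (N : Subgroup M) {y : MonoidAlgebra K M}
    (hy : MonoidAlgebra.mapDomainAlgHom K K (QuotientGroup.mk' N) y = 0) :
    y ∈ Ideal.span (Set.range fun m : N => (MonoidAlgebra.single (m : M) (1 : K) - 1 :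
      MonoidAlgebra K M)) := by
  set I := Ideal.span (Set.range fun m : N => (MonoidAlgebra.single (m : M) (1 : K) - 1 :
      MonoidAlgebra K M)) with hI
  let lam : M →* (MonoidAlgebra K M ⧸ I) :=
    ((Ideal.Quotient.mk I : MonoidAlgebra K M →+* MonoidAlgebra K M ⧸ I) :
      MonoidAlgebra K M →* MonoidAlgebra K M ⧸ I).comp (MonoidAlgebra.of K M)
  have hlam : N ≤ lam.ker := by
    intro x hx
    rw [MonoidHom.mem_ker]
    show Ideal.Quotient.mk I (MonoidAlgebra.single x 1) = 1
    rw [← sub_eq_zero, ← map_one (Ideal.Quotient.mk I), ← map_sub,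
      Ideal.Quotient.eq_zero_iff_mem]
    exact Ideal.subset_span ⟨⟨x, hx⟩, rfl⟩
  let τ : MonoidAlgebra K (M ⧸ N) →ₐ[K] (MonoidAlgebra K M ⧸ I) :=
    MonoidAlgebra.lift K _ _ (QuotientGroup.lift _ lam hlam)
  have hτ : τ.comp (MonoidAlgebra.mapDomainAlgHom K K (QuotientGroup.mk' N)) =
      Ideal.Quotient.mkₐ K I := by
    refine MonoidAlgebra.algHom_ext (fun m => ?_) (Subsingleton.elim _ _)
    rw [AlgHom.comp_apply, MonoidAlgebra.mapDomainAlgHom_apply, MonoidAlgebra.mapDomain_single]
    show MonoidAlgebra.lift K _ _ (QuotientGroup.lift _ lam hlam)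
      (MonoidAlgebra.single (QuotientGroup.mk' _ m) 1) = _
    rw [MonoidAlgebra.lift_single, one_smul]
    rfl
  have h1 := congrArg (fun φ => φ y) hτ
  simp only [AlgHom.comp_apply] at h1
  rw [hy, map_zero] at h1
  exact Ideal.Quotient.eq_zero_iff_mem.1 h1.symm

end KerMap

end Groth.Agent.H83.DiagSub
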