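import Mathlib
import Groth.Prelude.Def_SGA3b
import Groth.Agent.H83.DiagSub

/-!
# Lifting across nil ideals for groups of multiplicative type: general tools (helper83)

* `map_mem_smul_top`, `mul_mem_smul_top`, `mul_mem_smul_top_mul`, `map_smul_top_le`: calculus of `I • ⊤`.
* `cancelBialg` (after helper62): `R' ⊗[L] (L ⊗[k] Q) ≃ₐc[R'] R' ⊗[k] Q`.
* `eq_zero_of_fpqc`, `eq_zero_of_isMultType`: an element of an `R`-module is zero if it dies in `K ⊗[R] -`
  for every flat `R`-algebra `K` trivialising a Hopf algebra `A` of multiplicative type.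
* `tau`, `Xi`, `tau2`: transfer of `A`, `A ⊗ A` to a trivialisation `K ⊗[R] A ≃ₐc K[N]`.
-/

set_option autoImplicit false

universe u

open TensorProduct

namespace Groth.Agent.H83.NilLift

section SmulTop

variable {K : Type*} [CommRing K]

theorem map_mem_smul_top {E E' : Type*} [AddCommGroup E] [Module K E] [AddCommGroup E']
    [Module K E'] (J : Ideal K) (φ : E →ₗ[K] E') {x : E} (hx : x ∈ J • (⊤ : Submodule K E)) :
    φ x ∈ J • (⊤ : Submodule K E') := by
  refine Submodule.smul_induction_on hx ?_ ?_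
  · intro r hr n _
    rw [map_smul]
    exact Submodule.smul_mem_smul hr Submodule.mem_top
  · intro a b ha hb
    rw [map_add]
    exact Submodule.add_mem _ ha hb

theorem mul_mem_smul_top {E : Type*} [CommRing E] [Algebra K E] (J : Ideal K) (y : E) {x : E}
    (hx : x ∈ J • (⊤ : Submodule K E)) : y * x ∈ J • (⊤ : Submodule K E) :=
  map_mem_smul_top J (LinearMap.mulLeft K y) hx

theorem mul_mem_smul_top_mul {E : Type*} [CommRing E] [Algebra K E] {J J' : Ideal K} {x y : E}
    (hx : x ∈ J • (⊤ : Submodule K E)) (hy : y ∈ J' • (⊤ : Submodule K E)) :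
    x * y ∈ (J * J') • (⊤ : Submodule K E) := by
  refine Submodule.smul_induction_on hx ?_ ?_
  · intro r hr n _
    refine Submodule.smul_induction_on hy ?_ ?_
    · intro r' hr' n' _
      rw [smul_mul_smul_comm]
      exact Submodule.smul_mem_smul (Ideal.mul_mem_mul hr hr') Submodule.mem_top
    · intro a b ha hb
      rw [mul_add]
      exact Submodule.add_mem _ ha hb
  · intro a b ha hb
    rw [add_mul]
    exact Submodule.add_mem _ ha hb

theorem pow_smul_top_le {E : Type*} [AddCommGroup E] [Module K E] (J : Ideal K) {k l : ℕ}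
    (h : k ≤ l) : (J ^ l) • (⊤ : Submodule K E) ≤ (J ^ k) • (⊤ : Submodule K E) :=
  Submodule.smul_mono_left (Ideal.pow_le_pow_right h)

theorem map_smul_top_le {R : Type*} [CommRing R] [Algebra R K] {E : Type*} [AddCommGroup E]
    [Module K E] (𝔞 : Ideal R) (S : Submodule K E)
    (h : ∀ i ∈ 𝔞, ∀ y : E, algebraMap R K i • y ∈ S) :
    (𝔞.map (algebraMap R K)) • (⊤ : Submodule K E) ≤ S := by
  rw [Submodule.smul_le]
  intro j hj y _
  have hj' : j ∈ Submodule.span K ((algebraMap R K) '' (𝔞 : Set R)) := hj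
  have key : ∀ y : E, j • y ∈ S := by
    refine Submodule.span_induction (p := fun j _ => ∀ y : E, j • y ∈ S) ?_ ?_ ?_ ?_ hj'
    · rintro _ ⟨i, hi, rfl⟩ y
      exact h i hi y
    · intro y
      rw [zero_smul]
      exact S.zero_mem
    · intro a b _ _ ha hb y
      rw [add_smul]
      exact S.add_mem (ha y) (hb y)
    · intro c a _ ha y
      rw [smul_eq_mul, mul_comm, mul_smul]
      exact ha (c • y)
  exact key y

theorem isNilpotent_of_mem_map {R : Type*} [CommRing R] [Algebra R K] {I : Ideal R}
    (hI : ∀ x ∈ I, IsNilpotent x) : ∀ x ∈ I.map (algebraMap R K), IsNilpotent x := by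
  intro x hx
  have hle : I.map (algebraMap R K) ≤ nilradical K := by
    rw [Ideal.map_le_iff_le_comap]
    intro i hi
    rw [Ideal.mem_comap, mem_nilradical]
    exact (hI i hi).map (algebraMap R K)
  exact mem_nilradical.1 (hle hx)

end SmulTop

section Cancel

variable (k : Type*) (L : Type*) (R' : Type*) (Q : Type*) [CommRing k] [CommRing L] [CommRing R']
  [Algebra k L] [Algebra L R'] [Algebra k R'] [IsScalarTower k L R'] [CommRing Q] [Bialgebra k Q]

theorem comul_aux (t : Q ⊗[k] Q) :
    TensorProduct.map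
        (Algebra.TensorProduct.cancelBaseChange k L R' R' Q).toLinearMap
        (Algebra.TensorProduct.cancelBaseChange k L R' R' Q).toLinearMap
      (TensorProduct.AlgebraTensorModule.tensorTensorTensorComm L R' L R' R' R' (L ⊗[k] Q) (L ⊗[k] Q)
        (((1 : R') ⊗ₜ[R'] (1 : R')) ⊗ₜ[L]
          TensorProduct.AlgebraTensorModule.tensorTensorTensorComm k L k L L L Q Q
            (((1 : L) ⊗ₜ[L] (1 : L)) ⊗ₜ[k] t))) =
      TensorProduct.AlgebraTensorModule.tensorTensorTensorComm k R' k R' R' R' Q Q
        (((1 : R') ⊗ₜ[R'] (1 : R')) ⊗ₜ[k] t) := by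
  induction t using TensorProduct.induction_on with
  | zero =>
    rw [TensorProduct.tmul_zero, LinearEquiv.map_zero, TensorProduct.tmul_zero,
      LinearEquiv.map_zero, LinearMap.map_zero, TensorProduct.tmul_zero, LinearEquiv.map_zero]
  | tmul a b =>
    simp
  | add x y hx hy =>
    rw [TensorProduct.tmul_add, LinearEquiv.map_add, TensorProduct.tmul_add,
      LinearEquiv.map_add, LinearMap.map_add, hx, hy, TensorProduct.tmul_add, LinearEquiv.map_add]

/-- Cancelling an intermediate base change, as an isomorphism of bialgebras (after helper62). -/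
noncomputable def cancelBialg : R' ⊗[L] (L ⊗[k] Q) ≃ₐc[R'] R' ⊗[k] Q :=
  BialgEquiv.ofAlgEquiv (Algebra.TensorProduct.cancelBaseChange k L R' R' Q)
    (by
      apply Algebra.TensorProduct.ext
      · ext
      · apply Algebra.TensorProduct.ext
        · ext
        · ext q
          simp [TensorProduct.counit_tmul]
          rw [Algebra.smul_def, Algebra.smul_def, mul_one, mul_one,
            ← IsScalarTower.algebraMap_apply])
    (by
      apply Algebra.TensorProduct.ext
      · ext
      · apply Algebra.TensorProduct.ext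
        · ext
        · ext q
          have := comul_aux k L R' Q (CoalgebraStruct.comul (R := k) q)
          simp
          exact this)

end Cancel

section Fpqc

theorem eq_zero_of_fpqc {R : Type u} [CommRing R] {Q : Type u} [AddCommGroup Q] [Module R Q]
    (s : Set R) (hs : Ideal.span s = ⊤) (x : Q)
    (h : ∀ f ∈ s, ∃ (R' : Type u) (_ : CommRing R') (_ : Algebra (Localization.Away f) R'),
      Module.FaithfullyFlat (Localization.Away f) R' ∧
      (1 : R') ⊗ₜ[Localization.Away f] ((1 : Localization.Away f) ⊗ₜ[R] x) = 0) : x = 0 := by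
  have hx : x ∈ (⊥ : Submodule R Q) := by
    apply Submodule.mem_of_span_eq_top_of_smul_pow_mem _ s hs x
    intro f
    obtain ⟨R', _, _, hff, h0⟩ := h f.1 f.2
    have := hff
    have hinj := Module.FaithfullyFlat.tensorProduct_mk_injective (A := Localization.Away f.1)
      (B := R') (Localization.Away f.1 ⊗[R] Q)
    have h1 : (1 : Localization.Away f.1) ⊗ₜ[R] x = 0 := by
      apply hinj
      rw [map_zero, TensorProduct.mk_apply]
      exact h0
    have h2 : (TensorProduct.mk R (Localization.Away f.1) Q 1) x = 0 := h1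
    obtain ⟨⟨_, j, rfl⟩, hj⟩ := (IsLocalizedModule.eq_zero_iff (Submonoid.powers f.1)
      (TensorProduct.mk R (Localization.Away f.1) Q 1)).1 h2
    have hj' : f.1 ^ j • x = 0 := hj
    exact ⟨j, (Submodule.mem_bot R).2 hj'⟩
  exact (Submodule.mem_bot R).1 hx

theorem eq_zero_of_isMultType {R : Type u} [CommRing R] {A : Type u} [CommRing A] [HopfAlgebra R A]
    (h : SGA3b.IsMultType R A) {Q : Type u} [AddCommGroup Q] [Module R Q] (x : Q)
    (H : ∀ (K : Type u) [CommRing K] [Algebra R K] [Module.Flat R K] (N : Type u) [CommGroup N]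
      (_ : (K ⊗[R] A) ≃ₐc[K] MonoidAlgebra K N), (1 : K) ⊗ₜ[R] x = 0) : x = 0 := by
  obtain ⟨s, hs, hloc⟩ := h
  apply eq_zero_of_fpqc s hs x
  intro f hf
  obtain ⟨R', _, _, hff, N, _, ⟨e₀⟩⟩ := hloc f hf
  refine ⟨R', inferInstance, inferInstance, hff, ?_⟩
  letI : Algebra R R' := Algebra.compHom R' (algebraMap R (Localization.Away f))
  haveI : IsScalarTower R (Localization.Away f) R' := IsScalarTower.of_algebraMap_eq (fun x => rfl)
  haveI := hff
  haveI : Module.Flat R (Localization.Away f) :=
    IsLocalization.flat (Localization.Away f) (Submonoid.powers f)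
  haveI : Module.Flat R R' := Module.Flat.trans R (Localization.Away f) R'
  have h1 := H R' N ((cancelBialg R (Localization.Away f) R' A).symm.trans e₀)
  apply (TensorProduct.AlgebraTensorModule.cancelBaseChange R (Localization.Away f) R' R' Q).injective
  rw [map_zero, TensorProduct.AlgebraTensorModule.cancelBaseChange_tmul, one_smul]
  exact h1

end Fpqc

section Transfer

variable {R K : Type u} [CommRing R] [CommRing K] [Algebra R K] {A : Type u} [CommRing A]
  [HopfAlgebra R A] {N : Type u} [CommGroup N] (e : (K ⊗[R] A) ≃ₐc[K] MonoidAlgebra K N)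

/-- Transfer of an element of `A` to `K[N]`. -/
noncomputable def tau (a : A) : MonoidAlgebra K N := e ((1 : K) ⊗ₜ[R] a)

theorem tau_add (a a' : A) : tau e (a + a') = tau e a + tau e a' := by
  unfold tau
  rw [TensorProduct.tmul_add, map_add]

theorem tau_sub (a a' : A) : tau e (a - a') = tau e a - tau e a' := by
  unfold tau
  rw [TensorProduct.tmul_sub, map_sub]

theorem tau_zero : tau e (0 : A) = 0 := by
  unfold tau
  rw [TensorProduct.tmul_zero, map_zero]

theorem tau_one : tau e (1 : A) = 1 := by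
  unfold tau
  exact map_one e

theorem tau_mul (a a' : A) : tau e (a * a') = tau e a * tau e a' := by
  unfold tau
  rw [← map_mul, Algebra.TensorProduct.tmul_mul_tmul, mul_one]

theorem tau_smul (r : R) (a : A) : tau e (r • a) = algebraMap R K r • tau e a := by
  unfold tau
  rw [TensorProduct.tmul_smul, ← algebraMap_smul K r ((1 : K) ⊗ₜ[R] a), map_smul]

theorem tau_sum {ι : Type*} (s : Finset ι) (f : ι → A) :
    tau e (∑ i ∈ s, f i) = ∑ i ∈ s, tau e (f i) := by
  classical
  induction s using Finset.induction_on with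
  | empty => simp [tau_zero]
  | insert a s ha ih => rw [Finset.sum_insert ha, Finset.sum_insert ha, tau_add, ih]

theorem tau_gl {g : A} (hg : IsGroupLikeElem R g) : IsGroupLikeElem K (tau e g) :=
  (DiagSub.gl_tmul (L := K) hg).map e

theorem tau_counit (a : A) :
    Coalgebra.counit (R := K) (tau e a) = algebraMap R K (Coalgebra.counit (R := R) a) := by
  unfold tau
  rw [CoalgHomClass.counit_comp_apply, TensorProduct.counit_tmul, CommSemiring.counit_apply,
    Algebra.smul_def, mul_one]

theorem tau_mem (I : Ideal R) {a : A} (ha : a ∈ I • (⊤ : Submodule R A)) :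
    tau e a ∈ (I.map (algebraMap R K)) • (⊤ : Submodule K (MonoidAlgebra K N)) := by
  refine Submodule.smul_induction_on ha ?_ ?_
  · intro r hr n _
    rw [tau_smul]
    exact Submodule.smul_mem_smul (Ideal.mem_map_of_mem _ hr) Submodule.mem_top
  · intro x y hx hy
    rw [tau_add]
    exact Submodule.add_mem _ hx hy

theorem apply_tmul (k : K) (a : A) : e (k ⊗ₜ[R] a) = k • tau e a := by
  unfold tau
  rw [← map_smul, TensorProduct.smul_tmul', smul_eq_mul, mul_one]

/-- `K[N]` is spanned over `K` by the transfers. -/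
theorem mem_of_forall_tau (S : Submodule K (MonoidAlgebra K N)) (h : ∀ a, tau e a ∈ S)
    (b : MonoidAlgebra K N) : b ∈ S := by
  obtain ⟨w, rfl⟩ := EquivLike.surjective e b
  induction w using TensorProduct.induction_on with
  | zero =>
    rw [map_zero]
    exact S.zero_mem
  | tmul k a =>
    rw [apply_tmul]
    exact S.smul_mem _ (h a)
  | add x y hx hy =>
    rw [map_add]
    exact S.add_mem hx hy

/-- The identification `K ⊗ (A ⊗ A) ≃ K[N] ⊗ K[N]`. -/
noncomputable def Xi : K ⊗[R] (A ⊗[R] A) ≃ₗ[K] MonoidAlgebra K N ⊗[K] MonoidAlgebra K N :=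
  (TensorProduct.AlgebraTensorModule.distribBaseChange R K A A) ≪≫ₗ
    (TensorProduct.congr e.toCoalgEquiv.toLinearEquiv e.toCoalgEquiv.toLinearEquiv)

theorem Xi_tmul (k : K) (x y : A) :
    Xi e (k ⊗ₜ[R] (x ⊗ₜ[R] y)) = k • (tau e x ⊗ₜ[K] tau e y) := by
  unfold Xi
  rw [LinearEquiv.trans_apply, TensorProduct.AlgebraTensorModule.distribBaseChange_tmul,
    TensorProduct.congr_tmul]
  show e (k ⊗ₜ[R] x) ⊗ₜ[K] e ((1 : K) ⊗ₜ[R] y) = _
  rw [apply_tmul, TensorProduct.smul_tmul']
  rfl

/-- Transfer of an element of `A ⊗ A` to `K[N] ⊗ K[N]`. -/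
noncomputable def tau2 (t : A ⊗[R] A) : MonoidAlgebra K N ⊗[K] MonoidAlgebra K N :=
  Xi e ((1 : K) ⊗ₜ[R] t)

theorem tau2_tmul (x y : A) : tau2 e (x ⊗ₜ[R] y) = tau e x ⊗ₜ[K] tau e y := by
  unfold tau2
  rw [Xi_tmul, one_smul]

theorem tau2_add (s t : A ⊗[R] A) : tau2 e (s + t) = tau2 e s + tau2 e t := by
  unfold tau2
  rw [TensorProduct.tmul_add, map_add]

theorem tau2_sub (s t : A ⊗[R] A) : tau2 e (s - t) = tau2 e s - tau2 e t := by
  unfold tau2
  rw [TensorProduct.tmul_sub, map_sub]

theorem tau2_zero : tau2 e (0 : A ⊗[R] A) = 0 := by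
  unfold tau2
  rw [TensorProduct.tmul_zero, map_zero]

theorem tau2_smul (r : R) (t : A ⊗[R] A) : tau2 e (r • t) = algebraMap R K r • tau2 e t := by
  unfold tau2
  rw [TensorProduct.tmul_smul, ← algebraMap_smul K r ((1 : K) ⊗ₜ[R] t), map_smul]

theorem tau2_one : tau2 e (1 : A ⊗[R] A) = 1 := by
  rw [Algebra.TensorProduct.one_def, tau2_tmul, tau_one, Algebra.TensorProduct.one_def]

theorem tau2_mul (s t : A ⊗[R] A) : tau2 e (s * t) = tau2 e s * tau2 e t := by
  induction s using TensorProduct.induction_on with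
  | zero => rw [zero_mul, tau2_zero, zero_mul]
  | tmul x y =>
    induction t using TensorProduct.induction_on with
    | zero => rw [mul_zero, tau2_zero, mul_zero]
    | tmul x' y' =>
      rw [Algebra.TensorProduct.tmul_mul_tmul, tau2_tmul, tau2_tmul, tau2_tmul, tau_mul, tau_mul,
        Algebra.TensorProduct.tmul_mul_tmul]
    | add t t' ht ht' => rw [mul_add, tau2_add, tau2_add, mul_add, ht, ht']
  | add s s' hs hs' => rw [add_mul, tau2_add, tau2_add, add_mul, hs, hs']

theorem Xi_tmul' (k : K) (t : A ⊗[R] A) : Xi e (k ⊗ₜ[R] t) = k • tau2 e t := by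
  unfold tau2
  rw [← map_smul, TensorProduct.smul_tmul', smul_eq_mul, mul_one]

theorem comul_one_tmul (a : A) :
    Coalgebra.comul (R := K) ((1 : K) ⊗ₜ[R] a) =
      TensorProduct.AlgebraTensorModule.distribBaseChange R K A A
        ((1 : K) ⊗ₜ[R] Coalgebra.comul (R := R) a) := by
  rw [TensorProduct.comul_tmul, CommSemiring.comul_apply]
  generalize Coalgebra.comul (R := R) a = t
  induction t using TensorProduct.induction_on with
  | zero => simp
  | tmul x y => simp
  | add x y hx hy =>
    rw [TensorProduct.tmul_add, map_add, hx, hy, TensorProduct.tmul_add, map_add]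

theorem tau2_comul (a : A) :
    tau2 e (Coalgebra.comul (R := R) a) = Coalgebra.comul (R := K) (tau e a) := by
  unfold tau2 tau Xi
  rw [LinearEquiv.trans_apply, ← comul_one_tmul, ← CoalgHomClass.map_comp_comul_apply]
  rfl

theorem tau2_mem (I : Ideal R) {t : A ⊗[R] A} (ht : t ∈ I • (⊤ : Submodule R (A ⊗[R] A))) :
    tau2 e t ∈ (I.map (algebraMap R K)) •
      (⊤ : Submodule K (MonoidAlgebra K N ⊗[K] MonoidAlgebra K N)) := by
  refine Submodule.smul_induction_on ht ?_ ?_
  · intro r hr n _
    rw [tau2_smul]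
    exact Submodule.smul_mem_smul (Ideal.mem_map_of_mem _ hr) Submodule.mem_top
  · intro x y hx hy
    rw [tau2_add]
    exact Submodule.add_mem _ hx hy

/-- `K[N] ⊗ K[N]` is spanned over `K` by the transfers. -/
theorem mem_of_forall_tau2 (S : Submodule K (MonoidAlgebra K N ⊗[K] MonoidAlgebra K N))
    (h : ∀ t, tau2 e t ∈ S) (y : MonoidAlgebra K N ⊗[K] MonoidAlgebra K N) : y ∈ S := by
  obtain ⟨w, rfl⟩ := (Xi e).surjective y
  induction w using TensorProduct.induction_on with
  | zero =>
    rw [map_zero]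
    exact S.zero_mem
  | tmul k t =>
    rw [Xi_tmul']
    exact S.smul_mem _ (h t)
  | add x y hx hy =>
    rw [map_add]
    exact S.add_mem hx hy

end Transfer

end Groth.Agent.H83.NilLift
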