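import Mathlib
import Groth.Prelude.Def_SGA3b
import Groth.Agent.H83.NilLiftA
import Groth.Agent.H83.MultQuot

/-!
# Kernels of homomorphisms of groups of multiplicative type, part A: base change of trivialisations
-/

set_option autoImplicit false

universe u

open TensorProduct

namespace Groth.Agent.H83.KerMult

section Tensor

variable (K K' : Type u) [CommRing K] [CommRing K'] [Algebra K K']

/-- Base change of an isomorphism of bialgebras. -/
noncomputable def lTensorBialgEquiv {B D : Type u} [CommRing B] [CommRing D] [Bialgebra K B]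
    [Bialgebra K D] (e : B ≃ₐc[K] D) : (K' ⊗[K] B) ≃ₐc[K'] (K' ⊗[K] D) :=
  BialgEquiv.ofBialgHom (Bialgebra.TensorProduct.map (BialgHom.id K' K') e.toBialgHom)
    (Bialgebra.TensorProduct.map (BialgHom.id K' K') e.symm.toBialgHom)
    (by
      apply BialgHom.ext
      intro z
      induction z using TensorProduct.induction_on with
      | zero => simp
      | tmul k d =>
        show Bialgebra.TensorProduct.map (BialgHom.id K' K') e.toBialgHom
          (Bialgebra.TensorProduct.map (BialgHom.id K' K') e.symm.toBialgHom (k ⊗ₜ d)) = k ⊗ₜ d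
        rw [Bialgebra.TensorProduct.map_tmul, Bialgebra.TensorProduct.map_tmul]
        show k ⊗ₜ[K] e (e.symm d) = k ⊗ₜ d
        rw [e.apply_symm_apply]
      | add a b ha hb => rw [map_add, map_add, ha, hb])
    (by
      apply BialgHom.ext
      intro z
      induction z using TensorProduct.induction_on with
      | zero => simp
      | tmul k d =>
        show Bialgebra.TensorProduct.map (BialgHom.id K' K') e.symm.toBialgHom
          (Bialgebra.TensorProduct.map (BialgHom.id K' K') e.toBialgHom (k ⊗ₜ d)) = k ⊗ₜ d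
        rw [Bialgebra.TensorProduct.map_tmul, Bialgebra.TensorProduct.map_tmul]
        show k ⊗ₜ[K] e.symm (e d) = k ⊗ₜ d
        rw [e.symm_apply_apply]
      | add a b ha hb => rw [map_add, map_add, ha, hb])

theorem lTensorBialgEquiv_tmul {B D : Type u} [CommRing B] [CommRing D] [Bialgebra K B]
    [Bialgebra K D] (e : B ≃ₐc[K] D) (k : K') (b : B) :
    lTensorBialgEquiv K K' e (k ⊗ₜ b) = k ⊗ₜ e b := rfl

/-- `K' ⊗[K] K[M] ≃ K'[M]` as bialgebras. -/
noncomputable def scalarBialgEquiv (M : Type u) [CommGroup M] :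
    (K' ⊗[K] MonoidAlgebra K M) ≃ₐc[K'] MonoidAlgebra K' M :=
  BialgEquiv.ofAlgEquiv (MonoidAlgebra.scalarTensorEquiv K K')
    (by
      apply Algebra.TensorProduct.ext
      · ext
      · apply MonoidAlgebra.algHom_ext
        · intro m
          simp [MonoidAlgebra.scalarTensorEquiv_tmul]
        · ext)
    (by
      apply Algebra.TensorProduct.ext
      · ext
      · apply MonoidAlgebra.algHom_ext
        · intro m
          simp [MonoidAlgebra.scalarTensorEquiv_tmul]
        · ext)

theorem scalarBialgEquiv_tmul (M : Type u) [CommGroup M] (k : K') (x : MonoidAlgebra K M) :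
    scalarBialgEquiv K K' M (k ⊗ₜ x) =
      k • MonoidAlgebra.mapRingHom M (algebraMap K K') x := by
  show MonoidAlgebra.scalarTensorEquiv K K' (k ⊗ₜ x) = _
  rw [MonoidAlgebra.scalarTensorEquiv_tmul]
  rfl

end Tensor

section BC

variable {R : Type u} [CommRing R] {A : Type u} [CommRing A] [Bialgebra R A]
  {K K' : Type u} [CommRing K] [CommRing K'] [Algebra R K] [Algebra R K']

theorem mapRingHom_smul {M : Type u} [CommGroup M] (ρ : K →+* K') (c : K)
    (x : MonoidAlgebra K M) :
    MonoidAlgebra.mapRingHom M ρ (c • x) = ρ c • MonoidAlgebra.mapRingHom M ρ x := by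
  apply MonoidAlgebra.coeff_injective
  ext m
  rw [MonoidAlgebra.coeff_mapRingHom, MonoidAlgebra.coeff_smul, Finsupp.smul_apply,
    MonoidAlgebra.coeff_smul, Finsupp.smul_apply, MonoidAlgebra.coeff_mapRingHom, smul_eq_mul,
    smul_eq_mul, map_mul]

/-- Base change of a trivialisation along a ring map `ρ : K → K'` of `R`-algebras. -/
theorem exists_baseChange (ρ : K →+* K') (hρ : ∀ r : R, ρ (algebraMap R K r) = algebraMap R K' r)
    {M : Type u} [CommGroup M] (e : (K ⊗[R] A) ≃ₐc[K] MonoidAlgebra K M) :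
    ∃ e' : (K' ⊗[R] A) ≃ₐc[K'] MonoidAlgebra K' M,
      ∀ (k : K) (a : A), e' (ρ k ⊗ₜ[R] a) = MonoidAlgebra.mapRingHom M ρ (e (k ⊗ₜ[R] a)) := by
  let _ : Algebra K K' := ρ.toAlgebra
  have : IsScalarTower R K K' := IsScalarTower.of_algebraMap_eq (fun r => (hρ r).symm)
  refine ⟨((NilLift.cancelBialg R K K' A).symm.trans (lTensorBialgEquiv K K' e)).trans
    (scalarBialgEquiv K K' M), ?_⟩
  intro k a
  show scalarBialgEquiv K K' M (lTensorBialgEquiv K K' e
    ((NilLift.cancelBialg R K K' A).symm (ρ k ⊗ₜ[R] a))) = _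
  have h0 : NilLift.cancelBialg R K K' A ((1 : K') ⊗ₜ[K] (k ⊗ₜ[R] a)) = ρ k ⊗ₜ[R] a := by
    show Algebra.TensorProduct.cancelBaseChange R K K' K' A ((1 : K') ⊗ₜ[K] (k ⊗ₜ[R] a)) = _
    rw [Algebra.TensorProduct.cancelBaseChange_tmul, Algebra.smul_def, mul_one]
    rfl
  have h1 : (NilLift.cancelBialg R K K' A).symm (ρ k ⊗ₜ[R] a) =
      (1 : K') ⊗ₜ[K] (k ⊗ₜ[R] a) := by
    rw [← h0, BialgEquiv.symm_apply_apply]
  rw [h1, lTensorBialgEquiv_tmul, scalarBialgEquiv_tmul, one_smul]
  rfl

/-- `ρ` as a map of `R`-algebras. -/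
def toAlgHom (ρ : K →+* K') (hρ : ∀ r : R, ρ (algebraMap R K r) = algebraMap R K' r) :
    K →ₐ[R] K' := { ρ with commutes' := hρ }

theorem baseChange_apply (ρ : K →+* K') (hρ : ∀ r : R, ρ (algebraMap R K r) = algebraMap R K' r)
    {M : Type u} [CommGroup M] (e : (K ⊗[R] A) ≃ₐc[K] MonoidAlgebra K M)
    (e' : (K' ⊗[R] A) ≃ₐc[K'] MonoidAlgebra K' M)
    (he' : ∀ (k : K) (a : A),
      e' (ρ k ⊗ₜ[R] a) = MonoidAlgebra.mapRingHom M ρ (e (k ⊗ₜ[R] a)))
    (z : K ⊗[R] A) :
    e' (Algebra.TensorProduct.map (toAlgHom ρ hρ) (AlgHom.id R A) z) =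
      MonoidAlgebra.mapRingHom M ρ (e z) := by
  induction z using TensorProduct.induction_on with
  | zero => simp
  | tmul k a =>
    rw [Algebra.TensorProduct.map_tmul]
    exact he' k a
  | add x y hx hy => rw [map_add, map_add, map_add, map_add, hx, hy]

end BC

end Groth.Agent.H83.KerMult
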