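import Mathlib
import Groth.Prelude.Def_SGA3b
import Groth.Agent.H83.KerMultA
import Groth.Agent.H83.DiagSub

/-!
# Kernels of homomorphisms of groups of multiplicative type, part B: gluing a trivialisation of the kernel
-/

set_option autoImplicit false

universe u

open TensorProduct

namespace Groth.Agent.H83.KerMult

section TrivDef

variable (R : Type u) [CommRing R] (A C : Type u) [CommRing A] [CommRing C]
  [HopfAlgebra R A] [HopfAlgebra R C]

/-- Simultaneous trivialisations of `A` and `C` over an `R`-algebra `K`. -/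
structure Triv (K : Type u) [CommRing K] [Algebra R K] (M P : Type u) [CommGroup M]
    [CommGroup P] where
  /-- trivialisation of `A` -/
  eA : (K ⊗[R] A) ≃ₐc[K] MonoidAlgebra K M
  /-- trivialisation of `C` -/
  eC : (K ⊗[R] C) ≃ₐc[K] MonoidAlgebra K P

end TrivDef

section Gam

variable {R : Type u} [CommRing R] {A C : Type u} [CommRing A] [CommRing C]
  [HopfAlgebra R A] [HopfAlgebra R C] (φ : C →ₐc[R] A)

/-- Base change of `φ`. -/
noncomputable def phiK (K : Type u) [CommRing K] [Algebra R K] : K ⊗[R] C →ₐc[K] K ⊗[R] A :=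
  Bialgebra.TensorProduct.map (BialgHom.id K K) φ

theorem phiK_tmul (K : Type u) [CommRing K] [Algebra R K] (k : K) (c : C) :
    phiK φ K (k ⊗ₜ[R] c) = k ⊗ₜ[R] φ c := rfl

variable {K : Type u} [CommRing K] [Algebra R K] {M P : Type u} [CommGroup M] [CommGroup P]

/-- The image of `e_p` under `φ`, transported to `K[M]`. -/
noncomputable def Triv.gam (t : Triv R A C K M P) (p : P) : MonoidAlgebra K M :=
  t.eA (phiK φ K (t.eC.symm (MonoidAlgebra.single p 1)))

theorem Triv.gam_gl (t : Triv R A C K M P) (p : P) : IsGroupLikeElem K (t.gam φ p) :=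
  (((MonoidAlgebra.isGroupLikeElem_single_one (R := K) (A := K) p).map t.eC.symm).map
    (phiK φ K)).map t.eA

theorem Triv.gam_one (t : Triv R A C K M P) : t.gam φ 1 = 1 := by
  unfold Triv.gam
  rw [← MonoidAlgebra.one_def, map_one, map_one, map_one]

theorem Triv.gam_mul (t : Triv R A C K M P) (p p' : P) :
    t.gam φ (p * p') = t.gam φ p * t.gam φ p' := by
  unfold Triv.gam
  rw [← map_mul, ← map_mul, ← map_mul, MonoidAlgebra.single_mul_single, one_mul]

theorem phiK_natural {K' : Type u} [CommRing K'] [Algebra R K'] (ρ : K →+* K')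
    (hρ : ∀ r : R, ρ (algebraMap R K r) = algebraMap R K' r) (z : K ⊗[R] C) :
    phiK φ K' (Algebra.TensorProduct.map (toAlgHom ρ hρ) (AlgHom.id R C) z) =
      Algebra.TensorProduct.map (toAlgHom ρ hρ) (AlgHom.id R A) (phiK φ K z) := by
  induction z using TensorProduct.induction_on with
  | zero => simp
  | tmul k c => rfl
  | add x y hx hy => rw [map_add, map_add, map_add, map_add, hx, hy]

theorem Triv.exists_push (t : Triv R A C K M P) {K' : Type u} [CommRing K'] [Algebra R K']
    (ρ : K →+* K') (hρ : ∀ r : R, ρ (algebraMap R K r) = algebraMap R K' r) :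
    ∃ t' : Triv R A C K' M P,
      ∀ p, t'.gam φ p = MonoidAlgebra.mapRingHom M ρ (t.gam φ p) := by
  obtain ⟨eA', hA'⟩ := exists_baseChange ρ hρ t.eA
  obtain ⟨eC', hC'⟩ := exists_baseChange ρ hρ t.eC
  refine ⟨⟨eA', eC'⟩, fun p => ?_⟩
  have hz : eC' (Algebra.TensorProduct.map (toAlgHom ρ hρ) (AlgHom.id R C)
      (t.eC.symm (MonoidAlgebra.single p 1))) = MonoidAlgebra.single p 1 := by
    rw [baseChange_apply ρ hρ t.eC eC' hC', BialgEquiv.apply_symm_apply,
      MonoidAlgebra.mapRingHom_single, map_one]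
  have h1 : eC'.symm (MonoidAlgebra.single p 1) =
      Algebra.TensorProduct.map (toAlgHom ρ hρ) (AlgHom.id R C)
        (t.eC.symm (MonoidAlgebra.single p 1)) := by
    rw [← hz, BialgEquiv.symm_apply_apply]
  show eA' (phiK φ K' (eC'.symm (MonoidAlgebra.single p 1))) = _
  rw [h1, phiK_natural, baseChange_apply ρ hρ t.eA eA' hA']
  rfl

end Gam

section Sum

variable {S : Type u} [CommRing S] {N : Type u} [CommGroup N] {ι : Type u} [Fintype ι]

theorem idem_of_ortho (ε : ι → S) (hortho : ∀ i j, i ≠ j → ε i * ε j = 0)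
    (hsum : ∑ i, ε i = 1) (i : ι) : ε i * ε i = ε i := by
  classical
  have h1 : ε i * ∑ j, ε j = ε i := by rw [hsum, mul_one]
  rw [Finset.mul_sum, Finset.sum_eq_single i (fun j _ hj => hortho i j (Ne.symm hj))
    (fun h => absurd (Finset.mem_univ i) h)] at h1
  exact h1

theorem sum_mul_smul {E : Type u} [AddCommGroup E] [Module S E] (ε : ι → S)
    (hortho : ∀ i j, i ≠ j → ε i * ε j = 0) (hsum : ∑ i, ε i = 1) (i : ι) (x : ι → E) :
    ∑ j, (ε i * ε j) • x j = ε i • x i := by
  classical
  rw [Finset.sum_eq_single i]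
  · rw [idem_of_ortho ε hortho hsum]
  · intro j _ hj
    rw [hortho i j (Ne.symm hj), zero_smul]
  · intro h
    exact absurd (Finset.mem_univ i) h

theorem isGroupLikeElem_sum (ε : ι → S) (hortho : ∀ i j, i ≠ j → ε i * ε j = 0)
    (hsum : ∑ i, ε i = 1) (n : ι → N) :
    IsGroupLikeElem S (∑ i, ε i • (MonoidAlgebra.single (n i) (1 : S) : MonoidAlgebra S N)) := by
  classical
  have hgl : ∀ i, IsGroupLikeElem S (MonoidAlgebra.single (n i) (1 : S) : MonoidAlgebra S N) :=
    fun i => MonoidAlgebra.isGroupLikeElem_single_one (R := S) (A := S) (n i)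
  constructor
  · rw [map_sum]
    have : ∀ i ∈ Finset.univ, Coalgebra.counit (R := S)
        (ε i • (MonoidAlgebra.single (n i) (1 : S) : MonoidAlgebra S N)) = ε i := by
      intro i _
      rw [map_smul, (hgl i).counit_eq_one, smul_eq_mul, mul_one]
    rw [Finset.sum_congr rfl this, hsum]
  · rw [map_sum, TensorProduct.sum_tmul]
    refine Finset.sum_congr rfl fun i _ => ?_
    rw [map_smul, (hgl i).comul_eq_tmul_self, TensorProduct.tmul_sum]
    have : ∀ j ∈ Finset.univ,
        (ε i • (MonoidAlgebra.single (n i) (1 : S) : MonoidAlgebra S N)) ⊗ₜ[S]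
          (ε j • (MonoidAlgebra.single (n j) (1 : S) : MonoidAlgebra S N)) =
        (ε i * ε j) • ((MonoidAlgebra.single (n i) (1 : S) : MonoidAlgebra S N) ⊗ₜ[S]
          (MonoidAlgebra.single (n j) (1 : S) : MonoidAlgebra S N)) := by
      intro j _
      rw [TensorProduct.smul_tmul_smul]
    rw [Finset.sum_congr rfl this,
      sum_mul_smul ε hortho hsum i (fun j =>
        (MonoidAlgebra.single (n i) (1 : S) : MonoidAlgebra S N) ⊗ₜ[S]
          (MonoidAlgebra.single (n j) (1 : S) : MonoidAlgebra S N))]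

end Sum

section Glue

variable {R : Type u} [CommRing R] {A C : Type u} [CommRing A] [CommRing C]
  [HopfAlgebra R A] [HopfAlgebra R C] (φ : C →ₐc[R] A)
  {S : Type u} [CommRing S] [Algebra R S] {M P N : Type u} [CommGroup M] [CommGroup P]
  [CommGroup N] {ι : Type u} [Fintype ι]

/-- The glued monoid map `m ↦ ∑ εᵢ e_{νᵢ m}`. -/
noncomputable def glueHom (ε : ι → S) (hortho : ∀ i j, i ≠ j → ε i * ε j = 0)
    (hsum : ∑ i, ε i = 1) (ν : ι → (M →* N)) : M →* MonoidAlgebra S N where
  toFun m := ∑ i, ε i • (MonoidAlgebra.single (ν i m) (1 : S) : MonoidAlgebra S N)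
  map_one' := by
    simp only [map_one]
    rw [← Finset.sum_smul, hsum, one_smul, MonoidAlgebra.one_def]
  map_mul' m m' := by
    classical
    rw [Finset.sum_mul_sum]
    refine Finset.sum_congr rfl fun i _ => ?_
    have h1 : ∀ j ∈ Finset.univ,
        (ε i • (MonoidAlgebra.single (ν i m) (1 : S) : MonoidAlgebra S N)) *
          (ε j • (MonoidAlgebra.single (ν j m') (1 : S) : MonoidAlgebra S N)) =
        (ε i * ε j) • (MonoidAlgebra.single (ν i m * ν j m') (1 : S) : MonoidAlgebra S N) := by
      intro j _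
      rw [smul_mul_smul_comm, MonoidAlgebra.single_mul_single, mul_one]
    rw [Finset.sum_congr rfl h1, sum_mul_smul ε hortho hsum i
      (fun j => (MonoidAlgebra.single (ν i m * ν j m') (1 : S) : MonoidAlgebra S N)), map_mul]

theorem glueHom_apply (ε : ι → S) (hortho : ∀ i j, i ≠ j → ε i * ε j = 0)
    (hsum : ∑ i, ε i = 1) (ν : ι → (M →* N)) (m : M) :
    glueHom ε hortho hsum ν m =
      ∑ i, ε i • (MonoidAlgebra.single (ν i m) (1 : S) : MonoidAlgebra S N) := rfl

theorem glue_key (ε : ι → S) (hortho : ∀ i j, i ≠ j → ε i * ε j = 0)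
    (hsum : ∑ i, ε i = 1) (ν : ι → (M →* N)) (i : ι) (y : MonoidAlgebra S M) :
    ε i • MonoidAlgebra.lift S (MonoidAlgebra S N) M (glueHom ε hortho hsum ν) y =
      ε i • MonoidAlgebra.mapDomainAlgHom S S (ν i) y := by
  classical
  induction y using MonoidAlgebra.induction_linear with
  | zero => simp
  | add x y hx hy => rw [map_add, map_add, smul_add, smul_add, hx, hy]
  | single m r =>
    rw [MonoidAlgebra.lift_single, glueHom_apply, MonoidAlgebra.mapDomainAlgHom_apply,
      MonoidAlgebra.mapDomain_single, smul_comm, Finset.smul_sum]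
    have h1 : ∀ j ∈ Finset.univ,
        ε i • ε j • (MonoidAlgebra.single (ν j m) (1 : S) : MonoidAlgebra S N) =
        (ε i * ε j) • (MonoidAlgebra.single (ν j m) (1 : S) : MonoidAlgebra S N) :=
      fun j _ => by rw [smul_smul]
    rw [Finset.sum_congr rfl h1, sum_mul_smul ε hortho hsum i
      (fun j => (MonoidAlgebra.single (ν j m) (1 : S) : MonoidAlgebra S N)), smul_comm,
      MonoidAlgebra.smul_single, smul_eq_mul, mul_one]

theorem glue (t : Triv R A C S M P) (ε : ι → S)
    (hortho : ∀ i j, i ≠ j → ε i * ε j = 0) (hsum : ∑ i, ε i = 1)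
    (f : ι → (P →* M))
    (hrel : ∀ i p, ε i • t.gam φ p =
      ε i • (MonoidAlgebra.single (f i p) (1 : S) : MonoidAlgebra S M))
    (κ : ∀ i, (M ⧸ (f i).range) ≃* N)
    (J : Ideal A) [J.IsHopfIdeal R]
    (hJ : J = Ideal.map φ (RingHom.ker (Bialgebra.counitAlgHom R C))) :
    Nonempty ((S ⊗[R] (A ⧸ J)) ≃ₐc[S] MonoidAlgebra S N) := by
  classical
  let ν : ι → (M →* N) := fun i => (κ i).toMonoidHom.comp (QuotientGroup.mk' (f i).range)
  have hνapp : ∀ i m, ν i m = κ i (QuotientGroup.mk' (f i).range m) := fun i m => rfl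
  have hνf : ∀ i p, ν i (f i p) = 1 := by
    intro i p
    have h1 : (QuotientGroup.mk' (f i).range) (f i p) = 1 :=
      (QuotientGroup.eq_one_iff _).2 (MonoidHom.mem_range.2 ⟨p, rfl⟩)
    rw [hνapp, h1, map_one]
  have hνsurj : ∀ i, Function.Surjective (ν i) := by
    intro i n
    obtain ⟨q, rfl⟩ := (κ i).surjective n
    obtain ⟨m, rfl⟩ := QuotientGroup.mk'_surjective (f i).range q
    exact ⟨m, rfl⟩
  let g := glueHom ε hortho hsum ν
  let G₀ : MonoidAlgebra S M →ₐ[S] MonoidAlgebra S N := MonoidAlgebra.lift S _ M g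
  have hG₀ : ∀ m, G₀ (MonoidAlgebra.single m 1) = g m := by
    intro m
    show MonoidAlgebra.lift S _ M g (MonoidAlgebra.single m 1) = g m
    rw [MonoidAlgebra.lift_single, one_smul]
  have hggl : ∀ m, IsGroupLikeElem S (g m) :=
    fun m => isGroupLikeElem_sum ε hortho hsum (fun i => ν i m)
  let G : MonoidAlgebra S M →ₐc[S] MonoidAlgebra S N := BialgHom.ofAlgHom G₀
    (by
      ext m
      rw [AlgHom.comp_apply, hG₀]
      have h1 : (Bialgebra.counitAlgHom S (MonoidAlgebra S N)) (g m) = 1 :=
        (hggl m).counit_eq_one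
      rw [h1]
      exact ((MonoidAlgebra.isGroupLikeElem_single_one (R := S) (A := S) m).counit_eq_one).symm)
    (by
      ext m
      rw [AlgHom.comp_apply, AlgHom.comp_apply, hG₀]
      have h1 : (Bialgebra.comulAlgHom S (MonoidAlgebra S M)) (MonoidAlgebra.single m 1) =
          MonoidAlgebra.single m 1 ⊗ₜ[S] MonoidAlgebra.single m 1 :=
        (MonoidAlgebra.isGroupLikeElem_single_one (R := S) (A := S) m).comul_eq_tmul_self
      rw [h1, Algebra.TensorProduct.map_tmul, hG₀]
      exact ((hggl m).comul_eq_tmul_self).symm)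
  have key : ∀ i y, ε i • G y = ε i • MonoidAlgebra.mapDomainAlgHom S S (ν i) y :=
    fun i y => glue_key ε hortho hsum ν i y
  have hidem : ∀ i, ε i * ε i = ε i := idem_of_ortho ε hortho hsum
  -- the two maps out of `S ⊗ A`
  let mkJ : A →ₐc[R] A ⧸ J := Bialgebra.Quotient.mkBialgHom (R := R) J
  have hmkJ : ∀ a, mkJ a = Ideal.Quotient.mk J a := fun a => rfl
  let Ψ : S ⊗[R] A →ₐc[S] S ⊗[R] (A ⧸ J) := Bialgebra.TensorProduct.map (BialgHom.id S S) mkJ
  have hΨ : ∀ (s : S) (a : A), Ψ (s ⊗ₜ[R] a) = s ⊗ₜ[R] mkJ a := fun s a => rfl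
  let Φ : S ⊗[R] A →ₐc[S] MonoidAlgebra S N := G.comp t.eA.toBialgHom
  have hΦ : ∀ b, Φ b = G (t.eA b) := fun b => rfl
  have hΨsurj : Function.Surjective Ψ :=
    MultQuot.map_id_surjective (S := S) mkJ Ideal.Quotient.mk_surjective
  have hφJ : ∀ c : C, mkJ (φ c) = algebraMap R (A ⧸ J) (Coalgebra.counit c) := by
    intro c
    have h1 : c - algebraMap R C (Coalgebra.counit c) ∈
        RingHom.ker (Bialgebra.counitAlgHom R C) := by
      rw [RingHom.mem_ker, map_sub, AlgHom.commutes]
      show Coalgebra.counit c - algebraMap R R (Coalgebra.counit c) = 0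
      simp
    have h2 : φ (c - algebraMap R C (Coalgebra.counit c)) ∈ J := by
      rw [hJ]
      exact Ideal.mem_map_of_mem _ h1
    rw [map_sub, AlgHomClass.commutes] at h2
    rw [hmkJ, (Ideal.Quotient.eq (I := J)).2 h2]
    rfl
  have L1 : ∀ z : S ⊗[R] C,
      Ψ (phiK φ S z) = algebraMap S (S ⊗[R] (A ⧸ J)) (Coalgebra.counit (R := S) z) := by
    intro z
    induction z using TensorProduct.induction_on with
    | zero => simp
    | tmul s c =>
      rw [phiK_tmul, hΨ, hφJ, TensorProduct.counit_tmul, Algebra.TensorProduct.algebraMap_apply,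
        Algebra.algebraMap_eq_smul_one (Coalgebra.counit c), TensorProduct.tmul_smul,
        TensorProduct.smul_tmul']
      simp
    | add x y hx hy => rw [map_add, map_add, map_add, map_add, hx, hy]
  have hGgam : ∀ p, G (t.gam φ p) = 1 := by
    intro p
    have h1 : G (t.gam φ p) = ∑ i, ε i • G (t.gam φ p) := by
      rw [← Finset.sum_smul, hsum, one_smul]
    rw [h1]
    have h2 : ∀ i ∈ Finset.univ, ε i • G (t.gam φ p) = ε i • (1 : MonoidAlgebra S N) := by
      intro i _
      rw [← map_smul, hrel, map_smul, key, MonoidAlgebra.mapDomainAlgHom_apply,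
        MonoidAlgebra.mapDomain_single, hνf, ← MonoidAlgebra.one_def]
    rw [Finset.sum_congr rfl h2, ← Finset.sum_smul, hsum, one_smul]
  have L2 : ∀ x : MonoidAlgebra S P,
      G (t.eA (phiK φ S (t.eC.symm x))) =
        algebraMap S (MonoidAlgebra S N) (Coalgebra.counit (R := S) x) := by
    intro x
    induction x using MonoidAlgebra.induction_linear with
    | zero => simp
    | add x y hx hy => rw [map_add, map_add, map_add, map_add, map_add, map_add, hx, hy]
    | single p r =>
      have h1 : (MonoidAlgebra.single p r : MonoidAlgebra S P) =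
          r • MonoidAlgebra.single p 1 := by
        rw [MonoidAlgebra.smul_single, smul_eq_mul, mul_one]
      rw [h1, map_smul, map_smul, map_smul, map_smul, map_smul]
      have h2 : G (t.eA (phiK φ S (t.eC.symm (MonoidAlgebra.single p 1)))) = 1 := hGgam p
      rw [h2, (MonoidAlgebra.isGroupLikeElem_single_one (R := S) (A := S) p).counit_eq_one,
        Algebra.algebraMap_eq_smul_one, smul_eq_mul, mul_one]
  have L2' : ∀ z : S ⊗[R] C,
      G (t.eA (phiK φ S z)) = algebraMap S (MonoidAlgebra S N) (Coalgebra.counit (R := S) z) := by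
    intro z
    have h1 := L2 (t.eC z)
    rw [BialgEquiv.symm_apply_apply, CoalgHomClass.counit_comp_apply] at h1
    exact h1
  -- elements of `J` die under `Φ`
  have hJle : ∀ x ∈ J, Φ ((1 : S) ⊗ₜ[R] x) = 0 := by
    intro x hx
    let χ : A →+* MonoidAlgebra S N :=
      (Φ : S ⊗[R] A →+* MonoidAlgebra S N).comp
        (Algebra.TensorProduct.includeRight : A →ₐ[R] S ⊗[R] A).toRingHom
    have hχ : ∀ a, χ a = Φ ((1 : S) ⊗ₜ[R] a) := fun a => rfl
    have hle : J ≤ RingHom.ker χ := by
      rw [hJ, Ideal.map_le_iff_le_comap]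
      intro c hc
      rw [Ideal.mem_comap, RingHom.mem_ker, hχ, hΦ]
      have h1 := L2' ((1 : S) ⊗ₜ[R] c)
      rw [phiK_tmul] at h1
      rw [h1, TensorProduct.counit_tmul]
      have hc0 : Coalgebra.counit (R := R) c = 0 := hc
      rw [hc0, zero_smul, map_zero]
    have := hle hx
    rw [RingHom.mem_ker, hχ] at this
    exact this
  have hfwd : ∀ b, Ψ b = 0 → Φ b = 0 := by
    intro b hb
    have hmem : b ∈ RingHom.ker
        (Algebra.TensorProduct.map (AlgHom.id R S) (Ideal.Quotient.mkₐ R J)) := by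
      rw [RingHom.mem_ker]
      have := MultQuot.map_id_eq (S := S) mkJ b
      exact this.symm.trans hb
    have hkJ : RingHom.ker (Ideal.Quotient.mkₐ R J) = J := by
      ext z
      rw [RingHom.mem_ker]
      exact Ideal.Quotient.eq_zero_iff_mem
    rw [Algebra.TensorProduct.lTensor_ker (A := S) (g := Ideal.Quotient.mkₐ R J)
      (Ideal.Quotient.mkₐ_surjective R J), hkJ] at hmem
    have hle : J.map (Algebra.TensorProduct.includeRight : A →ₐ[R] S ⊗[R] A) ≤
        RingHom.ker (Φ : S ⊗[R] A →ₐ[S] MonoidAlgebra S N) := by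
      rw [Ideal.map_le_iff_le_comap]
      intro x hx
      rw [Ideal.mem_comap, RingHom.mem_ker]
      exact hJle x hx
    exact (RingHom.mem_ker).1 (hle hmem)
  have hΦsurj : Function.Surjective Φ := by
    intro y
    induction y using MonoidAlgebra.induction_linear with
    | zero => exact ⟨0, map_zero _⟩
    | add y₁ y₂ h₁ h₂ =>
      obtain ⟨a, rfl⟩ := h₁
      obtain ⟨b, rfl⟩ := h₂
      exact ⟨a + b, map_add _ _ _⟩
    | single n r =>
      choose m hm using fun i => hνsurj i n
      refine ⟨t.eA.symm (∑ i, ε i • (MonoidAlgebra.single (m i) r : MonoidAlgebra S M)), ?_⟩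
      rw [hΦ, BialgEquiv.apply_symm_apply, map_sum]
      have h1 : ∀ i ∈ Finset.univ,
          G (ε i • (MonoidAlgebra.single (m i) r : MonoidAlgebra S M)) =
            ε i • (MonoidAlgebra.single n r : MonoidAlgebra S N) := by
        intro i _
        rw [map_smul, key, MonoidAlgebra.mapDomainAlgHom_apply, MonoidAlgebra.mapDomain_single,
          hm]
      rw [Finset.sum_congr rfl h1, ← Finset.sum_smul, hsum, one_smul]
  have hbwd : ∀ b, Φ b = 0 → Ψ b = 0 := by
    intro b hb
    rw [hΦ] at hb
    set y := t.eA b with hy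
    let θ : MonoidAlgebra S M →+* S ⊗[R] (A ⧸ J) :=
      (Ψ : S ⊗[R] A →+* S ⊗[R] (A ⧸ J)).comp (t.eA.symm : MonoidAlgebra S M →+* S ⊗[R] A)
    have hθ : ∀ x, θ x = Ψ (t.eA.symm x) := fun x => rfl
    have hgam : ∀ p, t.gam φ p - 1 ∈ RingHom.ker θ := by
      intro p
      rw [RingHom.mem_ker, map_sub, map_one, hθ]
      have h1 : t.eA.symm (t.gam φ p) = phiK φ S (t.eC.symm (MonoidAlgebra.single p 1)) :=
        t.eA.symm_apply_apply _
      rw [h1, L1, CoalgHomClass.counit_comp_apply,
        (MonoidAlgebra.isGroupLikeElem_single_one (R := S) (A := S) p).counit_eq_one, map_one,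
        sub_self]
    have hpiece : ∀ i, ε i • y ∈ RingHom.ker θ := by
      intro i
      have h1 : MonoidAlgebra.mapDomainAlgHom S S (QuotientGroup.mk' (f i).range) (ε i • y) =
          0 := by
        have h2 : ε i • MonoidAlgebra.mapDomainAlgHom S S (ν i) y = 0 := by
          rw [← key, hb, smul_zero]
        have h4 : ∀ w : MonoidAlgebra S M, MonoidAlgebra.mapDomain (κ i).toMonoidHom
            (MonoidAlgebra.mapDomain (QuotientGroup.mk' (f i).range) w) =
            MonoidAlgebra.mapDomain (ν i) w := by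
          intro w
          induction w using MonoidAlgebra.induction_linear with
          | zero => simp
          | add a b ha hb' =>
            rw [MonoidAlgebra.mapDomain_add, MonoidAlgebra.mapDomain_add,
              MonoidAlgebra.mapDomain_add, ha, hb']
          | single m r =>
            rw [MonoidAlgebra.mapDomain_single, MonoidAlgebra.mapDomain_single,
              MonoidAlgebra.mapDomain_single]
            rfl
        have h4' : MonoidAlgebra.mapDomain (ν i) (ε i • y) = 0 := by
          have h := map_smul (MonoidAlgebra.mapDomainAlgHom S S (ν i)) (ε i) y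
          rw [h2, MonoidAlgebra.mapDomainAlgHom_apply] at h
          exact h
        have h3 : MonoidAlgebra.mapDomain (κ i).toMonoidHom
            (MonoidAlgebra.mapDomain (QuotientGroup.mk' (f i).range) (ε i • y)) =
            MonoidAlgebra.mapDomain (κ i).toMonoidHom 0 := by
          rw [MonoidAlgebra.mapDomain_zero, h4, h4']
        rw [MonoidAlgebra.mapDomainAlgHom_apply]
        exact MonoidAlgebra.mapDomain_injective (κ i).injective h3
      have h5 := DiagSub.mem_span_of_mapDomain_eq_zero (f i).range h1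
      -- every element of that ideal, multiplied by `ε i`, lies in `ker θ`
      have h6 : ∀ z ∈ Ideal.span (Set.range fun h : (f i).range =>
          (MonoidAlgebra.single (h : M) (1 : S) - 1 : MonoidAlgebra S M)),
          ε i • z ∈ RingHom.ker θ := by
        intro z hz
        refine Submodule.span_induction (p := fun z _ => ε i • z ∈ RingHom.ker θ)
          ?_ ?_ ?_ ?_ hz
        · rintro _ ⟨⟨h, p, rfl⟩, rfl⟩
          have h7 : ε i • ((MonoidAlgebra.single (f i p) (1 : S) : MonoidAlgebra S M) - 1) =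
              ε i • (t.gam φ p - 1) := by
            rw [smul_sub, smul_sub, hrel]
          show ε i • ((MonoidAlgebra.single (f i p) (1 : S) : MonoidAlgebra S M) - 1) ∈ _
          rw [h7, Algebra.smul_def]
          exact Ideal.mul_mem_left _ _ (hgam p)
        · rw [smul_zero]
          exact Ideal.zero_mem _
        · intro a b _ _ ha hb'
          rw [smul_add]
          exact Ideal.add_mem _ ha hb'
        · intro a z _ hz'
          rw [smul_eq_mul, ← mul_smul_comm]
          exact Ideal.mul_mem_left _ _ hz'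
      have h8 := h6 _ h5
      rw [smul_smul, hidem] at h8
      exact h8
    have hsumy : y = ∑ i, ε i • y := by rw [← Finset.sum_smul, hsum, one_smul]
    have hyker : y ∈ RingHom.ker θ := by
      rw [hsumy]
      exact Ideal.sum_mem _ (fun i _ => hpiece i)
    rw [RingHom.mem_ker, hθ, hy, BialgEquiv.symm_apply_apply] at hyker
    exact hyker
  exact MultQuot.nonempty_bialgEquiv_of_ker_eq (B := S ⊗[R] A) (C := S ⊗[R] (A ⧸ J))
    (D := MonoidAlgebra S N) Ψ Φ hΨsurj hΦsurj (fun b => ⟨hfwd b, hbwd b⟩)

end Glue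

end Groth.Agent.H83.KerMult
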