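import Mathlib
import Groth.Agent.H83.NilLiftA

/-!
# Lifting across nil ideals: group algebra lemmas (helper83)

For a commutative ring `K`, an ideal `J` of nilpotent elements and a commutative group `N`:
* `gl_eq_of_sub_mem`: group-like elements of `K[N]` congruent modulo `J` are equal.
* `exists_gl_of_approx`: an element of `K[N]` which is group-like modulo `J` is congruent to a group-like element.
* `sub_mem_pow_smul_top`, `claimB`: the infinitesimal step.
* `bijective_of_gl`: a linear map `K[M] → K[N]` sending the basis to group-likes, which is "bijective modulo `J`",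
  is bijective.
-/

set_option autoImplicit false

universe u

open TensorProduct

namespace Groth.Agent.H83.NilLift

section GroupAlg

variable {K : Type u} [CommRing K] {N : Type u} [CommGroup N]

theorem eq_sum_single (z : MonoidAlgebra K N) :
    z = ∑ n ∈ z.coeff.support, MonoidAlgebra.single n (z.coeff n) := by
  conv_lhs => rw [← MonoidAlgebra.sum_coeff_single z]
  rw [Finsupp.sum]

theorem single_eq_smul (g : N) (r : K) :
    (MonoidAlgebra.single g r : MonoidAlgebra K N) = r • (MonoidAlgebra.single g (1 : K)) := by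
  rw [MonoidAlgebra.smul_single, smul_eq_mul, mul_one]

theorem coeff_sub' (x y : MonoidAlgebra K N) (n : N) :
    (x - y).coeff n = x.coeff n - y.coeff n := by
  show DiagSub.lc (S := K) n (x - y) = _
  rw [map_sub]
  rfl

theorem coeff_mem_of_mem_smul_top (J : Ideal K) {x : MonoidAlgebra K N}
    (hx : x ∈ J • (⊤ : Submodule K (MonoidAlgebra K N))) (n : N) : x.coeff n ∈ J := by
  refine Submodule.smul_induction_on hx ?_ ?_
  · intro r hr y _
    rw [MonoidAlgebra.coeff_smul, Finsupp.smul_apply, smul_eq_mul]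
    exact J.mul_mem_right _ hr
  · intro a b ha hb
    rw [MonoidAlgebra.coeff_add, Finsupp.add_apply]
    exact J.add_mem ha hb

theorem mem_smul_top_of_coeff_mem (J : Ideal K) {x : MonoidAlgebra K N}
    (h : ∀ n, x.coeff n ∈ J) : x ∈ J • (⊤ : Submodule K (MonoidAlgebra K N)) := by
  rw [eq_sum_single x]
  refine Submodule.sum_mem _ fun n _ => ?_
  rw [single_eq_smul]
  exact Submodule.smul_mem_smul (h n) Submodule.mem_top

theorem Lam_mem (J : Ideal K) {t : MonoidAlgebra K N ⊗[K] MonoidAlgebra K N}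
    (ht : t ∈ J • (⊤ : Submodule K (MonoidAlgebra K N ⊗[K] MonoidAlgebra K N))) (μ ν : N) :
    DiagSub.Lam μ ν t ∈ J := by
  refine Submodule.smul_induction_on ht ?_ ?_
  · intro r hr y _
    rw [map_smul, smul_eq_mul]
    exact J.mul_mem_right _ hr
  · intro a b ha hb
    rw [map_add]
    exact J.add_mem ha hb

theorem counit_eq_sum (z : MonoidAlgebra K N) :
    Coalgebra.counit (R := K) z = ∑ n ∈ z.coeff.support, z.coeff n := by
  conv_lhs => rw [eq_sum_single z]
  rw [map_sum]
  refine Finset.sum_congr rfl fun n _ => ?_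
  rw [MonoidAlgebra.counit_single, CommSemiring.counit_apply]

theorem single_tmul_single (a b : N) (r s : K) :
    (MonoidAlgebra.single a r : MonoidAlgebra K N) ⊗ₜ[K]
        (MonoidAlgebra.single b s : MonoidAlgebra K N) =
      (r * s) • ((MonoidAlgebra.single a 1 : MonoidAlgebra K N) ⊗ₜ[K]
        (MonoidAlgebra.single b 1 : MonoidAlgebra K N)) := by
  rw [single_eq_smul a r, single_eq_smul b s, TensorProduct.smul_tmul_smul]

theorem comul_single' (a : N) (r : K) :
    Coalgebra.comul (R := K) (MonoidAlgebra.single a r : MonoidAlgebra K N) =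
      r • ((MonoidAlgebra.single a 1 : MonoidAlgebra K N) ⊗ₜ[K]
        (MonoidAlgebra.single a 1 : MonoidAlgebra K N)) := by
  rw [MonoidAlgebra.comul_single, CommSemiring.comul_apply, TensorProduct.map_tmul,
    MonoidAlgebra.lsingle_apply, MonoidAlgebra.lsingle_apply, single_tmul_single, one_mul]

theorem gl_eq_of_sub_mem {J : Ideal K} (hJ : ∀ x ∈ J, IsNilpotent x) {g g' : MonoidAlgebra K N}
    (hg : IsGroupLikeElem K g) (hg' : IsGroupLikeElem K g')
    (h : g - g' ∈ J • (⊤ : Submodule K (MonoidAlgebra K N))) : g = g' := by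
  classical
  apply MonoidAlgebra.coeff_injective
  ext n
  have h1 : IsIdempotentElem (g.coeff n) := by
    have := DiagSub.gl_coeff_mul hg n n
    rwa [if_pos rfl] at this
  have h2 : IsIdempotentElem (g'.coeff n) := by
    have := DiagSub.gl_coeff_mul hg' n n
    rwa [if_pos rfl] at this
  apply eq_of_isNilpotent_sub_of_isIdempotentElem h1 h2
  apply hJ
  have := coeff_mem_of_mem_smul_top J h n
  rwa [coeff_sub'] at this

theorem exists_gl_of_approx {J : Ideal K} (hJ : ∀ x ∈ J, IsNilpotent x) {b : MonoidAlgebra K N}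
    (h1 : Coalgebra.counit (R := K) b - 1 ∈ J)
    (h2 : Coalgebra.comul (R := K) b - b ⊗ₜ[K] b ∈
      J • (⊤ : Submodule K (MonoidAlgebra K N ⊗[K] MonoidAlgebra K N))) :
    ∃ g : MonoidAlgebra K N, IsGroupLikeElem K g ∧
      g - b ∈ J • (⊤ : Submodule K (MonoidAlgebra K N)) := by
  classical
  let F : Finset N := b.coeff.support
  let π := Ideal.Quotient.mk J
  have hmul : ∀ μ ν : N, (if μ = ν then b.coeff μ else 0) - b.coeff μ * b.coeff ν ∈ J := by
    intro μ ν
    have := Lam_mem J h2 μ ν
    rwa [map_sub, DiagSub.Lam_comul, DiagSub.Lam_tmul] at this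
  let ebar : F → K ⧸ J := fun i => π (b.coeff i.1)
  have hebar : CompleteOrthogonalIdempotents ebar := by
    rw [CompleteOrthogonalIdempotents.iff_ortho_complete]
    constructor
    · intro i j hij
      show π (b.coeff i.1) * π (b.coeff j.1) = 0
      rw [← map_mul, Ideal.Quotient.eq_zero_iff_mem]
      have := hmul i.1 j.1
      rw [if_neg (fun h => hij (Subtype.ext h)), zero_sub, neg_mem_iff] at this
      exact this
    · show ∑ i : F, π (b.coeff i.1) = 1
      have hs : ∑ i : F, b.coeff i.1 = ∑ n ∈ F, b.coeff n :=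
        Finset.sum_coe_sort F (fun n => b.coeff n)
      rw [← map_sum, hs, ← counit_eq_sum, ← map_one π]
      exact Ideal.Quotient.eq.2 h1
  obtain ⟨e', he', hfe⟩ := CompleteOrthogonalIdempotents.lift_of_isNilpotent_ker π
    (fun x hx => hJ x (by rwa [RingHom.mem_ker, Ideal.Quotient.eq_zero_iff_mem] at hx)) hebar
    (fun i => ⟨_, rfl⟩)
  have hfe' : ∀ i : F, e' i - b.coeff i.1 ∈ J := fun i => by
    have := congrFun hfe i
    exact Ideal.Quotient.eq.1 this
  refine ⟨∑ i : F, MonoidAlgebra.single i.1 (e' i), ⟨?_, ?_⟩, ?_⟩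
  · rw [map_sum]
    simp only [MonoidAlgebra.counit_single, CommSemiring.counit_apply]
    exact he'.complete
  · rw [map_sum, TensorProduct.sum_tmul]
    refine Finset.sum_congr rfl fun i _ => ?_
    rw [TensorProduct.tmul_sum, comul_single', Finset.sum_eq_single i]
    · rw [single_tmul_single (i : N) (i : N) (e' i) (e' i), (he'.idem i).eq]
    · intro j _ hji
      rw [single_tmul_single (i : N) (j : N) (e' i) (e' j), he'.ortho (Ne.symm hji), zero_smul]
    · intro hi
      exact absurd (Finset.mem_univ i) hi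
  · apply mem_smul_top_of_coeff_mem
    intro n
    rw [coeff_sub']
    have hg : (∑ i : F, MonoidAlgebra.single i.1 (e' i) : MonoidAlgebra K N).coeff n =
        ∑ i : F, if i.1 = n then e' i else 0 := by
      show DiagSub.lc (S := K) n (∑ i : F, MonoidAlgebra.single i.1 (e' i)) = _
      rw [map_sum]
      refine Finset.sum_congr rfl fun i _ => ?_
      rw [DiagSub.lc_apply, MonoidAlgebra.coeff_single, Finsupp.single_apply]
    by_cases hn : n ∈ F
    · have h3 : (∑ i : F, MonoidAlgebra.single i.1 (e' i) : MonoidAlgebra K N).coeff n =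
          e' ⟨n, hn⟩ := by
        rw [hg, Finset.sum_eq_single ⟨n, hn⟩]
        · rw [if_pos rfl]
        · intro j _ hj
          rw [if_neg (fun h => hj (Subtype.ext h))]
        · intro h
          exact absurd (Finset.mem_univ _) h
      rw [h3]
      exact hfe' ⟨n, hn⟩
    · have h3 : (∑ i : F, MonoidAlgebra.single i.1 (e' i) : MonoidAlgebra K N).coeff n = 0 := by
        rw [hg]
        apply Finset.sum_eq_zero
        intro j _
        rw [if_neg]
        intro h
        exact hn (h ▸ j.2)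
      have hb : b.coeff n = 0 := Finsupp.notMem_support_iff.1 hn
      rw [h3, hb, sub_zero]
      exact J.zero_mem

theorem sub_mem_pow_smul_top {J : Ideal K} (k : ℕ) {x g : MonoidAlgebra K N}
    (hg : IsGroupLikeElem K g) (h1 : x - g ∈ J • (⊤ : Submodule K (MonoidAlgebra K N)))
    (h2 : Coalgebra.comul (R := K) x - x ⊗ₜ[K] x ∈
      (J ^ k) • (⊤ : Submodule K (MonoidAlgebra K N ⊗[K] MonoidAlgebra K N))) :
    x - g ∈ (J ^ k) • (⊤ : Submodule K (MonoidAlgebra K N)) := by
  classical
  apply mem_smul_top_of_coeff_mem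
  intro n
  rw [coeff_sub']
  have hx : x.coeff n - x.coeff n * x.coeff n ∈ J ^ k := by
    have := Lam_mem (J ^ k) h2 n n
    rwa [map_sub, DiagSub.Lam_comul, DiagSub.Lam_tmul, if_pos rfl] at this
  have hgi : g.coeff n * g.coeff n = g.coeff n := by
    have := DiagSub.gl_coeff_mul hg n n
    rwa [if_pos rfl] at this
  have hd : x.coeff n - g.coeff n ∈ J := by
    have := coeff_mem_of_mem_smul_top J h1 n
    rwa [coeff_sub'] at this
  let π := Ideal.Quotient.mk (J ^ k)
  have e1 : IsIdempotentElem (π (x.coeff n)) := by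
    show π (x.coeff n) * π (x.coeff n) = π (x.coeff n)
    rw [← map_mul]
    apply Ideal.Quotient.eq.2
    rw [← neg_mem_iff, neg_sub]
    exact hx
  have e2 : IsIdempotentElem (π (g.coeff n)) := by
    show π (g.coeff n) * π (g.coeff n) = π (g.coeff n)
    rw [← map_mul, hgi]
  have e3 : IsNilpotent (π (x.coeff n) - π (g.coeff n)) := by
    refine ⟨k, ?_⟩
    rw [← map_sub, ← map_pow, Ideal.Quotient.eq_zero_iff_mem]
    exact Ideal.pow_mem_pow hd k
  have h4 := eq_of_isNilpotent_sub_of_isIdempotentElem e1 e2 e3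
  exact Ideal.Quotient.eq.1 h4

theorem claimB {J : Ideal K} (hJ : ∀ x ∈ J, IsNilpotent x) (k : ℕ) (hk : 1 ≤ k)
    {b : MonoidAlgebra K N} (hε : Coalgebra.counit (R := K) b - 1 ∈ J)
    (hc : Coalgebra.comul (R := K) b - b ⊗ₜ[K] b ∈
      (J ^ k) • (⊤ : Submodule K (MonoidAlgebra K N ⊗[K] MonoidAlgebra K N))) :
    ∃ v ∈ (J ^ k) • (⊤ : Submodule K (MonoidAlgebra K N)),
      Coalgebra.comul (R := K) b - b ⊗ₜ[K] b -
        (b ⊗ₜ[K] b) * (Coalgebra.comul (R := K) v - v ⊗ₜ[K] (1 : MonoidAlgebra K N) -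
          (1 : MonoidAlgebra K N) ⊗ₜ[K] v) ∈
        (J ^ (k + 1)) • (⊤ : Submodule K (MonoidAlgebra K N ⊗[K] MonoidAlgebra K N)) := by
  have hle : J ^ k ≤ J := Ideal.pow_le_self (by omega)
  have hc' : Coalgebra.comul (R := K) b - b ⊗ₜ[K] b ∈
      J • (⊤ : Submodule K (MonoidAlgebra K N ⊗[K] MonoidAlgebra K N)) :=
    Submodule.smul_mono_left hle hc
  obtain ⟨g, hg, hgb⟩ := exists_gl_of_approx hJ hε hc'
  have hbg : b - g ∈ J • (⊤ : Submodule K (MonoidAlgebra K N)) := by
    rw [← neg_sub]
    exact Submodule.neg_mem _ hgb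
  have hd := sub_mem_pow_smul_top k hg hbg hc
  obtain ⟨v, hv, hb⟩ : ∃ v ∈ (J ^ k) • (⊤ : Submodule K (MonoidAlgebra K N)), b = g * (1 + v) := by
    refine ⟨HopfAlgebraStruct.antipode K g * (b - g), mul_mem_smul_top _ _ hd, ?_⟩
    rw [mul_add, mul_one, ← mul_assoc, hg.mul_antipode_cancel, one_mul]
    abel
  refine ⟨v, hv, ?_⟩
  let Δ := Bialgebra.comulAlgHom K (MonoidAlgebra K N)
  let ιL : MonoidAlgebra K N →ₐ[K] MonoidAlgebra K N ⊗[K] MonoidAlgebra K N :=
    Algebra.TensorProduct.includeLeft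
  let ιR : MonoidAlgebra K N →ₐ[K] MonoidAlgebra K N ⊗[K] MonoidAlgebra K N :=
    Algebra.TensorProduct.includeRight
  have e2 : ∀ x y : MonoidAlgebra K N, x ⊗ₜ[K] y = ιL x * ιR y := by
    intro x y
    show x ⊗ₜ[K] y = (x ⊗ₜ[K] 1) * (1 ⊗ₜ[K] y)
    rw [Algebra.TensorProduct.tmul_mul_tmul, mul_one, one_mul]
  have hG : Δ g = ιL g * ιR g := by
    rw [← e2]
    exact hg.comul_eq_tmul_self
  have hD : Δ v ∈ (J ^ k) • (⊤ : Submodule K (MonoidAlgebra K N ⊗[K] MonoidAlgebra K N)) :=
    map_mem_smul_top _ Δ.toLinearMap hv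
  have hV1 : ιL v ∈ (J ^ k) • (⊤ : Submodule K (MonoidAlgebra K N ⊗[K] MonoidAlgebra K N)) :=
    map_mem_smul_top _ ιL.toLinearMap hv
  have hV2 : ιR v ∈ (J ^ k) • (⊤ : Submodule K (MonoidAlgebra K N ⊗[K] MonoidAlgebra K N)) :=
    map_mem_smul_top _ ιR.toLinearMap hv
  have key : Δ b - ιL b * ιR b - (ιL b * ιR b) * (Δ v - ιL v - ιR v) =
      -(ιL g * ιR g) * (ιL v * ιR v + (ιL v + ιR v + ιL v * ιR v) * (Δ v - ιL v - ιR v)) := by
    rw [hb]
    simp only [map_mul, map_add, map_one, hG]
    ring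
  rw [e2 b b]
  change Δ b - ιL b * ιR b - (ιL b * ιR b) * (Δ v - ιL v - ιR v) ∈ _
  rw [key]
  apply mul_mem_smul_top
  have h2k : (J ^ k * J ^ k) ≤ J ^ (k + 1) := by
    rw [← pow_add]
    exact Ideal.pow_le_pow_right (by omega)
  have m1 : ιL v * ιR v ∈
      (J ^ (k + 1)) • (⊤ : Submodule K (MonoidAlgebra K N ⊗[K] MonoidAlgebra K N)) :=
    Submodule.smul_mono_left h2k (mul_mem_smul_top_mul hV1 hV2)
  have hdv : Δ v - ιL v - ιR v ∈
      (J ^ k) • (⊤ : Submodule K (MonoidAlgebra K N ⊗[K] MonoidAlgebra K N)) :=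
    Submodule.sub_mem _ (Submodule.sub_mem _ hD hV1) hV2
  have hs : ιL v + ιR v + ιL v * ιR v ∈
      (J ^ k) • (⊤ : Submodule K (MonoidAlgebra K N ⊗[K] MonoidAlgebra K N)) :=
    Submodule.add_mem _ (Submodule.add_mem _ hV1 hV2) (mul_mem_smul_top _ _ hV2)
  have m2 : (ιL v + ιR v + ιL v * ιR v) * (Δ v - ιL v - ιR v) ∈
      (J ^ (k + 1)) • (⊤ : Submodule K (MonoidAlgebra K N ⊗[K] MonoidAlgebra K N)) :=
    Submodule.smul_mono_left h2k (mul_mem_smul_top_mul hs hdv)
  exact Submodule.add_mem _ m1 m2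

theorem bijective_of_gl {M : Type u} [CommGroup M] {J : Ideal K} (hJ : ∀ x ∈ J, IsNilpotent x)
    (ψ : MonoidAlgebra K M →ₗ[K] MonoidAlgebra K N)
    (hgl : ∀ m, IsGroupLikeElem K (ψ (MonoidAlgebra.single m 1)))
    (hortho : ∀ m m' : M, m ≠ m' → ∀ u : K,
      u • (ψ (MonoidAlgebra.single m 1) - ψ (MonoidAlgebra.single m' 1)) = 0 → u ∈ J)
    (hsurj : ∀ b : MonoidAlgebra K N, ∃ y,
      b - ψ y ∈ J • (⊤ : Submodule K (MonoidAlgebra K N))) :
    Function.Bijective ψ := by
  classical
  let E : M → N → K := fun m n => (ψ (MonoidAlgebra.single m 1)).coeff n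
  have hE : ∀ m n n', E m n * E m n' = if n = n' then E m n else 0 :=
    fun m n n' => DiagSub.gl_coeff_mul (hgl m) n n'
  have hEi : ∀ m n, E m n * E m n = E m n := fun m n => by rw [hE, if_pos rfl]
  have idem_nil : ∀ u : K, u * u = u → u ∈ J → u = 0 := by
    intro u hu huJ
    exact eq_of_isNilpotent_sub_of_isIdempotentElem hu IsIdempotentElem.zero
      (by rw [sub_zero]; exact hJ u huJ)
  have key1 : ∀ m m' n, m ≠ m' → E m n * E m' n = 0 := by
    intro m m' n hne
    apply idem_nil
    · rw [mul_mul_mul_comm, hEi, hEi]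
    · apply hortho m m' hne
      apply MonoidAlgebra.coeff_injective
      ext n'
      rw [MonoidAlgebra.coeff_smul, Finsupp.smul_apply, coeff_sub', MonoidAlgebra.coeff_zero,
        Finsupp.zero_apply, smul_eq_mul, mul_sub]
      show E m n * E m' n * E m n' - E m n * E m' n * E m' n' = 0
      have a1 : E m n * E m' n * E m n' = if n = n' then E m n * E m' n else 0 := by
        rw [mul_right_comm, hE]
        split_ifs <;> simp
      have a2 : E m n * E m' n * E m' n' = if n = n' then E m n * E m' n else 0 := by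
        rw [mul_assoc, hE]
        split_ifs <;> simp
      rw [a1, a2, sub_self]
  have ψ_single : ∀ (m : M) (r : K),
      ψ (MonoidAlgebra.single m r) = r • ψ (MonoidAlgebra.single m 1) := by
    intro m r
    rw [single_eq_smul, map_smul]
  have coeffψ : ∀ (y : MonoidAlgebra K M) (n : N),
      (ψ y).coeff n = ∑ m ∈ y.coeff.support, y.coeff m * E m n := by
    intro y n
    conv_lhs => rw [eq_sum_single y]
    show DiagSub.lc (S := K) n
      (ψ (∑ m ∈ y.coeff.support, MonoidAlgebra.single m (y.coeff m))) = _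
    rw [map_sum, map_sum]
    refine Finset.sum_congr rfl fun m _ => ?_
    rw [ψ_single, map_smul, smul_eq_mul]
    rfl
  refine ⟨(injective_iff_map_eq_zero ψ).2 ?_, ?_⟩
  · intro y hy
    apply MonoidAlgebra.coeff_injective
    ext m₀
    rw [MonoidAlgebra.coeff_zero, Finsupp.zero_apply]
    have hz : ∀ n, y.coeff m₀ * E m₀ n = 0 := by
      intro n
      have h0 : (ψ y).coeff n = 0 := by rw [hy, MonoidAlgebra.coeff_zero, Finsupp.zero_apply]
      rw [coeffψ] at h0
      have h1 : E m₀ n * ∑ m ∈ y.coeff.support, y.coeff m * E m n = 0 := by rw [h0, mul_zero]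
      rw [Finset.mul_sum] at h1
      have h2 : ∀ m ∈ y.coeff.support, E m₀ n * (y.coeff m * E m n) =
          if m = m₀ then y.coeff m₀ * E m₀ n else 0 := by
        intro m _
        split_ifs with hm
        · subst hm
          rw [mul_left_comm, hEi]
        · rw [mul_left_comm, key1 m₀ m n (Ne.symm hm), mul_zero]
      rw [Finset.sum_congr rfl h2, Finset.sum_ite_eq'] at h1
      by_cases hm₀ : m₀ ∈ y.coeff.support
      · rwa [if_pos hm₀] at h1
      · rw [Finsupp.notMem_support_iff.1 hm₀, zero_mul]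
    have hone : ∑ n ∈ (ψ (MonoidAlgebra.single m₀ 1)).coeff.support, E m₀ n = 1 := by
      rw [← counit_eq_sum]
      exact (hgl m₀).counit_eq_one
    calc y.coeff m₀ = y.coeff m₀ * 1 := (mul_one _).symm
      _ = y.coeff m₀ * ∑ n ∈ (ψ (MonoidAlgebra.single m₀ 1)).coeff.support, E m₀ n := by
        rw [hone]
      _ = ∑ n ∈ (ψ (MonoidAlgebra.single m₀ 1)).coeff.support, y.coeff m₀ * E m₀ n :=
        Finset.mul_sum _ _ _
      _ = 0 := Finset.sum_eq_zero fun n _ => hz n
  · have hsingle : ∀ n : N, ∃ x, ψ x = MonoidAlgebra.single n (1 : K) := by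
      intro n
      obtain ⟨y, hy⟩ := hsurj (MonoidAlgebra.single n 1)
      let F := y.coeff.support
      let ε : K := ∑ m ∈ F, E m n
      have hεε : ε * ε = ε := by
        show (∑ m ∈ F, E m n) * (∑ m ∈ F, E m n) = ∑ m ∈ F, E m n
        rw [Finset.sum_mul]
        refine Finset.sum_congr rfl fun m hm => ?_
        rw [Finset.mul_sum, Finset.sum_eq_single m]
        · exact hEi m n
        · intro m' _ hne
          exact key1 m m' n (Ne.symm hne)
        · intro h
          exact absurd hm h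
      have hεE : ∀ m ∈ F, ε * E m n = E m n := by
        intro m hm
        show (∑ m' ∈ F, E m' n) * E m n = E m n
        rw [Finset.sum_mul, Finset.sum_eq_single m]
        · exact hEi m n
        · intro m' _ hne
          exact key1 m' m n hne
        · intro h
          exact absurd hm h
      have h1ε : (1 - ε) ∈ J := by
        have hc := coeff_mem_of_mem_smul_top J hy n
        rw [coeff_sub', coeffψ, MonoidAlgebra.coeff_single, Finsupp.single_eq_same] at hc
        have hz : (1 - ε) * ∑ m ∈ F, y.coeff m * E m n = 0 := by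
          rw [Finset.mul_sum]
          apply Finset.sum_eq_zero
          intro m hm
          rw [mul_left_comm, sub_mul, one_mul, hεE m hm, sub_self, mul_zero]
        have h3 : (1 - ε) * (1 - ∑ m ∈ F, y.coeff m * E m n) = 1 - ε := by
          rw [mul_sub, mul_one, hz, sub_zero]
        rw [← h3]
        exact J.mul_mem_left _ hc
      have hε1 : ε = 1 := by
        have h4 : (1 - ε) * (1 - ε) = 1 - ε := by
          have h5 : (1 - ε) * (1 - ε) = 1 - ε - ε + ε * ε := by ring
          rw [h5, hεε]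
          ring
        have h0 : 1 - ε = 0 := idem_nil _ h4 h1ε
        exact (sub_eq_zero.1 h0).symm
      refine ⟨∑ m ∈ F, MonoidAlgebra.single m (E m n), ?_⟩
      apply MonoidAlgebra.coeff_injective
      ext n'
      show DiagSub.lc (S := K) n' (ψ (∑ m ∈ F, MonoidAlgebra.single m (E m n))) =
        (MonoidAlgebra.single n (1 : K)).coeff n'
      rw [map_sum, map_sum, MonoidAlgebra.coeff_single, Finsupp.single_apply]
      have h6 : ∀ m ∈ F, DiagSub.lc (S := K) n' (ψ (MonoidAlgebra.single m (E m n))) =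
          if n = n' then E m n else 0 := by
        intro m _
        rw [ψ_single, map_smul, smul_eq_mul]
        exact hE m n n'
      rw [Finset.sum_congr rfl h6]
      split_ifs with hnn
      · exact hε1
      · exact Finset.sum_const_zero
    intro z
    induction z using MonoidAlgebra.induction_linear with
    | zero => exact ⟨0, map_zero _⟩
    | add f g hf hg =>
      obtain ⟨a, rfl⟩ := hf
      obtain ⟨b, rfl⟩ := hg
      exact ⟨a + b, map_add _ _ _⟩
    | single n r =>
      obtain ⟨c, hc⟩ := hsingle n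
      exact ⟨r • c, by rw [map_smul, hc, MonoidAlgebra.smul_single, smul_eq_mul, mul_one]⟩

end GroupAlg

end Groth.Agent.H83.NilLift
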