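import Mathlib
import Groth.Prelude.Def_SGA3b
import Groth.Agent.H83.KerMultB
import Groth.Agent.H83.NilLiftB

/-!
# Kernels of homomorphisms of groups of multiplicative type, part C: refining a trivialisation,
the type at a point, and orthogonality of pieces of different type
-/

set_option autoImplicit false

universe u

open TensorProduct

namespace Groth.Agent.H83.KerMult

section GLike

variable {K : Type u} [CommRing K] {M : Type u} [CommGroup M]

theorem gl_coeff_smul {x : MonoidAlgebra K M} (hx : IsGroupLikeElem K x) (m : M) :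
    x.coeff m • x = x.coeff m • (MonoidAlgebra.single m (1 : K) : MonoidAlgebra K M) := by
  classical
  apply MonoidAlgebra.coeff_injective
  ext μ
  rw [MonoidAlgebra.coeff_smul, MonoidAlgebra.coeff_smul, Finsupp.smul_apply, Finsupp.smul_apply,
    smul_eq_mul, smul_eq_mul, DiagSub.gl_coeff_mul hx, MonoidAlgebra.coeff_single,
    Finsupp.single_apply]
  split_ifs with h
  · rw [mul_one]
  · rw [mul_zero]

theorem gl_sum_coeff {x : MonoidAlgebra K M} (hx : IsGroupLikeElem K x) :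
    ∑ m ∈ x.coeff.support, x.coeff m = 1 := by
  rw [← NilLift.counit_eq_sum, hx.counit_eq_one]

theorem smul_mul_of_idem {ε : K} (hε : ε * ε = ε) {x x' : MonoidAlgebra K M} {m m' : M}
    (h : ε • x = ε • (MonoidAlgebra.single m (1 : K) : MonoidAlgebra K M))
    (h' : ε • x' = ε • (MonoidAlgebra.single m' (1 : K) : MonoidAlgebra K M)) :
    ε • (x * x') = ε • (MonoidAlgebra.single (m * m') (1 : K) : MonoidAlgebra K M) := by
  calc ε • (x * x') = (ε * ε) • (x * x') := by rw [hε]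
    _ = (ε • x) * (ε • x') := by rw [smul_mul_smul_comm]
    _ = (ε • (MonoidAlgebra.single m (1 : K) : MonoidAlgebra K M)) *
          (ε • (MonoidAlgebra.single m' (1 : K) : MonoidAlgebra K M)) := by rw [h, h']
    _ = (ε * ε) • ((MonoidAlgebra.single m (1 : K) : MonoidAlgebra K M) *
          (MonoidAlgebra.single m' (1 : K) : MonoidAlgebra K M)) := by rw [smul_mul_smul_comm]
    _ = ε • (MonoidAlgebra.single (m * m') (1 : K) : MonoidAlgebra K M) := by
      rw [hε, MonoidAlgebra.single_mul_single, mul_one]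

theorem single_inj_of_smul {ε : K} (hε : ε ≠ 0) {m m' : M}
    (h : ε • (MonoidAlgebra.single m (1 : K) : MonoidAlgebra K M) =
      ε • (MonoidAlgebra.single m' (1 : K) : MonoidAlgebra K M)) : m = m' := by
  rw [MonoidAlgebra.smul_single, MonoidAlgebra.smul_single, smul_eq_mul, mul_one] at h
  exact MonoidAlgebra.single_left_injective hε h

end GLike

section Refine

variable {R : Type u} [CommRing R] {A C : Type u} [CommRing A] [CommRing C]
  [HopfAlgebra R A] [HopfAlgebra R C] (φ : C →ₐc[R] A)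
  {K : Type u} [CommRing K] [Algebra R K] {M P : Type u} [CommGroup M] [CommGroup P]

theorem exists_hom_of_gens (t : Triv R A C K M P) {ε : K} (hε : ε * ε = ε) (S : Set P)
    (hS : Submonoid.closure S = ⊤)
    (hgen : ∀ s ∈ S, ∃ m : M, ε • t.gam φ s =
      ε • (MonoidAlgebra.single m (1 : K) : MonoidAlgebra K M)) :
    ∃ f : P →* M, ∀ p, ε • t.gam φ p =
      ε • (MonoidAlgebra.single (f p) (1 : K) : MonoidAlgebra K M) := by
  by_cases h0 : ε = 0
  · exact ⟨1, fun p => by rw [h0, zero_smul, zero_smul]⟩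
  have hall : ∀ p : P, ∃ m : M, ε • t.gam φ p =
      ε • (MonoidAlgebra.single m (1 : K) : MonoidAlgebra K M) := by
    intro p
    have hp : p ∈ Submonoid.closure S := by rw [hS]; exact Submonoid.mem_top p
    induction hp using Submonoid.closure_induction with
    | mem x hx => exact hgen x hx
    | one => exact ⟨1, by rw [t.gam_one, MonoidAlgebra.one_def]⟩
    | mul x y _ _ hx hy =>
      obtain ⟨m, hm⟩ := hx
      obtain ⟨m', hm'⟩ := hy
      exact ⟨m * m', by rw [t.gam_mul]; exact smul_mul_of_idem hε hm hm'⟩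
  choose f hf using hall
  refine ⟨MonoidHom.mk' f (fun p p' => single_inj_of_smul h0 ?_), hf⟩
  rw [← hf (p * p'), t.gam_mul]
  exact smul_mul_of_idem hε (hf p) (hf p')

theorem exists_refine (t : Triv R A C K M P) (hP : Group.FG P) :
    ∃ (ι : Type u) (_ : Fintype ι) (ε : ι → K), (∀ i j, i ≠ j → ε i * ε j = 0) ∧ ∑ i, ε i = 1 ∧
      ∃ f : ι → (P →* M), ∀ i p, ε i • t.gam φ p =
        ε i • (MonoidAlgebra.single (f i p) (1 : K) : MonoidAlgebra K M) := by
  classical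
  obtain ⟨S, hS⟩ := Monoid.fg_def.1 (Group.fg_iff_monoid_fg.1 hP)
  have hgl : ∀ p, IsGroupLikeElem K (t.gam φ p) := fun p => t.gam_gl φ p
  refine ⟨(s : ↥S) → ↥((t.gam φ s).coeff.support), inferInstance,
    fun σ => ∏ s : ↥S, (t.gam φ s).coeff (σ s), ?_, ?_, ?_⟩
  · intro σ σ' hne
    obtain ⟨s, hs⟩ := Function.ne_iff.1 hne
    rw [← Finset.prod_mul_distrib]
    refine Finset.prod_eq_zero (Finset.mem_univ s) ?_
    rw [DiagSub.gl_coeff_mul (hgl s), if_neg]
    exact fun h => hs (Subtype.ext h)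
  · have h1 := Finset.prod_univ_sum
      (fun s : ↥S => (Finset.univ : Finset ↥((t.gam φ s).coeff.support)))
      (fun s m => (t.gam φ s).coeff (m : M))
    rw [Fintype.piFinset_univ] at h1
    rw [← h1]
    refine Finset.prod_eq_one fun s _ => ?_
    rw [Finset.sum_coe_sort ((t.gam φ s).coeff.support) (fun m => (t.gam φ s).coeff m)]
    exact gl_sum_coeff (hgl s)
  · have hex : ∀ σ : (s : ↥S) → ↥((t.gam φ s).coeff.support), ∃ f : P →* M, ∀ p,
        (∏ s : ↥S, (t.gam φ s).coeff (σ s)) • t.gam φ p =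
        (∏ s : ↥S, (t.gam φ s).coeff (σ s)) •
          (MonoidAlgebra.single (f p) (1 : K) : MonoidAlgebra K M) := by
      intro σ
      have hidem : (∏ s : ↥S, (t.gam φ s).coeff (σ s)) * (∏ s : ↥S, (t.gam φ s).coeff (σ s)) =
          ∏ s : ↥S, (t.gam φ s).coeff (σ s) := by
        rw [← Finset.prod_mul_distrib]
        exact Finset.prod_congr rfl
          (fun s _ => by rw [DiagSub.gl_coeff_mul (hgl s), if_pos rfl])
      refine exists_hom_of_gens φ t hidem (↑S) hS ?_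
      intro s hs
      refine ⟨(σ ⟨s, hs⟩ : M), ?_⟩
      obtain ⟨d, hd⟩ := Finset.dvd_prod_of_mem (fun s : ↥S => (t.gam φ s).coeff (σ s))
        (Finset.mem_univ (⟨s, hs⟩ : ↥S))
      have h1 := gl_coeff_smul (hgl s) (σ ⟨s, hs⟩ : M)
      rw [hd, mul_comm, mul_smul, mul_smul]
      exact congrArg (d • ·) h1
    choose f hf using hex
    exact ⟨f, hf⟩

theorem fg_of_finiteType [Nontrivial K] (t : Triv R A C K M P) (hCft : Algebra.FiniteType R C) :
    Group.FG P := by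
  have := hCft
  have h1 : Algebra.FiniteType K (K ⊗[R] C) := inferInstance
  have h2 : Algebra.FiniteType K (MonoidAlgebra K P) := h1.equiv t.eC.toAlgEquiv
  exact MonoidAlgebra.finiteType_iff_group_fg.1 h2

end Refine

section TypeAt

variable {R : Type u} [CommRing R] {A C : Type u} [CommRing A] [CommRing C]
  [HopfAlgebra R A] [HopfAlgebra R C] (φ : C →ₐc[R] A)
  {K : Type u} [CommRing K] [Algebra R K] {M P : Type u} [CommGroup M] [CommGroup P]

theorem one_tmul_algebraMap {R L L' K : Type u} [CommRing R] [CommRing L] [CommRing L']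
    [CommRing K] [Algebra R L] [Algebra R L'] [Algebra L L'] [IsScalarTower R L L'] [Algebra R K]
    [Algebra L K] [IsScalarTower R L K] (r : R) :
    (1 : L') ⊗ₜ[L] (algebraMap R K r) = algebraMap R (L' ⊗[L] K) r := by
  rw [Algebra.TensorProduct.algebraMap_apply, IsScalarTower.algebraMap_apply R L K r,
    IsScalarTower.algebraMap_apply R L L' r, Algebra.algebraMap_eq_smul_one (algebraMap R L r),
    Algebra.algebraMap_eq_smul_one (A := L') (algebraMap R L r), TensorProduct.tmul_smul,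
    TensorProduct.smul_tmul']

theorem type_at (t : Triv R A C K M P) {F : Type u} [CommRing F] [Algebra R F] (ρ : K →+* F)
    (hρ : ∀ r : R, ρ (algebraMap R K r) = algebraMap R F r) (ε₀ : K) (hε : ρ ε₀ = 1)
    (f₀ : P →* M)
    (hrel : ∀ p, ε₀ • t.gam φ p =
      ε₀ • (MonoidAlgebra.single (f₀ p) (1 : K) : MonoidAlgebra K M))
    (J : Ideal A) [J.IsHopfIdeal R]
    (hJ : J = Ideal.map φ (RingHom.ker (Bialgebra.counitAlgHom R C))) :
    Nonempty ((F ⊗[R] (A ⧸ J)) ≃ₐc[F] MonoidAlgebra F (M ⧸ f₀.range)) := by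
  obtain ⟨t', ht'⟩ := t.exists_push φ ρ hρ
  refine glue φ t' (ι := PUnit.{u+1}) (fun _ => 1)
    (fun i j h => absurd (Subsingleton.elim i j) h) (by simp) (fun _ => f₀) ?_
    (fun _ => MulEquiv.refl _) J hJ
  intro _ p
  rw [one_smul, one_smul, ht']
  have h1 := congrArg (MonoidAlgebra.mapRingHom M ρ) (hrel p)
  rw [mapRingHom_smul, mapRingHom_smul, hε, one_smul, one_smul, MonoidAlgebra.mapRingHom_single,
    map_one] at h1
  exact h1

theorem mulEquiv_of_bialgEquiv {F : Type u} [CommRing F] [IsDomain F] {N N' : Type u}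
    [CommGroup N] [CommGroup N'] (e : MonoidAlgebra F N ≃ₐc[F] MonoidAlgebra F N') :
    Nonempty (N ≃* N') := by
  have hab : (MonoidAlgebra.mapDomainOfBialgHom e.symm.toBialgHom).comp
      (MonoidAlgebra.mapDomainOfBialgHom e.toBialgHom) = MonoidHom.id N := by
    rw [← MonoidAlgebra.mapDomainOfBialgHom_comp, ← MonoidAlgebra.mapDomainOfBialgHom_id (R := F)]
    congr 1
    exact BialgHom.ext (fun x => e.symm_apply_apply x)
  have hba : (MonoidAlgebra.mapDomainOfBialgHom e.toBialgHom).comp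
      (MonoidAlgebra.mapDomainOfBialgHom e.symm.toBialgHom) = MonoidHom.id N' := by
    rw [← MonoidAlgebra.mapDomainOfBialgHom_comp, ← MonoidAlgebra.mapDomainOfBialgHom_id (R := F)]
    congr 1
    exact BialgHom.ext (fun x => e.apply_symm_apply x)
  exact ⟨{ toFun := MonoidAlgebra.mapDomainOfBialgHom e.toBialgHom
           invFun := MonoidAlgebra.mapDomainOfBialgHom e.symm.toBialgHom
           left_inv := fun x => DFunLike.congr_fun hab x
           right_inv := fun x => DFunLike.congr_fun hba x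
           map_mul' := fun x y => map_mul _ x y }⟩

theorem tmul_eq_zero_of_not_iso {L : Type u} [CommRing L] [Algebra R L] [Algebra L K]
    [IsScalarTower R L K] (t : Triv R A C K M P) (J : Ideal A) [J.IsHopfIdeal R]
    (hJ : J = Ideal.map φ (RingHom.ker (Bialgebra.counitAlgHom R C)))
    {ε₁ ε₂ : K} (h₁ : ε₁ * ε₁ = ε₁) (h₂ : ε₂ * ε₂ = ε₂) (f₁ f₂ : P →* M)
    (hrel₁ : ∀ p, ε₁ • t.gam φ p =
      ε₁ • (MonoidAlgebra.single (f₁ p) (1 : K) : MonoidAlgebra K M))
    (hrel₂ : ∀ p, ε₂ • t.gam φ p =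
      ε₂ • (MonoidAlgebra.single (f₂ p) (1 : K) : MonoidAlgebra K M))
    (hniso : ¬ Nonempty ((M ⧸ f₁.range) ≃* (M ⧸ f₂.range))) :
    ε₁ ⊗ₜ[L] ε₂ = (0 : K ⊗[L] K) := by
  by_contra hne
  have hidem : IsIdempotentElem (ε₁ ⊗ₜ[L] ε₂ : K ⊗[L] K) := by
    show (ε₁ ⊗ₜ[L] ε₂ : K ⊗[L] K) * (ε₁ ⊗ₜ[L] ε₂) = _
    rw [Algebra.TensorProduct.tmul_mul_tmul, h₁, h₂]
  obtain ⟨𝔱, h𝔱, -, hnot⟩ := Ideal.exists_le_prime_notMem_of_isIdempotentElem
    (I := (⊥ : Ideal (K ⊗[L] K))) _ hidem (by rwa [Ideal.mem_bot])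
  have := h𝔱
  let ρ₁ : K →+* (K ⊗[L] K) ⧸ 𝔱 :=
    (Ideal.Quotient.mk 𝔱).comp (Algebra.TensorProduct.includeLeftRingHom)
  let ρ₂ : K →+* (K ⊗[L] K) ⧸ 𝔱 :=
    (Ideal.Quotient.mk 𝔱).comp
      (Algebra.TensorProduct.includeRight : K →ₐ[L] K ⊗[L] K).toRingHom
  have hρ₁ : ∀ r : R, ρ₁ (algebraMap R K r) = algebraMap R ((K ⊗[L] K) ⧸ 𝔱) r := fun r => rfl
  have hρ₂ : ∀ r : R, ρ₂ (algebraMap R K r) = algebraMap R ((K ⊗[L] K) ⧸ 𝔱) r := by
    intro r
    show Ideal.Quotient.mk 𝔱 ((1 : K) ⊗ₜ[L] algebraMap R K r) = _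
    rw [one_tmul_algebraMap]
    rfl
  have hprod : ρ₁ ε₁ * ρ₂ ε₂ ≠ 0 := by
    intro h0
    apply hnot
    rw [← Ideal.Quotient.eq_zero_iff_mem]
    have h3 : (ε₁ ⊗ₜ[L] ε₂ : K ⊗[L] K) = (ε₁ ⊗ₜ[L] 1) * (1 ⊗ₜ[L] ε₂) := by
      rw [Algebra.TensorProduct.tmul_mul_tmul, mul_one, one_mul]
    rw [h3, map_mul]
    exact h0
  have hone₁ : ρ₁ ε₁ = 1 := by
    have hi : ρ₁ ε₁ * ρ₁ ε₁ = ρ₁ ε₁ := by rw [← map_mul, h₁]
    have hnz : ρ₁ ε₁ ≠ 0 := left_ne_zero_of_mul hprod
    exact mul_left_cancel₀ hnz (by rw [hi, mul_one])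
  have hone₂ : ρ₂ ε₂ = 1 := by
    have hi : ρ₂ ε₂ * ρ₂ ε₂ = ρ₂ ε₂ := by rw [← map_mul, h₂]
    have hnz : ρ₂ ε₂ ≠ 0 := right_ne_zero_of_mul hprod
    exact mul_left_cancel₀ hnz (by rw [hi, mul_one])
  obtain ⟨e₁⟩ := type_at φ t ρ₁ hρ₁ ε₁ hone₁ f₁ hrel₁ J hJ
  obtain ⟨e₂⟩ := type_at φ t ρ₂ hρ₂ ε₂ hone₂ f₂ hrel₂ J hJ
  exact hniso (mulEquiv_of_bialgEquiv (e₁.symm.trans e₂))

end TypeAt

end Groth.Agent.H83.KerMult
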