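import Mathlib
import Groth.Prelude.Def_SGA3b
import Groth.Agent.H83.KerMultC
import Groth.Agent.H83.NilLiftA

/-!
# Kernels of homomorphisms of groups of multiplicative type, part D: descent of the class
idempotents and the local statement
-/

set_option autoImplicit false

universe u

open TensorProduct

namespace Groth.Agent.H83.KerMult

section SumFilter

variable {S : Type u} [CommRing S] {ι : Type u} [Fintype ι]

theorem sum_filter_idem (ε : ι → S) (hortho : ∀ i j, i ≠ j → ε i * ε j = 0)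
    (hsum : ∑ i, ε i = 1) (p : ι → Prop) [DecidablePred p] :
    (∑ j ∈ Finset.univ.filter p, ε j) * (∑ j ∈ Finset.univ.filter p, ε j) =
      ∑ j ∈ Finset.univ.filter p, ε j := by
  classical
  rw [Finset.sum_mul]
  refine Finset.sum_congr rfl fun j hj => ?_
  rw [Finset.mul_sum, Finset.sum_eq_single j]
  · exact idem_of_ortho ε hortho hsum j
  · intro k _ hk
    exact hortho j k (Ne.symm hk)
  · intro h
    exact absurd hj h

end SumFilter

section TrivOver

variable (R : Type u) [CommRing R] (A : Type u) [CommRing A] [HopfAlgebra R A]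

/-- `A` is trivialised by a faithfully flat `L`-algebra, seen as an `R`-algebra. -/
def TrivOver (L : Type u) [CommRing L] [Algebra R L] : Prop :=
  ∃ (K : Type u) (_ : CommRing K) (_ : Algebra R K) (_ : Algebra L K) (_ : IsScalarTower R L K),
    Module.FaithfullyFlat L K ∧ ∃ (M : Type u) (_ : CommGroup M),
      Nonempty ((K ⊗[R] A) ≃ₐc[K] MonoidAlgebra K M)

variable {R A}

theorem trivOver_of_const (L : Type u) [CommRing L] [Algebra R L]
    (h : SGA3b.IsMultTypeConst L (L ⊗[R] A)) : TrivOver R A L := by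
  obtain ⟨R', _, _, hff, M, _, ⟨e⟩⟩ := h
  letI : Algebra R R' := Algebra.compHom R' (algebraMap R L)
  haveI : IsScalarTower R L R' := IsScalarTower.of_algebraMap_eq (fun _ => rfl)
  exact ⟨R', inferInstance, inferInstance, inferInstance, inferInstance, hff, M, inferInstance,
    ⟨(NilLift.cancelBialg R L R' A).symm.trans e⟩⟩

theorem const_of_triv (L : Type u) [CommRing L] [Algebra R L] (K : Type u) [CommRing K]
    [Algebra R K] [Algebra L K] [IsScalarTower R L K] (hff : Module.FaithfullyFlat L K)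
    (N : Type u) [CommGroup N] (e : (K ⊗[R] A) ≃ₐc[K] MonoidAlgebra K N) :
    SGA3b.IsMultTypeConst L (L ⊗[R] A) :=
  ⟨K, inferInstance, inferInstance, hff, N, inferInstance,
    ⟨(NilLift.cancelBialg R L K A).trans e⟩⟩

theorem TrivOver.of_isUnit (x : R) (h : TrivOver R A (Localization.Away x)) (L' : Type u)
    [CommRing L'] [Algebra R L'] (hx : IsUnit (algebraMap R L' x)) : TrivOver R A L' := by
  obtain ⟨K, _, _, _, _, hff, M, _, ⟨e⟩⟩ := h
  letI : Algebra (Localization.Away x) L' := (IsLocalization.Away.lift x hx).toAlgebra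
  haveI : IsScalarTower R (Localization.Away x) L' :=
    IsScalarTower.of_algebraMap_eq (fun r => (IsLocalization.Away.lift_eq x hx r).symm)
  haveI := hff
  obtain ⟨e', -⟩ := exists_baseChange
    (Algebra.TensorProduct.includeRight :
      K →ₐ[Localization.Away x] L' ⊗[Localization.Away x] K).toRingHom
    (fun r => one_tmul_algebraMap r) e
  exact ⟨L' ⊗[Localization.Away x] K, inferInstance, inferInstance, inferInstance, inferInstance,
    inferInstance, M, inferInstance, ⟨e'⟩⟩

theorem exists_triv {C : Type u} [CommRing C] [HopfAlgebra R C] {L : Type u} [CommRing L]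
    [Algebra R L] (hA : TrivOver R A L) (hC : TrivOver R C L) :
    ∃ (K : Type u) (_ : CommRing K) (_ : Algebra R K) (_ : Algebra L K)
      (_ : IsScalarTower R L K),
      Module.FaithfullyFlat L K ∧ ∃ (M P : Type u) (_ : CommGroup M) (_ : CommGroup P),
        Nonempty (Triv R A C K M P) := by
  obtain ⟨KA, _, _, _, _, hffA, M, _, ⟨eA⟩⟩ := hA
  obtain ⟨KC, _, _, _, _, hffC, P, _, ⟨eC⟩⟩ := hC
  haveI := hffA
  haveI := hffC
  have hρA : ∀ r : R, (Algebra.TensorProduct.includeLeftRingHom : KA →+* KA ⊗[L] KC)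
      (algebraMap R KA r) = algebraMap R (KA ⊗[L] KC) r := fun r => rfl
  have hρC : ∀ r : R, (Algebra.TensorProduct.includeRight : KC →ₐ[L] KA ⊗[L] KC).toRingHom
      (algebraMap R KC r) = algebraMap R (KA ⊗[L] KC) r := fun r => one_tmul_algebraMap r
  obtain ⟨eA', -⟩ := exists_baseChange (R := R) (A := A)
    (Algebra.TensorProduct.includeLeftRingHom : KA →+* KA ⊗[L] KC) hρA eA
  obtain ⟨eC', -⟩ := exists_baseChange (R := R) (A := C)
    (Algebra.TensorProduct.includeRight : KC →ₐ[L] KA ⊗[L] KC).toRingHom hρC eC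
  have hff : Module.FaithfullyFlat L (KA ⊗[L] KC) := Module.FaithfullyFlat.trans L KA (KA ⊗[L] KC)
  exact ⟨KA ⊗[L] KC, inferInstance, inferInstance, inferInstance, inferInstance, hff, M, P,
    inferInstance, inferInstance, ⟨⟨eA', eC'⟩⟩⟩

end TrivOver

section Main

variable {R : Type u} [CommRing R] {A C : Type u} [CommRing A] [CommRing C]
  [HopfAlgebra R A] [HopfAlgebra R C] (φ : C →ₐc[R] A)

theorem descend {L K : Type u} [CommRing L] [CommRing K] [Algebra L K]
    (hff : Module.FaithfullyFlat L K) (x : K)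
    (h : x ⊗ₜ[L] (1 : K) = (1 : K) ⊗ₜ[L] x) : ∃ e : L, algebraMap L K e = x := by
  haveI := hff
  have h1 := (Algebra.IsEffective.of_faithfullyFlat L K x).1
    (by rw [Algebra.TensorProduct.includeLeftSubRight_apply, h, sub_self])
  obtain ⟨e, he⟩ := h1
  exact ⟨e, he⟩

theorem finish {L Lg : Type u} [CommRing L] [CommRing Lg] [Algebra R L] [Algebra R Lg]
    [Algebra L Lg] [IsScalarTower R L Lg]
    (K : Type u) [CommRing K] [Algebra R K] [Algebra L K] [IsScalarTower R L K]
    (hff : Module.FaithfullyFlat L K) {M P : Type u} [CommGroup M] [CommGroup P]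
    (t : Triv R A C K M P) {ι : Type u} [Fintype ι] (ε : ι → K)
    (hortho : ∀ i j, i ≠ j → ε i * ε j = 0) (hsum : ∑ i, ε i = 1) (f : ι → (P →* M))
    (hrel : ∀ i p, ε i • t.gam φ p =
      ε i • (MonoidAlgebra.single (f i p) (1 : K) : MonoidAlgebra K M))
    (J : Ideal A) [J.IsHopfIdeal R]
    (hJ : J = Ideal.map φ (RingHom.ker (Bialgebra.counitAlgHom R C)))
    (p : ι → Prop) [DecidablePred p] (N : Type u) [CommGroup N]
    (κ : ∀ i, p i → (M ⧸ (f i).range) ≃* N)
    (e : L) (he : algebraMap L K e = ∑ j ∈ Finset.univ.filter p, ε j)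
    (hue : IsUnit (algebraMap L Lg e)) :
    SGA3b.IsMultTypeConst Lg (Lg ⊗[R] (A ⧸ J)) := by
  classical
  haveI := hff
  let ρ : K →+* Lg ⊗[L] K := (Algebra.TensorProduct.includeRight : K →ₐ[L] Lg ⊗[L] K).toRingHom
  have hρ : ∀ r : R, ρ (algebraMap R K r) = algebraMap R (Lg ⊗[L] K) r :=
    fun r => one_tmul_algebraMap r
  have hρapp : ∀ k, ρ k = (1 : Lg) ⊗ₜ[L] k := fun k => rfl
  obtain ⟨t', ht'⟩ := t.exists_push φ ρ hρ
  have hE1 : ρ (∑ j ∈ Finset.univ.filter p, ε j) = 1 := by
    have hidem : ρ (∑ j ∈ Finset.univ.filter p, ε j) * ρ (∑ j ∈ Finset.univ.filter p, ε j) =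
        ρ (∑ j ∈ Finset.univ.filter p, ε j) := by
      rw [← map_mul, sum_filter_idem ε hortho hsum p]
    have hunit : IsUnit (ρ (∑ j ∈ Finset.univ.filter p, ε j)) := by
      rw [← he, hρapp, Algebra.algebraMap_eq_smul_one, TensorProduct.tmul_smul,
        TensorProduct.smul_tmul', ← Algebra.algebraMap_eq_smul_one]
      exact hue.map (Algebra.TensorProduct.includeLeftRingHom : Lg →+* Lg ⊗[L] K)
    exact hunit.mul_left_cancel (by rw [hidem, mul_one])
  have hsum' : ∑ j : {j // p j}, ρ (ε j) = 1 := by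
    rw [← hE1, map_sum]
    exact (Finset.sum_subtype (Finset.univ.filter p) (fun x => by simp)
      (fun j => ρ (ε j))).symm
  have hortho' : ∀ i j : {j // p j}, i ≠ j → ρ (ε i) * ρ (ε j) = 0 := by
    intro i j hij
    rw [← map_mul, hortho i j (fun h => hij (Subtype.ext h)), map_zero]
  have hrel' : ∀ (i : {j // p j}) (q : P), ρ (ε i) • t'.gam φ q =
      ρ (ε i) • (MonoidAlgebra.single (f i q) (1 : Lg ⊗[L] K) :
        MonoidAlgebra (Lg ⊗[L] K) M) := by
    intro i q
    rw [ht', ← mapRingHom_smul, hrel, mapRingHom_smul, MonoidAlgebra.mapRingHom_single, map_one]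
  obtain ⟨E⟩ := glue φ t' (fun i : {j // p j} => ρ (ε i)) hortho' hsum' (fun i => f i) hrel'
    (fun i => κ i i.2) J hJ
  exact const_of_triv Lg (Lg ⊗[L] K) inferInstance N E

theorem main (hCft : Algebra.FiniteType R C) (J : Ideal A) [J.IsHopfIdeal R]
    (hJ : J = Ideal.map φ (RingHom.ker (Bialgebra.counitAlgHom R C)))
    (g₀ : R) (𝔭 : Ideal R) [h𝔭 : 𝔭.IsPrime] (hg₀ : g₀ ∉ 𝔭)
    (K : Type u) [CommRing K] [Algebra R K] [Algebra (Localization.Away g₀) K]
    [IsScalarTower R (Localization.Away g₀) K]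
    (hff : Module.FaithfullyFlat (Localization.Away g₀) K)
    {M P : Type u} [CommGroup M] [CommGroup P] (t : Triv R A C K M P) :
    ∃ g : R, g ∉ 𝔭 ∧
      SGA3b.IsMultTypeConst (Localization.Away g) (Localization.Away g ⊗[R] (A ⧸ J)) := by
  classical
  haveI := hff
  have hdisj : Disjoint (Submonoid.powers g₀ : Set R) (𝔭 : Set R) := by
    rw [Set.disjoint_left]
    rintro x ⟨n, rfl⟩ hx
    exact hg₀ (h𝔭.mem_of_pow_mem n hx)
  have h𝔮 : (Ideal.map (algebraMap R (Localization.Away g₀)) 𝔭).IsPrime :=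
    IsLocalization.isPrime_of_isPrime_disjoint (Submonoid.powers g₀) _ 𝔭 h𝔭 hdisj
  have h𝔮c : (Ideal.map (algebraMap R (Localization.Away g₀)) 𝔭).under R = 𝔭 :=
    IsLocalization.under_map_of_isPrime_disjoint (Submonoid.powers g₀) _ h𝔭 hdisj
  obtain ⟨𝔔, h𝔔, h𝔔o⟩ := Ideal.exists_isPrime_liesOver_of_faithfullyFlat (B := K)
    (Ideal.map (algebraMap R (Localization.Away g₀)) 𝔭)
  haveI : Nontrivial K := by
    by_contra hn
    rw [not_nontrivial_iff_subsingleton] at hn
    exact h𝔔.ne_top (Subsingleton.elim _ _)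
  have hP : Group.FG P := fg_of_finiteType t hCft
  obtain ⟨ι, _, ε, hortho, hsum, f, hrel⟩ := exists_refine φ t hP
  have hidem := idem_of_ortho ε hortho hsum
  let cls : ι → ι → Prop := fun i j => Nonempty ((M ⧸ (f i).range) ≃* (M ⧸ (f j).range))
  have cls_refl : ∀ i, cls i i := fun i => ⟨MulEquiv.refl _⟩
  have cls_symm : ∀ i j, cls i j → cls j i := fun i j ⟨e⟩ => ⟨e.symm⟩
  have cls_trans : ∀ i j k, cls i j → cls j k → cls i k := fun i j k ⟨e⟩ ⟨e'⟩ => ⟨e.trans e'⟩
  have hzero : ∀ i j, ¬ cls i j →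
      ε i ⊗ₜ[Localization.Away g₀] ε j = (0 : K ⊗[Localization.Away g₀] K) :=
    fun i j h => tmul_eq_zero_of_not_iso φ t J hJ (hidem i) (hidem j) (f i) (f j) (hrel i)
      (hrel j) h
  have hdesc : ∀ i, ∃ e : Localization.Away g₀,
      algebraMap (Localization.Away g₀) K e = ∑ j ∈ Finset.univ.filter (cls i), ε j := by
    intro i
    apply descend hff
    obtain ⟨E, hE⟩ : ∃ E, E = ∑ j ∈ Finset.univ.filter (cls i), ε j := ⟨_, rfl⟩
    obtain ⟨Ec, hEc⟩ : ∃ Ec, Ec = ∑ j ∈ Finset.univ.filter (fun j => ¬ cls i j), ε j := ⟨_, rfl⟩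
    have h1 : E + Ec = 1 := by
      rw [hE, hEc, Finset.sum_filter_add_sum_filter_not, hsum]
    have h2 : E ⊗ₜ[Localization.Away g₀] Ec = (0 : K ⊗[Localization.Away g₀] K) := by
      rw [hE, hEc, TensorProduct.sum_tmul]
      refine Finset.sum_eq_zero fun j hj => ?_
      rw [TensorProduct.tmul_sum]
      refine Finset.sum_eq_zero fun k hk => ?_
      apply hzero
      intro hjk
      exact (Finset.mem_filter.1 hk).2 (cls_trans _ _ _ (Finset.mem_filter.1 hj).2 hjk)
    have h3 : Ec ⊗ₜ[Localization.Away g₀] E = (0 : K ⊗[Localization.Away g₀] K) := by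
      rw [hE, hEc, TensorProduct.sum_tmul]
      refine Finset.sum_eq_zero fun j hj => ?_
      rw [TensorProduct.tmul_sum]
      refine Finset.sum_eq_zero fun k hk => ?_
      apply hzero
      intro hjk
      exact (Finset.mem_filter.1 hj).2
        (cls_trans _ _ _ (Finset.mem_filter.1 hk).2 (cls_symm _ _ hjk))
    rw [← hE]
    calc E ⊗ₜ[Localization.Away g₀] (1 : K) = E ⊗ₜ[Localization.Away g₀] (E + Ec) := by rw [h1]
      _ = E ⊗ₜ[Localization.Away g₀] E := by rw [TensorProduct.tmul_add, h2, add_zero]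
      _ = (E + Ec) ⊗ₜ[Localization.Away g₀] E := by rw [TensorProduct.add_tmul, h3, add_zero]
      _ = (1 : K) ⊗ₜ[Localization.Away g₀] E := by rw [h1]
  have hex : ∃ i₀, ε i₀ ∉ 𝔔 := by
    by_contra hcon
    push Not at hcon
    have h1 : (1 : K) ∈ 𝔔 := by
      rw [← hsum]
      exact Ideal.sum_mem _ (fun i _ => hcon i)
    exact h𝔔.ne_top ((Ideal.eq_top_iff_one _).2 h1)
  obtain ⟨i₀, hi₀⟩ := hex
  obtain ⟨e, he⟩ := hdesc i₀
  have hεE : ε i₀ * (∑ j ∈ Finset.univ.filter (cls i₀), ε j) = ε i₀ := by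
    rw [Finset.mul_sum, Finset.sum_eq_single i₀]
    · exact hidem i₀
    · intro j _ hj
      exact hortho i₀ j (Ne.symm hj)
    · intro h
      exact absurd (Finset.mem_filter.2 ⟨Finset.mem_univ _, cls_refl i₀⟩) h
  have heq : e ∉ Ideal.map (algebraMap R (Localization.Away g₀)) 𝔭 := by
    intro hmem
    have h1 : algebraMap (Localization.Away g₀) K e ∈ 𝔔 := by
      rw [h𝔔o.over] at hmem
      exact hmem
    rw [he] at h1
    apply hi₀
    rw [← hεE]
    exact Ideal.mul_mem_left _ _ h1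
  obtain ⟨n, a, hna⟩ := IsLocalization.Away.surj g₀ e
  have ha : a ∉ 𝔭 := by
    intro ha
    have h1 : algebraMap R (Localization.Away g₀) a ∈
        Ideal.map (algebraMap R (Localization.Away g₀)) 𝔭 := Ideal.mem_map_of_mem _ ha
    rw [← hna] at h1
    rcases h𝔮.mem_or_mem h1 with h2 | h2
    · exact heq h2
    · have h3 := h𝔮.mem_of_pow_mem n h2
      have h4 : g₀ ∈ (Ideal.map (algebraMap R (Localization.Away g₀)) 𝔭).under R := h3
      rw [h𝔮c] at h4
      exact hg₀ h4
  refine ⟨g₀ * a, fun h => (h𝔭.mem_or_mem h).elim hg₀ ha, ?_⟩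
  letI : Algebra (Localization.Away g₀) (Localization.Away (g₀ * a)) :=
    (IsLocalization.Away.awayToAwayRight g₀ a).toAlgebra
  haveI : IsScalarTower R (Localization.Away g₀) (Localization.Away (g₀ * a)) :=
    IsScalarTower.of_algebraMap_eq
      (fun r => (IsLocalization.Away.awayToAwayRight_eq g₀ a r).symm)
  have hue : IsUnit (algebraMap (Localization.Away g₀) (Localization.Away (g₀ * a)) e) := by
    have hunit : IsUnit (algebraMap R (Localization.Away (g₀ * a)) (g₀ * a)) :=
      IsLocalization.Away.algebraMap_isUnit _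
    rw [map_mul] at hunit
    have hua : IsUnit (algebraMap R (Localization.Away (g₀ * a)) a) :=
      isUnit_of_mul_isUnit_right hunit
    have h1 := congrArg (algebraMap (Localization.Away g₀) (Localization.Away (g₀ * a))) hna
    rw [map_mul, map_pow, ← IsScalarTower.algebraMap_apply, ← IsScalarTower.algebraMap_apply]
      at h1
    have h2 : IsUnit (algebraMap (Localization.Away g₀) (Localization.Away (g₀ * a)) e *
        algebraMap R (Localization.Away (g₀ * a)) g₀ ^ n) := by
      rw [h1]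
      exact hua
    exact isUnit_of_mul_isUnit_left h2
  exact finish φ K hff t ε hortho hsum f hrel J hJ (cls i₀) (M ⧸ (f i₀).range)
    (fun j hj => (Classical.choice hj).symm) e he hue

end Main

end Groth.Agent.H83.KerMult
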