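import Mathlib
import Groth.Prelude.Def_SGA3b
import Groth.Agent.H83.KerMultD

/-!
# Kernel of a homomorphism from a group of multiplicative type to an affine group of finite type,
part A: the local structure of the kernel over a trivialising algebra
-/

set_option autoImplicit false

universe u

open TensorProduct

namespace Groth.Agent.H83.KerGen

open Groth.Agent.H83.KerMult

section GroupAlg

variable {K : Type u} [CommRing K] {M : Type u} [CommGroup M]

theorem smul_mem_ideal (I : Ideal (MonoidAlgebra K M)) (k : K) {x : MonoidAlgebra K M}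
    (hx : x ∈ I) : k • x ∈ I := by
  rw [Algebra.smul_def]
  exact I.mul_mem_left _ hx

theorem sub_counit_eq_sum (x : MonoidAlgebra K M) :
    x - algebraMap K (MonoidAlgebra K M) (Coalgebra.counit (R := K) x) =
      ∑ m ∈ x.coeff.support,
        x.coeff m • ((MonoidAlgebra.single m (1 : K) : MonoidAlgebra K M) - 1) := by
  have h1 : ∑ m ∈ x.coeff.support,
      x.coeff m • ((MonoidAlgebra.single m (1 : K) : MonoidAlgebra K M) - 1) =
      (∑ m ∈ x.coeff.support, MonoidAlgebra.single m (x.coeff m)) -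
        (∑ m ∈ x.coeff.support, x.coeff m) • (1 : MonoidAlgebra K M) := by
    rw [Finset.sum_smul, ← Finset.sum_sub_distrib]
    refine Finset.sum_congr rfl fun m _ => ?_
    rw [smul_sub, MonoidAlgebra.smul_single, smul_eq_mul, mul_one]
  rw [h1, ← NilLift.eq_sum_single x, ← NilLift.counit_eq_sum, Algebra.algebraMap_eq_smul_one]

/-- Elements whose coefficients outside `N` lie in `𝔞`. -/
def W (N : Subgroup M) (𝔞 : Ideal K) : Submodule K (MonoidAlgebra K M) where
  carrier := {x | ∀ m, m ∉ N → x.coeff m ∈ 𝔞}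
  add_mem' := by
    intro x y hx hy m hm
    rw [MonoidAlgebra.coeff_add, Finsupp.add_apply]
    exact 𝔞.add_mem (hx m hm) (hy m hm)
  zero_mem' := by
    intro m _
    rw [MonoidAlgebra.coeff_zero, Finsupp.zero_apply]
    exact 𝔞.zero_mem
  smul_mem' := by
    intro k x hx m hm
    rw [MonoidAlgebra.coeff_smul, Finsupp.smul_apply, smul_eq_mul]
    exact 𝔞.mul_mem_left _ (hx m hm)

theorem mem_W {N : Subgroup M} {𝔞 : Ideal K} {x : MonoidAlgebra K M} :
    x ∈ W N 𝔞 ↔ ∀ m, m ∉ N → x.coeff m ∈ 𝔞 := Iff.rfl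

theorem single_mem_W (N : Subgroup M) (𝔞 : Ideal K) (m : M) (r : K) (h : m ∉ N → r ∈ 𝔞) :
    (MonoidAlgebra.single m r : MonoidAlgebra K M) ∈ W N 𝔞 := by
  classical
  intro μ hμ
  rw [MonoidAlgebra.coeff_single, Finsupp.single_apply]
  split_ifs with hm
  · exact h (hm ▸ hμ)
  · exact 𝔞.zero_mem

theorem one_mem_W (N : Subgroup M) (𝔞 : Ideal K) : (1 : MonoidAlgebra K M) ∈ W N 𝔞 := by
  rw [MonoidAlgebra.one_def]
  exact single_mem_W N 𝔞 1 1 (fun h => absurd N.one_mem h)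

theorem mul_mem_W (N : Subgroup M) (𝔞 : Ideal K) {x y : MonoidAlgebra K M} (hx : x ∈ W N 𝔞)
    (hy : y ∈ W N 𝔞) : x * y ∈ W N 𝔞 := by
  have hx' := NilLift.eq_sum_single x
  have hy' := NilLift.eq_sum_single y
  rw [hx', hy', Finset.sum_mul_sum]
  refine Submodule.sum_mem _ fun m _ => Submodule.sum_mem _ fun m' _ => ?_
  rw [MonoidAlgebra.single_mul_single]
  apply single_mem_W
  intro hmm
  by_cases hm : m ∈ N
  · have hm' : m' ∉ N := fun h => hmm (N.mul_mem hm h)
    exact 𝔞.mul_mem_left _ (hy m' hm')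
  · exact 𝔞.mul_mem_right _ (hx m hm)

/-- `x ⊗ y ↦ y_m • (x - ε x)`. -/
noncomputable def XiM (m : M) :
    MonoidAlgebra K M ⊗[K] MonoidAlgebra K M →ₗ[K] MonoidAlgebra K M :=
  (TensorProduct.rid K (MonoidAlgebra K M)).toLinearMap ∘ₗ
    TensorProduct.map
      (LinearMap.id - (Algebra.linearMap K (MonoidAlgebra K M)) ∘ₗ
        (Coalgebra.counit (R := K) (A := MonoidAlgebra K M)))
      (DiagSub.lc m)

theorem XiM_tmul (m : M) (x y : MonoidAlgebra K M) :
    XiM m (x ⊗ₜ[K] y) =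
      y.coeff m • (x - algebraMap K (MonoidAlgebra K M) (Coalgebra.counit (R := K) x)) := by
  simp [XiM, DiagSub.lc_apply]

theorem XiM_comul (m : M) (x : MonoidAlgebra K M) :
    XiM m (Coalgebra.comul (R := K) x) =
      x.coeff m • ((MonoidAlgebra.single m (1 : K) : MonoidAlgebra K M) - 1) := by
  classical
  induction x using MonoidAlgebra.induction_linear with
  | zero => simp
  | add x y hx hy =>
    rw [map_add, map_add, hx, hy, MonoidAlgebra.coeff_add, Finsupp.add_apply, add_smul]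
  | single μ r =>
    rw [MonoidAlgebra.comul_single, CommSemiring.comul_apply, TensorProduct.map_tmul,
      MonoidAlgebra.lsingle_apply, MonoidAlgebra.lsingle_apply, XiM_tmul,
      MonoidAlgebra.coeff_single, Finsupp.single_apply, MonoidAlgebra.counit_single,
      CommSemiring.counit_apply]
    split_ifs with h
    · subst h
      rw [map_one]
    · rw [zero_smul, zero_smul]

end GroupAlg

section Psi

variable {R : Type u} [CommRing R] {A C : Type u} [CommRing A] [CommRing C]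
  [HopfAlgebra R A] [HopfAlgebra R C] (φ : C →ₐc[R] A)
  {K : Type u} [CommRing K] [Algebra R K] {M : Type u} [CommGroup M]
  (e : (K ⊗[R] A) ≃ₐc[K] MonoidAlgebra K M)

/-- The composite `C → A → K[M]`. -/
noncomputable def psi (c : C) : MonoidAlgebra K M := NilLift.tau e (φ c)

theorem psi_add (c c' : C) : psi φ e (c + c') = psi φ e c + psi φ e c' := by
  unfold psi
  rw [map_add, NilLift.tau_add]

theorem psi_one : psi φ e 1 = 1 := by
  unfold psi
  rw [map_one, NilLift.tau_one]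

theorem psi_mul (c c' : C) : psi φ e (c * c') = psi φ e c * psi φ e c' := by
  unfold psi
  rw [map_mul, NilLift.tau_mul]

theorem psi_algebraMap (r : R) :
    psi φ e (algebraMap R C r) = algebraMap K (MonoidAlgebra K M) (algebraMap R K r) := by
  unfold psi
  rw [AlgHomClass.commutes, Algebra.algebraMap_eq_smul_one, NilLift.tau_smul, NilLift.tau_one,
    ← Algebra.algebraMap_eq_smul_one]

theorem psi_counit (c : C) :
    Coalgebra.counit (R := K) (psi φ e c) = algebraMap R K (Coalgebra.counit (R := R) c) := by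
  unfold psi
  rw [NilLift.tau_counit, CoalgHomClass.counit_comp_apply]

/-- The composite `C ⊗ C → A ⊗ A → K[M] ⊗ K[M]`. -/
noncomputable def psi2 (t : C ⊗[R] C) : MonoidAlgebra K M ⊗[K] MonoidAlgebra K M :=
  NilLift.tau2 e (TensorProduct.map (φ : C →ₗ[R] A) (φ : C →ₗ[R] A) t)

theorem psi2_tmul (c c' : C) : psi2 φ e (c ⊗ₜ[R] c') = psi φ e c ⊗ₜ[K] psi φ e c' := by
  unfold psi2 psi
  rw [TensorProduct.map_tmul, NilLift.tau2_tmul]
  rfl

theorem psi2_add (t t' : C ⊗[R] C) : psi2 φ e (t + t') = psi2 φ e t + psi2 φ e t' := by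
  unfold psi2
  rw [map_add, NilLift.tau2_add]

theorem psi2_zero : psi2 φ e 0 = 0 := by
  unfold psi2
  rw [map_zero, NilLift.tau2_zero]

theorem psi2_comul (c : C) :
    psi2 φ e (Coalgebra.comul (R := R) c) = Coalgebra.comul (R := K) (psi φ e c) := by
  unfold psi2 psi
  rw [← NilLift.tau2_comul]
  congr 1
  exact CoalgHomClass.map_comp_comul_apply φ c

theorem psi_mem_W (N : Subgroup M) (𝔞 : Ideal K) (s : Set C) (hs : Algebra.adjoin R s = ⊤)
    (h : ∀ c ∈ s, psi φ e c ∈ W N 𝔞) (c : C) : psi φ e c ∈ W N 𝔞 := by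
  have hc : c ∈ Algebra.adjoin R s := by
    rw [hs]
    exact Algebra.mem_top
  induction hc using Algebra.adjoin_induction with
  | mem x hx => exact h x hx
  | algebraMap r =>
    rw [psi_algebraMap, Algebra.algebraMap_eq_smul_one]
    exact (W N 𝔞).smul_mem _ (one_mem_W N 𝔞)
  | add x y _ _ hx hy =>
    rw [psi_add]
    exact (W N 𝔞).add_mem hx hy
  | mul x y _ _ hx hy =>
    rw [psi_mul]
    exact mul_mem_W N 𝔞 hx hy

theorem cf_mem_mul (𝔞 : Ideal K) (m : M) (h : ∀ c, (psi φ e c).coeff m ∈ 𝔞) (c : C) :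
    (psi φ e c).coeff m ∈ 𝔞 * 𝔞 := by
  classical
  have h1 : ∀ t : C ⊗[R] C, DiagSub.Lam m m (psi2 φ e t) ∈ 𝔞 * 𝔞 := by
    intro t
    induction t using TensorProduct.induction_on with
    | zero =>
      rw [psi2_zero, map_zero]
      exact Ideal.zero_mem _
    | tmul x y =>
      rw [psi2_tmul, DiagSub.Lam_tmul]
      exact Ideal.mul_mem_mul (h x) (h y)
    | add x y hx hy =>
      rw [psi2_add, map_add]
      exact Ideal.add_mem _ hx hy
  have h2 := h1 (Coalgebra.comul (R := R) c)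
  rw [psi2_comul, DiagSub.Lam_comul, if_pos rfl] at h2
  exact h2

/-- The generators `ψ c - ε c` of the ideal of the kernel. -/
noncomputable def dl (c : C) : MonoidAlgebra K M :=
  psi φ e c - algebraMap K (MonoidAlgebra K M) (algebraMap R K (Coalgebra.counit (R := R) c))

theorem dl_apply (c : C) : dl φ e c = e ((1 : K) ⊗ₜ[R] φ c) -
    algebraMap K (MonoidAlgebra K M) (algebraMap R K (Coalgebra.counit (R := R) c)) := rfl

theorem dl_eq (c : C) : dl φ e c =
    psi φ e c - algebraMap K (MonoidAlgebra K M) (Coalgebra.counit (R := K) (psi φ e c)) := by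
  unfold dl
  rw [psi_counit]

/-- The ideal of the kernel in `K[M]`. -/
noncomputable def JJ : Ideal (MonoidAlgebra K M) := Ideal.span (Set.range (dl φ e))

theorem dl_mem_JJ (c : C) : dl φ e c ∈ JJ φ e := Ideal.subset_span ⟨c, rfl⟩

theorem cf_smul_mem (c : C) (m : M) :
    (psi φ e c).coeff m • ((MonoidAlgebra.single m (1 : K) : MonoidAlgebra K M) - 1) ∈
      JJ φ e := by
  have h1 : ∀ t : C ⊗[R] C, XiM m (psi2 φ e t) ∈ JJ φ e := by
    intro t
    induction t using TensorProduct.induction_on with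
    | zero =>
      rw [psi2_zero, map_zero]
      exact Ideal.zero_mem _
    | tmul x y =>
      rw [psi2_tmul, XiM_tmul, ← dl_eq]
      exact smul_mem_ideal _ _ (dl_mem_JJ φ e x)
    | add x y hx hy =>
      rw [psi2_add, map_add]
      exact Ideal.add_mem _ hx hy
  have h2 := h1 (Coalgebra.comul (R := R) c)
  rw [psi2_comul, XiM_comul] at h2
  exact h2

/-- The scalars over which the kernel is `D(M/N)`. -/
noncomputable def T (N : Subgroup M) : Ideal K where
  carrier := {k | (∀ c, k • MonoidAlgebra.mapDomainAlgHom K K (QuotientGroup.mk' N) (dl φ e c) = 0) ∧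
    (∀ n ∈ N, k • ((MonoidAlgebra.single n (1 : K) : MonoidAlgebra K M) - 1) ∈ JJ φ e)}
  add_mem' := by
    rintro a b ⟨ha1, ha2⟩ ⟨hb1, hb2⟩
    refine ⟨fun c => ?_, fun n hn => ?_⟩
    · rw [add_smul, ha1, hb1, add_zero]
    · rw [add_smul]
      exact Ideal.add_mem _ (ha2 n hn) (hb2 n hn)
  zero_mem' := ⟨fun c => zero_smul _ _, fun n _ => by rw [zero_smul]; exact Ideal.zero_mem _⟩
  smul_mem' := by
    rintro r a ⟨ha1, ha2⟩
    refine ⟨fun c => ?_, fun n hn => ?_⟩
    · rw [smul_eq_mul, mul_smul, ha1, smul_zero]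
    · rw [smul_eq_mul, mul_smul]
      exact smul_mem_ideal _ _ (ha2 n hn)

theorem mem_T {N : Subgroup M} {k : K} : k ∈ T φ e N ↔
    (∀ c, k • MonoidAlgebra.mapDomainAlgHom K K (QuotientGroup.mk' N) (dl φ e c) = 0) ∧
    (∀ n ∈ N, k • ((MonoidAlgebra.single n (1 : K) : MonoidAlgebra K M) - 1) ∈ JJ φ e) :=
  Iff.rfl

theorem T_kills (N : Subgroup M) {k : K} (hk : k ∈ T φ e N) {x : MonoidAlgebra K M}
    (hx : x ∈ JJ φ e) :
    k • MonoidAlgebra.mapDomainAlgHom K K (QuotientGroup.mk' N) x = 0 := by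
  refine Submodule.span_induction
    (p := fun x _ => k • MonoidAlgebra.mapDomainAlgHom K K (QuotientGroup.mk' N) x = 0)
    ?_ ?_ ?_ ?_ hx
  · rintro _ ⟨c, rfl⟩
    exact ((mem_T φ e).1 hk).1 c
  · rw [map_zero, smul_zero]
  · intro a b _ _ ha hb
    rw [map_add, smul_add, ha, hb, add_zero]
  · intro a z _ hz
    rw [smul_eq_mul, map_mul, ← mul_smul_comm, hz, mul_zero]

theorem T_mul_T_aux {N N' : Subgroup M} {k k' : K} (hk : k ∈ T φ e N) (hk' : k' ∈ T φ e N')
    {n : M} (hn : n ∈ N) (hn' : n ∉ N') : k' * k = 0 := by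
  by_contra hne
  have h1 := T_kills φ e N' hk' (((mem_T φ e).1 hk).2 n hn)
  rw [map_smul, map_sub, map_one, MonoidAlgebra.mapDomainAlgHom_apply,
    MonoidAlgebra.mapDomain_single, smul_smul, smul_sub, sub_eq_zero, MonoidAlgebra.one_def] at h1
  have h2 := single_inj_of_smul hne h1
  exact hn' ((QuotientGroup.eq_one_iff n).1 h2)

theorem T_mul_T {N N' : Subgroup M} (hne : N ≠ N') {k k' : K} (hk : k ∈ T φ e N)
    (hk' : k' ∈ T φ e N') : k * k' = 0 := by
  by_contra h0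
  apply hne
  ext n
  constructor
  · intro hn
    by_contra hn'
    exact h0 (by rw [mul_comm]; exact T_mul_T_aux φ e hk hk' hn hn')
  · intro hn
    by_contra hn'
    exact h0 (T_mul_T_aux φ e hk' hk hn hn')

open Classical in
theorem exists_mem_T (s : Finset C) (hs : Algebra.adjoin R (s : Set C) = ⊤) (𝔮 : Ideal K)
    [h𝔮 : 𝔮.IsPrime] :
    ∃ S : Finset (C × M), S ⊆ s ×ˢ (s.biUnion fun c => (psi φ e c).coeff.support) ∧
      ∃ k, k ∉ 𝔮 ∧ k ∈ T φ e (Subgroup.closure ((S.image Prod.snd : Finset M) : Set M)) := by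
  classical
  obtain ⟨P, hP⟩ : ∃ P, P = s ×ˢ (s.biUnion fun c => (psi φ e c).coeff.support) := ⟨_, rfl⟩
  rw [← hP]
  obtain ⟨S, hS⟩ : ∃ S, S = P.filter (fun p => (psi φ e p.1).coeff p.2 ∉ 𝔮) := ⟨_, rfl⟩
  refine ⟨S, by rw [hS]; exact Finset.filter_subset _ _, ?_⟩
  obtain ⟨N, hN⟩ : ∃ N, N = Subgroup.closure ((S.image Prod.snd : Finset M) : Set M) := ⟨_, rfl⟩
  rw [← hN]
  obtain ⟨G, hG⟩ : ∃ G, G = (P.filter (fun p => p.2 ∉ N)).image
      (fun p => (psi φ e p.1).coeff p.2) := ⟨_, rfl⟩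
  obtain ⟨𝔞, h𝔞⟩ : ∃ 𝔞 : Ideal K, 𝔞 = Ideal.span (G : Set K) := ⟨_, rfl⟩
  have hGmem : ∀ x ∈ G, ∃ p ∈ P, p.2 ∉ N ∧ (psi φ e p.1).coeff p.2 = x := by
    intro x hx
    rw [hG, Finset.mem_image] at hx
    obtain ⟨p, hp, rfl⟩ := hx
    exact ⟨p, (Finset.mem_filter.1 hp).1, (Finset.mem_filter.1 hp).2, rfl⟩
  have h𝔞𝔮 : 𝔞 ≤ 𝔮 := by
    rw [h𝔞, Ideal.span_le]
    intro x hx
    obtain ⟨p, hpP, hpN, rfl⟩ := hGmem x (Finset.mem_coe.1 hx)
    by_contra hx𝔮
    apply hpN
    rw [hN]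
    apply Subgroup.subset_closure
    rw [Finset.mem_coe, Finset.mem_image]
    refine ⟨p, ?_, rfl⟩
    rw [hS]
    exact Finset.mem_filter.2 ⟨hpP, hx𝔮⟩
  have hgen : ∀ c ∈ (s : Set C), psi φ e c ∈ W N 𝔞 := by
    intro c hc m hm
    by_cases hsupp : m ∈ (psi φ e c).coeff.support
    · rw [h𝔞]
      apply Ideal.subset_span
      rw [hG, Finset.mem_coe, Finset.mem_image]
      refine ⟨(c, m), Finset.mem_filter.2 ⟨?_, hm⟩, rfl⟩
      rw [hP, Finset.mem_product]
      exact ⟨hc, Finset.mem_biUnion.2 ⟨c, hc, hsupp⟩⟩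
    · rw [Finsupp.notMem_support_iff.1 hsupp]
      exact 𝔞.zero_mem
  have hall : ∀ c, psi φ e c ∈ W N 𝔞 := psi_mem_W φ e N 𝔞 (s : Set C) hs hgen
  have hsq : 𝔞 ≤ 𝔞 • 𝔞 := by
    rw [smul_eq_mul]
    intro x hx
    rw [h𝔞] at hx
    refine Submodule.span_induction (p := fun x _ => x ∈ 𝔞 * 𝔞) ?_ ?_ ?_ ?_ hx
    · intro x hx
      obtain ⟨p, _, hpN, rfl⟩ := hGmem x (Finset.mem_coe.1 hx)
      exact cf_mem_mul φ e 𝔞 p.2 (fun c => hall c p.2 hpN) p.1
    · exact Ideal.zero_mem _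
    · intro a b _ _ ha hb
      exact Ideal.add_mem _ ha hb
    · intro a z _ hz
      exact Ideal.mul_mem_left _ _ hz
  have hfg : (𝔞 : Submodule K K).FG := ⟨G, h𝔞.symm⟩
  obtain ⟨r, hr1, hr0⟩ :=
    Submodule.exists_sub_one_mem_and_smul_eq_zero_of_fg_of_le_smul 𝔞 𝔞 hfg hsq
  have hr𝔮 : r ∉ 𝔮 := by
    intro h
    have h1 : r - (r - 1) ∈ 𝔮 := 𝔮.sub_mem h (h𝔞𝔮 hr1)
    rw [sub_sub_cancel] at h1
    exact h𝔮.ne_top ((Ideal.eq_top_iff_one _).2 h1)
  have hrcf : ∀ c m, m ∉ N → r * (psi φ e c).coeff m = 0 := by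
    intro c m hm
    have h1 := hr0 _ (hall c m hm)
    rwa [smul_eq_mul] at h1
  obtain ⟨s₀, hs₀⟩ : ∃ s₀, s₀ = ∏ p ∈ S, (psi φ e p.1).coeff p.2 := ⟨_, rfl⟩
  have hs₀𝔮 : s₀ ∉ 𝔮 := by
    rw [hs₀, Ideal.IsPrime.prod_mem_iff]
    push Not
    intro p hp
    rw [hS] at hp
    exact (Finset.mem_filter.1 hp).2
  have hs₀mem : ∀ n ∈ N,
      s₀ • ((MonoidAlgebra.single n (1 : K) : MonoidAlgebra K M) - 1) ∈ JJ φ e := by
    intro n hn
    rw [hN] at hn
    induction hn using Subgroup.closure_induction with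
    | mem x hx =>
      rw [Finset.mem_coe, Finset.mem_image] at hx
      obtain ⟨p, hp, rfl⟩ := hx
      obtain ⟨d, hd⟩ := Finset.dvd_prod_of_mem (fun p : C × M => (psi φ e p.1).coeff p.2) hp
      rw [hs₀, hd, mul_comm, mul_smul]
      exact smul_mem_ideal _ d (cf_smul_mem φ e p.1 p.2)
    | one =>
      rw [← MonoidAlgebra.one_def, sub_self, smul_zero]
      exact Ideal.zero_mem _
    | mul x y _ _ hx hy =>
      have h1 : s₀ • ((MonoidAlgebra.single (x * y) (1 : K) : MonoidAlgebra K M) - 1) =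
          (MonoidAlgebra.single x (1 : K) : MonoidAlgebra K M) *
            (s₀ • ((MonoidAlgebra.single y (1 : K) : MonoidAlgebra K M) - 1)) +
          s₀ • ((MonoidAlgebra.single x (1 : K) : MonoidAlgebra K M) - 1) := by
        rw [mul_smul_comm, mul_sub, mul_one, MonoidAlgebra.single_mul_single, mul_one, ← smul_add,
          sub_add_sub_cancel]
      rw [h1]
      exact Ideal.add_mem _ (Ideal.mul_mem_left _ _ hy) hx
    | inv x _ hx =>
      have h1 : s₀ • ((MonoidAlgebra.single x⁻¹ (1 : K) : MonoidAlgebra K M) - 1) =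
          (-(MonoidAlgebra.single x⁻¹ (1 : K) : MonoidAlgebra K M)) *
            (s₀ • ((MonoidAlgebra.single x (1 : K) : MonoidAlgebra K M) - 1)) := by
        rw [mul_smul_comm, neg_mul, mul_sub, mul_one, MonoidAlgebra.single_mul_single,
          inv_mul_cancel, mul_one, ← MonoidAlgebra.one_def, neg_sub]
      rw [h1]
      exact Ideal.mul_mem_left _ _ hx
  refine ⟨r * s₀, fun h => (h𝔮.mem_or_mem h).elim hr𝔮 hs₀𝔮, ?_⟩
  rw [mem_T]
  refine ⟨fun c => ?_, fun n hn => ?_⟩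
  · rw [dl_eq, sub_counit_eq_sum, map_sum, Finset.smul_sum]
    refine Finset.sum_eq_zero fun m _ => ?_
    rw [map_smul, smul_smul, map_sub, map_one, MonoidAlgebra.mapDomainAlgHom_apply,
      MonoidAlgebra.mapDomain_single]
    by_cases hm : m ∈ N
    · have h1 : (QuotientGroup.mk' N) m = 1 := (QuotientGroup.eq_one_iff m).2 hm
      rw [h1, ← MonoidAlgebra.one_def, sub_self, smul_zero]
    · have h1 : r * s₀ * (psi φ e c).coeff m = 0 := by
        rw [mul_right_comm, hrcf c m hm, zero_mul]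
      rw [h1, zero_smul]
  · rw [mul_smul]
    exact smul_mem_ideal _ r (hs₀mem n hn)

theorem exists_refine' (s : Finset C) (hs : Algebra.adjoin R (s : Set C) = ⊤) :
    ∃ (ι : Type u) (_ : Fintype ι) (ε : ι → K) (N : ι → Subgroup M),
      (∀ i j, i ≠ j → ε i * ε j = 0) ∧ ∑ i, ε i = 1 ∧
      (∀ i c, ε i •
        MonoidAlgebra.mapDomainAlgHom K K (QuotientGroup.mk' (N i)) (dl φ e c) = 0) ∧
      (∀ i, ∀ n ∈ N i,
        ε i • ((MonoidAlgebra.single n (1 : K) : MonoidAlgebra K M) - 1) ∈ JJ φ e) := by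
  classical
  obtain ⟨𝒩, h𝒩⟩ : ∃ 𝒩 : Finset (Subgroup M),
      𝒩 = (s ×ˢ (s.biUnion fun c => (psi φ e c).coeff.support)).powerset.image
        (fun S => Subgroup.closure ((S.image Prod.snd : Finset M) : Set M)) := ⟨_, rfl⟩
  have htop : (⨆ N ∈ 𝒩, T φ e N) = ⊤ := by
    by_contra hne
    obtain ⟨𝔮, h𝔮, hle⟩ := Ideal.exists_le_maximal _ hne
    haveI := h𝔮.isPrime
    obtain ⟨S, hSP, k, hk𝔮, hkT⟩ := exists_mem_T φ e s hs 𝔮
    apply hk𝔮
    apply hle
    have hmem : Subgroup.closure ((S.image Prod.snd : Finset M) : Set M) ∈ 𝒩 := by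
      rw [h𝒩]
      exact Finset.mem_image.2 ⟨S, Finset.mem_powerset.2 hSP, rfl⟩
    exact (le_iSup₂ (f := fun N (_ : N ∈ 𝒩) => T φ e N) _ hmem) hkT
  have h1 : (1 : K) ∈ ⨆ N ∈ 𝒩, T φ e N := by
    rw [htop]
    exact Submodule.mem_top
  rw [Submodule.mem_iSup_finset_iff_exists_sum] at h1
  obtain ⟨μ, hμ⟩ := h1
  refine ⟨↥𝒩, inferInstance, fun i => (μ i.1 : K), fun i => i.1, ?_, ?_, ?_, ?_⟩
  · intro i j hij
    have hne : i.1 ≠ j.1 := fun h => hij (Subtype.ext h)
    exact T_mul_T φ e hne (μ i.1).2 (μ j.1).2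
  · rw [← hμ]
    exact Finset.sum_coe_sort 𝒩 (fun N => (μ N : K))
  · intro i c
    exact ((mem_T φ e).1 (μ i.1).2).1 c
  · intro i n hn
    exact ((mem_T φ e).1 (μ i.1).2).2 n hn

end Psi

end Groth.Agent.H83.KerGen
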