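import Mathlib
import Groth.Prelude.Def_SGA3b
import Groth.Agent.H83.KerGenA

/-!
# Kernel of a homomorphism from a group of multiplicative type to an affine group, part B:
gluing a trivialisation of the kernel
-/

set_option autoImplicit false

universe u

open TensorProduct

namespace Groth.Agent.H83.KerGen

open Groth.Agent.H83.KerMult

section Glue

variable {R : Type u} [CommRing R] {A C : Type u} [CommRing A] [CommRing C]
  [HopfAlgebra R A] [HopfAlgebra R C] (φ : C →ₐc[R] A)
  {S : Type u} [CommRing S] [Algebra R S] {M Q : Type u} [CommGroup M] [CommGroup Q]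
  {ι : Type u} [Fintype ι]

theorem one_tmul_algebraMap' {B : Type u} [CommRing B] [Algebra R B] (r : R) :
    (1 : S) ⊗ₜ[R] (algebraMap R B r) = algebraMap S (S ⊗[R] B) (algebraMap R S r) := by
  rw [Algebra.TensorProduct.algebraMap_apply, Algebra.algebraMap_eq_smul_one r,
    TensorProduct.tmul_smul, TensorProduct.smul_tmul', ← Algebra.algebraMap_eq_smul_one]
  rfl

theorem glue' (e : (S ⊗[R] A) ≃ₐc[S] MonoidAlgebra S M) (ε : ι → S)
    (hortho : ∀ i j, i ≠ j → ε i * ε j = 0) (hsum : ∑ i, ε i = 1)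
    (N : ι → Subgroup M)
    (ha : ∀ i c, ε i •
      MonoidAlgebra.mapDomainAlgHom S S (QuotientGroup.mk' (N i)) (dl φ e c) = 0)
    (hb : ∀ i, ∀ n ∈ N i,
      ε i • ((MonoidAlgebra.single n (1 : S) : MonoidAlgebra S M) - 1) ∈ JJ φ e)
    (κ : ∀ i, (M ⧸ N i) ≃* Q)
    (J : Ideal A) [J.IsHopfIdeal R]
    (hJ : J = Ideal.map φ (RingHom.ker (Bialgebra.counitAlgHom R C))) :
    Nonempty ((S ⊗[R] (A ⧸ J)) ≃ₐc[S] MonoidAlgebra S Q) := by
  classical
  let ν : ι → (M →* Q) := fun i => (κ i).toMonoidHom.comp (QuotientGroup.mk' (N i))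
  have hνapp : ∀ i m, ν i m = κ i (QuotientGroup.mk' (N i) m) := fun i m => rfl
  have hνsurj : ∀ i, Function.Surjective (ν i) := by
    intro i n
    obtain ⟨q, rfl⟩ := (κ i).surjective n
    obtain ⟨m, rfl⟩ := QuotientGroup.mk'_surjective (N i) q
    exact ⟨m, rfl⟩
  let g := glueHom ε hortho hsum ν
  let G₀ : MonoidAlgebra S M →ₐ[S] MonoidAlgebra S Q := MonoidAlgebra.lift S _ M g
  have hG₀ : ∀ m, G₀ (MonoidAlgebra.single m 1) = g m := by
    intro m
    show MonoidAlgebra.lift S _ M g (MonoidAlgebra.single m 1) = g m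
    rw [MonoidAlgebra.lift_single, one_smul]
  have hggl : ∀ m, IsGroupLikeElem S (g m) :=
    fun m => isGroupLikeElem_sum ε hortho hsum (fun i => ν i m)
  let G : MonoidAlgebra S M →ₐc[S] MonoidAlgebra S Q := BialgHom.ofAlgHom G₀
    (by
      ext m
      rw [AlgHom.comp_apply, hG₀]
      have h1 : (Bialgebra.counitAlgHom S (MonoidAlgebra S Q)) (g m) = 1 :=
        (hggl m).counit_eq_one
      rw [h1]
      exact ((MonoidAlgebra.isGroupLikeElem_single_one (R := S) (A := S) m).counit_eq_one).symm)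
    (by
      ext m
      rw [AlgHom.comp_apply, AlgHom.comp_apply, hG₀]
      have h1 : (Bialgebra.comulAlgHom S (MonoidAlgebra S M)) (MonoidAlgebra.single m 1) =
          MonoidAlgebra.single m 1 ⊗ₜ[S] MonoidAlgebra.single m 1 :=
        (MonoidAlgebra.isGroupLikeElem_single_one (R := S) (A := S) m).comul_eq_tmul_self
      rw [h1, Algebra.TensorProduct.map_tmul, hG₀]
      exact ((hggl m).comul_eq_tmul_self).symm)
  have key : ∀ i y, ε i • G y = ε i • MonoidAlgebra.mapDomainAlgHom S S (ν i) y :=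
    fun i y => glue_key ε hortho hsum ν i y
  have hidem : ∀ i, ε i * ε i = ε i := idem_of_ortho ε hortho hsum
  let mkJ : A →ₐc[R] A ⧸ J := Bialgebra.Quotient.mkBialgHom (R := R) J
  have hmkJ : ∀ a, mkJ a = Ideal.Quotient.mk J a := fun a => rfl
  let Ψ : S ⊗[R] A →ₐc[S] S ⊗[R] (A ⧸ J) := Bialgebra.TensorProduct.map (BialgHom.id S S) mkJ
  have hΨ : ∀ (s : S) (a : A), Ψ (s ⊗ₜ[R] a) = s ⊗ₜ[R] mkJ a := fun s a => rfl
  let Φ : S ⊗[R] A →ₐc[S] MonoidAlgebra S Q := G.comp e.toBialgHom
  have hΦ : ∀ b, Φ b = G (e b) := fun b => rfl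
  have hΨsurj : Function.Surjective Ψ :=
    MultQuot.map_id_surjective (S := S) mkJ Ideal.Quotient.mk_surjective
  have hφJ : ∀ c : C, mkJ (φ c) = algebraMap R (A ⧸ J) (Coalgebra.counit c) := by
    intro c
    have h1 : c - algebraMap R C (Coalgebra.counit c) ∈
        RingHom.ker (Bialgebra.counitAlgHom R C) := by
      rw [RingHom.mem_ker, map_sub, AlgHom.commutes]
      show Coalgebra.counit c - algebraMap R R (Coalgebra.counit c) = 0
      simp
    have h2 : φ (c - algebraMap R C (Coalgebra.counit c)) ∈ J := by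
      rw [hJ]
      exact Ideal.mem_map_of_mem _ h1
    rw [map_sub, AlgHomClass.commutes] at h2
    rw [hmkJ, (Ideal.Quotient.eq (I := J)).2 h2]
    rfl
  have hfac : ∀ i (w : MonoidAlgebra S M), MonoidAlgebra.mapDomain (κ i).toMonoidHom
      (MonoidAlgebra.mapDomain (QuotientGroup.mk' (N i)) w) =
      MonoidAlgebra.mapDomain (ν i) w := by
    intro i w
    induction w using MonoidAlgebra.induction_linear with
    | zero => simp
    | add a b ha' hb' =>
      rw [MonoidAlgebra.mapDomain_add, MonoidAlgebra.mapDomain_add,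
        MonoidAlgebra.mapDomain_add, ha', hb']
    | single m r =>
      rw [MonoidAlgebra.mapDomain_single, MonoidAlgebra.mapDomain_single,
        MonoidAlgebra.mapDomain_single]
      rfl
  have hsmulκ : ∀ i (k : S) (w : MonoidAlgebra S (M ⧸ N i)),
      k • MonoidAlgebra.mapDomain (κ i).toMonoidHom w =
        MonoidAlgebra.mapDomain (κ i).toMonoidHom (k • w) := by
    intro i k w
    have h := map_smul (MonoidAlgebra.mapDomainAlgHom S S (κ i).toMonoidHom) k w
    rw [MonoidAlgebra.mapDomainAlgHom_apply, MonoidAlgebra.mapDomainAlgHom_apply] at h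
    exact h.symm
  have hGdl : ∀ c, G (dl φ e c) = 0 := by
    intro c
    have h1 : G (dl φ e c) = ∑ i, ε i • G (dl φ e c) := by
      rw [← Finset.sum_smul, hsum, one_smul]
    rw [h1]
    refine Finset.sum_eq_zero fun i _ => ?_
    have h2 := ha i c
    rw [MonoidAlgebra.mapDomainAlgHom_apply] at h2
    rw [key, MonoidAlgebra.mapDomainAlgHom_apply, ← hfac, hsmulκ, h2,
      MonoidAlgebra.mapDomain_zero]
  -- elements of `J` die under `Φ`
  have hJle : ∀ x ∈ J, Φ ((1 : S) ⊗ₜ[R] x) = 0 := by
    intro x hx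
    let χ : A →+* MonoidAlgebra S Q :=
      (Φ : S ⊗[R] A →+* MonoidAlgebra S Q).comp
        (Algebra.TensorProduct.includeRight : A →ₐ[R] S ⊗[R] A).toRingHom
    have hχ : ∀ a, χ a = Φ ((1 : S) ⊗ₜ[R] a) := fun a => rfl
    have hle : J ≤ RingHom.ker χ := by
      rw [hJ, Ideal.map_le_iff_le_comap]
      intro c hc
      rw [Ideal.mem_comap, RingHom.mem_ker, hχ, hΦ]
      have hc0 : Coalgebra.counit (R := R) c = 0 := hc
      have h1 := hGdl c
      rw [dl_apply, hc0, map_zero, map_zero, sub_zero] at h1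
      exact h1
    have := hle hx
    rw [RingHom.mem_ker, hχ] at this
    exact this
  have hfwd : ∀ b, Ψ b = 0 → Φ b = 0 := by
    intro b hb'
    have hmem : b ∈ RingHom.ker
        (Algebra.TensorProduct.map (AlgHom.id R S) (Ideal.Quotient.mkₐ R J)) := by
      rw [RingHom.mem_ker]
      have := MultQuot.map_id_eq (S := S) mkJ b
      exact this.symm.trans hb'
    have hkJ : RingHom.ker (Ideal.Quotient.mkₐ R J) = J := by
      ext z
      rw [RingHom.mem_ker]
      exact Ideal.Quotient.eq_zero_iff_mem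
    rw [Algebra.TensorProduct.lTensor_ker (A := S) (g := Ideal.Quotient.mkₐ R J)
      (Ideal.Quotient.mkₐ_surjective R J), hkJ] at hmem
    have hle : J.map (Algebra.TensorProduct.includeRight : A →ₐ[R] S ⊗[R] A) ≤
        RingHom.ker (Φ : S ⊗[R] A →ₐ[S] MonoidAlgebra S Q) := by
      rw [Ideal.map_le_iff_le_comap]
      intro x hx
      rw [Ideal.mem_comap, RingHom.mem_ker]
      exact hJle x hx
    exact (RingHom.mem_ker).1 (hle hmem)
  have hΦsurj : Function.Surjective Φ := by
    intro y
    induction y using MonoidAlgebra.induction_linear with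
    | zero => exact ⟨0, map_zero _⟩
    | add y₁ y₂ h₁ h₂ =>
      obtain ⟨a, rfl⟩ := h₁
      obtain ⟨b, rfl⟩ := h₂
      exact ⟨a + b, map_add _ _ _⟩
    | single n r =>
      choose m hm using fun i => hνsurj i n
      refine ⟨e.symm (∑ i, ε i • (MonoidAlgebra.single (m i) r : MonoidAlgebra S M)), ?_⟩
      rw [hΦ, BialgEquiv.apply_symm_apply, map_sum]
      have h1 : ∀ i ∈ Finset.univ,
          G (ε i • (MonoidAlgebra.single (m i) r : MonoidAlgebra S M)) =
            ε i • (MonoidAlgebra.single n r : MonoidAlgebra S Q) := by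
        intro i _
        rw [map_smul, key, MonoidAlgebra.mapDomainAlgHom_apply, MonoidAlgebra.mapDomain_single,
          hm]
      rw [Finset.sum_congr rfl h1, ← Finset.sum_smul, hsum, one_smul]
  have hbwd : ∀ b, Φ b = 0 → Ψ b = 0 := by
    intro b hb'
    rw [hΦ] at hb'
    obtain ⟨y, hy⟩ : ∃ y, y = e b := ⟨_, rfl⟩
    rw [← hy] at hb'
    let θ : MonoidAlgebra S M →+* S ⊗[R] (A ⧸ J) :=
      (Ψ : S ⊗[R] A →+* S ⊗[R] (A ⧸ J)).comp (e.symm : MonoidAlgebra S M →+* S ⊗[R] A)
    have hθ : ∀ x, θ x = Ψ (e.symm x) := fun x => rfl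
    have hdlθ : ∀ c, dl φ e c ∈ RingHom.ker θ := by
      intro c
      rw [RingHom.mem_ker, dl_apply, map_sub, hθ, BialgEquiv.symm_apply_apply, hΨ, hφJ, hθ,
        AlgHomClass.commutes, AlgHomClass.commutes, one_tmul_algebraMap', sub_self]
    have hJJθ : JJ φ e ≤ RingHom.ker θ := by
      unfold JJ
      rw [Ideal.span_le]
      rintro _ ⟨c, rfl⟩
      exact hdlθ c
    have hpiece : ∀ i, ε i • y ∈ RingHom.ker θ := by
      intro i
      have h1 : MonoidAlgebra.mapDomainAlgHom S S (QuotientGroup.mk' (N i)) (ε i • y) = 0 := by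
        have h2 : ε i • MonoidAlgebra.mapDomainAlgHom S S (ν i) y = 0 := by
          rw [← key, hb', smul_zero]
        have h4' : MonoidAlgebra.mapDomain (ν i) (ε i • y) = 0 := by
          have h := map_smul (MonoidAlgebra.mapDomainAlgHom S S (ν i)) (ε i) y
          rw [h2, MonoidAlgebra.mapDomainAlgHom_apply] at h
          exact h
        have h3 : MonoidAlgebra.mapDomain (κ i).toMonoidHom
            (MonoidAlgebra.mapDomain (QuotientGroup.mk' (N i)) (ε i • y)) =
            MonoidAlgebra.mapDomain (κ i).toMonoidHom 0 := by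
          rw [MonoidAlgebra.mapDomain_zero, hfac, h4']
        rw [MonoidAlgebra.mapDomainAlgHom_apply]
        exact MonoidAlgebra.mapDomain_injective (κ i).injective h3
      have h5 := DiagSub.mem_span_of_mapDomain_eq_zero (N i) h1
      have h6 : ∀ z ∈ Ideal.span (Set.range fun h : N i =>
          (MonoidAlgebra.single (h : M) (1 : S) - 1 : MonoidAlgebra S M)),
          ε i • z ∈ RingHom.ker θ := by
        intro z hz
        refine Submodule.span_induction (p := fun z _ => ε i • z ∈ RingHom.ker θ)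
          ?_ ?_ ?_ ?_ hz
        · rintro _ ⟨⟨h, hh⟩, rfl⟩
          exact hJJθ (hb i h hh)
        · rw [smul_zero]
          exact Ideal.zero_mem _
        · intro a b _ _ ha' hb''
          rw [smul_add]
          exact Ideal.add_mem _ ha' hb''
        · intro a z _ hz'
          rw [smul_eq_mul, ← mul_smul_comm]
          exact Ideal.mul_mem_left _ _ hz'
      have h8 := h6 _ h5
      rw [smul_smul, hidem] at h8
      exact h8
    have hsumy : y = ∑ i, ε i • y := by rw [← Finset.sum_smul, hsum, one_smul]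
    have hyker : y ∈ RingHom.ker θ := by
      rw [hsumy]
      exact Ideal.sum_mem _ (fun i _ => hpiece i)
    rw [RingHom.mem_ker, hθ, hy, BialgEquiv.symm_apply_apply] at hyker
    exact hyker
  exact MultQuot.nonempty_bialgEquiv_of_ker_eq (B := S ⊗[R] A) (C := S ⊗[R] (A ⧸ J))
    (D := MonoidAlgebra S Q) Ψ Φ hΨsurj hΦsurj (fun b => ⟨hfwd b, hbwd b⟩)

end Glue

end Groth.Agent.H83.KerGen
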