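import Mathlib
import Groth.Prelude.Def_SGA3b
import Groth.Agent.H83.KerGenB

/-!
# Kernel of a homomorphism from a group of multiplicative type to an affine group, part C:
base change of the local data, descent of the class idempotents, the local statement
-/

set_option autoImplicit false

universe u

open TensorProduct

namespace Groth.Agent.H83.KerGen

open Groth.Agent.H83.KerMult

section Push

variable {R : Type u} [CommRing R] {A C : Type u} [CommRing A] [CommRing C]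
  [HopfAlgebra R A] [HopfAlgebra R C] (φ : C →ₐc[R] A)
  {K K' : Type u} [CommRing K] [CommRing K'] [Algebra R K] [Algebra R K']
  {M : Type u} [CommGroup M]

theorem mapRingHom_algebraMap (ρ : K →+* K') (x : K) :
    MonoidAlgebra.mapRingHom M ρ (algebraMap K (MonoidAlgebra K M) x) =
      algebraMap K' (MonoidAlgebra K' M) (ρ x) := by
  rw [Algebra.algebraMap_eq_smul_one, mapRingHom_smul, map_one,
    ← Algebra.algebraMap_eq_smul_one]

theorem mapRingHom_mapDomain {M' : Type u} [CommGroup M'] (ρ : K →+* K') (f : M →* M')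
    (y : MonoidAlgebra K M) :
    MonoidAlgebra.mapRingHom M' ρ (MonoidAlgebra.mapDomain f y) =
      MonoidAlgebra.mapDomain f (MonoidAlgebra.mapRingHom M ρ y) := by
  induction y using MonoidAlgebra.induction_linear with
  | zero => simp
  | add a b ha hb =>
    rw [MonoidAlgebra.mapDomain_add, map_add, map_add, MonoidAlgebra.mapDomain_add, ha, hb]
  | single m r =>
    rw [MonoidAlgebra.mapDomain_single, MonoidAlgebra.mapRingHom_single,
      MonoidAlgebra.mapRingHom_single, MonoidAlgebra.mapDomain_single]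

variable (ρ : K →+* K') (hρ : ∀ r : R, ρ (algebraMap R K r) = algebraMap R K' r)
  (e : (K ⊗[R] A) ≃ₐc[K] MonoidAlgebra K M) (e' : (K' ⊗[R] A) ≃ₐc[K'] MonoidAlgebra K' M)
  (he' : ∀ (k : K) (a : A),
    e' (ρ k ⊗ₜ[R] a) = MonoidAlgebra.mapRingHom M ρ (e (k ⊗ₜ[R] a)))

include hρ he' in
theorem dl_push (c : C) : dl φ e' c = MonoidAlgebra.mapRingHom M ρ (dl φ e c) := by
  rw [dl_apply, dl_apply, map_sub, ← he', map_one, mapRingHom_algebraMap, hρ]

include hρ he' in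
theorem push_a (N : Subgroup M) (ε₀ : K) (c : C)
    (h : ε₀ • MonoidAlgebra.mapDomainAlgHom K K (QuotientGroup.mk' N) (dl φ e c) = 0) :
    ρ ε₀ • MonoidAlgebra.mapDomainAlgHom K' K' (QuotientGroup.mk' N) (dl φ e' c) = 0 := by
  have h1 := congrArg (MonoidAlgebra.mapRingHom (M ⧸ N) ρ) h
  rw [mapRingHom_smul, map_zero, MonoidAlgebra.mapDomainAlgHom_apply, mapRingHom_mapDomain,
    ← dl_push φ ρ hρ e e' he'] at h1
  rw [MonoidAlgebra.mapDomainAlgHom_apply]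
  exact h1

include hρ he' in
theorem push_JJ {x : MonoidAlgebra K M} (hx : x ∈ JJ φ e) :
    MonoidAlgebra.mapRingHom M ρ x ∈ JJ φ e' := by
  refine Submodule.span_induction
    (p := fun x _ => MonoidAlgebra.mapRingHom M ρ x ∈ JJ φ e') ?_ ?_ ?_ ?_ hx
  · rintro _ ⟨c, rfl⟩
    rw [← dl_push φ ρ hρ e e' he']
    exact dl_mem_JJ φ e' c
  · rw [map_zero]
    exact Ideal.zero_mem _
  · intro a b _ _ ha hb
    rw [map_add]
    exact Ideal.add_mem _ ha hb
  · intro a z _ hz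
    rw [smul_eq_mul, map_mul]
    exact Ideal.mul_mem_left _ _ hz

include hρ he' in
theorem push_b (ε₀ : K) (n : M)
    (h : ε₀ • ((MonoidAlgebra.single n (1 : K) : MonoidAlgebra K M) - 1) ∈ JJ φ e) :
    ρ ε₀ • ((MonoidAlgebra.single n (1 : K') : MonoidAlgebra K' M) - 1) ∈ JJ φ e' := by
  have h1 := push_JJ φ ρ hρ e e' he' h
  rw [mapRingHom_smul, map_sub, MonoidAlgebra.mapRingHom_single, map_one, map_one] at h1
  exact h1

end Push

section TypeAt

variable {R : Type u} [CommRing R] {A C : Type u} [CommRing A] [CommRing C]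
  [HopfAlgebra R A] [HopfAlgebra R C] (φ : C →ₐc[R] A)
  {K : Type u} [CommRing K] [Algebra R K] {M : Type u} [CommGroup M]

theorem type_at' (e : (K ⊗[R] A) ≃ₐc[K] MonoidAlgebra K M) {F : Type u} [CommRing F]
    [Algebra R F] (ρ : K →+* F)
    (hρ : ∀ r : R, ρ (algebraMap R K r) = algebraMap R F r) (ε₀ : K) (hε : ρ ε₀ = 1)
    (N₀ : Subgroup M)
    (ha : ∀ c, ε₀ •
      MonoidAlgebra.mapDomainAlgHom K K (QuotientGroup.mk' N₀) (dl φ e c) = 0)
    (hb : ∀ n ∈ N₀,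
      ε₀ • ((MonoidAlgebra.single n (1 : K) : MonoidAlgebra K M) - 1) ∈ JJ φ e)
    (J : Ideal A) [J.IsHopfIdeal R]
    (hJ : J = Ideal.map φ (RingHom.ker (Bialgebra.counitAlgHom R C))) :
    Nonempty ((F ⊗[R] (A ⧸ J)) ≃ₐc[F] MonoidAlgebra F (M ⧸ N₀)) := by
  obtain ⟨e', he'⟩ := exists_baseChange ρ hρ e
  refine glue' φ e' (ι := PUnit.{u+1}) (fun _ => 1)
    (fun i j h => absurd (Subsingleton.elim i j) h) (by simp) (fun _ => N₀) ?_ ?_
    (fun _ => MulEquiv.refl _) J hJ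
  · intro _ c
    have h1 := push_a φ ρ hρ e e' he' N₀ ε₀ c (ha c)
    rwa [hε] at h1
  · intro _ n hn
    have h1 := push_b φ ρ hρ e e' he' ε₀ n (hb n hn)
    rwa [hε] at h1

theorem tmul_eq_zero_of_ne' {L : Type u} [CommRing L] [Algebra R L] [Algebra L K]
    [IsScalarTower R L K] (e : (K ⊗[R] A) ≃ₐc[K] MonoidAlgebra K M) (J : Ideal A)
    [J.IsHopfIdeal R]
    (hJ : J = Ideal.map φ (RingHom.ker (Bialgebra.counitAlgHom R C)))
    {ε₁ ε₂ : K} (h₁ : ε₁ * ε₁ = ε₁) (h₂ : ε₂ * ε₂ = ε₂) (N₁ N₂ : Subgroup M)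
    (ha₁ : ∀ c, ε₁ •
      MonoidAlgebra.mapDomainAlgHom K K (QuotientGroup.mk' N₁) (dl φ e c) = 0)
    (hb₁ : ∀ n ∈ N₁,
      ε₁ • ((MonoidAlgebra.single n (1 : K) : MonoidAlgebra K M) - 1) ∈ JJ φ e)
    (ha₂ : ∀ c, ε₂ •
      MonoidAlgebra.mapDomainAlgHom K K (QuotientGroup.mk' N₂) (dl φ e c) = 0)
    (hb₂ : ∀ n ∈ N₂,
      ε₂ • ((MonoidAlgebra.single n (1 : K) : MonoidAlgebra K M) - 1) ∈ JJ φ e)
    (hniso : ¬ Nonempty ((M ⧸ N₁) ≃* (M ⧸ N₂))) :
    ε₁ ⊗ₜ[L] ε₂ = (0 : K ⊗[L] K) := by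
  by_contra hne
  have hidem : IsIdempotentElem (ε₁ ⊗ₜ[L] ε₂ : K ⊗[L] K) := by
    show (ε₁ ⊗ₜ[L] ε₂ : K ⊗[L] K) * (ε₁ ⊗ₜ[L] ε₂) = _
    rw [Algebra.TensorProduct.tmul_mul_tmul, h₁, h₂]
  obtain ⟨𝔱, h𝔱, -, hnot⟩ := Ideal.exists_le_prime_notMem_of_isIdempotentElem
    (I := (⊥ : Ideal (K ⊗[L] K))) _ hidem (by rwa [Ideal.mem_bot])
  have := h𝔱
  let ρ₁ : K →+* (K ⊗[L] K) ⧸ 𝔱 :=
    (Ideal.Quotient.mk 𝔱).comp (Algebra.TensorProduct.includeLeftRingHom)
  let ρ₂ : K →+* (K ⊗[L] K) ⧸ 𝔱 :=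
    (Ideal.Quotient.mk 𝔱).comp
      (Algebra.TensorProduct.includeRight : K →ₐ[L] K ⊗[L] K).toRingHom
  have hρ₁ : ∀ r : R, ρ₁ (algebraMap R K r) = algebraMap R ((K ⊗[L] K) ⧸ 𝔱) r := fun r => rfl
  have hρ₂ : ∀ r : R, ρ₂ (algebraMap R K r) = algebraMap R ((K ⊗[L] K) ⧸ 𝔱) r := by
    intro r
    show Ideal.Quotient.mk 𝔱 ((1 : K) ⊗ₜ[L] algebraMap R K r) = _
    rw [one_tmul_algebraMap]
    rfl
  have hprod : ρ₁ ε₁ * ρ₂ ε₂ ≠ 0 := by
    intro h0
    apply hnot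
    rw [← Ideal.Quotient.eq_zero_iff_mem]
    have h3 : (ε₁ ⊗ₜ[L] ε₂ : K ⊗[L] K) = (ε₁ ⊗ₜ[L] 1) * (1 ⊗ₜ[L] ε₂) := by
      rw [Algebra.TensorProduct.tmul_mul_tmul, mul_one, one_mul]
    rw [h3, map_mul]
    exact h0
  have hone₁ : ρ₁ ε₁ = 1 := by
    have hi : ρ₁ ε₁ * ρ₁ ε₁ = ρ₁ ε₁ := by rw [← map_mul, h₁]
    have hnz : ρ₁ ε₁ ≠ 0 := left_ne_zero_of_mul hprod
    exact mul_left_cancel₀ hnz (by rw [hi, mul_one])
  have hone₂ : ρ₂ ε₂ = 1 := by
    have hi : ρ₂ ε₂ * ρ₂ ε₂ = ρ₂ ε₂ := by rw [← map_mul, h₂]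
    have hnz : ρ₂ ε₂ ≠ 0 := right_ne_zero_of_mul hprod
    exact mul_left_cancel₀ hnz (by rw [hi, mul_one])
  obtain ⟨e₁⟩ := type_at' φ e ρ₁ hρ₁ ε₁ hone₁ N₁ ha₁ hb₁ J hJ
  obtain ⟨e₂⟩ := type_at' φ e ρ₂ hρ₂ ε₂ hone₂ N₂ ha₂ hb₂ J hJ
  exact hniso (mulEquiv_of_bialgEquiv (e₁.symm.trans e₂))

end TypeAt

section Main

variable {R : Type u} [CommRing R] {A C : Type u} [CommRing A] [CommRing C]
  [HopfAlgebra R A] [HopfAlgebra R C] (φ : C →ₐc[R] A)

theorem finish' {L Lg : Type u} [CommRing L] [CommRing Lg] [Algebra R L] [Algebra R Lg]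
    [Algebra L Lg] [IsScalarTower R L Lg]
    (K : Type u) [CommRing K] [Algebra R K] [Algebra L K] [IsScalarTower R L K]
    (hff : Module.FaithfullyFlat L K) {M : Type u} [CommGroup M]
    (e : (K ⊗[R] A) ≃ₐc[K] MonoidAlgebra K M) {ι : Type u} [Fintype ι] (ε : ι → K)
    (hortho : ∀ i j, i ≠ j → ε i * ε j = 0) (hsum : ∑ i, ε i = 1) (N : ι → Subgroup M)
    (ha : ∀ i c, ε i •
      MonoidAlgebra.mapDomainAlgHom K K (QuotientGroup.mk' (N i)) (dl φ e c) = 0)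
    (hb : ∀ i, ∀ n ∈ N i,
      ε i • ((MonoidAlgebra.single n (1 : K) : MonoidAlgebra K M) - 1) ∈ JJ φ e)
    (J : Ideal A) [J.IsHopfIdeal R]
    (hJ : J = Ideal.map φ (RingHom.ker (Bialgebra.counitAlgHom R C)))
    (p : ι → Prop) [DecidablePred p] (Q : Type u) [CommGroup Q]
    (κ : ∀ i, p i → (M ⧸ N i) ≃* Q)
    (e₀ : L) (he₀ : algebraMap L K e₀ = ∑ j ∈ Finset.univ.filter p, ε j)
    (hue : IsUnit (algebraMap L Lg e₀)) :
    SGA3b.IsMultTypeConst Lg (Lg ⊗[R] (A ⧸ J)) := by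
  classical
  have := hff
  let ρ : K →+* Lg ⊗[L] K := (Algebra.TensorProduct.includeRight : K →ₐ[L] Lg ⊗[L] K).toRingHom
  have hρ : ∀ r : R, ρ (algebraMap R K r) = algebraMap R (Lg ⊗[L] K) r :=
    fun r => one_tmul_algebraMap r
  have hρapp : ∀ k, ρ k = (1 : Lg) ⊗ₜ[L] k := fun k => rfl
  obtain ⟨e', he'⟩ := exists_baseChange ρ hρ e
  have hE1 : ρ (∑ j ∈ Finset.univ.filter p, ε j) = 1 := by
    have hidem : ρ (∑ j ∈ Finset.univ.filter p, ε j) * ρ (∑ j ∈ Finset.univ.filter p, ε j) =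
        ρ (∑ j ∈ Finset.univ.filter p, ε j) := by
      rw [← map_mul, sum_filter_idem ε hortho hsum p]
    have hunit : IsUnit (ρ (∑ j ∈ Finset.univ.filter p, ε j)) := by
      rw [← he₀, hρapp, Algebra.algebraMap_eq_smul_one, TensorProduct.tmul_smul,
        TensorProduct.smul_tmul', ← Algebra.algebraMap_eq_smul_one]
      exact hue.map (Algebra.TensorProduct.includeLeftRingHom : Lg →+* Lg ⊗[L] K)
    exact hunit.mul_left_cancel (by rw [hidem, mul_one])
  have hsum' : ∑ j : {j // p j}, ρ (ε j) = 1 := by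
    rw [← hE1, map_sum]
    exact (Finset.sum_subtype (Finset.univ.filter p) (fun x => by simp)
      (fun j => ρ (ε j))).symm
  have hortho' : ∀ i j : {j // p j}, i ≠ j → ρ (ε i) * ρ (ε j) = 0 := by
    intro i j hij
    rw [← map_mul, hortho i j (fun h => hij (Subtype.ext h)), map_zero]
  obtain ⟨E⟩ := glue' φ e' (fun i : {j // p j} => ρ (ε i)) hortho' hsum' (fun i => N i)
    (fun i c => push_a φ ρ hρ e e' he' (N i) (ε i) c (ha i c))
    (fun i n hn => push_b φ ρ hρ e e' he' (ε i) n (hb i n hn))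
    (fun i => κ i i.2) J hJ
  exact const_of_triv Lg (Lg ⊗[L] K) inferInstance Q E

theorem main' (s : Finset C) (hs : Algebra.adjoin R (s : Set C) = ⊤) (J : Ideal A)
    [J.IsHopfIdeal R]
    (hJ : J = Ideal.map φ (RingHom.ker (Bialgebra.counitAlgHom R C)))
    (g₀ : R) (𝔭 : Ideal R) [h𝔭 : 𝔭.IsPrime] (hg₀ : g₀ ∉ 𝔭)
    (K : Type u) [CommRing K] [Algebra R K] [Algebra (Localization.Away g₀) K]
    [IsScalarTower R (Localization.Away g₀) K]
    (hff : Module.FaithfullyFlat (Localization.Away g₀) K)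
    {M : Type u} [CommGroup M] (e : (K ⊗[R] A) ≃ₐc[K] MonoidAlgebra K M) :
    ∃ g : R, g ∉ 𝔭 ∧
      SGA3b.IsMultTypeConst (Localization.Away g) (Localization.Away g ⊗[R] (A ⧸ J)) := by
  classical
  have := hff
  have hdisj : Disjoint (Submonoid.powers g₀ : Set R) (𝔭 : Set R) := by
    rw [Set.disjoint_left]
    rintro x ⟨n, rfl⟩ hx
    exact hg₀ (h𝔭.mem_of_pow_mem n hx)
  have h𝔮 : (Ideal.map (algebraMap R (Localization.Away g₀)) 𝔭).IsPrime :=
    IsLocalization.isPrime_of_isPrime_disjoint (Submonoid.powers g₀) _ 𝔭 h𝔭 hdisj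
  have h𝔮c : (Ideal.map (algebraMap R (Localization.Away g₀)) 𝔭).under R = 𝔭 :=
    IsLocalization.under_map_of_isPrime_disjoint (Submonoid.powers g₀) _ h𝔭 hdisj
  obtain ⟨𝔔, h𝔔, h𝔔o⟩ := Ideal.exists_isPrime_liesOver_of_faithfullyFlat (B := K)
    (Ideal.map (algebraMap R (Localization.Away g₀)) 𝔭)
  obtain ⟨ι, _, ε, N, hortho, hsum, ha, hb⟩ := exists_refine' φ e s hs
  have hidem := idem_of_ortho ε hortho hsum
  let cls : ι → ι → Prop := fun i j => Nonempty ((M ⧸ N i) ≃* (M ⧸ N j))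
  have cls_refl : ∀ i, cls i i := fun i => ⟨MulEquiv.refl _⟩
  have cls_symm : ∀ i j, cls i j → cls j i := fun i j ⟨e⟩ => ⟨e.symm⟩
  have cls_trans : ∀ i j k, cls i j → cls j k → cls i k := fun i j k ⟨e⟩ ⟨e'⟩ => ⟨e.trans e'⟩
  have hzero : ∀ i j, ¬ cls i j →
      ε i ⊗ₜ[Localization.Away g₀] ε j = (0 : K ⊗[Localization.Away g₀] K) :=
    fun i j h => tmul_eq_zero_of_ne' φ e J hJ (hidem i) (hidem j) (N i) (N j) (ha i) (hb i)
      (ha j) (hb j) h
  have hdesc : ∀ i, ∃ e₀ : Localization.Away g₀,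
      algebraMap (Localization.Away g₀) K e₀ = ∑ j ∈ Finset.univ.filter (cls i), ε j := by
    intro i
    apply descend hff
    obtain ⟨E, hE⟩ : ∃ E, E = ∑ j ∈ Finset.univ.filter (cls i), ε j := ⟨_, rfl⟩
    obtain ⟨Ec, hEc⟩ : ∃ Ec, Ec = ∑ j ∈ Finset.univ.filter (fun j => ¬ cls i j), ε j := ⟨_, rfl⟩
    have h1 : E + Ec = 1 := by
      rw [hE, hEc, Finset.sum_filter_add_sum_filter_not, hsum]
    have h2 : E ⊗ₜ[Localization.Away g₀] Ec = (0 : K ⊗[Localization.Away g₀] K) := by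
      rw [hE, hEc, TensorProduct.sum_tmul]
      refine Finset.sum_eq_zero fun j hj => ?_
      rw [TensorProduct.tmul_sum]
      refine Finset.sum_eq_zero fun k hk => ?_
      apply hzero
      intro hjk
      exact (Finset.mem_filter.1 hk).2 (cls_trans _ _ _ (Finset.mem_filter.1 hj).2 hjk)
    have h3 : Ec ⊗ₜ[Localization.Away g₀] E = (0 : K ⊗[Localization.Away g₀] K) := by
      rw [hE, hEc, TensorProduct.sum_tmul]
      refine Finset.sum_eq_zero fun j hj => ?_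
      rw [TensorProduct.tmul_sum]
      refine Finset.sum_eq_zero fun k hk => ?_
      apply hzero
      intro hjk
      exact (Finset.mem_filter.1 hj).2
        (cls_trans _ _ _ (Finset.mem_filter.1 hk).2 (cls_symm _ _ hjk))
    rw [← hE]
    calc E ⊗ₜ[Localization.Away g₀] (1 : K) = E ⊗ₜ[Localization.Away g₀] (E + Ec) := by rw [h1]
      _ = E ⊗ₜ[Localization.Away g₀] E := by rw [TensorProduct.tmul_add, h2, add_zero]
      _ = (E + Ec) ⊗ₜ[Localization.Away g₀] E := by rw [TensorProduct.add_tmul, h3, add_zero]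
      _ = (1 : K) ⊗ₜ[Localization.Away g₀] E := by rw [h1]
  have hex : ∃ i₀, ε i₀ ∉ 𝔔 := by
    by_contra hcon
    push Not at hcon
    have h1 : (1 : K) ∈ 𝔔 := by
      rw [← hsum]
      exact Ideal.sum_mem _ (fun i _ => hcon i)
    exact h𝔔.ne_top ((Ideal.eq_top_iff_one _).2 h1)
  obtain ⟨i₀, hi₀⟩ := hex
  obtain ⟨e₀, he₀⟩ := hdesc i₀
  have hεE : ε i₀ * (∑ j ∈ Finset.univ.filter (cls i₀), ε j) = ε i₀ := by
    rw [Finset.mul_sum, Finset.sum_eq_single i₀]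
    · exact hidem i₀
    · intro j _ hj
      exact hortho i₀ j (Ne.symm hj)
    · intro h
      exact absurd (Finset.mem_filter.2 ⟨Finset.mem_univ _, cls_refl i₀⟩) h
  have heq : e₀ ∉ Ideal.map (algebraMap R (Localization.Away g₀)) 𝔭 := by
    intro hmem
    have h1 : algebraMap (Localization.Away g₀) K e₀ ∈ 𝔔 := by
      rw [h𝔔o.over] at hmem
      exact hmem
    rw [he₀] at h1
    apply hi₀
    rw [← hεE]
    exact Ideal.mul_mem_left _ _ h1
  obtain ⟨n, a, hna⟩ := IsLocalization.Away.surj g₀ e₀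
  have ha' : a ∉ 𝔭 := by
    intro ha'
    have h1 : algebraMap R (Localization.Away g₀) a ∈
        Ideal.map (algebraMap R (Localization.Away g₀)) 𝔭 := Ideal.mem_map_of_mem _ ha'
    rw [← hna] at h1
    rcases h𝔮.mem_or_mem h1 with h2 | h2
    · exact heq h2
    · have h3 := h𝔮.mem_of_pow_mem n h2
      have h4 : g₀ ∈ (Ideal.map (algebraMap R (Localization.Away g₀)) 𝔭).under R := h3
      rw [h𝔮c] at h4
      exact hg₀ h4
  refine ⟨g₀ * a, fun h => (h𝔭.mem_or_mem h).elim hg₀ ha', ?_⟩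
  letI : Algebra (Localization.Away g₀) (Localization.Away (g₀ * a)) :=
    (IsLocalization.Away.awayToAwayRight g₀ a).toAlgebra
  haveI : IsScalarTower R (Localization.Away g₀) (Localization.Away (g₀ * a)) :=
    IsScalarTower.of_algebraMap_eq
      (fun r => (IsLocalization.Away.awayToAwayRight_eq g₀ a r).symm)
  have hue : IsUnit (algebraMap (Localization.Away g₀) (Localization.Away (g₀ * a)) e₀) := by
    have hunit : IsUnit (algebraMap R (Localization.Away (g₀ * a)) (g₀ * a)) :=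
      IsLocalization.Away.algebraMap_isUnit _
    rw [map_mul] at hunit
    have hua : IsUnit (algebraMap R (Localization.Away (g₀ * a)) a) :=
      isUnit_of_mul_isUnit_right hunit
    have h1 := congrArg (algebraMap (Localization.Away g₀) (Localization.Away (g₀ * a))) hna
    rw [map_mul, map_pow, ← IsScalarTower.algebraMap_apply, ← IsScalarTower.algebraMap_apply]
      at h1
    have h2 : IsUnit (algebraMap (Localization.Away g₀) (Localization.Away (g₀ * a)) e₀ *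
        algebraMap R (Localization.Away (g₀ * a)) g₀ ^ n) := by
      rw [h1]
      exact hua
    exact isUnit_of_mul_isUnit_left h2
  exact finish' φ K hff e ε hortho hsum N ha hb J hJ (cls i₀) (M ⧸ N i₀)
    (fun j hj => (Classical.choice hj).symm) e₀ he₀ hue

end Main

end Groth.Agent.H83.KerGen
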