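import Mathlib
import Groth.Prelude.Def_SGA3b
import Groth.Agent.H83.KerGenC

/-!
# Kernel of a homomorphism from a group of multiplicative type to an affine group, part D:
the local structure of the kernel when its ideal is finitely generated
-/

set_option autoImplicit false

universe u

open TensorProduct

namespace Groth.Agent.H83.KerGen

open Groth.Agent.H83.KerMult

section GroupAlg2

variable {K : Type u} [CommRing K] {M : Type u} [CommGroup M]

/-- `x ⊗ y ↦ x_m * (image of y in K[M/N])_{m mod N}`. -/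
noncomputable def LamN (N : Subgroup M) (m : M) :
    MonoidAlgebra K M ⊗[K] MonoidAlgebra K M →ₗ[K] K :=
  LinearMap.mul' K K ∘ₗ TensorProduct.map (DiagSub.lc m)
    ((DiagSub.lc (QuotientGroup.mk' N m)) ∘ₗ
      (MonoidAlgebra.mapDomainAlgHom K K (QuotientGroup.mk' N)).toLinearMap)

theorem LamN_tmul (N : Subgroup M) (m : M) (x y : MonoidAlgebra K M) :
    LamN N m (x ⊗ₜ[K] y) = x.coeff m *
      (MonoidAlgebra.mapDomainAlgHom K K (QuotientGroup.mk' N) y).coeff (QuotientGroup.mk' N m) := by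
  simp [LamN, DiagSub.lc_apply]

theorem LamN_comul (N : Subgroup M) (m : M) (x : MonoidAlgebra K M) :
    LamN N m (Coalgebra.comul (R := K) x) = x.coeff m := by
  classical
  induction x using MonoidAlgebra.induction_linear with
  | zero => simp
  | add x y hx hy =>
    rw [map_add, map_add, hx, hy, MonoidAlgebra.coeff_add, Finsupp.add_apply]
  | single μ r =>
    rw [MonoidAlgebra.comul_single, CommSemiring.comul_apply, TensorProduct.map_tmul,
      MonoidAlgebra.lsingle_apply, MonoidAlgebra.lsingle_apply, LamN_tmul,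
      MonoidAlgebra.mapDomainAlgHom_apply, MonoidAlgebra.mapDomain_single,
      MonoidAlgebra.coeff_single, MonoidAlgebra.coeff_single, MonoidAlgebra.coeff_single,
      Finsupp.single_apply, Finsupp.single_apply, Finsupp.single_apply]
    by_cases h : μ = m
    · subst h
      rw [if_pos rfl, if_pos rfl, if_pos rfl, one_mul]
    · rw [if_neg h, if_neg h, zero_mul]

end GroupAlg2

section Core

variable {R : Type u} [CommRing R] {A C : Type u} [CommRing A] [CommRing C]
  [HopfAlgebra R A] [HopfAlgebra R C] (φ : C →ₐc[R] A)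
  {K : Type u} [CommRing K] [Algebra R K] {M : Type u} [CommGroup M]
  (e : (K ⊗[R] A) ≃ₐc[K] MonoidAlgebra K M)

open Classical in
theorem exists_mem_T_core (s : Finset C)
    (Hcl : ∀ (N : Subgroup M) (𝔞 : Ideal K), (∀ c ∈ (s : Set C), psi φ e c ∈ W N 𝔞) →
      ∀ c, psi φ e c ∈ W N 𝔞) (𝔮 : Ideal K)
    [h𝔮 : 𝔮.IsPrime] :
    ∃ S : Finset (C × M), S ⊆ s ×ˢ (s.biUnion fun c => (psi φ e c).coeff.support) ∧
      ∃ k, k ∉ 𝔮 ∧ k ∈ T φ e (Subgroup.closure ((S.image Prod.snd : Finset M) : Set M)) := by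
  classical
  obtain ⟨P, hP⟩ : ∃ P, P = s ×ˢ (s.biUnion fun c => (psi φ e c).coeff.support) := ⟨_, rfl⟩
  rw [← hP]
  obtain ⟨S, hS⟩ : ∃ S, S = P.filter (fun p => (psi φ e p.1).coeff p.2 ∉ 𝔮) := ⟨_, rfl⟩
  refine ⟨S, by rw [hS]; exact Finset.filter_subset _ _, ?_⟩
  obtain ⟨N, hN⟩ : ∃ N, N = Subgroup.closure ((S.image Prod.snd : Finset M) : Set M) := ⟨_, rfl⟩
  rw [← hN]
  obtain ⟨G, hG⟩ : ∃ G, G = (P.filter (fun p => p.2 ∉ N)).image
      (fun p => (psi φ e p.1).coeff p.2) := ⟨_, rfl⟩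
  obtain ⟨𝔞, h𝔞⟩ : ∃ 𝔞 : Ideal K, 𝔞 = Ideal.span (G : Set K) := ⟨_, rfl⟩
  have hGmem : ∀ x ∈ G, ∃ p ∈ P, p.2 ∉ N ∧ (psi φ e p.1).coeff p.2 = x := by
    intro x hx
    rw [hG, Finset.mem_image] at hx
    obtain ⟨p, hp, rfl⟩ := hx
    exact ⟨p, (Finset.mem_filter.1 hp).1, (Finset.mem_filter.1 hp).2, rfl⟩
  have h𝔞𝔮 : 𝔞 ≤ 𝔮 := by
    rw [h𝔞, Ideal.span_le]
    intro x hx
    obtain ⟨p, hpP, hpN, rfl⟩ := hGmem x (Finset.mem_coe.1 hx)
    by_contra hx𝔮
    apply hpN
    rw [hN]
    apply Subgroup.subset_closure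
    rw [Finset.mem_coe, Finset.mem_image]
    refine ⟨p, ?_, rfl⟩
    rw [hS]
    exact Finset.mem_filter.2 ⟨hpP, hx𝔮⟩
  have hgen : ∀ c ∈ (s : Set C), psi φ e c ∈ W N 𝔞 := by
    intro c hc m hm
    by_cases hsupp : m ∈ (psi φ e c).coeff.support
    · rw [h𝔞]
      apply Ideal.subset_span
      rw [hG, Finset.mem_coe, Finset.mem_image]
      refine ⟨(c, m), Finset.mem_filter.2 ⟨?_, hm⟩, rfl⟩
      rw [hP, Finset.mem_product]
      exact ⟨hc, Finset.mem_biUnion.2 ⟨c, hc, hsupp⟩⟩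
    · rw [Finsupp.notMem_support_iff.1 hsupp]
      exact 𝔞.zero_mem
  have hall : ∀ c, psi φ e c ∈ W N 𝔞 := Hcl N 𝔞 hgen
  have hsq : 𝔞 ≤ 𝔞 • 𝔞 := by
    rw [smul_eq_mul]
    intro x hx
    rw [h𝔞] at hx
    refine Submodule.span_induction (p := fun x _ => x ∈ 𝔞 * 𝔞) ?_ ?_ ?_ ?_ hx
    · intro x hx
      obtain ⟨p, _, hpN, rfl⟩ := hGmem x (Finset.mem_coe.1 hx)
      exact cf_mem_mul φ e 𝔞 p.2 (fun c => hall c p.2 hpN) p.1
    · exact Ideal.zero_mem _
    · intro a b _ _ ha hb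
      exact Ideal.add_mem _ ha hb
    · intro a z _ hz
      exact Ideal.mul_mem_left _ _ hz
  have hfg : (𝔞 : Submodule K K).FG := ⟨G, h𝔞.symm⟩
  obtain ⟨r, hr1, hr0⟩ :=
    Submodule.exists_sub_one_mem_and_smul_eq_zero_of_fg_of_le_smul 𝔞 𝔞 hfg hsq
  have hr𝔮 : r ∉ 𝔮 := by
    intro h
    have h1 : r - (r - 1) ∈ 𝔮 := 𝔮.sub_mem h (h𝔞𝔮 hr1)
    rw [sub_sub_cancel] at h1
    exact h𝔮.ne_top ((Ideal.eq_top_iff_one _).2 h1)
  have hrcf : ∀ c m, m ∉ N → r * (psi φ e c).coeff m = 0 := by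
    intro c m hm
    have h1 := hr0 _ (hall c m hm)
    rwa [smul_eq_mul] at h1
  obtain ⟨s₀, hs₀⟩ : ∃ s₀, s₀ = ∏ p ∈ S, (psi φ e p.1).coeff p.2 := ⟨_, rfl⟩
  have hs₀𝔮 : s₀ ∉ 𝔮 := by
    rw [hs₀, Ideal.IsPrime.prod_mem_iff]
    push Not
    intro p hp
    rw [hS] at hp
    exact (Finset.mem_filter.1 hp).2
  have hs₀mem : ∀ n ∈ N,
      s₀ • ((MonoidAlgebra.single n (1 : K) : MonoidAlgebra K M) - 1) ∈ JJ φ e := by
    intro n hn
    rw [hN] at hn
    induction hn using Subgroup.closure_induction with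
    | mem x hx =>
      rw [Finset.mem_coe, Finset.mem_image] at hx
      obtain ⟨p, hp, rfl⟩ := hx
      obtain ⟨d, hd⟩ := Finset.dvd_prod_of_mem (fun p : C × M => (psi φ e p.1).coeff p.2) hp
      rw [hs₀, hd, mul_comm, mul_smul]
      exact smul_mem_ideal _ d (cf_smul_mem φ e p.1 p.2)
    | one =>
      rw [← MonoidAlgebra.one_def, sub_self, smul_zero]
      exact Ideal.zero_mem _
    | mul x y _ _ hx hy =>
      have h1 : s₀ • ((MonoidAlgebra.single (x * y) (1 : K) : MonoidAlgebra K M) - 1) =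
          (MonoidAlgebra.single x (1 : K) : MonoidAlgebra K M) *
            (s₀ • ((MonoidAlgebra.single y (1 : K) : MonoidAlgebra K M) - 1)) +
          s₀ • ((MonoidAlgebra.single x (1 : K) : MonoidAlgebra K M) - 1) := by
        rw [mul_smul_comm, mul_sub, mul_one, MonoidAlgebra.single_mul_single, mul_one, ← smul_add,
          sub_add_sub_cancel]
      rw [h1]
      exact Ideal.add_mem _ (Ideal.mul_mem_left _ _ hy) hx
    | inv x _ hx =>
      have h1 : s₀ • ((MonoidAlgebra.single x⁻¹ (1 : K) : MonoidAlgebra K M) - 1) =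
          (-(MonoidAlgebra.single x⁻¹ (1 : K) : MonoidAlgebra K M)) *
            (s₀ • ((MonoidAlgebra.single x (1 : K) : MonoidAlgebra K M) - 1)) := by
        rw [mul_smul_comm, neg_mul, mul_sub, mul_one, MonoidAlgebra.single_mul_single,
          inv_mul_cancel, mul_one, ← MonoidAlgebra.one_def, neg_sub]
      rw [h1]
      exact Ideal.mul_mem_left _ _ hx
  refine ⟨r * s₀, fun h => (h𝔮.mem_or_mem h).elim hr𝔮 hs₀𝔮, ?_⟩
  rw [mem_T]
  refine ⟨fun c => ?_, fun n hn => ?_⟩
  · rw [dl_eq, sub_counit_eq_sum, map_sum, Finset.smul_sum]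
    refine Finset.sum_eq_zero fun m _ => ?_
    rw [map_smul, smul_smul, map_sub, map_one, MonoidAlgebra.mapDomainAlgHom_apply,
      MonoidAlgebra.mapDomain_single]
    by_cases hm : m ∈ N
    · have h1 : (QuotientGroup.mk' N) m = 1 := (QuotientGroup.eq_one_iff m).2 hm
      rw [h1, ← MonoidAlgebra.one_def, sub_self, smul_zero]
    · have h1 : r * s₀ * (psi φ e c).coeff m = 0 := by
        rw [mul_right_comm, hrcf c m hm, zero_mul]
      rw [h1, zero_smul]
  · rw [mul_smul]
    exact smul_mem_ideal _ r (hs₀mem n hn)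

theorem exists_refine_core (s : Finset C)
    (Hcl : ∀ (N : Subgroup M) (𝔞 : Ideal K), (∀ c ∈ (s : Set C), psi φ e c ∈ W N 𝔞) →
      ∀ c, psi φ e c ∈ W N 𝔞) :
    ∃ (ι : Type u) (_ : Fintype ι) (ε : ι → K) (N : ι → Subgroup M),
      (∀ i j, i ≠ j → ε i * ε j = 0) ∧ ∑ i, ε i = 1 ∧
      (∀ i c, ε i •
        MonoidAlgebra.mapDomainAlgHom K K (QuotientGroup.mk' (N i)) (dl φ e c) = 0) ∧
      (∀ i, ∀ n ∈ N i,
        ε i • ((MonoidAlgebra.single n (1 : K) : MonoidAlgebra K M) - 1) ∈ JJ φ e) := by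
  classical
  obtain ⟨𝒩, h𝒩⟩ : ∃ 𝒩 : Finset (Subgroup M),
      𝒩 = (s ×ˢ (s.biUnion fun c => (psi φ e c).coeff.support)).powerset.image
        (fun S => Subgroup.closure ((S.image Prod.snd : Finset M) : Set M)) := ⟨_, rfl⟩
  have htop : (⨆ N ∈ 𝒩, T φ e N) = ⊤ := by
    by_contra hne
    obtain ⟨𝔮, h𝔮, hle⟩ := Ideal.exists_le_maximal _ hne
    haveI := h𝔮.isPrime
    obtain ⟨S, hSP, k, hk𝔮, hkT⟩ := exists_mem_T_core φ e s Hcl 𝔮
    apply hk𝔮
    apply hle
    have hmem : Subgroup.closure ((S.image Prod.snd : Finset M) : Set M) ∈ 𝒩 := by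
      rw [h𝒩]
      exact Finset.mem_image.2 ⟨S, Finset.mem_powerset.2 hSP, rfl⟩
    exact (le_iSup₂ (f := fun N (_ : N ∈ 𝒩) => T φ e N) _ hmem) hkT
  have h1 : (1 : K) ∈ ⨆ N ∈ 𝒩, T φ e N := by
    rw [htop]
    exact Submodule.mem_top
  rw [Submodule.mem_iSup_finset_iff_exists_sum] at h1
  obtain ⟨μ, hμ⟩ := h1
  refine ⟨↥𝒩, inferInstance, fun i => (μ i.1 : K), fun i => i.1, ?_, ?_, ?_, ?_⟩
  · intro i j hij
    have hne : i.1 ≠ j.1 := fun h => hij (Subtype.ext h)
    exact T_mul_T φ e hne (μ i.1).2 (μ j.1).2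
  · rw [← hμ]
    exact Finset.sum_coe_sort 𝒩 (fun N => (μ N : K))
  · intro i c
    exact ((mem_T φ e).1 (μ i.1).2).1 c
  · intro i n hn
    exact ((mem_T φ e).1 (μ i.1).2).2 n hn


theorem hall_of_span (s : Finset C)
    (hs : ∀ c, dl φ e c ∈ Ideal.span ((dl φ e) '' (s : Set C)))
    (N : Subgroup M) (𝔞 : Ideal K) (hgen : ∀ c ∈ (s : Set C), psi φ e c ∈ W N 𝔞) (c : C) :
    psi φ e c ∈ W N 𝔞 := by
  classical
  have hB : ∀ c, MonoidAlgebra.mapDomainAlgHom K K (QuotientGroup.mk' N) (dl φ e c) ∈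
      𝔞 • (⊤ : Submodule K (MonoidAlgebra K (M ⧸ N))) := by
    intro c
    refine Submodule.span_induction
      (p := fun x _ => MonoidAlgebra.mapDomainAlgHom K K (QuotientGroup.mk' N) x ∈
        𝔞 • (⊤ : Submodule K (MonoidAlgebra K (M ⧸ N)))) ?_ ?_ ?_ ?_ (hs c)
    · rintro _ ⟨c', hc', rfl⟩
      rw [dl_eq, sub_counit_eq_sum, map_sum]
      refine Submodule.sum_mem _ fun m _ => ?_
      rw [map_smul, map_sub, map_one, MonoidAlgebra.mapDomainAlgHom_apply,
        MonoidAlgebra.mapDomain_single]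
      by_cases hm : m ∈ N
      · have h1 : (QuotientGroup.mk' N) m = 1 := (QuotientGroup.eq_one_iff m).2 hm
        rw [h1, ← MonoidAlgebra.one_def, sub_self, smul_zero]
        exact Submodule.zero_mem _
      · exact Submodule.smul_mem_smul (hgen c' hc' m hm) Submodule.mem_top
    · rw [map_zero]
      exact Submodule.zero_mem _
    · intro a b _ _ ha hb
      rw [map_add]
      exact Submodule.add_mem _ ha hb
    · intro a z _ hz
      rw [smul_eq_mul, map_mul]
      exact NilLift.mul_mem_smul_top 𝔞 _ hz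
  have hC : ∀ c, ∀ q : M ⧸ N, q ≠ 1 →
      (MonoidAlgebra.mapDomainAlgHom K K (QuotientGroup.mk' N) (psi φ e c)).coeff q ∈ 𝔞 := by
    intro c q hq
    have h1 : psi φ e c = dl φ e c + algebraMap K (MonoidAlgebra K M)
        (algebraMap R K (Coalgebra.counit (R := R) c)) := by
      unfold dl
      rw [sub_add_cancel]
    rw [h1, map_add, AlgHom.commutes, MonoidAlgebra.coeff_add, Finsupp.add_apply]
    have h2 : (algebraMap K (MonoidAlgebra K (M ⧸ N))
        (algebraMap R K (Coalgebra.counit (R := R) c))).coeff q = 0 := by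
      rw [Algebra.algebraMap_eq_smul_one, MonoidAlgebra.coeff_smul, Finsupp.smul_apply,
        MonoidAlgebra.one_def, MonoidAlgebra.coeff_single, Finsupp.single_apply,
        if_neg (Ne.symm hq), smul_zero]
    rw [h2, add_zero]
    exact NilLift.coeff_mem_of_mem_smul_top 𝔞 (hB c) q
  intro m hm
  have hq : (QuotientGroup.mk' N) m ≠ 1 := fun h => hm ((QuotientGroup.eq_one_iff m).1 h)
  have h1 : ∀ t : C ⊗[R] C, LamN N m (psi2 φ e t) ∈ 𝔞 := by
    intro t
    induction t using TensorProduct.induction_on with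
    | zero =>
      rw [psi2_zero, map_zero]
      exact 𝔞.zero_mem
    | tmul x y =>
      rw [psi2_tmul, LamN_tmul]
      exact 𝔞.mul_mem_left _ (hC y _ hq)
    | add x y hx hy =>
      rw [psi2_add, map_add]
      exact 𝔞.add_mem hx hy
  have h2 := h1 (Coalgebra.comul (R := R) c)
  rw [psi2_comul, LamN_comul] at h2
  exact h2

theorem dl_eq_tau (c : C) :
    dl φ e c = NilLift.tau e (φ c - algebraMap R A (Coalgebra.counit (R := R) c)) := by
  rw [NilLift.tau_sub, Algebra.algebraMap_eq_smul_one, NilLift.tau_smul, NilLift.tau_one,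
    ← Algebra.algebraMap_eq_smul_one]
  rfl

theorem dl_mem_span_of (s : Finset C)
    (hsA : ∀ c, φ c - algebraMap R A (Coalgebra.counit (R := R) c) ∈
      Ideal.span ((fun c => φ c - algebraMap R A (Coalgebra.counit (R := R) c)) '' (s : Set C)))
    (c : C) : dl φ e c ∈ Ideal.span ((dl φ e) '' (s : Set C)) := by
  rw [dl_eq_tau]
  refine Submodule.span_induction
    (p := fun x _ => NilLift.tau e x ∈ Ideal.span ((dl φ e) '' (s : Set C))) ?_ ?_ ?_ ?_ (hsA c)
  · rintro _ ⟨c', hc', rfl⟩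
    rw [← dl_eq_tau]
    exact Ideal.subset_span ⟨c', hc', rfl⟩
  · rw [NilLift.tau_zero]
    exact Ideal.zero_mem _
  · intro a b _ _ ha hb
    rw [NilLift.tau_add]
    exact Ideal.add_mem _ ha hb
  · intro a z _ hz
    rw [smul_eq_mul, NilLift.tau_mul]
    exact Ideal.mul_mem_left _ _ hz

end Core

section Gen

variable {R : Type u} [CommRing R] {A C : Type u} [CommRing A] [CommRing C]
  [HopfAlgebra R A] [HopfAlgebra R C] (φ : C →ₐc[R] A)

theorem exists_finset_gen (hC : IsNoetherianRing R ∨ Algebra.FinitePresentation R C)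
    (hft : Algebra.FiniteType R A) :
    ∃ s : Finset C, ∀ c, φ c - algebraMap R A (Coalgebra.counit (R := R) c) ∈
      Ideal.span ((fun c => φ c - algebraMap R A (Coalgebra.counit (R := R) c)) '' (s : Set C)) := by
  classical
  rcases hC with hN | hfp
  · have hA : IsNoetherianRing A := Algebra.FiniteType.isNoetherianRing R A
    have hfg : (Ideal.span (Set.range
        (fun c : C => φ c - algebraMap R A (Coalgebra.counit (R := R) c)))).FG :=
      IsNoetherian.noetherian _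
    obtain ⟨s', hs'sub, hs'eq⟩ := (Submodule.fg_span_iff_fg_span_finset_subset _).1 hfg
    rw [← Set.image_univ] at hs'sub
    obtain ⟨s, -, hs⟩ := Finset.subset_set_image_iff.1 hs'sub
    refine ⟨s, fun c => ?_⟩
    have h1 : φ c - algebraMap R A (Coalgebra.counit (R := R) c) ∈ Ideal.span (Set.range
        (fun c : C => φ c - algebraMap R A (Coalgebra.counit (R := R) c))) :=
      Ideal.subset_span ⟨c, rfl⟩
    have h2 : Ideal.span (Set.range
        (fun c : C => φ c - algebraMap R A (Coalgebra.counit (R := R) c))) =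
        Ideal.span ((s' : Finset A) : Set A) := hs'eq
    rw [h2, ← hs, Finset.coe_image] at h1
    exact h1
  · have hCft : Algebra.FiniteType R C := inferInstance
    obtain ⟨s, hs⟩ := hCft.out
    refine ⟨s, fun c => ?_⟩
    have hc : c ∈ Algebra.adjoin R (s : Set C) := by
      rw [hs]
      exact Algebra.mem_top
    induction hc using Algebra.adjoin_induction with
    | mem x hx => exact Ideal.subset_span ⟨x, hx, rfl⟩
    | algebraMap r =>
      rw [AlgHomClass.commutes, Bialgebra.counit_algebraMap, sub_self]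
      exact Ideal.zero_mem _
    | add x y _ _ hx hy =>
      have h1 : φ (x + y) - algebraMap R A (Coalgebra.counit (R := R) (x + y)) =
          (φ x - algebraMap R A (Coalgebra.counit (R := R) x)) +
          (φ y - algebraMap R A (Coalgebra.counit (R := R) y)) := by
        rw [map_add, map_add, map_add]
        ring
      rw [h1]
      exact Ideal.add_mem _ hx hy
    | mul x y _ _ hx hy =>
      have h1 : φ (x * y) - algebraMap R A (Coalgebra.counit (R := R) (x * y)) =
          φ x * (φ y - algebraMap R A (Coalgebra.counit (R := R) y)) +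
          algebraMap R A (Coalgebra.counit (R := R) y) *
            (φ x - algebraMap R A (Coalgebra.counit (R := R) x)) := by
        rw [map_mul, Bialgebra.counit_mul, map_mul]
        ring
      rw [h1]
      exact Ideal.add_mem _ (Ideal.mul_mem_left _ _ hy) (Ideal.mul_mem_left _ _ hx)

end Gen

end Groth.Agent.H83.KerGen
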