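import Mathlib
import Groth.Prelude.Def_SGA3b
import Groth.Agent.H83.KerGenD

/-!
# Kernel of a homomorphism from a group of multiplicative type to an affine group, part E:
over a local base, a homomorphism trivial on the closed fibre is trivial
-/

set_option autoImplicit false

universe u

open TensorProduct

namespace Groth.Agent.H83.KerGen

open Groth.Agent.H83.KerMult

section Point

variable {R : Type u} [CommRing R] {A C : Type u} [CommRing A] [CommRing C]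
  [HopfAlgebra R A] [HopfAlgebra R C] (φ : C →ₐc[R] A)
  {K : Type u} [CommRing K] [Algebra R K] {M : Type u} [CommGroup M]

theorem exists_point_of_tmul_ne_zero {L : Type u} [CommRing L] [Algebra R L] [Algebra L K]
    [IsScalarTower R L K] {x y : K} (hx : x * x = x) (hy : y * y = y)
    (hne : x ⊗ₜ[L] y ≠ (0 : K ⊗[L] K)) :
    ∃ (F : Type u) (_ : CommRing F) (_ : IsDomain F) (_ : Algebra R F) (ρ₁ ρ₂ : K →+* F),
      (∀ r : R, ρ₁ (algebraMap R K r) = algebraMap R F r) ∧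
      (∀ r : R, ρ₂ (algebraMap R K r) = algebraMap R F r) ∧ ρ₁ x = 1 ∧ ρ₂ y = 1 := by
  have hidem : IsIdempotentElem (x ⊗ₜ[L] y : K ⊗[L] K) := by
    show (x ⊗ₜ[L] y : K ⊗[L] K) * (x ⊗ₜ[L] y) = _
    rw [Algebra.TensorProduct.tmul_mul_tmul, hx, hy]
  obtain ⟨𝔱, h𝔱, -, hnot⟩ := Ideal.exists_le_prime_notMem_of_isIdempotentElem
    (I := (⊥ : Ideal (K ⊗[L] K))) _ hidem (by rwa [Ideal.mem_bot])
  have := h𝔱
  let ρ₁ : K →+* (K ⊗[L] K) ⧸ 𝔱 :=
    (Ideal.Quotient.mk 𝔱).comp (Algebra.TensorProduct.includeLeftRingHom)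
  let ρ₂ : K →+* (K ⊗[L] K) ⧸ 𝔱 :=
    (Ideal.Quotient.mk 𝔱).comp
      (Algebra.TensorProduct.includeRight : K →ₐ[L] K ⊗[L] K).toRingHom
  have hρ₁ : ∀ r : R, ρ₁ (algebraMap R K r) = algebraMap R ((K ⊗[L] K) ⧸ 𝔱) r := fun r => rfl
  have hρ₂ : ∀ r : R, ρ₂ (algebraMap R K r) = algebraMap R ((K ⊗[L] K) ⧸ 𝔱) r := by
    intro r
    show Ideal.Quotient.mk 𝔱 ((1 : K) ⊗ₜ[L] algebraMap R K r) = _
    rw [one_tmul_algebraMap]
    rfl
  have hprod : ρ₁ x * ρ₂ y ≠ 0 := by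
    intro h0
    apply hnot
    rw [← Ideal.Quotient.eq_zero_iff_mem]
    have h3 : (x ⊗ₜ[L] y : K ⊗[L] K) = (x ⊗ₜ[L] 1) * (1 ⊗ₜ[L] y) := by
      rw [Algebra.TensorProduct.tmul_mul_tmul, mul_one, one_mul]
    rw [h3, map_mul]
    exact h0
  have hone₁ : ρ₁ x = 1 := by
    have hi : ρ₁ x * ρ₁ x = ρ₁ x := by rw [← map_mul, hx]
    have hnz : ρ₁ x ≠ 0 := left_ne_zero_of_mul hprod
    exact mul_left_cancel₀ hnz (by rw [hi, mul_one])
  have hone₂ : ρ₂ y = 1 := by
    have hi : ρ₂ y * ρ₂ y = ρ₂ y := by rw [← map_mul, hy]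
    have hnz : ρ₂ y ≠ 0 := right_ne_zero_of_mul hprod
    exact mul_left_cancel₀ hnz (by rw [hi, mul_one])
  exact ⟨(K ⊗[L] K) ⧸ 𝔱, inferInstance, inferInstance, inferInstance, ρ₁, ρ₂, hρ₁, hρ₂,
    hone₁, hone₂⟩

theorem mk'_bot_injective : Function.Injective (QuotientGroup.mk' (⊥ : Subgroup M)) := by
  rw [← MonoidHom.ker_eq_bot_iff, QuotientGroup.ker_mk']

theorem core_trivial_class {F : Type u} [CommRing F] [Nontrivial F] [Algebra R F]
    (e : (K ⊗[R] A) ≃ₐc[K] MonoidAlgebra K M) (ρ₁ ρ₂ : K →+* F)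
    (hρ₁ : ∀ r : R, ρ₁ (algebraMap R K r) = algebraMap R F r)
    (hρ₂ : ∀ r : R, ρ₂ (algebraMap R K r) = algebraMap R F r) (εa εb : K)
    (h₁ : ρ₁ εa = 1) (h₂ : ρ₂ εb = 1)
    (ha : ∀ c, εa • MonoidAlgebra.mapDomainAlgHom K K
      (QuotientGroup.mk' (⊥ : Subgroup M)) (dl φ e c) = 0)
    (Nb : Subgroup M)
    (hb : ∀ n ∈ Nb,
      εb • ((MonoidAlgebra.single n (1 : K) : MonoidAlgebra K M) - 1) ∈ JJ φ e) :
    Nb = ⊥ := by
  obtain ⟨e₁, he₁⟩ := exists_baseChange ρ₁ hρ₁ e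
  obtain ⟨e₂, he₂⟩ := exists_baseChange ρ₂ hρ₂ e
  have h1 : ∀ c, dl φ e₁ c = 0 := by
    intro c
    have h := push_a φ ρ₁ hρ₁ e e₁ he₁ ⊥ εa c (ha c)
    rw [h₁, one_smul, MonoidAlgebra.mapDomainAlgHom_apply] at h
    have h0 : MonoidAlgebra.mapDomain (QuotientGroup.mk' (⊥ : Subgroup M))
        (0 : MonoidAlgebra F M) = 0 := MonoidAlgebra.mapDomain_zero _
    exact MonoidAlgebra.mapDomain_injective mk'_bot_injective (h.trans h0.symm)
  have h2 : ∀ c, (1 : F) ⊗ₜ[R] φ c =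
      algebraMap F (F ⊗[R] A) (algebraMap R F (Coalgebra.counit (R := R) c)) := by
    intro c
    have h := h1 c
    rw [dl_apply, sub_eq_zero] at h
    have h' := congrArg e₁.symm h
    rw [BialgEquiv.symm_apply_apply, AlgHomClass.commutes] at h'
    exact h'
  have h3 : ∀ c, dl φ e₂ c = 0 := by
    intro c
    rw [dl_apply, h2, AlgHomClass.commutes, sub_self]
  have hJJ : JJ φ e₂ = ⊥ := by
    unfold JJ
    rw [Ideal.span_eq_bot]
    rintro _ ⟨c, rfl⟩
    exact h3 c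
  rw [eq_bot_iff]
  intro n hn
  have h4 := push_b φ ρ₂ hρ₂ e e₂ he₂ εb n (hb n hn)
  rw [h₂, one_smul, hJJ, Ideal.mem_bot, sub_eq_zero, MonoidAlgebra.one_def] at h4
  exact Subgroup.mem_bot.2 (MonoidAlgebra.single_left_injective one_ne_zero h4)

theorem tmul_eq_zero_of_trivial {L : Type u} [CommRing L] [Algebra R L] [Algebra L K]
    [IsScalarTower R L K] (e : (K ⊗[R] A) ≃ₐc[K] MonoidAlgebra K M) {εa εb : K}
    (ha1 : εa * εa = εa) (hb1 : εb * εb = εb)
    (ha : ∀ c, εa • MonoidAlgebra.mapDomainAlgHom K K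
      (QuotientGroup.mk' (⊥ : Subgroup M)) (dl φ e c) = 0)
    (Nb : Subgroup M)
    (hb : ∀ n ∈ Nb,
      εb • ((MonoidAlgebra.single n (1 : K) : MonoidAlgebra K M) - 1) ∈ JJ φ e)
    (hNb : Nb ≠ ⊥) :
    εa ⊗ₜ[L] εb = (0 : K ⊗[L] K) ∧ εb ⊗ₜ[L] εa = (0 : K ⊗[L] K) := by
  constructor
  · by_contra hne
    obtain ⟨F, _, _, _, ρ₁, ρ₂, hρ₁, hρ₂, h₁, h₂⟩ :=
      exists_point_of_tmul_ne_zero (R := R) (L := L) ha1 hb1 hne
    exact hNb (core_trivial_class φ e ρ₁ ρ₂ hρ₁ hρ₂ εa εb h₁ h₂ ha Nb hb)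
  · by_contra hne
    obtain ⟨F, _, _, _, ρ₁, ρ₂, hρ₁, hρ₂, h₁, h₂⟩ :=
      exists_point_of_tmul_ne_zero (R := R) (L := L) hb1 ha1 hne
    exact hNb (core_trivial_class φ e ρ₂ ρ₁ hρ₂ hρ₁ εa εb h₂ h₁ ha Nb hb)

end Point

section Local

variable {R : Type u} [CommRing R] {A C : Type u} [CommRing A] [CommRing C]
  [HopfAlgebra R A] [HopfAlgebra R C] (φ : C →ₐc[R] A)

theorem exists_triv_local [IsLocalRing R] (h : SGA3b.IsMultType R A) :
    ∃ (K : Type u) (_ : CommRing K) (_ : Algebra R K), Module.FaithfullyFlat R K ∧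
      ∃ (M : Type u) (_ : CommGroup M), Nonempty ((K ⊗[R] A) ≃ₐc[K] MonoidAlgebra K M) := by
  obtain ⟨sA, hsA, hA'⟩ := h
  have h1 : ∃ f ∈ sA, IsUnit f := by
    by_contra hcon
    push Not at hcon
    have h2 : Ideal.span sA ≤ IsLocalRing.maximalIdeal R :=
      Ideal.span_le.2 (fun x hx => (IsLocalRing.mem_maximalIdeal x).2 (hcon x hx))
    rw [hsA] at h2
    exact (IsLocalRing.maximalIdeal.isMaximal R).ne_top (top_le_iff.1 h2)
  obtain ⟨f, hf, hfu⟩ := h1
  obtain ⟨K, _, _, _, _, hff, M, _, ⟨e⟩⟩ := trivOver_of_const _ (hA' f hf)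
  have hLff : Module.FaithfullyFlat R (Localization.Away f) := by
    have hle : Submonoid.powers f ≤ IsUnit.submonoid R := by
      rintro _ ⟨n, rfl⟩
      exact hfu.pow n
    exact Module.FaithfullyFlat.of_linearEquiv (R := R) (M := R)
      (IsLocalization.atUnits R (Submonoid.powers f) hle).toLinearEquiv.symm
  have := hff
  have := hLff
  exact ⟨K, inferInstance, inferInstance, Module.FaithfullyFlat.trans R (Localization.Away f) K,
    M, inferInstance, ⟨e⟩⟩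

theorem dl_eq_zero_of_local [IsLocalRing R] (K : Type u) [CommRing K] [Algebra R K]
    (hff : Module.FaithfullyFlat R K) {M : Type u} [CommGroup M]
    (e : (K ⊗[R] A) ≃ₐc[K] MonoidAlgebra K M) (s : Finset C)
    (hs : ∀ c, dl φ e c ∈ Ideal.span ((dl φ e) '' (s : Set C)))
    (hcl : ∀ c, φ c - algebraMap R A (Coalgebra.counit (R := R) c) ∈
      Ideal.map (algebraMap R A) (IsLocalRing.maximalIdeal R)) (c : C) :
    dl φ e c = 0 := by
  classical
  have := hff
  obtain ⟨ι, _, ε, N, hortho, hsum, ha, hb⟩ :=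
    exists_refine_core φ e s (hall_of_span φ e s hs)
  have hidem := idem_of_ortho ε hortho hsum
  -- the trivial class
  have hzero : ∀ j k, N j = ⊥ → N k ≠ ⊥ →
      ε j ⊗ₜ[R] ε k = (0 : K ⊗[R] K) ∧ ε k ⊗ₜ[R] ε j = (0 : K ⊗[R] K) := by
    intro j k hj hk
    have haj : ∀ c, ε j • MonoidAlgebra.mapDomainAlgHom K K
        (QuotientGroup.mk' (⊥ : Subgroup M)) (dl φ e c) = 0 := by
      intro c
      have h := ha j c
      rw [hj] at h
      exact h
    exact tmul_eq_zero_of_trivial φ (L := R) e (hidem j) (hidem k) haj (N k) (hb k) hk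
  obtain ⟨E, hE⟩ : ∃ E, E = ∑ j ∈ Finset.univ.filter (fun j => N j = ⊥), ε j := ⟨_, rfl⟩
  obtain ⟨Ec, hEc⟩ : ∃ Ec, Ec = ∑ j ∈ Finset.univ.filter (fun j => ¬ N j = ⊥), ε j := ⟨_, rfl⟩
  have hEEc : E + Ec = 1 := by
    rw [hE, hEc, Finset.sum_filter_add_sum_filter_not, hsum]
  have h2 : E ⊗ₜ[R] Ec = (0 : K ⊗[R] K) := by
    rw [hE, hEc, TensorProduct.sum_tmul]
    refine Finset.sum_eq_zero fun j hj => ?_
    rw [TensorProduct.tmul_sum]
    refine Finset.sum_eq_zero fun k hk => ?_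
    exact (hzero j k (Finset.mem_filter.1 hj).2 (Finset.mem_filter.1 hk).2).1
  have h3 : Ec ⊗ₜ[R] E = (0 : K ⊗[R] K) := by
    rw [hE, hEc, TensorProduct.sum_tmul]
    refine Finset.sum_eq_zero fun k hk => ?_
    rw [TensorProduct.tmul_sum]
    refine Finset.sum_eq_zero fun j hj => ?_
    exact (hzero j k (Finset.mem_filter.1 hj).2 (Finset.mem_filter.1 hk).2).2
  have hdesc : E ⊗ₜ[R] (1 : K) = (1 : K) ⊗ₜ[R] E := by
    calc E ⊗ₜ[R] (1 : K) = E ⊗ₜ[R] (E + Ec) := by rw [hEEc]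
      _ = E ⊗ₜ[R] E := by rw [TensorProduct.tmul_add, h2, add_zero]
      _ = (E + Ec) ⊗ₜ[R] E := by rw [TensorProduct.add_tmul, h3, add_zero]
      _ = (1 : K) ⊗ₜ[R] E := by rw [hEEc]
  obtain ⟨e₀, he₀⟩ := descend hff E hdesc
  have hEidem : E * E = E := by
    rw [hE]
    exact sum_filter_idem ε hortho hsum _
  -- a prime over the closed point
  obtain ⟨𝔔, h𝔔, h𝔔o⟩ := Ideal.exists_isPrime_liesOver_of_faithfullyFlat (B := K)
    (IsLocalRing.maximalIdeal R)
  have hex : ∃ i₁, ε i₁ ∉ 𝔔 := by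
    by_contra hcon
    push Not at hcon
    have h1 : (1 : K) ∈ 𝔔 := by
      rw [← hsum]
      exact Ideal.sum_mem _ (fun i _ => hcon i)
    exact h𝔔.ne_top ((Ideal.eq_top_iff_one _).2 h1)
  obtain ⟨i₁, hi₁⟩ := hex
  have hmap𝔔 : Ideal.map (algebraMap R K) (IsLocalRing.maximalIdeal R) ≤ 𝔔 :=
    Ideal.map_le_iff_le_comap.2 (le_of_eq h𝔔o.over)
  have hJJ𝔔 : ∀ x ∈ JJ φ e, x ∈ 𝔔 • (⊤ : Submodule K (MonoidAlgebra K M)) := by
    intro x hx
    refine Submodule.span_induction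
      (p := fun x _ => x ∈ 𝔔 • (⊤ : Submodule K (MonoidAlgebra K M))) ?_ ?_ ?_ ?_ hx
    · rintro _ ⟨c, rfl⟩
      rw [dl_eq_tau]
      have h1 : φ c - algebraMap R A (Coalgebra.counit (R := R) c) ∈
          (IsLocalRing.maximalIdeal R) • (⊤ : Submodule R A) := by
        rw [Ideal.smul_top_eq_map]
        exact hcl c
      exact Submodule.smul_mono_left hmap𝔔 (NilLift.tau_mem e _ h1)
    · exact Submodule.zero_mem _
    · intro a b _ _ ha' hb'
      exact Submodule.add_mem _ ha' hb'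
    · intro a z _ hz
      rw [smul_eq_mul]
      exact NilLift.mul_mem_smul_top 𝔔 _ hz
  have hN₁ : N i₁ = ⊥ := by
    rw [eq_bot_iff]
    intro n hn
    rw [Subgroup.mem_bot]
    by_contra hn1
    have h1 := NilLift.coeff_mem_of_mem_smul_top 𝔔 (hJJ𝔔 _ (hb i₁ n hn)) n
    rw [MonoidAlgebra.coeff_smul, Finsupp.smul_apply, NilLift.coeff_sub',
      MonoidAlgebra.coeff_single, MonoidAlgebra.one_def, MonoidAlgebra.coeff_single,
      Finsupp.single_apply, Finsupp.single_apply, if_pos rfl, if_neg (Ne.symm hn1), sub_zero,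
      smul_eq_mul, mul_one] at h1
    exact hi₁ h1
  have hεE : ε i₁ * E = ε i₁ := by
    rw [hE, Finset.mul_sum, Finset.sum_eq_single i₁]
    · exact hidem i₁
    · intro j _ hj
      exact hortho i₁ j (Ne.symm hj)
    · intro h
      exact absurd (Finset.mem_filter.2 ⟨Finset.mem_univ i₁, hN₁⟩ :
        i₁ ∈ Finset.univ.filter (fun j => N j = ⊥)) h
  have hE0 : E ≠ 0 := by
    intro h0
    apply hi₁
    rw [← hεE, h0, mul_zero]
    exact 𝔔.zero_mem
  have hE1 : E = 1 := by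
    rcases IsLocalRing.isUnit_or_isUnit_one_sub_self e₀ with hu | hu
    · have hu' : IsUnit E := by
        rw [← he₀]
        exact hu.map (algebraMap R K)
      exact hu'.mul_left_cancel (by rw [hEidem, mul_one])
    · exfalso
      have hu' : IsUnit (1 - E) := by
        rw [← he₀, ← map_one (algebraMap R K), ← map_sub]
        exact hu.map (algebraMap R K)
      have hi : (1 - E) * (1 - E) = 1 - E := by
        have : (1 - E) * (1 - E) = 1 - E - E + E * E := by ring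
        rw [this, hEidem]
        ring
      have h1 : 1 - E = 1 := hu'.mul_left_cancel (by rw [hi, mul_one])
      apply hE0
      have : E = 1 - (1 - E) := by ring
      rw [this, h1, sub_self]
  have hεzero : ∀ k, N k ≠ ⊥ → ε k = 0 := by
    intro k hk
    have h1 : ε k = ε k * E := by rw [hE1, mul_one]
    rw [h1, hE, Finset.mul_sum]
    refine Finset.sum_eq_zero fun j hj => ?_
    apply hortho
    intro hkj
    apply hk
    rw [hkj]
    exact (Finset.mem_filter.1 hj).2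
  have h4 : dl φ e c = ∑ j, ε j • dl φ e c := by
    rw [← Finset.sum_smul, hsum, one_smul]
  rw [h4]
  refine Finset.sum_eq_zero fun j _ => ?_
  by_cases hj : N j = ⊥
  · have h5 := ha j c
    rw [hj, ← map_smul, MonoidAlgebra.mapDomainAlgHom_apply] at h5
    have h0 : MonoidAlgebra.mapDomain (QuotientGroup.mk' (⊥ : Subgroup M))
        (0 : MonoidAlgebra K M) = 0 := MonoidAlgebra.mapDomain_zero _
    exact MonoidAlgebra.mapDomain_injective mk'_bot_injective (h5.trans h0.symm)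
  · rw [hεzero j hj, zero_smul]

theorem eq_counit_of_local [IsLocalRing R] (hft : Algebra.FiniteType R A)
    (hH : SGA3b.IsMultType R A)
    (hC : IsNoetherianRing R ∨ Algebra.FinitePresentation R C)
    (hcl : ∀ c, φ c - algebraMap R A (Coalgebra.counit (R := R) c) ∈
      Ideal.map (algebraMap R A) (IsLocalRing.maximalIdeal R)) (c : C) :
    φ c = algebraMap R A (Coalgebra.counit (R := R) c) := by
  obtain ⟨K, _, _, hff, M, _, ⟨e⟩⟩ := exists_triv_local hH
  obtain ⟨s, hs⟩ := exists_finset_gen φ hC hft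
  have h1 := dl_eq_zero_of_local φ K hff e s (dl_mem_span_of φ e s hs) hcl c
  rw [dl_eq_tau] at h1
  have h2 : (1 : K) ⊗ₜ[R] (φ c - algebraMap R A (Coalgebra.counit (R := R) c)) = 0 := by
    apply e.injective
    rw [map_zero]
    exact h1
  have := hff
  have hinj := Module.FaithfullyFlat.tensorProduct_mk_injective (A := R) (B := K) A
  have h3 : φ c - algebraMap R A (Coalgebra.counit (R := R) c) = 0 := by
    apply hinj
    rw [map_zero, TensorProduct.mk_apply]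
    exact h2
  exact sub_eq_zero.1 h3

end Local

end Groth.Agent.H83.KerGen
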