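import Mathlib
import Groth.Prelude.Def_SGA3b
import Groth.Agent.H83.MultTors
import Groth.Agent.H83.MultTors2
import Groth.Agent.H83.MultQuot
import Groth.Agent.H83.KerGenE

/-!
# Closed subgroups of groups of multiplicative type, part A

* `counit_powConv`, `torsionIdeal_le_ker`, `powConv_sub_mem` : the torsion ideal lies in the
  augmentation ideal.
* `finite_quot_torsion` : `A ⧸ torsionIdeal n` is a finite `R`-module (`A` split by a faithfully flat
  `K`, of finite type, `n > 0`), without using any Hopf structure on the quotient.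
* `nak` : Nakayama for augmented finite algebras over a local ring.
* `ker_le_sup` : over a local ring, if `ker ε ≤ J ⊔ 𝔪A` then `ker ε ≤ J ⊔ torsionIdeal n`.
-/

set_option autoImplicit false

universe u

open TensorProduct

namespace Groth.Agent.H83.ClosedSub

section general

variable {R : Type u} [CommRing R] {A : Type u} [CommRing A] [HopfAlgebra R A]

theorem counit_powConv (n : ℕ) (a : A) :
    Coalgebra.counit (R := R) (SGA3b.powConv R A n a) = Coalgebra.counit (R := R) a := by
  have h := MultTors.powConv_bialgHom (Bialgebra.counitBialgHom R A) n a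
  have h2 : ∀ r : R, SGA3b.powConv R R n r = r := fun r => by
    have h3 := (SGA3b.powConv R R n).commutes r
    simpa using h3
  rw [h2] at h
  exact h

theorem torsionIdeal_le_ker (n : ℕ) :
    SGA3b.torsionIdeal R A n ≤ RingHom.ker (Bialgebra.counitAlgHom R A) := by
  unfold SGA3b.torsionIdeal
  rw [Ideal.map_le_iff_le_comap]
  intro a ha
  rw [Ideal.mem_comap, RingHom.mem_ker]
  rw [RingHom.mem_ker] at ha
  have h1 : Coalgebra.counit (R := R) a = 0 := ha
  show Coalgebra.counit (R := R) (SGA3b.powConv R A n a) = 0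
  rw [counit_powConv, h1]

theorem sub_counit_mem_ker (a : A) :
    a - algebraMap R A (Coalgebra.counit (R := R) a) ∈
      RingHom.ker (Bialgebra.counitAlgHom R A) := by
  rw [RingHom.mem_ker, map_sub, AlgHom.commutes, Bialgebra.counitAlgHom_apply]
  simp

theorem powConv_sub_mem (n : ℕ) (a : A) :
    SGA3b.powConv R A n a - algebraMap R A (Coalgebra.counit (R := R) a) ∈
      SGA3b.torsionIdeal R A n := by
  have h3 := Ideal.mem_map_of_mem (SGA3b.powConv R A n) (sub_counit_mem_ker (R := R) a)
  rw [map_sub, AlgHom.commutes] at h3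
  exact h3

theorem finite_quot_torsion (K : Type u) [CommRing K] [Algebra R K] [Module.FaithfullyFlat R K]
    {M : Type u} [CommGroup M] (hM : Group.FG M)
    (e : (K ⊗[R] A) ≃ₐc[K] MonoidAlgebra K M) {n : ℕ} (hn : 0 < n) :
    Module.Finite R (A ⧸ SGA3b.torsionIdeal R A n) := by
  obtain ⟨T, hT⟩ : ∃ T : Ideal A, T = SGA3b.torsionIdeal R A n := ⟨_, rfl⟩
  rw [← hT]
  let Ψ : K ⊗[R] A →ₐ[K] K ⊗[R] (A ⧸ T) :=
    Algebra.TensorProduct.map (AlgHom.id K K) (Ideal.Quotient.mkₐ R T)
  have hΨt : ∀ (k : K) (a : A), Ψ (k ⊗ₜ[R] a) = k ⊗ₜ[R] Ideal.Quotient.mk T a := by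
    intro k a
    simp [Ψ]
  have hΨs : Function.Surjective Ψ := by
    intro y
    induction y using TensorProduct.induction_on with
    | zero => exact ⟨0, map_zero _⟩
    | tmul k b =>
      obtain ⟨a, rfl⟩ := Ideal.Quotient.mk_surjective b
      exact ⟨k ⊗ₜ[R] a, hΨt k a⟩
    | add y₁ y₂ h₁ h₂ =>
      obtain ⟨x₁, rfl⟩ := h₁
      obtain ⟨x₂, rfl⟩ := h₂
      exact ⟨x₁ + x₂, map_add _ _ _⟩
  have key : ∀ z : K ⊗[R] A, Ψ (SGA3b.powConv K (K ⊗[R] A) n z) =
      algebraMap K (K ⊗[R] (A ⧸ T)) (Coalgebra.counit (R := K) z) := by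
    intro z
    induction z using TensorProduct.induction_on with
    | zero => simp
    | tmul k a =>
      rw [MultTors.powConv_baseChange, ← AlgHom.commutes Ψ, MultTors.counit_tmul_eq, hΨt, hΨt]
      congr 1
      rw [Ideal.Quotient.eq, hT]
      exact powConv_sub_mem n a
    | add x y hx hy => simp only [map_add, hx, hy]
  let es : MonoidAlgebra K M →ₐc[K] K ⊗[R] A := e.symm.toBialgHom
  have hes : Function.Surjective es := e.symm.surjective
  have hpow : ∀ m : M, (Ψ (es (MonoidAlgebra.single m 1))) ^ n = 1 := by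
    intro m
    have h1 := MultTors.powConv_bialgHom es n (MonoidAlgebra.single m (1 : K))
    rw [MultTors.powConv_single] at h1
    have h2 := key (es (MonoidAlgebra.single m 1))
    rw [← h1] at h2
    have h3 : Coalgebra.counit (R := K) (es (MonoidAlgebra.single m (1 : K))) = 1 := by
      rw [CoalgHomClass.counit_comp_apply, MonoidAlgebra.counit_single]
      simp
    rw [h3, map_one] at h2
    rw [← map_pow, ← map_pow, MonoidAlgebra.single_pow, one_pow]
    exact h2
  have hint : Algebra.IsIntegral K (K ⊗[R] (A ⧸ T)) := by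
    refine ⟨fun y => ?_⟩
    obtain ⟨z, rfl⟩ := hΨs y
    obtain ⟨w, rfl⟩ := hes z
    induction w using MonoidAlgebra.induction_linear with
    | zero =>
      rw [map_zero, map_zero]
      exact isIntegral_zero
    | add x y hx hy =>
      rw [map_add, map_add]
      exact hx.add hy
    | single m r =>
      have h1 : (MonoidAlgebra.single m r : MonoidAlgebra K M) =
          r • MonoidAlgebra.single m 1 := by
        rw [MonoidAlgebra.smul_single', mul_one]
      rw [h1, map_smul, map_smul]
      have h5 : r • Ψ (es (MonoidAlgebra.single m 1)) =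
          algebraMap K (K ⊗[R] (A ⧸ T)) r * Ψ (es (MonoidAlgebra.single m 1)) :=
        Algebra.smul_def (R := K) (A := K ⊗[R] (A ⧸ T)) r _
      rw [h5]
      refine IsIntegral.mul isIntegral_algebraMap ?_
      refine IsIntegral.of_pow hn ?_
      rw [hpow m]
      exact isIntegral_one
  haveI : Monoid.FG M := Group.fg_iff_monoid_fg.1 hM
  haveI hft' : Algebra.FiniteType K (K ⊗[R] (A ⧸ T)) :=
    Algebra.FiniteType.of_surjective (Ψ.comp (es : MonoidAlgebra K M →ₐ[K] K ⊗[R] A))
      (hΨs.comp hes)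
  haveI : Module.Finite K (K ⊗[R] (A ⧸ T)) := Algebra.IsIntegral.finite
  exact Module.Finite.of_finite_tensorProduct_of_faithfullyFlat K

end general

section nakayama

theorem nak {R : Type u} [CommRing R] [IsLocalRing R] {D : Type u} [CommRing D] [Algebra R D]
    [Module.Finite R D] (εD : D →ₐ[R] R)
    (h : ∀ d, εD d = 0 → d ∈ (IsLocalRing.maximalIdeal R) • (⊤ : Submodule R D)) :
    ∀ d, εD d = 0 → d = 0 := by
  let ν : D →ₗ[R] D := LinearMap.id - (Algebra.linearMap R D).comp εD.toLinearMap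
  have hν : ∀ d, ν d = d - algebraMap R D (εD d) := fun d => rfl
  have hεν : ∀ d, εD (ν d) = 0 := by
    intro d
    rw [hν, map_sub, AlgHom.commutes]
    simp
  have hfix : ∀ d, εD d = 0 → ν d = d := by
    intro d hd
    rw [hν, hd, map_zero, sub_zero]
  have hfg : (LinearMap.range ν).FG := by
    rw [LinearMap.range_eq_map]
    exact Module.Finite.fg_top.map ν
  have hle : LinearMap.range ν ≤ (IsLocalRing.maximalIdeal R) • LinearMap.range ν := by
    rintro _ ⟨d, rfl⟩
    have h1 := h (ν d) (hεν d)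
    have h2 : ν (ν d) ∈ Submodule.map ν
        ((IsLocalRing.maximalIdeal R) • (⊤ : Submodule R D)) :=
      Submodule.mem_map_of_mem h1
    rw [Submodule.map_smul'', Submodule.map_top, hfix _ (hεν d)] at h2
    exact h2
  have hbot := Submodule.eq_bot_of_le_smul_of_le_jacobson_bot _ _ hfg hle
    (IsLocalRing.maximalIdeal_le_jacobson _)
  intro d hd
  have h3 : ν d ∈ LinearMap.range ν := ⟨d, rfl⟩
  rw [hbot, Submodule.mem_bot, hfix d hd] at h3
  exact h3

end nakayama

section loc

variable {R : Type u} [CommRing R] [IsLocalRing R] {A : Type u} [CommRing A] [HopfAlgebra R A]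

theorem ker_le_sup (K : Type u) [CommRing K] [Algebra R K] [Module.FaithfullyFlat R K]
    {M : Type u} [CommGroup M] (hM : Group.FG M)
    (e : (K ⊗[R] A) ≃ₐc[K] MonoidAlgebra K M) (J : Ideal A)
    (hJ : J ≤ RingHom.ker (Bialgebra.counitAlgHom R A))
    (hs : RingHom.ker (Bialgebra.counitAlgHom R A) ≤
      J ⊔ Ideal.map (algebraMap R A) (IsLocalRing.maximalIdeal R))
    {n : ℕ} (hn : 0 < n) :
    RingHom.ker (Bialgebra.counitAlgHom R A) ≤ J ⊔ SGA3b.torsionIdeal R A n := by
  obtain ⟨T, hT⟩ : ∃ T : Ideal A, T = SGA3b.torsionIdeal R A n := ⟨_, rfl⟩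
  rw [← hT]
  have hle : J ⊔ T ≤ RingHom.ker (Bialgebra.counitAlgHom R A) :=
    sup_le hJ (hT ▸ torsionIdeal_le_ker n)
  haveI : Module.Finite R (A ⧸ T) := hT ▸ finite_quot_torsion K hM e hn
  haveI : Module.Finite R (A ⧸ (J ⊔ T)) :=
    Module.Finite.of_surjective
      (Ideal.Quotient.factorₐ R (le_sup_right : T ≤ J ⊔ T)).toLinearMap
      (Ideal.Quotient.factor_surjective (le_sup_right : T ≤ J ⊔ T))
  let εD : A ⧸ (J ⊔ T) →ₐ[R] R :=
    Ideal.Quotient.liftₐ (J ⊔ T) (Bialgebra.counitAlgHom R A) (fun a ha => hle ha)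
  have hεD : ∀ a : A, εD (Ideal.Quotient.mk (J ⊔ T) a) = Bialgebra.counitAlgHom R A a :=
    fun a => rfl
  have key := nak εD (by
    intro d hd
    obtain ⟨a, rfl⟩ := Ideal.Quotient.mk_surjective d
    have ha : a ∈ RingHom.ker (Bialgebra.counitAlgHom R A) := by
      rw [RingHom.mem_ker, ← hεD]
      exact hd
    obtain ⟨j, hj, w, hw, rfl⟩ := Submodule.mem_sup.1 (hs ha)
    have h1 : Ideal.Quotient.mk (J ⊔ T) (j + w) = Ideal.Quotient.mk (J ⊔ T) w := by
      rw [map_add, Ideal.Quotient.eq_zero_iff_mem.2 (Ideal.mem_sup_left hj), zero_add]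
    rw [h1]
    have hw' : w ∈ (IsLocalRing.maximalIdeal R) • (⊤ : Submodule R A) := by
      rw [Ideal.smul_top_eq_map]
      exact hw
    have h2 := Submodule.mem_map_of_mem (f := (Ideal.Quotient.mkₐ R (J ⊔ T)).toLinearMap) hw'
    rw [Submodule.map_smul''] at h2
    exact Submodule.smul_mono le_rfl le_top h2)
  intro a ha
  have h1 := key (Ideal.Quotient.mk (J ⊔ T) a) (by
    rw [hεD]
    exact ha)
  exact Ideal.Quotient.eq_zero_iff_mem.1 h1

end loc

end Groth.Agent.H83.ClosedSub
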