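import Mathlib
import Groth.Prelude.Def_SGA3b
import Groth.Agent.H83.ClosedSubA

/-!
# Closed subgroups of groups of multiplicative type, part B: the fibre over a field

Let `L` be a field, `A` an `R`-Hopf algebra split over `L` by `e : L ⊗ A ≃ L[M]` with `M` finitely
generated, and `J` a Hopf ideal of `A` with `ker ε ≤ J ⊔ torsionIdeal n` for all `n > 0`.  Then the
closed subgroup `Spec (L ⊗ A/J)` of `D(M)_L` is trivial: `1 ⊗ a = 0` in `L ⊗ (A/J)` for `a ∈ ker ε`
(`fibre_core`).
-/

set_option autoImplicit false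

universe u

open TensorProduct

namespace Groth.Agent.H83.ClosedSub

section fibre

variable {R : Type u} [CommRing R] {A : Type u} [CommRing A] [HopfAlgebra R A]
  (J : Ideal A) [J.IsHopfIdeal R] {L : Type u} [Field L] [Algebra R L]
  {M : Type u} [CommGroup M] (e : (L ⊗[R] A) ≃ₐc[L] MonoidAlgebra L M)

/-- `L ⊗ A → L ⊗ (A/J)` -/
noncomputable def qmap : L ⊗[R] A →ₐc[L] L ⊗[R] (A ⧸ J) :=
  Bialgebra.TensorProduct.map (BialgHom.id L L) (Bialgebra.Quotient.mkBialgHom (R := R) J)

theorem qmap_tmul (l : L) (a : A) :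
    qmap J (L := L) (l ⊗ₜ[R] a) = l ⊗ₜ[R] Ideal.Quotient.mk J a := rfl

/-- `L[M] → L ⊗ (A/J)` -/
noncomputable def proj : MonoidAlgebra L M →ₐc[L] L ⊗[R] (A ⧸ J) :=
  (qmap J).comp e.symm.toBialgHom

theorem proj_apply (y : MonoidAlgebra L M) : proj J e y = qmap J (e.symm y) := rfl

theorem proj_e (z : L ⊗[R] A) : proj J e (e z) = qmap J z := by
  rw [proj_apply, BialgEquiv.symm_apply_apply]

/-- the images of the elements of `M` -/
noncomputable def phi0 : M →* L ⊗[R] (A ⧸ J) :=
  ((proj J e : MonoidAlgebra L M →ₐ[L] L ⊗[R] (A ⧸ J)) :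
    MonoidAlgebra L M →* L ⊗[R] (A ⧸ J)).comp (MonoidAlgebra.of L M)

theorem phi0_apply (m : M) : phi0 J e m = proj J e (MonoidAlgebra.single m 1) := rfl

theorem phi0_glike (m : M) : IsGroupLikeElem L (phi0 J e m) :=
  (MonoidAlgebra.isGroupLikeElem_single_one m).map (proj J e)

/-- the induced map on the quotient by the kernel -/
noncomputable def phibar : M ⧸ (phi0 J e).ker →* L ⊗[R] (A ⧸ J) :=
  QuotientGroup.lift (phi0 J e).ker (phi0 J e) le_rfl

theorem phibar_mk (m : M) : phibar J e (m : M ⧸ (phi0 J e).ker) = phi0 J e m := rfl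

theorem phibar_injective : Function.Injective (phibar J e) := by
  intro x y hxy
  obtain ⟨a, rfl⟩ := QuotientGroup.mk_surjective x
  obtain ⟨b, rfl⟩ := QuotientGroup.mk_surjective y
  rw [phibar_mk, phibar_mk] at hxy
  rw [QuotientGroup.eq, MonoidHom.mem_ker, map_mul, ← hxy, ← map_mul, inv_mul_cancel, map_one]

theorem phibar_glike (x : M ⧸ (phi0 J e).ker) : IsGroupLikeElem L (phibar J e x) := by
  obtain ⟨a, rfl⟩ := QuotientGroup.mk_surjective x
  exact phi0_glike J e a

/-- the linearisation -/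
noncomputable def lam : MonoidAlgebra L (M ⧸ (phi0 J e).ker) →ₐ[L] L ⊗[R] (A ⧸ J) :=
  MonoidAlgebra.lift L (L ⊗[R] (A ⧸ J)) (M ⧸ (phi0 J e).ker) (phibar J e)

theorem lam_single (x : M ⧸ (phi0 J e).ker) (r : L) :
    lam J e (MonoidAlgebra.single x r) = r • phibar J e x := by
  unfold lam
  rw [MonoidAlgebra.lift_single]

theorem lam_injective : Function.Injective (lam J e) := by
  intro x y hxy
  apply MonoidAlgebra.coeff_injective
  have hli0 : LinearIndependent L (GroupLike.val (R := L) (A := L ⊗[R] (A ⧸ J))) :=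
    linearIndep_groupLikeVal
  have hli : LinearIndependent L (fun x : M ⧸ (phi0 J e).ker => phibar J e x) :=
    hli0.comp (fun x : M ⧸ (phi0 J e).ker =>
      (⟨phibar J e x, phibar_glike J e x⟩ : GroupLike L (L ⊗[R] (A ⧸ J))))
      (fun a b hab => phibar_injective J e (congrArg GroupLike.val hab))
  apply hli
  have h : ∀ z : MonoidAlgebra L (M ⧸ (phi0 J e).ker),
      Finsupp.linearCombination L (fun x : M ⧸ (phi0 J e).ker => phibar J e x) z.coeff =
        lam J e z := by
    intro z
    induction z using MonoidAlgebra.induction_linear with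
    | zero => simp
    | add a b ha hb => rw [MonoidAlgebra.coeff_add, map_add, map_add, ha, hb]
    | single g r =>
      rw [MonoidAlgebra.coeff_single, Finsupp.linearCombination_single, lam_single]
  rw [h, h, hxy]

theorem proj_eq (y : MonoidAlgebra L M) :
    proj J e y = lam J e
      (MonoidAlgebra.mapDomainAlgHom L L (QuotientGroup.mk' (phi0 J e).ker) y) := by
  induction y using MonoidAlgebra.induction_linear with
  | zero => rw [map_zero, map_zero, map_zero]
  | add a b ha hb => rw [map_add, map_add, map_add, ha, hb]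
  | single m r =>
    rw [MonoidAlgebra.mapDomainAlgHom_apply, MonoidAlgebra.mapDomain_single, lam_single,
      QuotientGroup.mk'_apply, phibar_mk, phi0_apply]
    have h1 : (MonoidAlgebra.single m r : MonoidAlgebra L M) = r • MonoidAlgebra.single m 1 := by
      rw [MonoidAlgebra.smul_single', mul_one]
    rw [h1, map_smul]

theorem mapDomain_mk_eq_zero {y : MonoidAlgebra L M} (hy : proj J e y = 0) :
    MonoidAlgebra.mapDomainAlgHom L L (QuotientGroup.mk' (phi0 J e).ker) y = 0 := by
  apply lam_injective J e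
  rw [map_zero, ← proj_eq, hy]

end fibre

section abstract

variable (L : Type u) [Field L] {M G : Type u} [CommGroup M] [CommGroup G] (γ : M →* G)

/-- the image of the `n`-th powers -/
def Sn (n : ℕ) : Subgroup G := Subgroup.map γ (powMonoidHom n : M →* M).range

/-- the test character: `L[M] → L[G / γ(Mⁿ)]` -/
noncomputable def chi (n : ℕ) : MonoidAlgebra L M →ₐ[L] MonoidAlgebra L (G ⧸ Sn γ n) :=
  (MonoidAlgebra.mapDomainAlgHom L L (QuotientGroup.mk' (Sn γ n))).comp
    (MonoidAlgebra.mapDomainAlgHom L L γ)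

theorem chi_of_mapDomain_eq_zero (n : ℕ) {y : MonoidAlgebra L M}
    (hy : MonoidAlgebra.mapDomainAlgHom L L γ y = 0) : chi L γ n y = 0 := by
  unfold chi
  rw [AlgHom.comp_apply, hy, map_zero]

theorem chi_single (n : ℕ) (m : M) (r : L) :
    chi L γ n (MonoidAlgebra.single m r) =
      MonoidAlgebra.single (QuotientGroup.mk' (Sn γ n) (γ m)) r := by
  unfold chi
  rw [AlgHom.comp_apply, MonoidAlgebra.mapDomainAlgHom_apply, MonoidAlgebra.mapDomainAlgHom_apply,
    MonoidAlgebra.mapDomain_single, MonoidAlgebra.mapDomain_single]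

theorem chi_single_pow (n : ℕ) (m : M) (r : L) :
    chi L γ n (MonoidAlgebra.single (m ^ n) r) = MonoidAlgebra.single 1 r := by
  rw [chi_single]
  congr 1
  rw [QuotientGroup.mk'_apply, QuotientGroup.eq_one_iff]
  exact Subgroup.mem_map_of_mem _ ⟨m, rfl⟩

theorem chi_powConv (n : ℕ) (y : MonoidAlgebra L M) :
    chi L γ n (SGA3b.powConv L (MonoidAlgebra L M) n y) =
      algebraMap L _ (Coalgebra.counit (R := L) y) := by
  induction y using MonoidAlgebra.induction_linear with
  | zero => rw [map_zero, map_zero, map_zero, map_zero]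
  | add a b ha hb => rw [map_add, map_add, map_add, map_add, ha, hb]
  | single m r =>
    have h1 : (MonoidAlgebra.single m r : MonoidAlgebra L M) = r • MonoidAlgebra.single m 1 := by
      rw [MonoidAlgebra.smul_single', mul_one]
    rw [h1, map_smul, MultTors.powConv_single, map_smul, chi_single_pow, map_smul,
      MonoidAlgebra.counit_single, ← MonoidAlgebra.one_def, Algebra.algebraMap_eq_smul_one]
    congr 1
    simp

end abstract

section fibre2

variable {R : Type u} [CommRing R] {A : Type u} [CommRing A] [HopfAlgebra R A]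
  (J : Ideal A) [J.IsHopfIdeal R] {L : Type u} [Field L] [Algebra R L]
  {M : Type u} [CommGroup M] (e : (L ⊗[R] A) ≃ₐc[L] MonoidAlgebra L M)
  {G : Type u} [CommGroup G] (γ : M →* G)

/-- the hypothesis: the augmentation ideal is generated by `J` and the `n`-torsion ideals -/
def Hyp : Prop :=
  ∀ n : ℕ, 0 < n → RingHom.ker (Bialgebra.counitAlgHom R A) ≤ J ⊔ SGA3b.torsionIdeal R A n

variable {J}

theorem chi_e_of_mem_ker
    (hγ : ∀ y, proj J e y = 0 → MonoidAlgebra.mapDomainAlgHom L L γ y = 0)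
    (hT : Hyp (R := R) J) {n : ℕ} (hn : 0 < n) {a : A}
    (ha : a ∈ RingHom.ker (Bialgebra.counitAlgHom R A)) :
    chi L γ n (e ((1 : L) ⊗ₜ[R] a)) = 0 := by
  let ρ : A →+* MonoidAlgebra L (G ⧸ Sn γ n) :=
    ((chi L γ n : MonoidAlgebra L M →ₐ[L] _) : MonoidAlgebra L M →+* _).comp
      (((e.toBialgHom : L ⊗[R] A →ₐ[L] MonoidAlgebra L M) : L ⊗[R] A →+* MonoidAlgebra L M).comp
        ((Algebra.TensorProduct.includeRight : A →ₐ[R] L ⊗[R] A) : A →+* L ⊗[R] A))
  have hρ : ∀ x : A, ρ x = chi L γ n (e ((1 : L) ⊗ₜ[R] x)) := fun x => rfl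
  have hJ : J ≤ RingHom.ker ρ := by
    intro j hj
    rw [RingHom.mem_ker, hρ]
    apply chi_of_mapDomain_eq_zero
    apply hγ
    rw [proj_e, qmap_tmul, Ideal.Quotient.eq_zero_iff_mem.2 hj, TensorProduct.tmul_zero]
  have hTn : SGA3b.torsionIdeal R A n ≤ RingHom.ker ρ := by
    unfold SGA3b.torsionIdeal
    rw [Ideal.map_le_iff_le_comap]
    intro c hc
    rw [Ideal.mem_comap, RingHom.mem_ker]
    show ρ (SGA3b.powConv R A n c) = 0
    have hc0 : Coalgebra.counit (R := R) c = 0 := hc
    rw [hρ, ← MultTors.powConv_baseChange L n (1 : L) c]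
    have h1 := MultTors.powConv_bialgHom e.toBialgHom n ((1 : L) ⊗ₜ[R] c)
    have h2 : e (SGA3b.powConv L (L ⊗[R] A) n ((1 : L) ⊗ₜ[R] c)) =
        SGA3b.powConv L (MonoidAlgebra L M) n (e ((1 : L) ⊗ₜ[R] c)) := h1
    rw [h2, chi_powConv]
    have h3 : Coalgebra.counit (R := L) (e ((1 : L) ⊗ₜ[R] c)) =
        Coalgebra.counit (R := L) ((1 : L) ⊗ₜ[R] c) :=
      CoalgHomClass.counit_comp_apply e.toBialgHom _
    rw [h3, TensorProduct.counit_tmul, hc0, zero_smul, map_zero]
  have h4 := (hT n hn).trans (sup_le hJ hTn) ha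
  rw [RingHom.mem_ker, hρ] at h4
  exact h4

theorem chi_e
    (hγ : ∀ y, proj J e y = 0 → MonoidAlgebra.mapDomainAlgHom L L γ y = 0)
    (hT : Hyp (R := R) J) {n : ℕ} (hn : 0 < n) (z : L ⊗[R] A) :
    chi L γ n (e z) = algebraMap L _ (Coalgebra.counit (R := L) z) := by
  induction z using TensorProduct.induction_on with
  | zero => rw [map_zero, map_zero, map_zero, map_zero]
  | add x y hx hy => rw [map_add, map_add, map_add, map_add, hx, hy]
  | tmul l a =>
    have h1 : (l ⊗ₜ[R] a : L ⊗[R] A) =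
        l • ((1 : L) ⊗ₜ[R] (a - algebraMap R A (Coalgebra.counit (R := R) a))) +
          algebraMap L (L ⊗[R] A) (Coalgebra.counit (R := R) a • l) := by
      rw [TensorProduct.smul_tmul', smul_eq_mul, mul_one, TensorProduct.tmul_sub,
        Algebra.TensorProduct.algebraMap_apply, Algebra.algebraMap_eq_smul_one (R := R) (A := A),
        TensorProduct.tmul_smul, TensorProduct.smul_tmul']
      simp
    have h2 : Coalgebra.counit (R := L) (l ⊗ₜ[R] a) = Coalgebra.counit (R := R) a • l := by
      rw [TensorProduct.counit_tmul]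
      simp
    have h3 : chi L γ n (e (l • ((1 : L) ⊗ₜ[R]
        (a - algebraMap R A (Coalgebra.counit (R := R) a))) +
          algebraMap L (L ⊗[R] A) (Coalgebra.counit (R := R) a • l))) =
        algebraMap L _ (Coalgebra.counit (R := R) a • l) := by
      rw [map_add, map_add, map_smul, map_smul,
        chi_e_of_mem_ker e γ hγ hT hn (sub_counit_mem_ker (R := R) a), smul_zero, zero_add,
        AlgHomClass.commutes, AlgHom.commutes]
    rw [h2, h1]
    exact h3

theorem gam_mem
    (hγ : ∀ y, proj J e y = 0 → MonoidAlgebra.mapDomainAlgHom L L γ y = 0)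
    (hT : Hyp (R := R) J) {n : ℕ} (hn : 0 < n) (m : M) :
    γ m ∈ Sn γ n := by
  have h1 := chi_e e γ hγ hT hn (e.symm (MonoidAlgebra.single m 1))
  rw [BialgEquiv.apply_symm_apply, chi_single] at h1
  have h2 : Coalgebra.counit (R := L) (e.symm (MonoidAlgebra.single m (1 : L))) = 1 := by
    have h3 : Coalgebra.counit (R := L) (e.symm.toBialgHom (MonoidAlgebra.single m (1 : L))) =
        Coalgebra.counit (R := L) (MonoidAlgebra.single m (1 : L)) :=
      CoalgHomClass.counit_comp_apply e.symm.toBialgHom _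
    refine h3.trans ?_
    rw [MonoidAlgebra.counit_single]
    simp
  rw [h2, map_one, MonoidAlgebra.one_def, MonoidAlgebra.single_left_inj one_ne_zero,
    QuotientGroup.mk'_apply, QuotientGroup.eq_one_iff] at h1
  exact h1

theorem phi0_eq_one (hM : Group.FG M) (hT : Hyp (R := R) J) (m : M) : phi0 J e m = 1 := by
  haveI := hM
  have hpow : ∀ (x : M ⧸ (phi0 J e).ker) (n : ℕ), 0 < n → ∃ y, y ^ n = x := by
    intro x n hn
    obtain ⟨m, rfl⟩ := QuotientGroup.mk_surjective x
    obtain ⟨_, ⟨m', rfl⟩, hm'⟩ := gam_mem e (QuotientGroup.mk' (phi0 J e).ker)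
      (fun y hy => mapDomain_mk_eq_zero J e hy) hT hn m
    exact ⟨(m' : M ⧸ (phi0 J e).ker), hm'⟩
  have hall : ∀ x : M ⧸ (phi0 J e).ker, x = 1 := by
    intro x
    by_contra hx
    obtain ⟨n, hn, -, hne⟩ := MultTors.exists_not_mem_range_pow (M := M ⧸ (phi0 J e).ker)
      (c := 0) (Or.inl rfl) (fun h => absurd rfl h) hx
    obtain ⟨y, hy⟩ := hpow x n hn
    exact hne y hy
  have h6 := hall (m : M ⧸ (phi0 J e).ker)
  rw [QuotientGroup.eq_one_iff, MonoidHom.mem_ker] at h6
  exact h6

theorem proj_eq_counit (hM : Group.FG M) (hT : Hyp (R := R) J) (y : MonoidAlgebra L M) :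
    proj J e y = algebraMap L _ (Coalgebra.counit (R := L) y) := by
  induction y using MonoidAlgebra.induction_linear with
  | zero => rw [map_zero, map_zero, map_zero]
  | add a b ha hb => rw [map_add, map_add, map_add, ha, hb]
  | single m r =>
    have h1 : (MonoidAlgebra.single m r : MonoidAlgebra L M) = r • MonoidAlgebra.single m 1 := by
      rw [MonoidAlgebra.smul_single', mul_one]
    have h2 : proj J e (MonoidAlgebra.single m 1) = 1 := by
      rw [← phi0_apply, phi0_eq_one e hM hT m]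
    rw [h1, map_smul, h2, map_smul, MonoidAlgebra.counit_single,
      Algebra.algebraMap_eq_smul_one]
    congr 1
    simp

theorem fibre_core (e : (L ⊗[R] A) ≃ₐc[L] MonoidAlgebra L M)
    (hM : Group.FG M) (hT : Hyp (R := R) J) {a : A}
    (ha : a ∈ RingHom.ker (Bialgebra.counitAlgHom R A)) :
    (1 : L) ⊗ₜ[R] (Ideal.Quotient.mk J a) = (0 : L ⊗[R] (A ⧸ J)) := by
  have h1 := proj_eq_counit e hM hT (e ((1 : L) ⊗ₜ[R] a))
  rw [proj_e, qmap_tmul] at h1
  rw [h1]
  have h3 : Coalgebra.counit (R := L) (e ((1 : L) ⊗ₜ[R] a)) =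
      Coalgebra.counit (R := L) ((1 : L) ⊗ₜ[R] a) :=
    CoalgHomClass.counit_comp_apply e.toBialgHom _
  have ha0 : Coalgebra.counit (R := R) a = 0 := ha
  rw [h3, TensorProduct.counit_tmul, ha0, zero_smul, map_zero]

end fibre2

end Groth.Agent.H83.ClosedSub
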