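import Mathlib
import Groth.Prelude.Def_SGA3b
import Groth.Agent.H83.ClosedSubB

/-!
# Closed subgroups of groups of multiplicative type, part C

* `fibre_vanish` : with `A` split by a faithfully flat `K`, `J` a Hopf ideal with
  `ker ε ≤ J ⊔ torsionIdeal n` for all `n > 0`, the augmentation ideal of `A/J` dies in every
  fibre `κ ⊗ (A/J)`, `κ` a field over `R`.
* `aug_fg`, `aug_eq_bot` : an augmented algebra of finite type whose augmentation ideal dies in all
  fibres over fields is trivial.
* `main` : over a local base, a closed subgroup of a group of multiplicative type and of finite type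
  with trivial closed fibre is trivial.
-/

set_option autoImplicit false

universe u

open TensorProduct

namespace Groth.Agent.H83.ClosedSub

section vanish

variable {R : Type u} [CommRing R] {A : Type u} [CommRing A] [HopfAlgebra R A]
  (J : Ideal A) [J.IsHopfIdeal R]

theorem fibre_vanish_aux {K : Type u} [CommRing K] [Algebra R K] {M : Type u} [CommGroup M]
    (hM : Group.FG M) (e : (K ⊗[R] A) ≃ₐc[K] MonoidAlgebra K M) (hT : Hyp (R := R) J)
    (κ : Type u) [Field κ] [Algebra R κ] (L : Type u) [Field L] [Algebra R L]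
    (ρ : K →+* L) (hρ : ∀ r : R, ρ (algebraMap R K r) = algebraMap R L r)
    (ι : κ →+* L) (hι : ∀ r : R, ι (algebraMap R κ r) = algebraMap R L r)
    {a : A} (ha : a ∈ RingHom.ker (Bialgebra.counitAlgHom R A)) :
    (1 : κ) ⊗ₜ[R] (Ideal.Quotient.mk J a) = (0 : κ ⊗[R] (A ⧸ J)) := by
  obtain ⟨eL, -⟩ := KerMult.exists_baseChange ρ hρ e
  have h1 : (1 : L) ⊗ₜ[R] (Ideal.Quotient.mk J a) = (0 : L ⊗[R] (A ⧸ J)) :=
    fibre_core eL hM hT ha
  letI : Algebra κ L := ι.toAlgebra
  haveI : IsScalarTower R κ L := IsScalarTower.of_algebraMap_eq (fun r => (hι r).symm)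
  have h2 := congrArg
    (TensorProduct.AlgebraTensorModule.cancelBaseChange R κ L L (A ⧸ J)).symm h1
  rw [TensorProduct.AlgebraTensorModule.cancelBaseChange_symm_tmul, map_zero] at h2
  exact (Module.FaithfullyFlat.one_tmul_eq_zero_iff κ (κ ⊗[R] (A ⧸ J)) (A := L) _).1 h2

theorem fibre_vanish (K : Type u) [CommRing K] [Algebra R K] [Module.FaithfullyFlat R K]
    {M : Type u} [CommGroup M] (hM : Group.FG M)
    (e : (K ⊗[R] A) ≃ₐc[K] MonoidAlgebra K M) (hT : Hyp (R := R) J)
    (κ : Type u) [Field κ] [Algebra R κ]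
    {a : A} (ha : a ∈ RingHom.ker (Bialgebra.counitAlgHom R A)) :
    (1 : κ) ⊗ₜ[R] (Ideal.Quotient.mk J a) = (0 : κ ⊗[R] (A ⧸ J)) := by
  haveI : Nontrivial (K ⊗[R] κ) := inferInstance
  obtain ⟨𝔫, h𝔫⟩ := Ideal.exists_maximal (K ⊗[R] κ)
  letI : Field ((K ⊗[R] κ) ⧸ 𝔫) := Ideal.Quotient.field 𝔫
  refine fibre_vanish_aux J hM e hT κ ((K ⊗[R] κ) ⧸ 𝔫)
    ((Ideal.Quotient.mk 𝔫).comp
      (Algebra.TensorProduct.includeLeftRingHom : K →+* K ⊗[R] κ))
    (fun r => rfl)
    ((Ideal.Quotient.mk 𝔫).comp
      ((Algebra.TensorProduct.includeRight : κ →ₐ[R] K ⊗[R] κ) : κ →+* K ⊗[R] κ))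
    (fun r => ?_) ha
  show Ideal.Quotient.mk 𝔫 ((1 : K) ⊗ₜ[R] algebraMap R κ r) =
    Ideal.Quotient.mk 𝔫 (algebraMap R K r ⊗ₜ[R] (1 : κ))
  congr 1
  rw [Algebra.algebraMap_eq_smul_one (R := R) (A := κ),
    Algebra.algebraMap_eq_smul_one (R := R) (A := K), TensorProduct.tmul_smul,
    TensorProduct.smul_tmul']

end vanish

section aug

variable {R : Type u} [CommRing R] {B : Type u} [CommRing B] [Algebra R B]

theorem aug_fg [Algebra.FiniteType R B] (εB : B →ₐ[R] R) : (RingHom.ker εB).FG := by
  classical
  obtain ⟨s, hs⟩ := (inferInstance : Algebra.FiniteType R B).out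
  refine ⟨s.image (fun x => x - algebraMap R B (εB x)), ?_⟩
  rw [Finset.coe_image]
  apply le_antisymm
  · rw [Ideal.span_le]
    rintro _ ⟨x, -, rfl⟩
    show x - algebraMap R B (εB x) ∈ RingHom.ker εB
    rw [RingHom.mem_ker, map_sub, AlgHom.commutes]
    simp
  · have hall : ∀ b : B, b - algebraMap R B (εB b) ∈
        Ideal.span ((fun x => x - algebraMap R B (εB x)) '' (s : Set B)) := by
      intro b
      have hb : b ∈ Algebra.adjoin R (s : Set B) := by
        rw [hs]
        trivial
      induction hb using Algebra.adjoin_induction with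
      | mem x hx => exact Ideal.subset_span ⟨x, hx, rfl⟩
      | algebraMap r =>
        rw [AlgHom.commutes]
        simp
      | add x y _ _ hx hy =>
        have h1 : (x + y) - algebraMap R B (εB (x + y)) =
            (x - algebraMap R B (εB x)) + (y - algebraMap R B (εB y)) := by
          rw [map_add, map_add]
          ring
        rw [h1]
        exact Ideal.add_mem _ hx hy
      | mul x y _ _ hx hy =>
        have h1 : x * y - algebraMap R B (εB (x * y)) =
            (x - algebraMap R B (εB x)) * y +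
              algebraMap R B (εB x) * (y - algebraMap R B (εB y)) := by
          rw [map_mul, map_mul]
          ring
        rw [h1]
        exact Ideal.add_mem _ (Ideal.mul_mem_right _ _ hx) (Ideal.mul_mem_left _ _ hy)
    intro b hb
    have h2 := hall b
    rw [RingHom.mem_ker] at hb
    rw [hb, map_zero, sub_zero] at h2
    exact h2

theorem aug_eq_bot (εB : B →ₐ[R] R) (hfg : (RingHom.ker εB).FG)
    (h : ∀ (κ : Type u) [Field κ] [Algebra R κ] (x : B), εB x = 0 →
      (1 : κ) ⊗ₜ[R] x = (0 : κ ⊗[R] B)) :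
    RingHom.ker εB = ⊥ := by
  obtain ⟨I, hI⟩ : ∃ I : Ideal B, I = RingHom.ker εB := ⟨_, rfl⟩
  rw [← hI]
  have hmem : ∀ x : I, εB (x : B) = 0 := by
    intro x
    have h1 : (x : B) ∈ RingHom.ker εB := by
      rw [← hI]
      exact x.2
    exact RingHom.mem_ker.1 h1
  let r : B →ₗ[R] I :=
    { toFun := fun b => ⟨b - algebraMap R B (εB b), by
        rw [hI, RingHom.mem_ker, map_sub, AlgHom.commutes]
        simp⟩
      map_add' := fun x y => by
        apply Subtype.ext
        show (x + y) - algebraMap R B (εB (x + y)) =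
          (x - algebraMap R B (εB x)) + (y - algebraMap R B (εB y))
        rw [map_add, map_add]
        ring
      map_smul' := fun c x => by
        apply Subtype.ext
        show (c • x) - algebraMap R B (εB (c • x)) = c • (x - algebraMap R B (εB x))
        rw [map_smul, smul_eq_mul, map_mul, smul_sub, Algebra.smul_def c (algebraMap R B (εB x))] }
  have hr : ∀ x : I, r (x : B) = x := by
    intro x
    apply Subtype.ext
    show (x : B) - algebraMap R B (εB (x : B)) = x
    rw [hmem x, map_zero, sub_zero]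
  haveI : Module.Finite B I := Module.Finite.iff_fg.2 (hI ▸ hfg)
  have hsub : Subsingleton I := by
    rw [← Module.support_eq_empty_iff (R := B), Set.eq_empty_iff_forall_notMem]
    intro q hq
    rw [Module.mem_support_iff_nontrivial_residueField_tensorProduct] at hq
    have key : ∀ x : I, (1 : q.asIdeal.ResidueField) ⊗ₜ[B] x =
        (0 : q.asIdeal.ResidueField ⊗[B] I) := by
      intro x
      have h0 : (1 : q.asIdeal.ResidueField) ⊗ₜ[R] (x : B) =
          (0 : q.asIdeal.ResidueField ⊗[R] B) := h q.asIdeal.ResidueField x (hmem x)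
      have h1 : (1 : q.asIdeal.ResidueField) ⊗ₜ[R] x =
          (0 : q.asIdeal.ResidueField ⊗[R] I) := by
        have h2 := congrArg (LinearMap.lTensor q.asIdeal.ResidueField r) h0
        rw [LinearMap.lTensor_tmul, map_zero, hr x] at h2
        exact h2
      have h3 := congrArg
        (TensorProduct.mapOfCompatibleSMul B R R q.asIdeal.ResidueField I) h1
      rw [TensorProduct.mapOfCompatibleSMul_tmul, map_zero] at h3
      exact h3
    have hz : ∀ t : q.asIdeal.ResidueField ⊗[B] I, t = 0 := by
      intro t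
      induction t using TensorProduct.induction_on with
      | zero => rfl
      | tmul c x =>
        have h4 : c ⊗ₜ[B] x = c • ((1 : q.asIdeal.ResidueField) ⊗ₜ[B] x) := by
          rw [TensorProduct.smul_tmul', smul_eq_mul, mul_one]
        rw [h4, key x, smul_zero]
      | add a b ha hb => rw [ha, hb, add_zero]
    exact (not_subsingleton_iff_nontrivial.2 hq) ⟨fun a b => by rw [hz a, hz b]⟩
  exact Submodule.eq_bot_of_subsingleton

end aug

section main

variable {R : Type u} [CommRing R] [IsLocalRing R] {A : Type u} [CommRing A] [HopfAlgebra R A]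

theorem main (hft : Algebra.FiniteType R A) (hH : SGA3b.IsMultType R A)
    (J : Ideal A) [J.IsHopfIdeal R]
    (hs : J ⊔ Ideal.map (algebraMap R A) (IsLocalRing.maximalIdeal R) =
      RingHom.ker (Bialgebra.counitAlgHom R A) ⊔
        Ideal.map (algebraMap R A) (IsLocalRing.maximalIdeal R)) :
    J = RingHom.ker (Bialgebra.counitAlgHom R A) := by
  obtain ⟨K, _, _, hff, M, _, ⟨e⟩⟩ := KerGen.exists_triv_local hH
  haveI := hff
  haveI := hft
  have hco : (J.restrictScalars R).IsCoideal :=
    (inferInstance : J.IsHopfIdeal R).toIsCoideal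
  have hJle : J ≤ RingHom.ker (Bialgebra.counitAlgHom R A) := by
    intro j hj
    rw [RingHom.mem_ker]
    exact hco.counit_eq_zero (show j ∈ J.restrictScalars R from hj)
  have hle : RingHom.ker (Bialgebra.counitAlgHom R A) ≤
      J ⊔ Ideal.map (algebraMap R A) (IsLocalRing.maximalIdeal R) := by
    rw [hs]
    exact le_sup_left
  haveI hKnt : Nontrivial K := by
    rcases subsingleton_or_nontrivial K with h | h
    · exact absurd (MultTors.subsingleton_of_subsingleton (L := R) (R' := K) (H := R))
        (not_subsingleton R)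
    · exact h
  have hM : Group.FG M := by
    have h1 : Algebra.FiniteType K (MonoidAlgebra K M) :=
      Algebra.FiniteType.equiv inferInstance e.toAlgEquiv
    exact MonoidAlgebra.finiteType_iff_group_fg.1 h1
  have hT : Hyp (R := R) J := fun n hn => ker_le_sup K hM e J hJle hle hn
  haveI : Algebra.FiniteType R (A ⧸ J) :=
    Algebra.FiniteType.of_surjective (Ideal.Quotient.mkₐ R J) (Ideal.Quotient.mkₐ_surjective R J)
  let εB : A ⧸ J →ₐ[R] R :=
    Ideal.Quotient.liftₐ J (Bialgebra.counitAlgHom R A) (fun a ha => hJle ha)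
  have hεB : ∀ a : A, εB (Ideal.Quotient.mk J a) = Bialgebra.counitAlgHom R A a := fun a => rfl
  have hbot := aug_eq_bot εB (aug_fg εB) (by
    intro κ _ _ x hx
    obtain ⟨a, rfl⟩ := Ideal.Quotient.mk_surjective x
    exact fibre_vanish J K hM e hT κ (by
      rw [RingHom.mem_ker, ← hεB]
      exact hx))
  apply le_antisymm hJle
  intro a ha
  have h1 : Ideal.Quotient.mk J a ∈ RingHom.ker εB := by
    rw [RingHom.mem_ker, hεB]
    exact ha
  rw [hbot, Ideal.mem_bot] at h1
  exact Ideal.Quotient.eq_zero_iff_mem.1 h1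

end main

end Groth.Agent.H83.ClosedSub
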