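import Groth.Prelude.Def_Conn
import Mathlib.LinearAlgebra.TensorProduct.Basis
import Mathlib.LinearAlgebra.FreeModule.Basic

set_option autoImplicit false
universe v u

open TensorProduct

namespace Groth.Agent.H83

variable {A : Type v} {B Ω M M' M'' : Type u} [CommRing A] [CommRing B] [Algebra A B]
  [AddCommGroup Ω] [Module B Ω]
  [AddCommGroup M] [Module B M] [Module A M] [IsScalarTower A B M]
  [AddCommGroup M'] [Module B M'] [Module A M'] [IsScalarTower A B M']
  [AddCommGroup M''] [Module B M''] [Module A M''] [IsScalarTower A B M'']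

/-- Contraction of the `Ω` factor against a functional. -/
noncomputable def contr (θ : Ω →ₗ[B] B) : M ⊗[B] Ω →ₗ[B] M :=
  (TensorProduct.rid B M).toLinearMap ∘ₗ TensorProduct.map LinearMap.id θ

@[simp] theorem contr_tmul (θ : Ω →ₗ[B] B) (m : M) (ω : Ω) :
    contr θ (m ⊗ₜ[B] ω) = θ ω • m := by
  simp [contr]

theorem along_eq (nabla : M →ₗ[A] M ⊗[B] Ω) (θ : Ω →ₗ[B] B) (m : M) :
    Conn.along nabla θ m = contr θ (nabla m) := rfl

theorem contr_map (θ : Ω →ₗ[B] B) (φ : M →ₗ[B] M') (x : M ⊗[B] Ω) :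
    contr θ (TensorProduct.map φ LinearMap.id x) = φ (contr θ x) := by
  induction x using TensorProduct.induction_on with
  | zero => simp
  | tmul m ω => simp
  | add x y hx hy => simp only [map_add, hx, hy]

theorem contr_map_apply (θ : Ω →ₗ[B] B) (m : M) (x : (M →ₗ[B] M') ⊗[B] Ω) :
    contr θ (TensorProduct.map (LinearMap.applyₗ m) LinearMap.id x) = (contr θ x) m := by
  rw [contr_map]
  rfl

theorem eq_of_contr_eq [Module.Free B Ω] (x y : M ⊗[B] Ω)
    (h : ∀ θ : Ω →ₗ[B] B, contr θ x = contr θ y) : x = y := by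
  classical
  let b := Module.Free.chooseBasis B Ω
  apply (TensorProduct.equivFinsuppOfBasisRight (M := M) b).injective
  ext i
  rw [TensorProduct.equivFinsuppOfBasisRight_apply, TensorProduct.equivFinsuppOfBasisRight_apply]
  exact h (b.coord i)

theorem isHorizontal_of_along [Module.Free B Ω] (nabla : M →ₗ[A] M ⊗[B] Ω)
    (nabla' : M' →ₗ[A] M' ⊗[B] Ω) (φ : M →ₗ[B] M')
    (h : ∀ (θ : Ω →ₗ[B] B) (m : M), Conn.along nabla' θ (φ m) = φ (Conn.along nabla θ m)) :
    Conn.IsHorizontal nabla nabla' φ := by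
  intro m
  apply eq_of_contr_eq
  intro θ
  rw [contr_map, ← along_eq, ← along_eq, h]

theorem along_of_isHorizontal (nabla : M →ₗ[A] M ⊗[B] Ω)
    (nabla' : M' →ₗ[A] M' ⊗[B] Ω) (φ : M →ₗ[B] M')
    (h : Conn.IsHorizontal nabla nabla' φ) (θ : Ω →ₗ[B] B) (m : M) :
    Conn.along nabla' θ (φ m) = φ (Conn.along nabla θ m) := by
  rw [along_eq, along_eq, h m, contr_map]

theorem along_smul [Module A Ω] [IsScalarTower A B Ω] (δ : Derivation A B Ω)
    (nabla : M →ₗ[A] M ⊗[B] Ω) (hc : Conn.IsConn δ nabla)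
    (θ : Ω →ₗ[B] B) (b : B) (m : M) :
    Conn.along nabla θ (b • m) = b • Conn.along nabla θ m + θ (δ b) • m := by
  rw [along_eq, hc, map_add, map_smul, contr_tmul, ← along_eq]

theorem along_hom (nabla : M →ₗ[A] M ⊗[B] Ω) (nabla' : M' →ₗ[A] M' ⊗[B] Ω)
    (nabla'' : (M →ₗ[B] M') →ₗ[A] (M →ₗ[B] M') ⊗[B] Ω) (h : Conn.IsHomConn nabla nabla' nabla'')
    (θ : Ω →ₗ[B] B) (φ : M →ₗ[B] M') (m : M) :
    (Conn.along nabla'' θ φ) m = Conn.along nabla' θ (φ m) - φ (Conn.along nabla θ m) := by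
  rw [along_eq, ← contr_map_apply, h φ m, map_sub, contr_map, ← along_eq, ← along_eq]

theorem contr_swapR (θ : Ω →ₗ[B] B) (y : M ⊗[B] Ω) (m' : M') :
    contr θ (Conn.swapR (y ⊗ₜ[B] m')) = contr θ y ⊗ₜ[B] m' := by
  induction y using TensorProduct.induction_on with
  | zero => simp
  | tmul m ω => simp [Conn.swapR_tmul, TensorProduct.smul_tmul']
  | add x y hx hy => simp only [TensorProduct.add_tmul, map_add, hx, hy]

theorem contr_assoc_symm (θ : Ω →ₗ[B] B) (m : M) (z : M' ⊗[B] Ω) :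
    contr θ ((TensorProduct.assoc B M M' Ω).symm (m ⊗ₜ[B] z)) = m ⊗ₜ[B] contr θ z := by
  induction z using TensorProduct.induction_on with
  | zero => simp
  | tmul m' ω => simp [TensorProduct.smul_tmul']
  | add x y hx hy => simp only [TensorProduct.tmul_add, map_add, hx, hy]

theorem along_tensor (nabla : M →ₗ[A] M ⊗[B] Ω) (nabla' : M' →ₗ[A] M' ⊗[B] Ω)
    (nabla'' : M ⊗[B] M' →ₗ[A] (M ⊗[B] M') ⊗[B] Ω) (h : Conn.IsTensorConn nabla nabla' nabla'')
    (θ : Ω →ₗ[B] B) (m : M) (m' : M') :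
    Conn.along nabla'' θ (m ⊗ₜ[B] m') =
      Conn.along nabla θ m ⊗ₜ[B] m' + m ⊗ₜ[B] Conn.along nabla' θ m' := by
  rw [along_eq, h m m', map_add, contr_swapR, contr_assoc_symm, ← along_eq, ← along_eq]

end Groth.Agent.H83
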