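import Mathlib
import Groth.Prelude.Def_SGA3b

/-!
# The convolution quotient `φ * ψ⁻¹` of two bialgebra homomorphisms out of a cocommutative
Hopf algebra, as a bialgebra homomorphism
-/

set_option autoImplicit false

universe u

open TensorProduct WithConv

namespace Groth.Agent.H83.ConvQuot

section Comp

variable {R : Type u} [CommRing R] {A B C : Type u} [CommRing A] [CommRing B] [CommRing C]
  [Bialgebra R A] [Bialgebra R B] [HopfAlgebra R C]

theorem comp_mul (h : A →ₐ[R] B) (f g : WithConv (C →ₐ[R] A)) :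
    toConv (h.comp (f * g).ofConv) = toConv (h.comp f.ofConv) * toConv (h.comp g.ofConv) := by
  rw [AlgHom.comp_convMul_distrib, toConv_ofConv]

theorem comp_inv (h : A →ₐ[R] B) (f : WithConv (C →ₐ[R] A)) :
    toConv (h.comp (f⁻¹).ofConv) = (toConv (h.comp f.ofConv))⁻¹ := rfl

end Comp

section Quot

variable {R : Type u} [CommRing R] {A C : Type u} [CommRing A] [CommRing C]
  [HopfAlgebra R A] [HopfAlgebra R C] [Coalgebra.IsCocomm R C]

/-- `x ↦ (x ⊗ x) ∘ Δ`, written as a convolution product. -/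
noncomputable def P (x : WithConv (C →ₐ[R] A)) : WithConv (C →ₐ[R] A ⊗[R] A) :=
  toConv ((Algebra.TensorProduct.includeLeft : A →ₐ[R] A ⊗[R] A).comp x.ofConv) *
    toConv ((Algebra.TensorProduct.includeRight : A →ₐ[R] A ⊗[R] A).comp x.ofConv)

theorem P_eq (x : WithConv (C →ₐ[R] A)) :
    P x = toConv ((Algebra.TensorProduct.map x.ofConv x.ofConv).comp
      (Bialgebra.comulAlgHom R C)) := by
  unfold P
  rw [AlgHom.convMul_def]
  congr 1
  rw [← AlgHom.comp_assoc]
  congr 1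
  apply Algebra.TensorProduct.ext
  · ext a
    simp
  · ext b
    simp

theorem P_mul (x y : WithConv (C →ₐ[R] A)) : P (x * y) = P x * P y := by
  unfold P
  rw [comp_mul, comp_mul, mul_mul_mul_comm]

theorem P_inv (x : WithConv (C →ₐ[R] A)) : P (x⁻¹) = (P x)⁻¹ := by
  unfold P
  rw [comp_inv, comp_inv]
  exact (mul_inv (toConv ((Algebra.TensorProduct.includeLeft : A →ₐ[R] A ⊗[R] A).comp x.ofConv))
    (toConv ((Algebra.TensorProduct.includeRight : A →ₐ[R] A ⊗[R] A).comp x.ofConv))).symm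

theorem P_of_bialgHom (φ : C →ₐc[R] A) :
    toConv ((Bialgebra.comulAlgHom R A).comp (φ : C →ₐ[R] A)) = P (toConv (φ : C →ₐ[R] A)) := by
  rw [P_eq, ofConv_toConv, BialgHom.map_comp_comulAlgHom]

/-- The underlying algebra map of the quotient. -/
noncomputable def quot₀ (φ ψ : C →ₐc[R] A) : C →ₐ[R] A :=
  (toConv (φ : C →ₐ[R] A) * (toConv (ψ : C →ₐ[R] A))⁻¹).ofConv

theorem quot₀_counit (φ ψ : C →ₐc[R] A) :
    (Bialgebra.counitAlgHom R A).comp (quot₀ φ ψ) = Bialgebra.counitAlgHom R C := by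
  apply toConv_injective
  unfold quot₀
  rw [comp_mul, comp_inv, ofConv_toConv, ofConv_toConv, BialgHom.counitAlgHom_comp,
    BialgHom.counitAlgHom_comp, mul_inv_cancel, AlgHom.convOne_def]
  apply congrArg
  ext c
  simp

theorem quot₀_comul (φ ψ : C →ₐc[R] A) :
    (Algebra.TensorProduct.map (quot₀ φ ψ) (quot₀ φ ψ)).comp (Bialgebra.comulAlgHom R C) =
      (Bialgebra.comulAlgHom R A).comp (quot₀ φ ψ) := by
  apply toConv_injective
  have h1 : toConv ((Bialgebra.comulAlgHom R A).comp (quot₀ φ ψ)) =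
      P (toConv (φ : C →ₐ[R] A)) * (P (toConv (ψ : C →ₐ[R] A)))⁻¹ := by
    unfold quot₀
    rw [comp_mul, comp_inv, ofConv_toConv, ofConv_toConv, P_of_bialgHom, P_of_bialgHom]
  rw [h1, ← P_inv, ← P_mul, P_eq]
  rfl

/-- The quotient `φ * ψ⁻¹` as a bialgebra homomorphism. -/
noncomputable def quot (φ ψ : C →ₐc[R] A) : C →ₐc[R] A :=
  BialgHom.ofAlgHom (quot₀ φ ψ) (quot₀_counit φ ψ) (quot₀_comul φ ψ)

theorem quot_apply (φ ψ : C →ₐc[R] A) (c : C) : quot φ ψ c = quot₀ φ ψ c := rfl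

theorem quot₀_sub_mem (φ ψ : C →ₐc[R] A) (I : Ideal A) (h : ∀ c, φ c - ψ c ∈ I) (c : C) :
    quot₀ φ ψ c - algebraMap R A (Coalgebra.counit (R := R) c) ∈ I := by
  have h1 : algebraMap R A (Coalgebra.counit (R := R) c) =
      (toConv (ψ : C →ₐ[R] A) * (toConv (ψ : C →ₐ[R] A))⁻¹) c := by
    rw [mul_inv_cancel]
    rfl
  have h2 : quot₀ φ ψ c = (toConv (φ : C →ₐ[R] A) * (toConv (ψ : C →ₐ[R] A))⁻¹) c := rfl
  rw [h1, h2, AlgHom.convMul_apply, AlgHom.convMul_apply]
  generalize Coalgebra.comul (R := R) c = t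
  induction t using TensorProduct.induction_on with
  | zero =>
    rw [map_zero, map_zero, sub_zero]
    exact I.zero_mem
  | tmul x y =>
    rw [Algebra.TensorProduct.lift_tmul, Algebra.TensorProduct.lift_tmul, ← sub_mul]
    exact I.mul_mem_right _ (h x)
  | add x y hx hy =>
    rw [map_add, map_add, add_sub_add_comm]
    exact I.add_mem hx hy

theorem eq_of_quot_trivial (φ ψ : C →ₐc[R] A)
    (h : ∀ c, quot φ ψ c = algebraMap R A (Coalgebra.counit (R := R) c)) : φ = ψ := by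
  have h1 : toConv (φ : C →ₐ[R] A) * (toConv (ψ : C →ₐ[R] A))⁻¹ = 1 := by
    apply ofConv_injective
    apply AlgHom.ext
    intro c
    exact h c
  have h2 : toConv (φ : C →ₐ[R] A) = toConv (ψ : C →ₐ[R] A) := mul_inv_eq_one.1 h1
  exact BialgHom.coe_toAlgHom_injective (toConv_injective h2)

end Quot

end Groth.Agent.H83.ConvQuot
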