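import Mathlib

set_option autoImplicit false
universe u

namespace Groth.Agent.H83.DM

/-- (A) a fine sharp monoid is generated by finitely many atoms -/
theorem exists_atoms_generating (N : Type*) [AddCommMonoid N] [AddMonoid.FG N] [IsCancelAdd N]
    (hsharp : ∀ n : N, IsAddUnit n → n = 0) :
    ∃ S : Finset N, AddSubmonoid.closure (S : Set N) = ⊤ ∧
      ∀ s ∈ S, s ≠ 0 ∧ ∀ u v : N, s = u + v → u = 0 ∨ v = 0 := by
  classical
  obtain ⟨S₀, hS₀⟩ := (AddMonoid.FG.fg_top (M := N))
  have key : ∀ n : ℕ, ∀ S : Finset N, S.card = n → AddSubmonoid.closure (S : Set N) = ⊤ →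
      ∃ S' : Finset N, AddSubmonoid.closure (S' : Set N) = ⊤ ∧
        ∀ s ∈ S', s ≠ 0 ∧ ∀ u v : N, s = u + v → u = 0 ∨ v = 0 := by
    intro n
    induction n using Nat.strong_induction_on with
    | _ n ih =>
      intro S hcard hS
      by_cases hall : ∀ s ∈ S, s ≠ 0 ∧ ∀ u v : N, s = u + v → u = 0 ∨ v = 0
      · exact ⟨S, hS, hall⟩
      · push Not at hall
        obtain ⟨s, hsS, hs⟩ := hall
        have hsT : s ∈ AddSubmonoid.closure ((S.erase s : Finset N) : Set N) := by
          by_cases hs0 : s = 0
          · rw [hs0]; exact zero_mem _
          obtain ⟨u, v, huv, hu, hv⟩ := hs hs0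
          have claim : ∀ w : N, w ∈ AddSubmonoid.closure ((S.erase s : Finset N) : Set N) ∨
              ∃ w', w = s + w' := by
            intro w
            have hw : w ∈ AddSubmonoid.closure (S : Set N) := by rw [hS]; trivial
            induction hw using AddSubmonoid.closure_induction with
            | mem x hx =>
              by_cases hxs : x = s
              · right; exact ⟨0, by rw [hxs, add_zero]⟩
              · left; exact AddSubmonoid.subset_closure (by simpa [hxs] using hx)
            | zero => left; exact zero_mem _
            | add x y _ _ hx hy =>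
              rcases hx with hx | ⟨x', rfl⟩
              · rcases hy with hy | ⟨y', rfl⟩
                · left; exact add_mem hx hy
                · right; exact ⟨x + y', by abel⟩
              · right; exact ⟨x' + y, by abel⟩
          rcases claim u with hu' | ⟨u', hu'⟩
          · rcases claim v with hv' | ⟨v', hv'⟩
            · have h2 := add_mem hu' hv'
              rwa [← huv] at h2
            · exfalso
              have h1 : s + 0 = s + (u + v') := by
                rw [add_zero]; conv_lhs => rw [huv, hv']
                abel
              have h0 := add_left_cancel h1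
              exact hu (hsharp u (isAddUnit_iff_exists_neg.mpr ⟨v', h0.symm⟩))
          · exfalso
            have h1 : s + 0 = s + (u' + v) := by
              rw [add_zero]; conv_lhs => rw [huv, hu']
              abel
            have h0 := add_left_cancel h1
            exact hv (hsharp v (isAddUnit_iff_exists_neg.mpr ⟨u', by rw [add_comm]; exact h0.symm⟩))
        have hT : AddSubmonoid.closure ((S.erase s : Finset N) : Set N) = ⊤ := by
          rw [eq_top_iff, ← hS, AddSubmonoid.closure_le]
          intro x hx
          by_cases hxs : x = s
          · rw [hxs]; exact hsT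
          · exact AddSubmonoid.subset_closure (by simpa [hxs] using hx)
        have hpos := Finset.card_pos.mpr ⟨s, hsS⟩
        exact ih (S.erase s).card (by rw [Finset.card_erase_of_mem hsS, hcard]; omega) _ rfl hT
  exact key _ S₀ rfl hS₀

end Groth.Agent.H83.DM
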