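import Mathlib

set_option autoImplicit false
universe u

namespace Groth.Agent.H83.DM

open MvPolynomial

/-- (B1) the "cotangent" algebra map `R[N] → R[x_s : s ∈ S]/(x)^2`, `s ↦ x_s`, other nonzero `n ↦ 0` -/
theorem exists_algHom_quot_sq (R : Type u) [CommRing R] (N : Type) [AddCommMonoid N]
    (hsharp : ∀ n : N, IsAddUnit n → n = 0) (S : Finset N)
    (hS : ∀ s ∈ S, s ≠ 0 ∧ ∀ u v : N, s = u + v → u = 0 ∨ v = 0) :
    ∃ g : AddMonoidAlgebra R N →ₐ[R] (MvPolynomial S R ⧸ (idealOfVars S R) ^ 2),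
      ∀ s : S, g (AddMonoidAlgebra.single (s : N) 1) = Ideal.Quotient.mk _ (X s) := by
  classical
  let F : N → (MvPolynomial S R ⧸ (idealOfVars S R) ^ 2) := fun n =>
    if n = 0 then 1 else if h : n ∈ S then Ideal.Quotient.mk _ (X ⟨n, h⟩) else 0
  have hX : ∀ s s' : S, (Ideal.Quotient.mk (idealOfVars S R ^ 2) (X s)) *
      (Ideal.Quotient.mk (idealOfVars S R ^ 2) (X s')) = 0 := by
    intro s s'
    rw [← map_mul, Ideal.Quotient.eq_zero_iff_mem, pow_two]
    exact Ideal.mul_mem_mul (Ideal.subset_span ⟨s, rfl⟩) (Ideal.subset_span ⟨s', rfl⟩)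
  have hF0 : F 0 = 1 := by simp [F]
  have hFmul : ∀ n n', F (n + n') = F n * F n' := by
    intro n n'
    by_cases hn : n = 0
    · subst hn; simp [hF0]
    by_cases hn' : n' = 0
    · subst hn'; simp [hF0]
    have hsum : n + n' ≠ 0 := fun h => hn (hsharp n (isAddUnit_iff_exists_neg.mpr ⟨n', h⟩))
    have hnotS : n + n' ∉ S := fun h => by
      rcases (hS _ h).2 n n' rfl with h | h
      · exact hn h
      · exact hn' h
    have h0 : F (n + n') = 0 := by simp [F, hsum, hnotS]
    rw [h0]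
    simp only [F, hn, hn', if_false]
    split_ifs with h1 h2 h2
    · exact (hX _ _).symm
    · simp
    · simp
    · simp
  let Fm : Multiplicative N →* (MvPolynomial S R ⧸ (idealOfVars S R) ^ 2) :=
    { toFun := fun n => F n.toAdd, map_one' := hF0, map_mul' := fun a b => hFmul _ _ }
  refine ⟨AddMonoidAlgebra.lift R _ N Fm, ?_⟩
  intro s
  rw [AddMonoidAlgebra.lift_single, one_smul]
  simp [Fm, F, (hS s s.2).1]

end Groth.Agent.H83.DM
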