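import Mathlib

set_option autoImplicit false
universe u

namespace Groth.Agent.H83.DM

open MvPolynomial

/-- (B2) an endomorphism `x_i ↦ x_i + h_i`, `h_i ∈ (x)^2`, reflects membership in `(x)^t` -/
theorem mem_pow_of_aeval_mem_pow {R : Type*} [CommRing R] {σ : Type*} (h : σ → MvPolynomial σ R)
    (hh : ∀ i, h i ∈ idealOfVars σ R ^ 2) (t : ℕ) (f : MvPolynomial σ R)
    (hf : aeval (fun i => X i + h i) f ∈ idealOfVars σ R ^ t) : f ∈ idealOfVars σ R ^ t := by
  set J := idealOfVars σ R with hJ
  set Ψ : MvPolynomial σ R →ₐ[R] MvPolynomial σ R := aeval (fun i => X i + h i) with hΨ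
  have hXJ : ∀ i, (X i : MvPolynomial σ R) ∈ J := fun i => Ideal.subset_span ⟨i, rfl⟩
  have hJ2 : J ^ 2 ≤ J := by
    simpa using Ideal.pow_le_pow_right (I := J) (show 1 ≤ 2 by norm_num)
  have hΨX : ∀ i, Ψ (X i) = X i + h i := fun i => by simp [Ψ]
  have h1 : ∀ f, Ψ f - f ∈ J := by
    intro f
    induction f using MvPolynomial.induction_on with
    | C a => simp [Ψ]
    | add p q hp hq =>
      have e : Ψ (p + q) - (p + q) = (Ψ p - p) + (Ψ q - q) := by rw [map_add]; ring
      rw [e]; exact add_mem hp hq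
    | mul_X p i hp =>
      have e : Ψ (p * X i) - p * X i = (Ψ p - p) * X i + Ψ p * h i := by
        rw [map_mul, hΨX]; ring
      rw [e]
      exact add_mem (J.mul_mem_left _ (hXJ i)) (J.mul_mem_left _ (hJ2 (hh i)))
  have h2 : ∀ s, ∀ y ∈ J ^ s, Ψ y ∈ J ^ s := by
    intro s y hy
    have hle : (J ^ s).map Ψ ≤ J ^ s := by
      rw [Ideal.map_pow]
      apply Ideal.pow_right_mono
      rw [hJ, Ideal.map_span, Ideal.span_le]
      rintro _ ⟨_, ⟨i, rfl⟩, rfl⟩
      change Ψ (X i) ∈ J
      rw [hΨX]; exact add_mem (hXJ i) (hJ2 (hh i))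
    exact hle (Ideal.mem_map_of_mem _ hy)
  have h2' : ∀ y ∈ J, Ψ y ∈ J := fun y hy => by
    have := h2 1 y (by simpa using hy)
    simpa using this
  have h3 : ∀ x ∈ J, Ψ x - x ∈ J ^ 2 := by
    intro x hx
    induction hx using Submodule.span_induction with
    | mem x hx =>
      obtain ⟨i, rfl⟩ := hx
      rw [hΨX]; simpa using hh i
    | zero => simp
    | add x y _ _ hx hy =>
      have e : Ψ (x + y) - (x + y) = (Ψ x - x) + (Ψ y - y) := by rw [map_add]; ring
      rw [e]; exact add_mem hx hy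
    | smul a x hxJ hx =>
      have e : Ψ (a • x) - a • x = (Ψ a - a) * Ψ x + a * (Ψ x - x) := by
        simp only [smul_eq_mul, map_mul]; ring
      rw [e]
      refine add_mem ?_ (Ideal.mul_mem_left _ _ hx)
      rw [pow_two]; exact Ideal.mul_mem_mul (h1 a) (h2' x hxJ)
  have h4 : ∀ s, ∀ y ∈ J ^ s, Ψ y - y ∈ J ^ (s + 1) := by
    intro s
    induction s with
    | zero => intro y _; simpa using h1 y
    | succ s ih =>
      intro y hy
      rw [pow_succ] at hy
      refine Submodule.mul_induction_on hy ?_ ?_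
      · intro a ha b hb
        have e : Ψ (a * b) - a * b = (Ψ a - a) * Ψ b + a * (Ψ b - b) := by
          rw [map_mul]; ring
        rw [e]
        refine add_mem ?_ ?_
        · have : (Ψ a - a) * Ψ b ∈ J ^ (s + 1) * J := Ideal.mul_mem_mul (ih a ha) (h2' b hb)
          rwa [← pow_succ] at this
        · have : a * (Ψ b - b) ∈ J ^ s * J ^ 2 := Ideal.mul_mem_mul ha (h3 b hb)
          rwa [← pow_add] at this
      · intro x y hx hy
        have e : Ψ (x + y) - (x + y) = (Ψ x - x) + (Ψ y - y) := by rw [map_add]; ring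
        rw [e]; exact add_mem hx hy
  have h5 : ∀ s, s ≤ t → f ∈ J ^ s := by
    intro s
    induction s with
    | zero => intro _; simp
    | succ s ih =>
      intro hst
      have hfs := ih (by omega)
      have e : f = Ψ f - (Ψ f - f) := by ring
      rw [e]
      exact sub_mem (Ideal.pow_le_pow_right hst hf) (h4 s f hfs)
  exact h5 t le_rfl

end Groth.Agent.H83.DM
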