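import Mathlib
import Groth.Agent.H83.DMA
import Groth.Agent.H83.DMB1
import Groth.Agent.H83.DMB2

set_option autoImplicit false
universe u

namespace Groth.Agent.H83.DM

open MvPolynomial

section
variable (R : Type u) [CommRing R] (N : Type) [AddCommMonoid N]

/-- the canonical additive map `ℕ^S → N` -/
noncomputable def piHom (S : Finset N) : (S →₀ ℕ) →+ N :=
  Finsupp.liftAddHom (fun s : S => (multiplesHom N (s : N)))

lemma piHom_single (S : Finset N) (s : S) : piHom N S (Finsupp.single s 1) = (s : N) := by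
  simp [piHom]

lemma piHom_surjective (S : Finset N) (hS : AddSubmonoid.closure (S : Set N) = ⊤) :
    Function.Surjective (piHom N S) := by
  intro n
  have : n ∈ AddSubmonoid.closure (S : Set N) := by rw [hS]; trivial
  induction this using AddSubmonoid.closure_induction with
  | mem x hx => exact ⟨Finsupp.single ⟨x, hx⟩ 1, piHom_single N S ⟨x, hx⟩⟩
  | zero => exact ⟨0, map_zero _⟩
  | add x y _ _ hx hy =>
    obtain ⟨a, rfl⟩ := hx; obtain ⟨b, rfl⟩ := hy; exact ⟨a + b, map_add _ _ _⟩

theorem piHom_injective [Nontrivial R] (hsharp : ∀ n : N, IsAddUnit n → n = 0) (S : Finset N)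
    (hS : ∀ s ∈ S, s ≠ 0 ∧ ∀ u v : N, s = u + v → u = 0 ∨ v = 0)
    [Algebra.FormallySmooth R (AddMonoidAlgebra R N)] : Function.Injective (piHom N S) := by
  classical
  intro a b hab
  by_contra hne
  set J := idealOfVars S R with hJ
  obtain ⟨g, hg⟩ : ∃ g : AddMonoidAlgebra R N →ₐ[R] (MvPolynomial S R ⧸ J ^ 2),
      ∀ s : S, g (AddMonoidAlgebra.single (s : N) 1) = Ideal.Quotient.mk _ (X s) :=
    exists_algHom_quot_sq R N hsharp S hS
  set t := a.degree + b.degree + 2 with ht
  have ht2 : J ^ t ≤ J ^ 2 := Ideal.pow_le_pow_right (by omega)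
  let fac : (MvPolynomial S R ⧸ J ^ t) →ₐ[R] (MvPolynomial S R ⧸ J ^ 2) :=
    Ideal.Quotient.factorₐ R ht2
  have hfs : Function.Surjective fac := Ideal.Quotient.factor_surjective ht2
  have hnil : IsNilpotent (RingHom.ker (fac : (MvPolynomial S R ⧸ J ^ t) →+* (MvPolynomial S R ⧸ J ^ 2))) := by
    refine ⟨t, ?_⟩
    rw [Ideal.Quotient.coe_factorₐ, Ideal.Quotient.factor_ker, ← Ideal.map_pow, ← pow_mul,
      Ideal.zero_eq_bot, Ideal.map_eq_bot_iff_le_ker, Ideal.mk_ker]
    exact Ideal.pow_le_pow_right (by omega)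
  let φ := Algebra.FormallySmooth.liftOfSurjective g fac hfs hnil
  have hφ : ∀ x, fac (φ x) = g x := Algebra.FormallySmooth.liftOfSurjective_apply g fac hfs hnil
  let Pm : MvPolynomial S R →ₐ[R] AddMonoidAlgebra R N :=
    AddMonoidAlgebra.mapDomainAlgHom R R (piHom N S)
  have hPmm : ∀ c : S →₀ ℕ, Pm (monomial c 1) = AddMonoidAlgebra.single (piHom N S c) 1 := by
    intro c
    simp [Pm, monomial]
  have hPmX : ∀ s : S, Pm (X s) = AddMonoidAlgebra.single (s : N) 1 := by
    intro s
    rw [X, hPmm, piHom_single]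
  have hp : ∀ s : S, ∃ h : MvPolynomial S R, h ∈ J ^ 2 ∧
      φ (Pm (X s)) = Ideal.Quotient.mk (J ^ t) (X s + h) := by
    intro s
    obtain ⟨p, hp⟩ := Ideal.Quotient.mk_surjective (φ (Pm (X s)))
    refine ⟨p - X s, ?_, by rw [← hp]; congr 1; ring⟩
    have := hφ (Pm (X s))
    rw [← hp, hPmX, hg] at this
    exact (Ideal.Quotient.eq.mp this)
  choose h hh hφh using hp
  let Ψ : MvPolynomial S R →ₐ[R] MvPolynomial S R := aeval (fun i => X i + h i)
  have hΨ : (Ideal.Quotient.mkₐ R (J ^ t)).comp Ψ = φ.comp Pm := by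
    apply MvPolynomial.algHom_ext
    intro s
    simp [Ψ, hφh]
  let f : MvPolynomial S R := monomial a 1 - monomial b 1
  have hPmf : Pm f = 0 := by
    simp only [f, map_sub, hPmm, hab, sub_self]
  have hΨf : Ψ f ∈ J ^ t := by
    have := AlgHom.congr_fun hΨ f
    simp only [AlgHom.comp_apply, hPmf, map_zero] at this
    exact Ideal.Quotient.eq_zero_iff_mem.mp this
  have hf := mem_pow_of_aeval_mem_pow h hh t f hΨf
  rw [mem_pow_idealOfVars_iff'] at hf
  have := hf a (by omega)
  simp only [f, coeff_sub] at this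
  rw [coeff_monomial, coeff_monomial, if_pos rfl, if_neg (Ne.symm hne), sub_zero] at this
  exact one_ne_zero this

end

theorem main (R : Type u) [CommRing R] (N : Type)
    [AddCommMonoid N] [AddMonoid.FG N] [IsCancelAdd N] (hsharp : ∀ n : N, IsAddUnit n → n = 0)
    [Algebra.Smooth R (AddMonoidAlgebra R N)] :
    ∃ (P : Type u) (_ : AddCommGroup P) (_ : Module R P), Module.Finite R P ∧ Module.Projective R P ∧
      Nonempty (AddMonoidAlgebra R N ≃ₐ[R] SymmetricAlgebra R P) := by
  obtain ⟨S, hgen, hat⟩ := exists_atoms_generating N hsharp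
  refine ⟨S → R, inferInstance, inferInstance, inferInstance, inferInstance, ?_⟩
  rcases subsingleton_or_nontrivial R with hR | hR
  · have h1 : Subsingleton (AddMonoidAlgebra R N) :=
      (algebraMap R (AddMonoidAlgebra R N)).codomain_trivial
    have h2 : Subsingleton (SymmetricAlgebra R (S → R)) :=
      (algebraMap R (SymmetricAlgebra R (S → R))).codomain_trivial
    exact ⟨{ toFun := fun _ => 0, invFun := fun _ => 0,
             left_inv := fun _ => Subsingleton.elim _ _, right_inv := fun _ => Subsingleton.elim _ _,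
             map_mul' := fun _ _ => Subsingleton.elim _ _, map_add' := fun _ _ => Subsingleton.elim _ _,
             commutes' := fun _ => Subsingleton.elim _ _ }⟩
  · have hinj := piHom_injective R N hsharp S hat
    let e : (S →₀ ℕ) ≃+ N := AddEquiv.ofBijective (piHom N S) ⟨hinj, piHom_surjective N S hgen⟩
    exact ⟨(AddMonoidAlgebra.domCongr R R e).symm.trans
      (SymmetricAlgebra.equivMvPolynomial (Pi.basisFun R S)).symm⟩

end Groth.Agent.H83.DM
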