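import Mathlib
import Groth.Prelude.Def_PBC

/-!
# Q2 / Q1 for S0130 (helper24): constructible sets in compact spaces are compact; immersions with
constructible range into qcqs schemes.
-/

set_option autoImplicit false
universe u
open CategoryTheory CategoryTheory.Limits AlgebraicGeometry Topology

namespace Groth.Agent.H83.EtCons_Q2

/-- In a (quasi-)compact space, constructible sets are compact. -/
theorem isCompact_of_isConstructible {X : Type*} [TopologicalSpace X] [CompactSpace X] {s : Set X}
    (hs : Topology.IsConstructible s) : IsCompact s := by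
  have key : ∀ K : Set X,
      (IsCompact K ∧ ∀ U : Set X, IsOpen U → IsRetrocompact U → IsCompact (K ∩ U)) →
      (IsCompact (K ∩ s) ∧ ∀ U : Set X, IsOpen U → IsRetrocompact U → IsCompact (K ∩ s ∩ U)) ∧
      (IsCompact (K ∩ sᶜ) ∧ ∀ U : Set X, IsOpen U → IsRetrocompact U → IsCompact (K ∩ sᶜ ∩ U)) := by
    induction hs using Topology.IsConstructible.empty_union_induction with
    | open_retrocompact U hUo hUc =>
      intro K hK
      refine ⟨⟨hK.2 U hUo hUc, fun U' hU'o hU'c => ?_⟩,
        ⟨hK.1.inter_right hUo.isClosed_compl, fun U' hU'o hU'c => ?_⟩⟩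
      · rw [Set.inter_assoc]
        exact hK.2 _ (hUo.inter hU'o) (hUc.inter_isOpen hU'c hU'o)
      · rw [Set.inter_right_comm]
        exact (hK.2 U' hU'o hU'c).inter_right hUo.isClosed_compl
    | union s hs t ht ihs iht =>
      intro K hK
      constructor
      · rw [Set.inter_union_distrib_left]
        obtain ⟨h1, -⟩ := ihs K hK
        obtain ⟨h2, -⟩ := iht K hK
        refine ⟨h1.1.union h2.1, fun U hUo hUc => ?_⟩
        rw [Set.union_inter_distrib_right]
        exact (h1.2 U hUo hUc).union (h2.2 U hUo hUc)
      · rw [Set.compl_union, ← Set.inter_assoc]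
        exact (iht _ (ihs K hK).2).2
    | compl s hs ih =>
      intro K hK
      rw [compl_compl]
      exact ⟨(ih K hK).2, (ih K hK).1⟩
  have hu : IsCompact (Set.univ : Set X) ∧
      ∀ U : Set X, IsOpen U → IsRetrocompact U → IsCompact (Set.univ ∩ U) :=
    ⟨isCompact_univ, fun U _ hUc => by rw [Set.univ_inter]; exact hUc.isCompact⟩
  have := (key Set.univ hu).1.1
  rwa [Set.univ_inter] at this

/-- Q2 -/
theorem qcqs_of_immersion {X T : Scheme.{u}} [CompactSpace X] [QuasiSeparatedSpace X] (g : T ⟶ X)
    [IsImmersion g] (hR : Topology.IsConstructible (Set.range g)) :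
    CompactSpace T ∧ QuasiSeparatedSpace T := by
  constructor
  · rw [← isCompact_univ_iff, g.isEmbedding.isCompact_iff, Set.image_univ]
    exact isCompact_of_isConstructible hR
  · exact quasiSeparatedSpace_of_quasiSeparated g

end Groth.Agent.H83.EtCons_Q2
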