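import Mathlib
import Groth.Prelude.Def_PBC
import Groth.Agent.H83.EtCons_Q2

/-!
# Q1 for S0130 (helper24): images of constructible sets under an immersion with constructible range.
-/

set_option autoImplicit false
universe u
open CategoryTheory CategoryTheory.Limits AlgebraicGeometry Topology

namespace Groth.Agent.H83.EtCons_Q1

open TopologicalSpace in
/-- Q1 -/
theorem isConstructible_image_of_immersion {X T : Scheme.{u}} [CompactSpace X]
    [QuasiSeparatedSpace X] (g : T ⟶ X) [IsImmersion g]
    (hR : Topology.IsConstructible (Set.range g)) (A : Set T)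
    (hA : Topology.IsConstructible A) : Topology.IsConstructible (g '' A) := by
  obtain ⟨hTc, hTq⟩ := Groth.Agent.H83.EtCons_Q2.qcqs_of_immersion g hR
  haveI := hTc
  induction hA using Topology.IsConstructible.empty_union_induction with
  | open_retrocompact O hOo hOc =>
    have hOcomp : IsCompact O := hOc.isCompact
    obtain ⟨O', hO'o, hO'⟩ := g.isEmbedding.isInducing.isOpen_iff.1 hOo
    have hK : IsCompact (g '' O) := hOcomp.image g.continuous
    have hsub : g '' O ⊆ O' := by
      rintro _ ⟨t, ht, rfl⟩
      rw [← hO'] at ht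
      exact ht
    have hnb : ∀ x ∈ g '' O, ∃ W : X.Opens, IsAffineOpen W ∧ x ∈ W ∧ (W : Set X) ⊆ O' := by
      intro x hx
      obtain ⟨W, hW, hxW, hWO⟩ := (Opens.isBasis_iff_nbhd.mp X.isBasis_affineOpens)
        (show x ∈ (⟨O', hO'o⟩ : X.Opens) from hsub hx)
      exact ⟨W, hW, hxW, hWO⟩
    obtain ⟨O'', hO''o, hO''c, hO''sub, hcov⟩ : ∃ O'' : Set X, IsOpen O'' ∧ IsCompact O'' ∧
        O'' ⊆ O' ∧ g '' O ⊆ O'' := by
      choose W hWa hxW hWO using hnb
      obtain ⟨t, ht⟩ := hK.elim_nhds_subcover' (fun x hx => (W x hx : Set X))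
        (fun x hx => (W x hx).isOpen.mem_nhds (hxW x hx))
      exact ⟨⋃ x ∈ t, (W x.1 x.2 : Set X), isOpen_biUnion (fun x _ => (W x.1 x.2).isOpen),
        t.isCompact_biUnion (fun x _ => (hWa x.1 x.2).isCompact),
        Set.iUnion₂_subset (fun x _ => hWO x.1 x.2), ht⟩
    have hpre : g ⁻¹' O'' = O := by
      apply Set.Subset.antisymm
      · rw [← hO']
        exact Set.preimage_mono hO''sub
      · intro y hy
        exact hcov (Set.mem_image_of_mem g hy)
    have himg : g '' O = O'' ∩ Set.range g := by
      rw [← hpre, Set.image_preimage_eq_inter_range]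
    rw [himg]
    exact (hO''c.isConstructible hO''o).inter hR
  | union s hs t ht ihs iht =>
    rw [Set.image_union]
    exact ihs.union iht
  | compl s hs ih =>
    rw [Set.image_compl_eq_range_sdiff_image g.isEmbedding.injective]
    exact hR.sdiff ih

end Groth.Agent.H83.EtCons_Q1
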