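import Mathlib

set_option autoImplicit false
universe u
open TensorProduct Polynomial

namespace Groth.Agent.H83.FDS_QG

variable {R : Type u} [CommRing R]

theorem exists_mul_eq (p : Ideal R) [p.IsPrime] (c : p.ResidueField) :
    ∃ r : R, r ∉ p ∧ ∃ a : R,
      algebraMap R p.ResidueField a = algebraMap R p.ResidueField r * c := by
  obtain ⟨x, rfl⟩ := IsLocalRing.residue_surjective c
  obtain ⟨y, t, rfl⟩ := IsLocalization.exists_mk'_eq p.primeCompl x
  refine ⟨t, t.2, y, ?_⟩
  rw [IsScalarTower.algebraMap_apply R (Localization.AtPrime p) p.ResidueField,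
    IsScalarTower.algebraMap_apply R (Localization.AtPrime p) p.ResidueField,
    IsLocalRing.ResidueField.algebraMap_eq, ← map_mul, IsLocalization.mk'_spec']

/-- clearing denominators in `κ(p)[X]` -/
theorem exists_map_eq_C_mul (p : Ideal R) [p.IsPrime] (g : p.ResidueField[X]) :
    ∃ r : R, r ∉ p ∧ ∃ a : R[X],
      Polynomial.map (algebraMap R p.ResidueField) a =
        Polynomial.C (algebraMap R p.ResidueField r) * g := by
  induction g using Polynomial.induction_on' with
  | add g₁ g₂ h₁ h₂ =>
    obtain ⟨r₁, hr₁, a₁, ha₁⟩ := h₁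
    obtain ⟨r₂, hr₂, a₂, ha₂⟩ := h₂
    refine ⟨r₁ * r₂, fun h => (Ideal.IsPrime.mem_or_mem ‹_› h).elim hr₁ hr₂,
      Polynomial.C r₂ * a₁ + Polynomial.C r₁ * a₂, ?_⟩
    rw [Polynomial.map_add, Polynomial.map_mul, Polynomial.map_mul, ha₁, ha₂, Polynomial.map_C,
      Polynomial.map_C, map_mul, Polynomial.C_mul]
    ring
  | monomial n c =>
    obtain ⟨r, hr, a, ha⟩ := exists_mul_eq p c
    refine ⟨r, hr, Polynomial.monomial n a, ?_⟩
    rw [Polynomial.map_monomial, ha, Polynomial.C_mul_monomial]

/-- `Spec κ(p)[X] → Spec R[X]` is injective -/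
theorem comap_map_injective (p : Ideal R) [p.IsPrime] (P₁ P₂ : Ideal p.ResidueField[X])
    [P₁.IsPrime] [P₂.IsPrime]
    (h : P₁.comap (Polynomial.mapRingHom (algebraMap R p.ResidueField)) =
      P₂.comap (Polynomial.mapRingHom (algebraMap R p.ResidueField))) : P₁ = P₂ := by
  have key : ∀ (P : Ideal p.ResidueField[X]) [P.IsPrime] (g : p.ResidueField[X]) (r : R)
      (hr : r ∉ p) (a : R[X])
      (ha : Polynomial.map (algebraMap R p.ResidueField) a =
        Polynomial.C (algebraMap R p.ResidueField r) * g),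
      g ∈ P ↔ a ∈ P.comap (Polynomial.mapRingHom (algebraMap R p.ResidueField)) := by
    intro P _ g r hr a ha
    have hunit : IsUnit (Polynomial.C (algebraMap R p.ResidueField r) : p.ResidueField[X]) := by
      apply Polynomial.isUnit_C.mpr
      apply IsUnit.mk0
      intro h0
      apply hr
      have := (Ideal.algebraMap_residueField_eq_zero (I := p)).mp h0
      exact this
    rw [Ideal.mem_comap, Polynomial.coe_mapRingHom, ha]
    exact (Ideal.unit_mul_mem_iff_mem P hunit).symm
  ext g
  obtain ⟨r, hr, a, ha⟩ := exists_map_eq_C_mul p g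
  rw [key P₁ g r hr a ha, key P₂ g r hr a ha, h]

/-- (QG) quasi-finiteness of `X ↦ c` can be checked on the fibres over `R`. -/
theorem quasiFinite_of_forall_fiber {R S : Type u} [CommRing R] [CommRing S] [Algebra R S]
    [Algebra.FiniteType R S] (c : S)
    (h : ∀ (p : Ideal R) [p.IsPrime], (Polynomial.aeval (R := p.ResidueField)
      ((1 : p.ResidueField) ⊗ₜ[R] c : p.Fiber S)).toRingHom.QuasiFinite) :
    (Polynomial.aeval (R := R) c).toRingHom.QuasiFinite := by
  classical
  letI : Algebra R[X] S := (Polynomial.aeval (R := R) c).toRingHom.toAlgebra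
  have halgmap : ∀ g : R[X], algebraMap R[X] S g = Polynomial.aeval c g := fun g => rfl
  haveI : IsScalarTower R R[X] S := IsScalarTower.of_algebraMap_eq (fun x => by
    rw [halgmap, Polynomial.algebraMap_apply, Polynomial.aeval_C]; rfl)
  haveI : Algebra.FiniteType R[X] S := Algebra.FiniteType.of_restrictScalars_finiteType R R[X] S
  show Algebra.QuasiFinite R[X] S
  rw [Algebra.QuasiFinite.iff_finite_comap_preimage_singleton]
  intro x
  let p : Ideal R := x.asIdeal.comap (algebraMap R R[X])
  haveI : p.IsPrime := Ideal.comap_isPrime _ _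
  let pp : PrimeSpectrum R := ⟨p, inferInstance⟩
  let ψ : p.ResidueField[X] →+* p.Fiber S :=
    (Polynomial.aeval (R := p.ResidueField) ((1 : p.ResidueField) ⊗ₜ[R] c : p.Fiber S)).toRingHom
  have hψ : ψ.QuasiFinite := h p
  letI : Algebra p.ResidueField[X] (p.Fiber S) := ψ.toAlgebra
  haveI : Algebra.QuasiFinite p.ResidueField[X] (p.Fiber S) := hψ
  let ι : S →+* p.Fiber S :=
    (Algebra.TensorProduct.includeRight : S →ₐ[R] p.ResidueField ⊗[R] S).toRingHom
  let j := Polynomial.mapRingHom (algebraMap R p.ResidueField)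
  have hcomp : ψ.comp j = ι.comp (algebraMap R[X] S) := by
    apply Polynomial.ringHom_ext
    · intro r
      simp only [RingHom.comp_apply, j, Polynomial.coe_mapRingHom, Polynomial.map_C, ψ, ι, halgmap,
        AlgHom.toRingHom_eq_coe, RingHom.coe_coe, Polynomial.aeval_C,
        Algebra.TensorProduct.includeRight_apply, Algebra.TensorProduct.algebraMap_apply]
      rw [Algebra.algebraMap_eq_smul_one r, Algebra.algebraMap_eq_smul_one (A := S) r,
        Algebra.algebraMap_self, RingHom.id_apply, TensorProduct.smul_tmul]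
    · simp only [RingHom.comp_apply, j, Polynomial.coe_mapRingHom, Polynomial.map_X, ψ, ι, halgmap,
        AlgHom.toRingHom_eq_coe, RingHom.coe_coe, Polynomial.aeval_X,
        Algebra.TensorProduct.includeRight_apply]
  let T : Set (PrimeSpectrum p.ResidueField[X]) := {P' | PrimeSpectrum.comap j P' = x}
  have hT : T.Finite := by
    apply Set.Subsingleton.finite
    intro P₁ h₁ P₂ h₂
    apply PrimeSpectrum.ext
    apply comap_map_injective p
    exact congrArg PrimeSpectrum.asIdeal (h₁.trans h₂.symm)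
  have hB : (PrimeSpectrum.comap (algebraMap p.ResidueField[X] (p.Fiber S)) ⁻¹' T).Finite :=
    Algebra.QuasiFinite.finite_comap_preimage hT
  refine (hB.image (PrimeSpectrum.comap ι)).subset ?_
  intro Q hQ
  have hQ' : PrimeSpectrum.comap (algebraMap R[X] S) Q = x := hQ
  have hQp : Q ∈ PrimeSpectrum.comap (algebraMap R S) ⁻¹' {pp} := by
    show PrimeSpectrum.comap (algebraMap R S) Q = pp
    rw [IsScalarTower.algebraMap_eq R R[X] S, PrimeSpectrum.comap_comp_apply, hQ']
    rfl
  let e := PrimeSpectrum.preimageEquivFiber R S pp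
  refine ⟨e ⟨Q, hQp⟩, ?_, ?_⟩
  · show PrimeSpectrum.comap j (PrimeSpectrum.comap ψ (e ⟨Q, hQp⟩)) = x
    rw [← PrimeSpectrum.comap_comp_apply, hcomp, PrimeSpectrum.comap_comp_apply]
    have h1 : PrimeSpectrum.comap ι (e ⟨Q, hQp⟩) = Q :=
      congrArg Subtype.val (e.symm_apply_apply ⟨Q, hQp⟩)
    rw [h1, hQ']
  · exact congrArg Subtype.val (e.symm_apply_apply ⟨Q, hQp⟩)

end Groth.Agent.H83.FDS_QG
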