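import Mathlib
set_option autoImplicit false
universe u v
namespace Groth.Agent.H83.FL

section Len
variable {W : Type u} [CommRing W] {σ : W →+* W} [RingHomSurjective σ]

/-- length is preserved by bijective semilinear maps -/
theorem length_eq_of_semilinear_bijective {X Y : Type*} [AddCommGroup X] [AddCommGroup Y]
    [Module W X] [Module W Y] (f : X →ₛₗ[σ] Y) (hf : Function.Bijective f) :
    Module.length W X = Module.length W Y := by
  rw [Module.length, Module.length, WithBot.unbot_inj,
    Order.krullDim_eq_of_orderIso (Submodule.orderIsoMapComapOfBijective f hf)]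

/-- length additivity for a semilinear surjection -/
theorem length_eq_ker_add {X Y : Type*} [AddCommGroup X] [AddCommGroup Y]
    [Module W X] [Module W Y] (f : X →ₛₗ[σ] Y) (hf : Function.Surjective f) :
    Module.length W X = Module.length W (LinearMap.ker f) + Module.length W Y := by
  have h1 := Module.length_eq_add_of_exact (LinearMap.ker f).subtype (LinearMap.ker f).mkQ
    (Submodule.subtype_injective _) (Submodule.mkQ_surjective _) (LinearMap.exact_subtype_mkQ _)
  rw [h1]
  congr 1
  apply length_eq_of_semilinear_bijective ((LinearMap.ker f).liftQ f le_rfl)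
  constructor
  · intro a b hab
    obtain ⟨a, rfl⟩ := Submodule.Quotient.mk_surjective _ a
    obtain ⟨b, rfl⟩ := Submodule.Quotient.mk_surjective _ b
    rw [Submodule.liftQ_apply, Submodule.liftQ_apply] at hab
    rw [Submodule.Quotient.eq, LinearMap.mem_ker, map_sub, hab, sub_self]
  · intro y
    obtain ⟨x, rfl⟩ := hf y
    exact ⟨Submodule.Quotient.mk x, rfl⟩

end Len

section Core
variable {W : Type u} [CommRing W] {σ : W →+* W} [RingHomSurjective σ]
variable (N : ℕ → Type v) [∀ i, AddCommGroup (N i)] [∀ i, Module W (N i)]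

/-- sequences supported in degrees `≤ r` -/
def Ysub (r : ℕ) : Submodule W (∀ i, N i) where
  carrier := {y | ∀ i, r < i → y i = 0}
  add_mem' := by intro a b ha hb i hi; simp [ha i hi, hb i hi]
  zero_mem' := by intro i _; rfl
  smul_mem' := by intro c a ha i hi; simp [ha i hi]

/-- shifted sequences supported in degrees `< r` -/
def Zsub (r : ℕ) : Submodule W (∀ i, N (i + 1)) where
  carrier := {z | ∀ i, r ≤ i → z i = 0}
  add_mem' := by intro a b ha hb i hi; simp [ha i hi, hb i hi]
  zero_mem' := by intro i _; rfl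
  smul_mem' := by intro c a ha i hi; simp [ha i hi]

variable {N}
variable (α : ∀ i, N (i + 1) →ₗ[W] N i) (ϖ : W)

/-- components of the map `ι` -/
def iotaComp : ∀ i, (∀ i, N (i + 1)) →ₗ[W] N i
  | 0 => (α 0).comp (LinearMap.proj 0)
  | (j + 1) => (α (j + 1)).comp (LinearMap.proj (j + 1)) - ϖ • LinearMap.proj j

/-- the map `ι` on full products -/
def iotaFull : (∀ i, N (i + 1)) →ₗ[W] (∀ i, N i) := LinearMap.pi (iotaComp α ϖ)

lemma iotaFull_zero (z : ∀ i, N (i + 1)) : iotaFull α ϖ z 0 = α 0 (z 0) := rfl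
lemma iotaFull_succ (z : ∀ i, N (i + 1)) (j : ℕ) :
    iotaFull α ϖ z (j + 1) = α (j + 1) (z (j + 1)) - ϖ • z j := rfl

/-- components of the shift -/
def shiftComp : ∀ i, (∀ i, N (i + 1)) →ₗ[W] N i
  | 0 => 0
  | (j + 1) => LinearMap.proj j

/-- the shift on full products -/
def shiftFull : (∀ i, N (i + 1)) →ₗ[W] (∀ i, N i) := LinearMap.pi shiftComp

lemma shiftFull_zero (z : ∀ i, N (i + 1)) : shiftFull (W := W) z 0 = 0 := rfl
lemma shiftFull_succ (z : ∀ i, N (i + 1)) (j : ℕ) : shiftFull (W := W) z (j + 1) = z j := rfl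

variable (φ : ∀ i, N i →ₛₗ[σ] N 0) (r : ℕ)

/-- the map `Φ` on full products -/
def PhiFull : (∀ i, N i) →ₛₗ[σ] N 0 :=
  ∑ i ∈ Finset.range (r + 1), (φ i).comp (LinearMap.proj i : (∀ i, N i) →ₗ[W] N i)

lemma PhiFull_apply (y : ∀ i, N i) :
    PhiFull φ r y = (Finset.range (r + 1)).sum (fun i => φ i (y i)) := by
  simp [PhiFull, LinearMap.sum_apply]

lemma length_Ysub (r : ℕ) :
    Module.length W (Ysub (W := W) N r) = Module.length W (Zsub (W := W) N r) + Module.length W (N 0) := by
  have hs : ∀ z ∈ Zsub (W := W) N r, shiftFull (W := W) z ∈ Ysub (W := W) N r := by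
    intro z hz i hi
    cases i with
    | zero => rfl
    | succ j => rw [shiftFull_succ]; exact hz j (by omega)
  let s : Zsub (W := W) N r →ₗ[W] Ysub (W := W) N r := (shiftFull (W := W)).restrict hs
  let ev0 : Ysub (W := W) N r →ₗ[W] N 0 := (LinearMap.proj 0).domRestrict _
  apply Module.length_eq_add_of_exact s ev0
  · intro z z' h
    apply Subtype.ext
    funext j
    have := congrArg (fun y : Ysub (W := W) N r => y.1 (j + 1)) h
    exact this
  · intro m
    refine ⟨⟨Pi.single 0 m, ?_⟩, ?_⟩
    · intro i hi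
      exact Pi.single_eq_of_ne (by omega) _
    · change (Pi.single 0 m : ∀ i, N i) 0 = m
      exact Pi.single_eq_same _ _
  · intro y
    constructor
    · intro h0
      refine ⟨⟨fun j => y.1 (j + 1), fun j hj => y.2 (j + 1) (by omega)⟩, ?_⟩
      apply Subtype.ext
      funext i
      cases i with
      | zero => exact h0.symm
      | succ j => rfl
    · rintro ⟨z, rfl⟩
      rfl

lemma isFiniteLength_Zsub (hfl : ∀ i, IsFiniteLength W (N i)) (r : ℕ) :
    IsFiniteLength W (Zsub (W := W) N r) := by
  have hN : ∀ i, IsNoetherian W (N i) := fun i => (isFiniteLength_iff_isNoetherian_isArtinian.1 (hfl i)).1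
  have hA : ∀ i, IsArtinian W (N i) := fun i => (isFiniteLength_iff_isNoetherian_isArtinian.1 (hfl i)).2
  have hpi : IsFiniteLength W (∀ i : Fin r, N (i.1 + 1)) :=
    isFiniteLength_iff_isNoetherian_isArtinian.2 ⟨inferInstance, inferInstance⟩
  let f : Zsub (W := W) N r →ₗ[W] (∀ i : Fin r, N (i.1 + 1)) :=
    (LinearMap.pi fun i : Fin r => (LinearMap.proj i.1 : (∀ i, N (i + 1)) →ₗ[W] N (i.1 + 1))).domRestrict _
  refine hpi.of_injective (f := f) ?_
  intro z z' h
  apply Subtype.ext
  funext j
  by_cases hj : j < r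
  · exact congrFun h ⟨j, hj⟩
  · rw [z.2 j (by omega), z'.2 j (by omega)]

/-- (B) the length count: `ι` is injective, hence so is every `α i`, `i < r`. -/
theorem injective_alpha (hfl : ∀ i, IsFiniteLength W (N i))
    (htors : ∀ i (x : N i), ∃ n : ℕ, ϖ ^ n • x = 0)
    (hsurj : ∀ m : N 0, ∃ y : (i : ℕ) → N i, (∀ i, r < i → y i = 0) ∧
      (Finset.range (r + 1)).sum (fun i => φ i (y i)) = m)
    (hker : ∀ y : (i : ℕ) → N i, (∀ i, r < i → y i = 0) →
      (Finset.range (r + 1)).sum (fun i => φ i (y i)) = 0 →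
        ∃ z : (i : ℕ) → N (i + 1), (∀ i, r ≤ i → z i = 0) ∧
          y 0 = α 0 (z 0) ∧ ∀ i, y (i + 1) = α (i + 1) (z (i + 1)) - ϖ • z i)
    (i : ℕ) (hi : i < r) : Function.Injective (α i) := by
  classical
  have hι : ∀ z ∈ Zsub (W := W) N r, iotaFull α ϖ z ∈ Ysub (W := W) N r := by
    intro z hz i hi
    cases i with
    | zero => omega
    | succ j =>
      rw [iotaFull_succ, hz (j + 1) (by omega), hz j (by omega)]
      simp
  let ι : Zsub (W := W) N r →ₗ[W] Ysub (W := W) N r := (iotaFull α ϖ).restrict hι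
  let Φ : Ysub (W := W) N r →ₛₗ[σ] N 0 := (PhiFull φ r).domRestrict _
  have hΦs : Function.Surjective Φ := by
    intro m
    obtain ⟨y, hy, hm⟩ := hsurj m
    exact ⟨⟨y, hy⟩, by change PhiFull φ r y = m; rw [PhiFull_apply, hm]⟩
  have hkr : LinearMap.ker Φ ≤ LinearMap.range ι := by
    intro y hy
    have h0 : PhiFull φ r y.1 = 0 := hy
    rw [PhiFull_apply] at h0
    obtain ⟨z, hz, hz0, hzs⟩ := hker y.1 y.2 h0
    refine ⟨⟨z, hz⟩, ?_⟩
    apply Subtype.ext
    funext i
    cases i with
    | zero => exact hz0.symm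
    | succ j => exact (hzs j).symm
  -- the length count
  have hZ := isFiniteLength_Zsub (W := W) hfl r
  have hZne : Module.length W (Zsub (W := W) N r) ≠ ⊤ := Module.length_ne_top_iff.2 hZ
  have h0ne : Module.length W (N 0) ≠ ⊤ := Module.length_ne_top_iff.2 (hfl 0)
  have e1 := length_Ysub (W := W) (N := N) r
  have e2 := length_eq_ker_add Φ hΦs
  have e3 : Module.length W (LinearMap.ker Φ) ≤ Module.length W (LinearMap.range ι) :=
    Module.length_le_of_injective (Submodule.inclusion hkr) (Submodule.inclusion_injective hkr)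
  let g : Zsub (W := W) N r →ₗ[W] LinearMap.range ι := ι.rangeRestrict
  have hgs : Function.Surjective g := ι.surjective_rangeRestrict
  have hex4 : Function.Exact (LinearMap.ker ι).subtype g :=
    LinearMap.exact_iff.2 (by rw [LinearMap.ker_rangeRestrict, Submodule.range_subtype])
  have e4 : Module.length W (Zsub (W := W) N r) =
      Module.length W (LinearMap.ker ι) + Module.length W (LinearMap.range ι) :=
    Module.length_eq_add_of_exact (LinearMap.ker ι).subtype g
      (Submodule.subtype_injective _) hgs hex4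
  have hker0 : Module.length W (LinearMap.ker ι) = 0 := by
    have hrne : Module.length W (LinearMap.range ι) ≠ ⊤ := by
      intro h
      rw [h, add_top] at e4
      exact hZne e4
    have hkne : Module.length W (LinearMap.ker ι) ≠ ⊤ := by
      intro h
      rw [h, top_add] at e4
      exact hZne e4
    obtain ⟨a, ha⟩ := ENat.ne_top_iff_exists.1 hZne
    obtain ⟨b, hb⟩ := ENat.ne_top_iff_exists.1 h0ne
    obtain ⟨c, hc⟩ := ENat.ne_top_iff_exists.1 hrne
    obtain ⟨d, hd⟩ := ENat.ne_top_iff_exists.1 hkne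
    have hkΦ : Module.length W (LinearMap.ker Φ) ≠ ⊤ := ne_top_of_le_ne_top hrne e3
    obtain ⟨e, he⟩ := ENat.ne_top_iff_exists.1 hkΦ
    rw [← ha, ← hb] at e1
    rw [e1, ← he, ← hb] at e2
    rw [← he, ← hc] at e3
    rw [← ha, ← hc, ← hd] at e4
    rw [← hd]
    have e2' : a + b = e + b := by exact_mod_cast e2
    have e3' : e ≤ c := by exact_mod_cast e3
    have e4' : a = d + c := by exact_mod_cast e4
    have : d = 0 := by omega
    exact_mod_cast this
  have hιinj : LinearMap.ker ι = ⊥ := by
    rw [Module.length_eq_zero_iff] at hker0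
    exact Submodule.eq_bot_of_subsingleton
  -- conclude
  rw [injective_iff_map_eq_zero]
  intro x hx
  by_contra hx0
  obtain ⟨n, hn⟩ := htors (i + 1) x
  have hex : ∃ n : ℕ, ϖ ^ n • x = 0 := ⟨n, hn⟩
  set n0 := Nat.find hex with hn0
  have hn0s : ϖ ^ n0 • x = 0 := Nat.find_spec hex
  have hn0pos : n0 ≠ 0 := by
    intro h
    rw [h, pow_zero, one_smul] at hn0s
    exact hx0 hn0s
  obtain ⟨n1, hn1⟩ := Nat.exists_eq_succ_of_ne_zero hn0pos
  have hx' : ϖ ^ n1 • x ≠ 0 := Nat.find_min hex (by omega)
  have hϖx' : ϖ • (ϖ ^ n1 • x) = 0 := by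
    rw [smul_smul, ← pow_succ']
    have h2 := hn0s
    rw [hn1] at h2
    exact h2
  have hαx' : α i (ϖ ^ n1 • x) = 0 := by rw [map_smul, hx, smul_zero]
  set x' := ϖ ^ n1 • x with hx'def
  have hzmem : (Pi.single i x' : ∀ j, N (j + 1)) ∈ Zsub (W := W) N r := by
    intro j hj
    exact Pi.single_eq_of_ne (by omega) _
  have hz0 : ι ⟨Pi.single i x', hzmem⟩ = 0 := by
    apply Subtype.ext
    funext j
    change iotaFull α ϖ (Pi.single i x') j = 0
    cases j with
    | zero =>
      rw [iotaFull_zero]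
      by_cases h : i = 0
      · subst h
        rw [Pi.single_eq_same]; exact hαx'
      · rw [Pi.single_eq_of_ne (Ne.symm h), map_zero]
    | succ l =>
      rw [iotaFull_succ]
      by_cases h : l + 1 = i
      · subst h
        rw [Pi.single_eq_same, hαx', Pi.single_eq_of_ne (by omega), smul_zero, sub_zero]
      · by_cases h' : l = i
        · subst h'
          rw [Pi.single_eq_same, hϖx', Pi.single_eq_of_ne (by omega), map_zero, sub_zero]
        · rw [Pi.single_eq_of_ne h, Pi.single_eq_of_ne h', map_zero, smul_zero, sub_zero]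
  have hzero : (⟨Pi.single i x', hzmem⟩ : Zsub (W := W) N r) = 0 := by
    have : (⟨Pi.single i x', hzmem⟩ : Zsub (W := W) N r) ∈ LinearMap.ker ι := hz0
    rw [hιinj] at this
    exact this
  have := congrArg (fun z : Zsub (W := W) N r => z.1 i) hzero
  simp only [Pi.single_eq_same] at this
  exact hx' this

end Core

end Groth.Agent.H83.FL
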