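import Mathlib
import Groth.Agent.H83.FLCore
set_option autoImplicit false
universe u v
namespace Groth.Agent.H83.FL

/-- a finite-length module is killed, elementwise, by powers of an element of the Jacobson radical -/
theorem exists_pow_smul_eq_zero {W : Type u} [CommRing W] (ϖ : W)
    (hϖ : ϖ ∈ Ideal.jacobson (⊥ : Ideal W)) {M : Type v} [AddCommGroup M] [Module W M]
    (hM : IsFiniteLength W M) (x : M) : ∃ n : ℕ, ϖ ^ n • x = 0 := by
  have hN : IsNoetherian W M := (isFiniteLength_iff_isNoetherian_isArtinian.1 hM).1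
  have hA : IsArtinian W M := (isFiniteLength_iff_isNoetherian_isArtinian.1 hM).2
  let f : ℕ →o (Submodule W M)ᵒᵈ :=
    { toFun := fun n => OrderDual.toDual (LinearMap.range ((ϖ ^ n) • (LinearMap.id : M →ₗ[W] M)))
      monotone' := by
        intro a b hab
        change LinearMap.range ((ϖ ^ b) • (LinearMap.id : M →ₗ[W] M)) ≤
          LinearMap.range ((ϖ ^ a) • (LinearMap.id : M →ₗ[W] M))
        rintro _ ⟨y, rfl⟩
        refine ⟨ϖ ^ (b - a) • y, ?_⟩
        simp only [LinearMap.smul_apply, LinearMap.id_apply, smul_smul]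
        rw [← pow_add, Nat.add_sub_cancel' hab] }
  obtain ⟨n, hn⟩ := IsArtinian.monotone_stabilizes f
  set S : Submodule W M := LinearMap.range ((ϖ ^ n) • (LinearMap.id : M →ₗ[W] M)) with hS
  have hS1 : S = LinearMap.range ((ϖ ^ (n + 1)) • (LinearMap.id : M →ₗ[W] M)) := by
    have := hn (n + 1) (Nat.le_succ n)
    exact congrArg OrderDual.ofDual this
  have hle : S ≤ Ideal.span {ϖ} • S := by
    intro s hs
    rw [hS1] at hs
    obtain ⟨y, rfl⟩ := hs
    simp only [LinearMap.smul_apply, LinearMap.id_apply]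
    rw [pow_succ', ← smul_smul]
    exact Submodule.smul_mem_smul (Ideal.subset_span rfl) ⟨y, by simp⟩
  have hbot : S = ⊥ := Submodule.eq_bot_of_le_smul_of_le_jacobson_bot (Ideal.span {ϖ}) S
    (IsNoetherian.noetherian S) hle (by rwa [Ideal.span_singleton_le_iff_mem])
  refine ⟨n, ?_⟩
  have : ϖ ^ n • x ∈ S := ⟨x, by simp⟩
  rw [hbot] at this
  exact this

section Quot
variable {W : Type u} [CommRing W] {σ : W →+* W} [RingHomSurjective σ]
variable (N : ℕ → Type v) [∀ i, AddCommGroup (N i)] [∀ i, Module W (N i)]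
variable (ϖ : W)

/-- the submodule `ϖ^j N_i` -/
def pj (j : ℕ) (i : ℕ) : Submodule W (N i) :=
  LinearMap.range ((ϖ ^ j) • (LinearMap.id : N i →ₗ[W] N i))

variable {N} in
lemma mem_pj {j i : ℕ} {x : N i} : x ∈ pj N ϖ j i ↔ ∃ y : N i, ϖ ^ j • y = x := by
  simp [pj, LinearMap.mem_range]

/-- the quotient family -/
abbrev NQ (j : ℕ) (i : ℕ) : Type v := N i ⧸ pj N ϖ j i

variable {N}
variable (α : ∀ i, N (i + 1) →ₗ[W] N i) (φ : ∀ i, N i →ₛₗ[σ] N 0) (r : ℕ)

/-- `α` modulo `ϖ^j` -/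
def alphaQ (j : ℕ) (i : ℕ) : NQ N ϖ j (i + 1) →ₗ[W] NQ N ϖ j i :=
  Submodule.mapQ _ _ (α i) (by
    intro x hx
    obtain ⟨y, rfl⟩ := (mem_pj ϖ).1 hx
    rw [Submodule.mem_comap, map_smul]
    exact (mem_pj ϖ).2 ⟨α i y, rfl⟩)

/-- `φ` modulo `ϖ^j` -/
def phiQ (hσϖ : σ ϖ = ϖ) (j : ℕ) (i : ℕ) : NQ N ϖ j i →ₛₗ[σ] NQ N ϖ j 0 :=
  Submodule.mapQ _ _ (φ i) (by
    intro x hx
    obtain ⟨y, rfl⟩ := (mem_pj ϖ).1 hx
    rw [Submodule.mem_comap, map_smulₛₗ, map_pow, hσϖ]
    exact (mem_pj ϖ).2 ⟨φ i y, rfl⟩)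

/-- (C) `α i` is injective modulo `ϖ^j`. -/
theorem injective_alphaQ (hσϖ : σ ϖ = ϖ) (hfl : ∀ i, IsFiniteLength W (N i))
    (htors : ∀ i (x : N i), ∃ n : ℕ, ϖ ^ n • x = 0)
    (hsurj : ∀ m : N 0, ∃ y : (i : ℕ) → N i, (∀ i, r < i → y i = 0) ∧
      (Finset.range (r + 1)).sum (fun i => φ i (y i)) = m)
    (hker : ∀ y : (i : ℕ) → N i, (∀ i, r < i → y i = 0) →
      (Finset.range (r + 1)).sum (fun i => φ i (y i)) = 0 →
        ∃ z : (i : ℕ) → N (i + 1), (∀ i, r ≤ i → z i = 0) ∧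
          y 0 = α 0 (z 0) ∧ ∀ i, y (i + 1) = α (i + 1) (z (i + 1)) - ϖ • z i)
    (j : ℕ) (i : ℕ) (hi : i < r) : Function.Injective (alphaQ ϖ α j i) := by
  classical
  refine injective_alpha (N := NQ N ϖ j) (alphaQ ϖ α j) ϖ (phiQ ϖ φ hσϖ j) r ?_ ?_ ?_ ?_ i hi
  · intro i
    exact (hfl i).of_surjective (f := (pj N ϖ j i).mkQ) (Submodule.mkQ_surjective _)
  · intro i x
    obtain ⟨x, rfl⟩ := Submodule.Quotient.mk_surjective _ x
    obtain ⟨n, hn⟩ := htors i x
    exact ⟨n, by rw [← Submodule.Quotient.mk_smul, hn, Submodule.Quotient.mk_zero]⟩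
  · intro m
    obtain ⟨m, rfl⟩ := Submodule.Quotient.mk_surjective _ m
    obtain ⟨y, hy, hm⟩ := hsurj m
    refine ⟨fun i => Submodule.Quotient.mk (y i), fun i hi => by change Submodule.Quotient.mk (y i) = 0; rw [hy i hi, Submodule.Quotient.mk_zero], ?_⟩
    rw [← hm]
    change _ = (pj N ϖ j 0).mkQ _
    rw [map_sum]
    rfl
  · intro ybar hybar hsum
    -- lifts
    have hlift : ∀ i, ∃ y : N i, (Submodule.Quotient.mk y : NQ N ϖ j i) = ybar i ∧ (r < i → y = 0) := by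
      intro i
      by_cases h : r < i
      · exact ⟨0, by rw [hybar i h, Submodule.Quotient.mk_zero], fun _ => rfl⟩
      · obtain ⟨y, hy⟩ := Submodule.Quotient.mk_surjective _ (ybar i)
        exact ⟨y, hy, fun h' => absurd h' h⟩
    choose y hy hy0 using hlift
    have hS : (Finset.range (r + 1)).sum (fun i => φ i (y i)) ∈ pj N ϖ j 0 := by
      rw [← Submodule.Quotient.mk_eq_zero, ← hsum]
      change (pj N ϖ j 0).mkQ _ = _
      rw [map_sum]
      refine Finset.sum_congr rfl fun i _ => ?_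
      rw [← hy i]
      rfl
    obtain ⟨m, hm⟩ := (mem_pj ϖ).1 hS
    obtain ⟨y', hy', hm'⟩ := hsurj m
    have hsupp : ∀ i, r < i → y i - ϖ ^ j • y' i = 0 := by
      intro i hi
      rw [hy0 i hi, hy' i hi, smul_zero, sub_zero]
    have hzero : (Finset.range (r + 1)).sum (fun i => φ i (y i - ϖ ^ j • y' i)) = 0 := by
      simp only [map_sub, map_smulₛₗ, map_pow, hσϖ]
      rw [Finset.sum_sub_distrib, ← Finset.smul_sum, hm', hm, sub_self]
    obtain ⟨z, hz, hz0, hzs⟩ := hker _ hsupp hzero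
    refine ⟨fun i => Submodule.Quotient.mk (z i), fun i hi => by change Submodule.Quotient.mk (z i) = 0; rw [hz i hi, Submodule.Quotient.mk_zero], ?_, ?_⟩
    · rw [← hy 0]
      change _ = Submodule.Quotient.mk (α 0 (z 0))
      rw [Submodule.Quotient.eq, ← hz0]
      exact (mem_pj ϖ).2 ⟨y' 0, by abel⟩
    · intro i
      rw [← hy (i + 1)]
      change _ = Submodule.Quotient.mk (α (i + 1) (z (i + 1))) - ϖ • Submodule.Quotient.mk (z i)
      rw [← Submodule.Quotient.mk_smul, ← Submodule.Quotient.mk_sub, Submodule.Quotient.eq, ← hzs i]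
      exact (mem_pj ϖ).2 ⟨y' (i + 1), by abel⟩

end Quot

end Groth.Agent.H83.FL
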