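import Mathlib
import Groth.Prelude.Def_SGA1

/-!
# (GEO1) for S2920 (helper79): a free action gives the unit ideal of `σ_g b - b` on invariant affine
charts.
-/

set_option autoImplicit false
universe u
open CategoryTheory CategoryTheory.Limits AlgebraicGeometry

namespace Groth.Agent.H83.FreeFlat_GEO1

/-- (GEO1) -/
theorem span_eq_top_of_free {X Y : Scheme.{u}} {G : Type u} [Group G] [Finite G] (ρ : G →* Aut X)
    (p : X ⟶ Y) (hp : SGA1.IsQuot ρ p)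
    (hfree : ∀ (K : Type u) [Field K] [IsAlgClosed K] (ξ : Spec (CommRingCat.of K) ⟶ X) (g : G),
      ξ ≫ (ρ g).hom = ξ → g = 1)
    (V : Y.Opens) (hV : IsAffineOpen V) (g : G) (hg : g ≠ 1) :
    Ideal.span (Set.range fun b : Γ(X, p ⁻¹ᵁ V) =>
      ((ρ g).hom.appLE (p ⁻¹ᵁ V) (p ⁻¹ᵁ V) (SGA1.preimage_le_of_inv ρ p hp.inv g V)).hom b - b) = ⊤ := by
  haveI : IsAffineHom p := hp.affine
  have hU : IsAffineOpen (p ⁻¹ᵁ V) := hV.preimage p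
  by_contra hne
  obtain ⟨m, hm, hle⟩ := Ideal.exists_le_maximal _ hne
  haveI := hm
  letI : Field (Γ(X, p ⁻¹ᵁ V) ⧸ m) := Ideal.Quotient.field m
  let K := AlgebraicClosure (Γ(X, p ⁻¹ᵁ V) ⧸ m)
  let φ : Γ(X, p ⁻¹ᵁ V) →+* K :=
    (algebraMap (Γ(X, p ⁻¹ᵁ V) ⧸ m) K).comp (Ideal.Quotient.mk m)
  have hφσ : (ρ g).hom.appLE (p ⁻¹ᵁ V) (p ⁻¹ᵁ V) (SGA1.preimage_le_of_inv ρ p hp.inv g V) ≫
      CommRingCat.ofHom φ = CommRingCat.ofHom φ := by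
    apply CommRingCat.hom_ext
    apply RingHom.ext
    intro b
    show φ (((ρ g).hom.appLE (p ⁻¹ᵁ V) (p ⁻¹ᵁ V)
      (SGA1.preimage_le_of_inv ρ p hp.inv g V)).hom b) = φ b
    rw [← sub_eq_zero, ← map_sub]
    have hmem : ((ρ g).hom.appLE (p ⁻¹ᵁ V) (p ⁻¹ᵁ V)
        (SGA1.preimage_le_of_inv ρ p hp.inv g V)).hom b - b ∈ m :=
      hle (Ideal.subset_span ⟨b, rfl⟩)
    show algebraMap _ K (Ideal.Quotient.mk m _) = 0
    rw [Ideal.Quotient.eq_zero_iff_mem.2 hmem, map_zero]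
  let ξ : Spec (CommRingCat.of K) ⟶ X := Spec.map (CommRingCat.ofHom φ) ≫ hU.fromSpec
  have hξ : ξ ≫ (ρ g).hom = ξ := by
    show (Spec.map (CommRingCat.ofHom φ) ≫ hU.fromSpec) ≫ (ρ g).hom =
      Spec.map (CommRingCat.ofHom φ) ≫ hU.fromSpec
    rw [Category.assoc, ← IsAffineOpen.SpecMap_appLE_fromSpec (ρ g).hom hU hU
      (SGA1.preimage_le_of_inv ρ p hp.inv g V), ← Category.assoc, ← Spec.map_comp, hφσ]
  exact hg (hfree K ξ g hξ)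

end Groth.Agent.H83.FreeFlat_GEO1
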