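import Mathlib

set_option autoImplicit false

namespace Groth.Agent.H83.HopfEtale

/-- For a formally unramified algebra with an augmentation, the augmentation ideal is idempotent. -/
theorem ker_sq_of_formallyUnramified {R B : Type*} [CommRing R] [CommRing B] [Algebra R B]
    [Algebra.FormallyUnramified R B] (ε : B →ₐ[R] R) :
    RingHom.ker ε ^ 2 = RingHom.ker ε := by
  apply le_antisymm (Ideal.pow_le_self two_ne_zero)
  intro b hb
  let I : Ideal B := RingHom.ker ε
  let N : Ideal (B ⧸ I ^ 2) := I.map (Ideal.Quotient.mk (I ^ 2))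
  have hN : N ^ 2 = ⊥ := by
    rw [← Ideal.map_pow, Ideal.map_quotient_self]
  have hinj := Algebra.FormallyUnramified.comp_injective (R := R) (A := B) N hN
  let g₁ : B →ₐ[R] B ⧸ I ^ 2 := Ideal.Quotient.mkₐ R (I ^ 2)
  let g₂ : B →ₐ[R] B ⧸ I ^ 2 := (Algebra.ofId R (B ⧸ I ^ 2)).comp ε
  have h12 : (Ideal.Quotient.mkₐ R N).comp g₁ = (Ideal.Quotient.mkₐ R N).comp g₂ := by
    apply AlgHom.ext
    intro c
    rw [AlgHom.comp_apply, AlgHom.comp_apply, ← sub_eq_zero, ← map_sub]
    apply Ideal.Quotient.eq_zero_iff_mem.mpr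
    have h1 : g₁ c - g₂ c = Ideal.Quotient.mk (I ^ 2) (c - algebraMap R B (ε c)) := by
      rw [map_sub]
      rfl
    rw [h1]
    apply Ideal.mem_map_of_mem
    change c - algebraMap R B (ε c) ∈ RingHom.ker ε
    rw [RingHom.mem_ker, map_sub, AlgHom.commutes, sub_eq_zero]
    rfl
  have h2 := AlgHom.congr_fun (hinj h12) b
  have h3 : g₂ b = 0 := by
    change algebraMap R (B ⧸ I ^ 2) (ε b) = 0
    rw [(RingHom.mem_ker).mp hb, map_zero]
  rw [h3] at h2
  exact Ideal.Quotient.eq_zero_iff_mem.mp h2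

end Groth.Agent.H83.HopfEtale
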