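import Mathlib
import Groth.Agent.H21.Hyp.Defs

set_option autoImplicit false
universe u

open CategoryTheory CategoryTheory.Limits AlgebraicGeometry TopologicalSpace Opposite
open Groth.Agent.H82.HHA Groth.Agent.H82.HHFinite

namespace Groth.Agent.H83.Hyp

theorem finrank_HH_congr {X : Scheme.{u}} (k : Type u) [Field k] [X.Over (Spec (CommRingCat.of k))]
    {M M' : X.Modules} (e : M ≅ M') (n : ℕ) :
    Module.finrank k (Coh.HH X M n) = Module.finrank k (Coh.HH X M' n) := by
  have hab1 : abMap e.hom ≫ abMap e.inv = 𝟙 _ := by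
    have h := congrArg abMap e.hom_inv_id
    rw [show abMap (𝟙 M) = 𝟙 _ from (SheafOfModules.toSheaf X.ringCatSheaf).map_id _] at h
    rw [← h]
    exact ((SheafOfModules.toSheaf X.ringCatSheaf).map_comp _ _).symm
  have hab2 : abMap e.inv ≫ abMap e.hom = 𝟙 _ := by
    have h := congrArg abMap e.inv_hom_id
    rw [show abMap (𝟙 M') = 𝟙 _ from (SheafOfModules.toSheaf X.ringCatSheaf).map_id _] at h
    rw [← h]
    exact ((SheafOfModules.toSheaf X.ringCatSheaf).map_comp _ _).symm
  have h1 : ∀ x, mapL (A := k) e.inv n (mapL (A := k) e.hom n x) = x := by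
    intro x
    rw [mapL_apply, mapL_apply, ← Sheaf.H.map_comp_apply, hab1, Sheaf.H.map_id_apply]
  have h2 : ∀ x, mapL (A := k) e.hom n (mapL (A := k) e.inv n x) = x := by
    intro x
    rw [mapL_apply, mapL_apply, ← Sheaf.H.map_comp_apply, hab2, Sheaf.H.map_id_apply]
  exact LinearEquiv.finrank_eq (LinearEquiv.ofLinearMap (mapL (A := k) e.hom n) (mapL (A := k) e.inv n)
    (LinearMap.ext h2) (LinearMap.ext h1))

end Groth.Agent.H83.Hyp
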