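import Mathlib
import Groth.Agent.H69.DirColim
import Groth.Agent.H15.NilPair.Base
import Groth.Agent.H15.NilPair.Sys
import Groth.Agent.H15.IntPair.Sys

/-!
# (SC) for S18014 (helper15): surjectivity onto `C`.
-/

set_option autoImplicit false
universe u
open CategoryTheory MvPolynomial Limits
open Groth.Agent.H69 Groth.Agent.H15.IntPair
open Groth.Agent.H15.NilPair (PS IT Cq mkq mkq_surjective mkq_eq_zero mkq_eq_zero_iff fp tr tr_mkq
  tr_refl tr_trans toE toE_mkq toE_tr gen_top X_mem_PS PS_mono dirNat)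
open scoped Classical

namespace Groth.Agent.H83.IntPair_SC

variable {A B C : Type u} [CommRing A] [CommRing B] [CommRing C] [Algebra A B] [Algebra A C]
  [Algebra B C] [IsScalarTower A B C]

theorem surj_C [Algebra.IsIntegral A C] (hsB : ∀ b : B, ∃ (j : J A B C) (x : FB j), toB j x = b) :
    ∀ c : C, ∃ (j : J A B C) (y : FC j), toC j y = c := by
  intro c
  by_cases hBC : Function.Surjective (algebraMap B C)
  · obtain ⟨b, rfl⟩ := hBC c
    obtain ⟨j, x, hx⟩ := hsB b
    exact ⟨j, phi j x, by rw [toC_phi, hx]⟩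
  · obtain ⟨p, hpm, hp0⟩ := Algebra.IsIntegral.isIntegral (R := A) c
    let W : Finset (B ⊕ C) := (∅ : Finset B).disjSum {c}
    have hYmem : (X (Sum.inr c) : MvPolynomial (B ⊕ C) A) ∈ PS A W :=
      X_mem_PS (Finset.inr_mem_disjSum.mpr (Finset.mem_singleton_self c))
    let Yel : PS A W := ⟨X (Sum.inr c), hYmem⟩
    let rS : PS A W := Polynomial.aeval Yel p
    let r : MvPolynomial (B ⊕ C) A := (rS : MvPolynomial (B ⊕ C) A)
    have hr : r = Polynomial.aeval (X (Sum.inr c) : MvPolynomial (B ⊕ C) A) p :=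
      Polynomial.aeval_subalgebra_coe p (PS A W) Yel
    have hevY : evC A B C (X (Sum.inr c) : MvPolynomial (B ⊕ C) A) = c := by simp [evC]
    have hevr : evC A B C r = 0 := by
      rw [hr, ← Polynomial.aeval_algHom_apply, hevY, Polynomial.aeval_def]
      exact hp0
    let jr : Raw A B C := ⟨∅, {c}, ∅, {r}⟩
    have key : (algebraMap A jr.CC).IsIntegralElem (mkq jr.WC jr.TCC Yel) := by
      refine ⟨p, hpm, ?_⟩
      rw [← Polynomial.aeval_def, Polynomial.aeval_algHom_apply]
      apply mkq_eq_zero
      exact Raw.TC_sub_TCC (j := jr) (Finset.mem_singleton_self r)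
    have hvalid : Valid jr := by
      refine ⟨?_, ?_, ?_, ?_, ?_, ?_, ?_, ?_⟩
      · intro t ht; exact absurd ht (Finset.notMem_empty t)
      · intro t ht
        have ht' : t = r := Finset.mem_singleton.mp ht
        rw [ht']
        exact ⟨rS.2, hevr⟩
      · intro b hb; exact absurd hb (Finset.notMem_empty b)
      · intro c' hc'
        have hcc : c' = c := Finset.mem_singleton.mp hc'
        have e : (⟨X (Sum.inr c'), X_mem_PS (Raw.inr_mem_WC hc')⟩ : PS A jr.WC) = Yel :=
          Subtype.ext (by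
            show (X (Sum.inr c') : MvPolynomial (B ⊕ C) A) = X (Sum.inr c)
            rw [hcc])
        rw [e]
        exact key
      · intro _ b hb; exact absurd hb (Finset.notMem_empty b)
      · intro hs; exact absurd hs hBC
      · intro _ b hb; exact absurd hb (Finset.notMem_empty b)
      · intro hs; exact absurd hs hBC
    refine ⟨⟨jr, hvalid⟩, mkq jr.WC jr.TCC Yel, ?_⟩
    show toE (evC A B C) _ (mkq jr.WC jr.TCC ⟨X (Sum.inr c), hYmem⟩) = c
    rw [toE_mkq]
    exact hevY

end Groth.Agent.H83.IntPair_SC
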