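import Groth.Agent.H5.KerDefs
import Groth.Agent.H83.KerALG
import Groth.Agent.H8.QCohAffine
import Groth.Agent.H8.HomBasis
import Groth.Agent.H8.CohKerCoker
import Groth.Agent.H22.QCohLimits

set_option autoImplicit false
universe u
open CategoryTheory CategoryTheory.Limits AlgebraicGeometry Opposite
open Groth.Agent.S9528 Groth.Agent.H5.Ker

namespace Groth.Agent.H83.KerLOC

section algebra

/-- Monotone form of `alg_AR`. -/
theorem alg_AR_mono {B : Type u} [CommRing B] [IsNoetherianRing B] (J : Ideal B)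
    (M P : ℕ → Type u) [∀ n, AddCommGroup (M n)] [∀ n, Module B (M n)]
    [∀ n, Module.Finite B (M n)]
    [∀ n, AddCommGroup (P n)] [∀ n, Module B (P n)] [∀ n, Module.Finite B (P n)]
    (T : ∀ {n m : ℕ}, n ≤ m → M m →ₗ[B] M n) (S : ∀ {n m : ℕ}, n ≤ m → P m →ₗ[B] P n)
    (hT0 : ∀ n, T (le_refl n) = LinearMap.id)
    (hT : ∀ {n m k : ℕ} (h : n ≤ m) (h' : m ≤ k), (T h).comp (T h') = T (h.trans h'))
    (hS0 : ∀ n, S (le_refl n) = LinearMap.id)
    (hS : ∀ {n m k : ℕ} (h : n ≤ m) (h' : m ≤ k), (S h).comp (S h') = S (h.trans h'))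
    (a : ∀ n, M n →ₗ[B] P n)
    (ha : ∀ {n m : ℕ} (h : n ≤ m), (S h).comp (a m) = (a n).comp (T h))
    (hTs : ∀ {n m : ℕ} (h : n ≤ m), Function.Surjective (T h))
    (hTk : ∀ {n m : ℕ} (h : n ≤ m), LinearMap.ker (T h) = J ^ (n + 1) • ⊤)
    (hSs : ∀ {n m : ℕ} (h : n ≤ m), Function.Surjective (S h))
    (hSk : ∀ {n m : ℕ} (h : n ≤ m), LinearMap.ker (S h) = J ^ (n + 1) • ⊤) :
    ∃ c₀ c₀' : ℕ, ∀ c c' : ℕ, c₀ ≤ c → c₀' ≤ c' →
      (∀ (n m : ℕ) (h : n + c ≤ m),
        Submodule.map (T (le_of_add_le_left h)) (LinearMap.ker (a m)) =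
          Submodule.map (T (Nat.le_add_right n c)) (LinearMap.ker (a (n + c)))) ∧
      (∀ (j m k : ℕ) (h : j ≤ m), k + c' ≤ j + 1 →
        Submodule.map (T (Nat.le_add_right m c)) (LinearMap.ker (a (m + c))) ⊓ LinearMap.ker (T h) ≤
          J ^ k • Submodule.map (T (Nat.le_add_right m c)) (LinearMap.ker (a (m + c)))) := by
  obtain ⟨c₀, c₀', h1, h2⟩ := Groth.Agent.H83.KerALG.alg_AR J M P T S hT0 hT hS0 hS a ha hTs hTk hSs hSk
  refine ⟨c₀, c₀', fun c c' hc hc' => ?_⟩
  have key : ∀ (n m : ℕ) (h : n ≤ m), n + c₀ ≤ m →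
      Submodule.map (T h) (LinearMap.ker (a m)) =
        Submodule.map (T (Nat.le_add_right n c₀)) (LinearMap.ker (a (n + c₀))) :=
    fun n m h h' => h1 n m h'
  refine ⟨fun n m h => ?_, fun j m k h hk => ?_⟩
  · rw [key n m _ (by omega), key n (n + c) _ (by omega)]
  · rw [key m (m + c) _ (by omega)]
    exact h2 j m k h (by omega)

end algebra

variable {A : Type u} [CommRing A] {X : Scheme.{u}} [X.Over (Spec (CommRingCat.of A))] (I : Ideal A)

section zero

/-- A morphism from a quasi-coherent module vanishing on sections over an affine open vanishes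
on sections over its basic opens. -/
theorem app_basicOpen_eq_zero {P Q : X.Modules} [P.IsQuasicoherent] (φ : P ⟶ Q)
    {W : X.Opens} (hW : IsAffineOpen W) (h : ∀ m : Γ(P, W), φ.app W m = 0) (f : Γ(X, W))
    (y : Γ(P, X.basicOpen f)) : φ.app (X.basicOpen f) y = 0 := by
  obtain ⟨n, x, hx⟩ := Groth.Agent.H8.exists_smul_eq_res hW P f y
  have hua : IsUnit (X.presheaf.map (homOfLE (X.basicOpen_le f)).op f) :=
    RingedSpace.isUnit_res_basicOpen X.toRingedSpace f
  have h1 : (X.presheaf.map (homOfLE (X.basicOpen_le f)).op f) ^ n • φ.app (X.basicOpen f) y = 0 := by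
    rw [← Scheme.Modules.Hom.app_smul, hx, Groth.Agent.H8.app_res, h x, map_zero]
  obtain ⟨u, hu⟩ := hua.pow n
  rw [← hu, ← Units.smul_def] at h1
  exact (smul_eq_zero_iff_eq u).mp h1

/-- A morphism from a quasi-coherent module vanishing on sections over the members of an affine
open cover is zero. -/
theorem eq_zero_of_affine_cover {P Q : X.Modules} [P.IsQuasicoherent] (φ : P ⟶ Q)
    {ι : Type*} (W : ι → X.Opens) (hW : ∀ i, IsAffineOpen (W i))
    (hcov : ∀ x : X, ∃ i, x ∈ W i)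
    (h : ∀ i (m : Γ(P, W i)), φ.app (W i) m = 0) : φ = 0 := by
  have hB : TopologicalSpace.Opens.IsBasis
      (Set.range (fun p : Σ i, Γ(X, W i) => X.basicOpen p.2)) := by
    rw [TopologicalSpace.Opens.isBasis_iff_nbhd]
    intro U x hxU
    obtain ⟨i, hxi⟩ := hcov x
    obtain ⟨f, hf, hxf⟩ := (hW i).exists_basicOpen_le ⟨x, hxU⟩ hxi
    exact ⟨_, ⟨⟨i, f⟩, rfl⟩, hxf, hf⟩
  refine Groth.Agent.H8.HomBasis.hom_ext_of_basis P Q hB φ 0 (fun p m => ?_)
  rw [app_basicOpen_eq_zero φ (hW p.1) (h p.1) p.2 m]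
  rfl

end zero

section affine
open Groth.Agent.S0852 (ρ)
open Groth.Agent.H8 (appₗ)
open Groth.Agent.S0833 (Jm)

theorem appₗ_id (P : X.Modules) (W : X.Opens) : appₗ (𝟙 P) W = LinearMap.id :=
  LinearMap.ext fun _ => rfl

theorem appₗ_comp {P Q R : X.Modules} (f : P ⟶ Q) (g : Q ⟶ R) (W : X.Opens) :
    appₗ (f ≫ g) W = (appₗ g W).comp (appₗ f W) :=
  LinearMap.ext fun _ => rfl

theorem map_le_refl (F : ℕᵒᵖ ⥤ X.Modules) (n : ℕ) : F.map (homOfLE (le_refl n)).op = 𝟙 _ := by
  have e : (homOfLE (le_refl n)).op = 𝟙 (op n) := Subsingleton.elim _ _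
  rw [e, F.map_id]

theorem map_le_trans (F : ℕᵒᵖ ⥤ X.Modules) {n m k : ℕ} (h : n ≤ m) (h' : m ≤ k) :
    F.map (homOfLE h').op ≫ F.map (homOfLE h).op = F.map (homOfLE (h.trans h')).op := by
  rw [← F.map_comp, ← op_comp, homOfLE_comp]

/-- Sections of a kernel: existence. -/
theorem exists_kernel_section {P Q : X.Modules} (φ : P ⟶ Q) (W : X.Opens) (y : Γ(P, W))
    (hy : φ.app W y = 0) : ∃ x : Γ(kernel φ, W), (kernel.ι φ).app W x = y := by
  let S : ShortComplex X.Modules := ShortComplex.mk (kernel.ι φ) φ (kernel.condition φ)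
  haveI : Mono S.f := inferInstanceAs (Mono (kernel.ι φ))
  exact Groth.Agent.H8.exists_app_eq_of_exact S
    (ShortComplex.exact_of_f_is_kernel S (kernelIsKernel φ)) W y hy

theorem kernel_section_zero {P Q : X.Modules} (φ : P ⟶ Q) (W : X.Opens) (x : Γ(kernel φ, W)) :
    φ.app W ((kernel.ι φ).app W x) = 0 :=
  Groth.Agent.H8.app_comp_eq_zero (ShortComplex.mk (kernel.ι φ) φ (kernel.condition φ)) W x

variable [IsNoetherian X]

theorem ker_appₗ_of_isQuot {P Q : X.Modules} [P.IsQuasicoherent] {n : ℕ} (q : P ⟶ Q)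
    (hq : IsQuot (I ^ n) q) {W : X.Opens} (hW : IsAffineOpen W) :
    LinearMap.ker (appₗ q W) = (Jm I W) ^ n • (⊤ : Submodule Γ(X, W) Γ(P, W)) := by
  obtain ⟨e, he⟩ := hq.exists_iso (isQuot_π (I ^ n) P)
  have h1 : LinearMap.ker (appₗ q W) = LinearMap.ker (appₗ (Formal.modPowπ I n P) W) := by
    ext x
    simp only [LinearMap.mem_ker]
    have e1 : appₗ (Formal.modPowπ I n P) W x = e.hom.app W (q.app W x) := by
      show (Formal.modPowπ I n P).app W x = _
      unfold Formal.modPowπ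
      rw [← he]
      rfl
    rw [e1]
    constructor
    · intro h
      have h' : q.app W x = 0 := h
      rw [h']
      exact map_zero _
    · intro h
      have hinj := Groth.Agent.H8.app_injective_of_mono e.hom W
      apply hinj
      exact h.trans (map_zero _).symm
  have h2 : Jm (I ^ n) W = (Jm I W) ^ n := Ideal.map_pow _ _ _
  rw [h1, Groth.Agent.S0833.ker_π I P n hW, h2]

theorem affine_AR {F G : ℕᵒᵖ ⥤ X.Modules} (hF : Formal.IsCohFormal I F)
    (hG : Formal.IsCohFormal I G) (α : F ⟶ G) {W : X.Opens} (hW : IsAffineOpen W) :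
    ∃ c₀ c₀' : ℕ, ∀ c c' : ℕ, c₀ ≤ c → c₀' ≤ c' →
      (∀ (n m : ℕ) (h : n + c ≤ m) (x : Γ(kernel (α.app (op (n + c))), W)),
        (ψ α (Nat.le_add_right n c) ≫ cokernel.π (ψ α (le_of_add_le_left h))).app W x = 0) ∧
      (∀ (j m k : ℕ) (h : j ≤ m), k + c' ≤ j + 1 →
        ∀ z : Γ(kernel (Abelian.image.ι (ψ α (Nat.le_add_right m c)) ≫ F.map (homOfLE h).op), W),
        (kernel.ι (Abelian.image.ι (ψ α (Nat.le_add_right m c)) ≫ F.map (homOfLE h).op) ≫
          Formal.modPowπ I k (Abelian.image (ψ α (Nat.le_add_right m c)))).app W z = 0) := by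
  haveI qF : ∀ n, (F.obj (op n)).IsQuasicoherent := fun n => (hF.1 n).1
  haveI qG : ∀ n, (G.obj (op n)).IsQuasicoherent := fun n => (hG.1 n).1
  haveI fF : ∀ n, SheafOfModules.IsFiniteType (R := X.ringCatSheaf) (F.obj (op n)) :=
    fun n => (hF.1 n).2
  haveI fG : ∀ n, SheafOfModules.IsFiniteType (R := X.ringCatSheaf) (G.obj (op n)) :=
    fun n => (hG.1 n).2
  haveI : IsNoetherianRing Γ(X, W) := Groth.Agent.S0833.isNoetherianRing_sections hW
  haveI : ∀ n, Module.Finite Γ(X, W) Γ(F.obj (op n), W) :=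
    fun n => Groth.Agent.H8.finite_sections_of_isAffineOpen _ hW
  haveI : ∀ n, Module.Finite Γ(X, W) Γ(G.obj (op n), W) :=
    fun n => Groth.Agent.H8.finite_sections_of_isAffineOpen _ hW
  obtain ⟨c₀, c₀', hmain⟩ := alg_AR_mono (Jm I W) (fun n => Γ(F.obj (op n), W))
    (fun n => Γ(G.obj (op n), W))
    (fun {n m} h => appₗ (F.map (homOfLE h).op) W) (fun {n m} h => appₗ (G.map (homOfLE h).op) W)
    (fun n => by rw [map_le_refl, appₗ_id])
    (fun h h' => by rw [← appₗ_comp, map_le_trans])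
    (fun n => by rw [map_le_refl, appₗ_id])
    (fun h h' => by rw [← appₗ_comp, map_le_trans])
    (fun n => appₗ (α.app (op n)) W)
    (fun h => by rw [← appₗ_comp, ← appₗ_comp, α.naturality])
    (fun h => by
      haveI := (isQuot_of_cohFormal I hF h).epi
      exact Groth.Agent.S0833.app_surjective_of_epi _ hW)
    (fun h => ker_appₗ_of_isQuot I _ (isQuot_of_cohFormal I hF h) hW)
    (fun h => by
      haveI := (isQuot_of_cohFormal I hG h).epi
      exact Groth.Agent.S0833.app_surjective_of_epi _ hW)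
    (fun h => ker_appₗ_of_isQuot I _ (isQuot_of_cohFormal I hG h) hW)
  refine ⟨c₀, c₀', fun c c' hc hc' => ?_⟩
  obtain ⟨stabM, arM⟩ := hmain c c' hc hc'
  refine ⟨fun n m h x => ?_, fun j m k h hk z => ?_⟩
  · have hy : (kernel.ι (α.app (op (n + c)))).app W x ∈
        LinearMap.ker (appₗ (α.app (op (n + c))) W) := kernel_section_zero _ W x
    have h1 := Submodule.mem_map_of_mem
      (f := appₗ (F.map (homOfLE (Nat.le_add_right n c)).op) W) hy
    rw [← stabM n m h] at h1
    obtain ⟨y', hy', hyy⟩ := h1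
    obtain ⟨x', hx'⟩ := exists_kernel_section (α.app (op m)) W y' hy'
    have e1 : (ψ α (Nat.le_add_right n c)).app W x = (ψ α (le_of_add_le_left h)).app W x' := by
      show (F.map _).app W ((kernel.ι (α.app (op (n + c)))).app W x) =
        (F.map _).app W ((kernel.ι (α.app (op m))).app W x')
      rw [hx']
      exact hyy.symm
    show (cokernel.π (ψ α _)).app W ((ψ α _).app W x) = 0
    rw [e1]
    exact Groth.Agent.H8.app_comp_eq_zero
      (ShortComplex.mk (ψ α (le_of_add_le_left h)) (cokernel.π _) (cokernel.condition _)) W x'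
  · haveI qK : (kernel (α.app (op (m + c)))).IsQuasicoherent :=
      Groth.Agent.H22.QCohLimits.isQuasicoherent_kernel _
    haveI qC : (cokernel (ψ α (Nat.le_add_right m c))).IsQuasicoherent :=
      Groth.Agent.H8.isQuasicoherent_cokernel _
    haveI qE : (Abelian.image (ψ α (Nat.le_add_right m c))).IsQuasicoherent :=
      Groth.Agent.H22.QCohLimits.isQuasicoherent_kernel (cokernel.π (ψ α (Nat.le_add_right m c)))
    have hfac : ∀ x : Γ(kernel (α.app (op (m + c))), W),
        (Abelian.image.ι (ψ α (Nat.le_add_right m c))).app W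
          ((Abelian.factorThruImage (ψ α (Nat.le_add_right m c))).app W x) =
        (F.map (homOfLE (Nat.le_add_right m c)).op).app W
          ((kernel.ι (α.app (op (m + c)))).app W x) := by
      intro x
      have h0 := Abelian.image.fac (ψ α (Nat.le_add_right m c))
      have h1 : (Abelian.factorThruImage (ψ α (Nat.le_add_right m c)) ≫
          Abelian.image.ι (ψ α (Nat.le_add_right m c))).app W x =
          (ψ α (Nat.le_add_right m c)).app W x := by rw [h0]
      exact h1
    have hrange : ∀ e : Γ(Abelian.image (ψ α (Nat.le_add_right m c)), W),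
        (Abelian.image.ι (ψ α (Nat.le_add_right m c))).app W e ∈
          Submodule.map (appₗ (F.map (homOfLE (Nat.le_add_right m c)).op) W)
            (LinearMap.ker (appₗ (α.app (op (m + c))) W)) := by
      intro e
      obtain ⟨x, rfl⟩ := Groth.Agent.S0833.app_surjective_of_epi
        (Abelian.factorThruImage (ψ α (Nat.le_add_right m c))) hW e
      exact ⟨(kernel.ι (α.app (op (m + c)))).app W x, kernel_section_zero _ W x, (hfac x).symm⟩
    have hrange' : Submodule.map (appₗ (F.map (homOfLE (Nat.le_add_right m c)).op) W)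
          (LinearMap.ker (appₗ (α.app (op (m + c))) W)) ≤
        Submodule.map (appₗ (Abelian.image.ι (ψ α (Nat.le_add_right m c))) W) ⊤ := by
      rintro _ ⟨y, hy, rfl⟩
      obtain ⟨x, rfl⟩ := exists_kernel_section _ W y hy
      exact ⟨(Abelian.factorThruImage (ψ α (Nat.le_add_right m c))).app W x, trivial, hfac x⟩
    have he0 := kernel_section_zero
      (Abelian.image.ι (ψ α (Nat.le_add_right m c)) ≫ F.map (homOfLE h).op) W z
    have hv : (Abelian.image.ι (ψ α (Nat.le_add_right m c))).app W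
        ((kernel.ι (Abelian.image.ι (ψ α (Nat.le_add_right m c)) ≫
          F.map (homOfLE h).op)).app W z) ∈
        Submodule.map (appₗ (F.map (homOfLE (Nat.le_add_right m c)).op) W)
            (LinearMap.ker (appₗ (α.app (op (m + c))) W)) ⊓
          LinearMap.ker (appₗ (F.map (homOfLE h).op) W) := ⟨hrange _, he0⟩
    have hv2 := arM j m k h hk hv
    have hv3 := Submodule.smul_mono (le_refl ((Jm I W) ^ k)) hrange' hv2
    rw [← Submodule.map_smul''] at hv3
    obtain ⟨e', he', hee⟩ := hv3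
    have hinj := Groth.Agent.H8.app_injective_of_mono
      (Abelian.image.ι (ψ α (Nat.le_add_right m c))) W
    have e2 : e' = (kernel.ι (Abelian.image.ι (ψ α (Nat.le_add_right m c)) ≫
          F.map (homOfLE h).op)).app W z := hinj hee
    rw [e2] at he'
    have h2 : Jm (I ^ k) W = (Jm I W) ^ k := Ideal.map_pow _ _ _
    rw [← h2, ← Groth.Agent.S0833.ker_π I _ k hW] at he'
    exact he'

end affine

theorem exists_arData [IsNoetherian X] {F G : ℕᵒᵖ ⥤ X.Modules} (hF : Formal.IsCohFormal I F)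
    (hG : Formal.IsCohFormal I G) (α : F ⟶ G) : ∃ c c' : ℕ, ARData I α c c' := by
  classical
  choose c₀ c₀' hcc using fun W : X.affineOpens => affine_AR I hF hG α W.2
  have hcov0 : (Set.univ : Set X) ⊆ ⋃ W : X.affineOpens, (W.1 : Set X) := by
    intro x _
    obtain ⟨U, hU, hxU, -⟩ := TopologicalSpace.Opens.isBasis_iff_nbhd.1 (X.isBasis_affineOpens)
      (U := ⊤) (x := x) trivial
    exact Set.mem_iUnion.2 ⟨⟨U, hU⟩, hxU⟩
  obtain ⟨t, ht⟩ := isCompact_univ.elim_finite_subcover
    (fun W : X.affineOpens => (W.1 : Set X)) (fun W => W.1.isOpen) hcov0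
  have hcov : ∀ x : X, ∃ W : t, x ∈ W.1.1 := by
    intro x
    obtain ⟨W, hWt, hx⟩ := Set.mem_iUnion₂.1 (ht (Set.mem_univ x))
    exact ⟨⟨W, hWt⟩, hx⟩
  haveI qF : ∀ n, (F.obj (op n)).IsQuasicoherent := fun n => (hF.1 n).1
  haveI qG : ∀ n, (G.obj (op n)).IsQuasicoherent := fun n => (hG.1 n).1
  refine ⟨t.sup c₀, t.sup c₀', ⟨?_, ?_⟩⟩
  · intro n m h
    haveI : (kernel (α.app (op (n + t.sup c₀)))).IsQuasicoherent :=
      Groth.Agent.H22.QCohLimits.isQuasicoherent_kernel _
    refine eq_zero_of_affine_cover _ (fun W : t => W.1.1) (fun W => W.1.2) hcov ?_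
    intro W x
    exact (hcc W.1 (t.sup c₀) (t.sup c₀') (Finset.le_sup W.2) (Finset.le_sup W.2)).1 n m h x
  · intro j m k h hk
    haveI qK : (kernel (α.app (op (m + t.sup c₀)))).IsQuasicoherent :=
      Groth.Agent.H22.QCohLimits.isQuasicoherent_kernel _
    haveI qC : (cokernel (ψ α (Nat.le_add_right m (t.sup c₀)))).IsQuasicoherent :=
      Groth.Agent.H8.isQuasicoherent_cokernel _
    haveI qE : (Abelian.image (ψ α (Nat.le_add_right m (t.sup c₀)))).IsQuasicoherent :=
      Groth.Agent.H22.QCohLimits.isQuasicoherent_kernel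
        (cokernel.π (ψ α (Nat.le_add_right m (t.sup c₀))))
    haveI : (kernel (Abelian.image.ι (ψ α (Nat.le_add_right m (t.sup c₀))) ≫
        F.map (homOfLE h).op)).IsQuasicoherent :=
      Groth.Agent.H22.QCohLimits.isQuasicoherent_kernel _
    refine eq_zero_of_affine_cover _ (fun W : t => W.1.1) (fun W => W.1.2) hcov ?_
    intro W z
    exact (hcc W.1 (t.sup c₀) (t.sup c₀') (Finset.le_sup W.2) (Finset.le_sup W.2)).2 j m k h hk z

end Groth.Agent.H83.KerLOC
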