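import Groth.Prelude.Def_W4c4lgringredgrpLG
import Mathlib.RingTheory.Spectrum.Prime.FreeLocus
import Mathlib.RingTheory.Finiteness.Projective
import Mathlib.LinearAlgebra.TensorProduct.Quotient
import Mathlib.LinearAlgebra.Matrix.ToLin
import Mathlib.LinearAlgebra.Matrix.NonsingularInverse
import Mathlib.Algebra.MvPolynomial.Rename
import Mathlib.LinearAlgebra.Dimension.Free
import Mathlib.LinearAlgebra.FiniteDimensional.Basic

set_option autoImplicit false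
universe u v w

open TensorProduct

namespace Groth.Agent.H83

section Local

variable {R : Type u} [CommRing R]

theorem mk_one_surjective (m : Ideal R) (M : Type v) [AddCommGroup M] [Module R M] :
    Function.Surjective (TensorProduct.mk R (R ⧸ m) M 1) := by
  intro y
  induction y using TensorProduct.induction_on with
  | zero => exact ⟨0, by simp⟩
  | tmul r x =>
    obtain ⟨r, rfl⟩ := Ideal.Quotient.mk_surjective r
    refine ⟨r • x, ?_⟩
    simp only [TensorProduct.mk_apply]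
    rw [TensorProduct.tmul_smul, TensorProduct.smul_tmul']
    congr 1
    rw [Algebra.smul_def, mul_one]
    rfl
  | add x y hx hy =>
    obtain ⟨x', rfl⟩ := hx
    obtain ⟨y', rfl⟩ := hy
    exact ⟨x' + y', map_add _ _ _⟩

theorem mem_smul_top_of_mk_one_eq_zero (m : Ideal R) (M : Type v) [AddCommGroup M] [Module R M]
    (z : M) (hz : TensorProduct.mk R (R ⧸ m) M 1 z = 0) : z ∈ m • (⊤ : Submodule R M) := by
  have h1 : TensorProduct.quotTensorEquivQuotSMul M m ((1 : R ⧸ m) ⊗ₜ[R] z) = 0 := by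
    have : (1 : R ⧸ m) ⊗ₜ[R] z = 0 := hz
    rw [this, map_zero]
  rw [TensorProduct.quotTensorEquivQuotSMul_mk_one_tmul] at h1
  exact (Submodule.Quotient.mk_eq_zero _).mp h1

theorem finrank_quot_tensor (m : Ideal R) [hm : m.IsMaximal]
    (M : Type v) [AddCommGroup M] [Module R M] [Module.Finite R M] [Module.Projective R M] :
    Module.finrank (R ⧸ m) ((R ⧸ m) ⊗[R] M) = Module.rankAtStalk M ⟨m, hm.isPrime⟩ := by
  let _ : Field (R ⧸ m) := Ideal.Quotient.field m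
  have h1 := Module.rankAtStalk_baseChange (R := R) (M := M) (S := R ⧸ m)
    (⟨⊥, Ideal.isPrime_bot⟩ : PrimeSpectrum (R ⧸ m))
  rw [Module.rankAtStalk_eq_finrank_of_free] at h1
  have h2 : PrimeSpectrum.comap (algebraMap R (R ⧸ m)) (⟨⊥, Ideal.isPrime_bot⟩ : PrimeSpectrum (R ⧸ m)) =
      ⟨m, hm.isPrime⟩ := by
    apply PrimeSpectrum.ext
    change Ideal.comap (algebraMap R (R ⧸ m)) ⊥ = m
    rw [← RingHom.ker_eq_comap_bot]
    exact Ideal.mk_ker
  rw [h2] at h1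
  exact h1

theorem local_step (m : Ideal R) [hm : m.IsMaximal]
    (M₁ : Type v) (M₂ : Type w) [AddCommGroup M₁] [Module R M₁] [Module.Finite R M₁]
    [Module.Projective R M₁] [AddCommGroup M₂] [Module R M₂] [Module.Finite R M₂]
    [Module.Projective R M₂]
    (h : Module.rankAtStalk M₁ ⟨m, hm.isPrime⟩ = Module.rankAtStalk M₂ ⟨m, hm.isPrime⟩) :
    ∃ (α : M₁ →ₗ[R] M₂) (β : M₂ →ₗ[R] M₁),
      (∀ z, β (α z) - z ∈ m • (⊤ : Submodule R M₁)) ∧
      (∀ z, α (β z) - z ∈ m • (⊤ : Submodule R M₂)) := by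
  classical
  let _ : Field (R ⧸ m) := Ideal.Quotient.field m
  have hfr : Module.finrank (R ⧸ m) ((R ⧸ m) ⊗[R] M₁) = Module.finrank (R ⧸ m) ((R ⧸ m) ⊗[R] M₂) := by
    rw [finrank_quot_tensor m M₁, finrank_quot_tensor m M₂, h]
  let e : ((R ⧸ m) ⊗[R] M₁) ≃ₗ[R ⧸ m] ((R ⧸ m) ⊗[R] M₂) := LinearEquiv.ofFinrankEq _ _ hfr
  let ι₁ := TensorProduct.mk R (R ⧸ m) M₁ 1
  let ι₂ := TensorProduct.mk R (R ⧸ m) M₂ 1
  obtain ⟨α, hα⟩ := Module.projective_lifting_property ι₂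
    ((e.toLinearMap.restrictScalars R) ∘ₗ ι₁) (mk_one_surjective m M₂)
  obtain ⟨β, hβ⟩ := Module.projective_lifting_property ι₁
    ((e.symm.toLinearMap.restrictScalars R) ∘ₗ ι₂) (mk_one_surjective m M₁)
  have hα' : ∀ z, ι₂ (α z) = e (ι₁ z) := fun z => LinearMap.congr_fun hα z
  have hβ' : ∀ z, ι₁ (β z) = e.symm (ι₂ z) := fun z => LinearMap.congr_fun hβ z
  refine ⟨α, β, fun z => ?_, fun z => ?_⟩
  · apply mem_smul_top_of_mk_one_eq_zero
    change ι₁ (β (α z) - z) = 0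
    rw [map_sub, hβ', hα', LinearEquiv.symm_apply_apply, sub_self]
  · apply mem_smul_top_of_mk_one_eq_zero
    change ι₂ (α (β z) - z) = 0
    rw [map_sub, hα', hβ', LinearEquiv.apply_symm_apply, sub_self]

theorem apply_mem_of_mem_smul_top (m : Ideal R) {M : Type v} [AddCommGroup M] [Module R M]
    {a : ℕ} (g : M →ₗ[R] (Fin a → R)) (z : M) (hz : z ∈ m • (⊤ : Submodule R M)) (i : Fin a) :
    g z i ∈ m := by
  refine Submodule.smul_induction_on hz ?_ ?_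
  · intro r hr n _
    rw [map_smul, Pi.smul_apply, smul_eq_mul]
    exact Ideal.mul_mem_right _ _ hr
  · intro x y hx hy
    rw [map_add, Pi.add_apply]
    exact Ideal.add_mem _ hx hy

theorem det_sub_one_mem (I : Ideal R) {a : ℕ} (U : Matrix (Fin a) (Fin a) R)
    (h : ∀ i j, U i j - (1 : Matrix (Fin a) (Fin a) R) i j ∈ I) : U.det - 1 ∈ I := by
  rw [← Ideal.Quotient.eq, RingHom.map_det]
  have : (Ideal.Quotient.mk I).mapMatrix U = 1 := by
    apply Matrix.ext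
    intro i j
    rw [RingHom.mapMatrix_apply, Matrix.map_apply]
    have h1 : Ideal.Quotient.mk I (U i j) = Ideal.Quotient.mk I ((1 : Matrix (Fin a) (Fin a) R) i j) :=
      Ideal.Quotient.eq.mpr (h i j)
    rw [h1]
    by_cases hij : i = j
    · subst hij; simp
    · simp [hij]
  rw [this, Matrix.det_one, map_one]

end Local

section Umat

/-- The matrix `E₁ y E₂ x E₁ + (1 - E₁)`. -/
def Umat {S : Type*} [CommRing S] {a b : ℕ} (E₁ : Matrix (Fin a) (Fin a) S)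
    (E₂ : Matrix (Fin b) (Fin b) S) (x : Matrix (Fin b) (Fin a) S) (y : Matrix (Fin a) (Fin b) S) :
    Matrix (Fin a) (Fin a) S :=
  E₁ * y * E₂ * x * E₁ + (1 - E₁)

theorem Umat_map {S S' : Type*} [CommRing S] [CommRing S'] (φ : S →+* S') {a b : ℕ}
    (E₁ : Matrix (Fin a) (Fin a) S)
    (E₂ : Matrix (Fin b) (Fin b) S) (x : Matrix (Fin b) (Fin a) S) (y : Matrix (Fin a) (Fin b) S) :
    (Umat E₁ E₂ x y).map φ = Umat (E₁.map φ) (E₂.map φ) (x.map φ) (y.map φ) := by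
  unfold Umat
  rw [Matrix.map_add φ (map_add φ), Matrix.map_sub φ (map_sub φ), Matrix.map_mul, Matrix.map_mul,
    Matrix.map_mul, Matrix.map_mul, Matrix.map_one φ (map_zero φ) (map_one φ)]

end Umat

section Main

variable {R : Type u} [CommRing R]

theorem bijective_of_umat {M₁ : Type v} [AddCommGroup M₁] [Module R M₁] {M₂ : Type w}
    [AddCommGroup M₂] [Module R M₂] {a b : ℕ}
    (f₁ : (Fin a → R) →ₗ[R] M₁) (g₁ : M₁ →ₗ[R] (Fin a → R)) (h₁ : ∀ z, f₁ (g₁ z) = z)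
    (f₂ : (Fin b → R) →ₗ[R] M₂) (g₂ : M₂ →ₗ[R] (Fin b → R)) (h₂ : ∀ z, f₂ (g₂ z) = z)
    (x : Matrix (Fin b) (Fin a) R) (y : Matrix (Fin a) (Fin b) R)
    (hU : IsUnit (Umat (LinearMap.toMatrix' (g₁ ∘ₗ f₁)) (LinearMap.toMatrix' (g₂ ∘ₗ f₂)) x y).det) :
    Function.Bijective ((f₁ ∘ₗ Matrix.toLin' y ∘ₗ g₂) ∘ₗ (f₂ ∘ₗ Matrix.toLin' x ∘ₗ g₁)) := by
  classical
  set U := Umat (LinearMap.toMatrix' (g₁ ∘ₗ f₁)) (LinearMap.toMatrix' (g₂ ∘ₗ f₂)) x y with hUdef
  have hu : ∀ v, Matrix.toLin' U v =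
      g₁ (f₁ (Matrix.toLin' y (g₂ (f₂ (Matrix.toLin' x (g₁ (f₁ v))))))) + (v - g₁ (f₁ v)) := by
    intro v
    simp only [hUdef, Umat, map_add, map_sub, Matrix.toLin'_mul, Matrix.toLin'_toMatrix',
      Matrix.toLin'_one, LinearMap.add_apply, LinearMap.sub_apply, LinearMap.comp_apply,
      LinearMap.id_apply]
  have hUunit : IsUnit U := (Matrix.isUnit_iff_isUnit_det U).mpr hU
  obtain ⟨U', hUU', hU'U⟩ := isUnit_iff_exists.mp hUunit
  have hinj : Function.Injective (Matrix.toLin' U) := by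
    intro v v' hvv'
    have := congrArg (Matrix.toLin' U') hvv'
    rwa [← Matrix.toLin'_mul_apply, ← Matrix.toLin'_mul_apply, hU'U, Matrix.toLin'_one] at this
  have hsurj : Function.Surjective (Matrix.toLin' U) := by
    intro v
    refine ⟨Matrix.toLin' U' v, ?_⟩
    rw [← Matrix.toLin'_mul_apply, hUU', Matrix.toLin'_one]
    rfl
  have key1 : ∀ z, Matrix.toLin' U (g₁ z) =
      g₁ (((f₁ ∘ₗ Matrix.toLin' y ∘ₗ g₂) ∘ₗ (f₂ ∘ₗ Matrix.toLin' x ∘ₗ g₁)) z) := by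
    intro z
    rw [hu, h₁, sub_self, add_zero]
    rfl
  have key2 : ∀ v, f₁ (Matrix.toLin' U v) =
      ((f₁ ∘ₗ Matrix.toLin' y ∘ₗ g₂) ∘ₗ (f₂ ∘ₗ Matrix.toLin' x ∘ₗ g₁)) (f₁ v) := by
    intro v
    rw [hu, map_add, map_sub, h₁, h₁, sub_self, add_zero]
    rfl
  constructor
  · intro z z' hzz'
    have h3 : g₁ z = g₁ z' := hinj (by rw [key1, key1, hzz'])
    have := congrArg f₁ h3
    rwa [h₁, h₁] at this
  · intro w
    obtain ⟨v, hv⟩ := hsurj (g₁ w)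
    refine ⟨f₁ v, ?_⟩
    rw [← key2, hv, h₁]

theorem umat_det_sub_one_mem (m : Ideal R) {M₁ : Type v} [AddCommGroup M₁] [Module R M₁]
    {M₂ : Type w} [AddCommGroup M₂] [Module R M₂] {a b : ℕ}
    (f₁ : (Fin a → R) →ₗ[R] M₁) (g₁ : M₁ →ₗ[R] (Fin a → R)) (h₁ : ∀ z, f₁ (g₁ z) = z)
    (f₂ : (Fin b → R) →ₗ[R] M₂) (g₂ : M₂ →ₗ[R] (Fin b → R)) (h₂ : ∀ z, f₂ (g₂ z) = z)
    (α : M₁ →ₗ[R] M₂) (β : M₂ →ₗ[R] M₁)
    (hβα : ∀ z, β (α z) - z ∈ m • (⊤ : Submodule R M₁)) :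
    (Umat (LinearMap.toMatrix' (g₁ ∘ₗ f₁)) (LinearMap.toMatrix' (g₂ ∘ₗ f₂))
      (LinearMap.toMatrix' (g₂ ∘ₗ α ∘ₗ f₁)) (LinearMap.toMatrix' (g₁ ∘ₗ β ∘ₗ f₂))).det - 1 ∈ m := by
  classical
  apply det_sub_one_mem
  intro i j
  set U := Umat (LinearMap.toMatrix' (g₁ ∘ₗ f₁)) (LinearMap.toMatrix' (g₂ ∘ₗ f₂))
      (LinearMap.toMatrix' (g₂ ∘ₗ α ∘ₗ f₁)) (LinearMap.toMatrix' (g₁ ∘ₗ β ∘ₗ f₂)) with hUdef
  have hlin : Matrix.toLin' (U - 1) = g₁ ∘ₗ (β ∘ₗ α - LinearMap.id) ∘ₗ f₁ := by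
    apply LinearMap.ext
    intro v
    simp only [hUdef, Umat, map_add, map_sub, Matrix.toLin'_mul, Matrix.toLin'_toMatrix',
      Matrix.toLin'_one, LinearMap.add_apply, LinearMap.sub_apply, LinearMap.comp_apply,
      LinearMap.id_apply, h₁, h₂]
    abel
  have hmat : U - 1 = LinearMap.toMatrix' (g₁ ∘ₗ (β ∘ₗ α - LinearMap.id) ∘ₗ f₁) := by
    rw [← hlin, LinearMap.toMatrix'_toLin']
  have hentry : (U - 1) i j = g₁ (β (α (f₁ (Pi.single j 1))) - f₁ (Pi.single j 1)) i := by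
    rw [hmat, LinearMap.toMatrix'_apply]
    rfl
  rw [← Matrix.sub_apply, hentry]
  exact apply_mem_of_mem_smul_top m g₁ _ (hβα _) i

theorem nonempty_linearEquiv_of_rankAtStalk_eq (hR : LGRing.IsLGRing R)
    (M₁ : Type v) (M₂ : Type w) [AddCommGroup M₁] [Module R M₁] [Module.Finite R M₁]
    [Module.Projective R M₁] [AddCommGroup M₂] [Module R M₂] [Module.Finite R M₂]
    [Module.Projective R M₂]
    (h : ∀ p : PrimeSpectrum R, Module.rankAtStalk M₁ p = Module.rankAtStalk M₂ p) :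
    Nonempty (M₁ ≃ₗ[R] M₂) := by
  classical
  obtain ⟨a, f₁, g₁, -, -, hfg₁⟩ := Module.Finite.exists_comp_eq_id_of_projective R M₁
  obtain ⟨b, f₂, g₂, -, -, hfg₂⟩ := Module.Finite.exists_comp_eq_id_of_projective R M₂
  have h₁ : ∀ z, f₁ (g₁ z) = z := fun z => LinearMap.congr_fun hfg₁ z
  have h₂ : ∀ z, f₂ (g₂ z) = z := fun z => LinearMap.congr_fun hfg₂ z
  set E₁ := LinearMap.toMatrix' (g₁ ∘ₗ f₁) with hE₁
  set E₂ := LinearMap.toMatrix' (g₂ ∘ₗ f₂) with hE₂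
  let σ := (Fin b × Fin a) ⊕ (Fin a × Fin b)
  let X : Matrix (Fin b) (Fin a) (MvPolynomial σ R) :=
    Matrix.of fun i j => MvPolynomial.X (Sum.inl (i, j))
  let Y : Matrix (Fin a) (Fin b) (MvPolynomial σ R) :=
    Matrix.of fun i j => MvPolynomial.X (Sum.inr (i, j))
  let F : MvPolynomial σ R := (Umat (E₁.map MvPolynomial.C) (E₂.map MvPolynomial.C) X Y).det *
     (Umat (E₂.map MvPolynomial.C) (E₁.map MvPolynomial.C) Y X).det
  have hev : ∀ s : σ → R, MvPolynomial.aeval s F =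
      (Umat E₁ E₂ (Matrix.of fun i j => s (Sum.inl (i, j)))
        (Matrix.of fun i j => s (Sum.inr (i, j)))).det *
      (Umat E₂ E₁ (Matrix.of fun i j => s (Sum.inr (i, j)))
        (Matrix.of fun i j => s (Sum.inl (i, j)))).det := by
    intro s
    let φ : MvPolynomial σ R →+* R := (MvPolynomial.aeval s : MvPolynomial σ R →ₐ[R] R)
    have hφC : ∀ r, φ (MvPolynomial.C r) = r := fun r => by
      change MvPolynomial.aeval s (MvPolynomial.C r) = r
      simp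
    have hφX : ∀ i, φ (MvPolynomial.X i) = s i := fun i => by
      change MvPolynomial.aeval s (MvPolynomial.X i) = s i
      simp
    have hC : ∀ {n : ℕ} (E : Matrix (Fin n) (Fin n) R), (E.map MvPolynomial.C).map φ = E := by
      intro n E
      ext i j
      simp [hφC]
    have hX : X.map φ = Matrix.of fun i j => s (Sum.inl (i, j)) := by
      ext i j
      simp [X, hφX]
    have hY : Y.map φ = Matrix.of fun i j => s (Sum.inr (i, j)) := by
      ext i j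
      simp [Y, hφX]
    change φ F = _
    simp only [F]
    rw [map_mul, RingHom.map_det, RingHom.map_det, RingHom.mapMatrix_apply, RingHom.mapMatrix_apply,
      Umat_map, Umat_map, hC, hC, hX, hY]
  let e : σ ≃ Fin (Fintype.card σ) := Fintype.equivFin σ
  have hLG := hR (Fintype.card σ) (MvPolynomial.rename e F)
  have hloc : ∀ (m : Ideal R) [m.IsMaximal],
      LGRing.RepresentsUnit (MvPolynomial.rename e F) (R ⧸ m) := by
    intro m hm
    obtain ⟨α, β, hβα, hαβ⟩ := local_step m M₁ M₂ (h ⟨m, hm.isPrime⟩)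
    let x₀ := LinearMap.toMatrix' (g₂ ∘ₗ α ∘ₗ f₁)
    let y₀ := LinearMap.toMatrix' (g₁ ∘ₗ β ∘ₗ f₂)
    let s : σ → R := Sum.elim (fun ij => x₀ ij.1 ij.2) (fun ij => y₀ ij.1 ij.2)
    refine ⟨fun i => algebraMap R (R ⧸ m) (s (e.symm i)), ?_⟩
    rw [MvPolynomial.aeval_rename]
    have hcomp : ((fun i => algebraMap R (R ⧸ m) (s (e.symm i))) ∘ e) = (algebraMap R (R ⧸ m)) ∘ s := by
      funext i
      simp
    have hcomm : MvPolynomial.aeval ((algebraMap R (R ⧸ m)) ∘ s) F =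
        algebraMap R (R ⧸ m) (MvPolynomial.aeval s F) :=
      (MvPolynomial.comp_aeval_apply (f := s) (Algebra.ofId R (R ⧸ m)) F).symm
    rw [hcomp, hcomm, hev s]
    have hx : (Matrix.of fun i j => s (Sum.inl (i, j))) = x₀ := by
      ext i j; rfl
    have hy : (Matrix.of fun i j => s (Sum.inr (i, j))) = y₀ := by
      ext i j; rfl
    rw [hx, hy]
    have hU := umat_det_sub_one_mem m f₁ g₁ h₁ f₂ g₂ h₂ α β hβα
    have hV := umat_det_sub_one_mem m f₂ g₂ h₂ f₁ g₁ h₁ β α hαβ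
    have hone : algebraMap R (R ⧸ m) ((Umat E₁ E₂ x₀ y₀).det * (Umat E₂ E₁ y₀ x₀).det) = 1 := by
      rw [map_mul]
      have e1 : algebraMap R (R ⧸ m) (Umat E₁ E₂ x₀ y₀).det = 1 := by
        rw [← map_one (algebraMap R (R ⧸ m))]
        exact Ideal.Quotient.eq.mpr hU
      have e2 : algebraMap R (R ⧸ m) (Umat E₂ E₁ y₀ x₀).det = 1 := by
        rw [← map_one (algebraMap R (R ⧸ m))]
        exact Ideal.Quotient.eq.mpr hV
      rw [e1, e2, mul_one]
    rw [hone]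
    exact isUnit_one
  obtain ⟨s', hs'⟩ := hLG hloc
  rw [MvPolynomial.aeval_rename, hev] at hs'
  obtain ⟨hU, hV⟩ := IsUnit.mul_iff.mp hs'
  set x : Matrix (Fin b) (Fin a) R := Matrix.of fun i j => (s' ∘ e) (Sum.inl (i, j)) with hx
  set y : Matrix (Fin a) (Fin b) R := Matrix.of fun i j => (s' ∘ e) (Sum.inr (i, j)) with hy
  have hψφ := bijective_of_umat f₁ g₁ h₁ f₂ g₂ h₂ x y hU
  have hφψ := bijective_of_umat f₂ g₂ h₂ f₁ g₁ h₁ y x hV
  let φ : M₁ →ₗ[R] M₂ := f₂ ∘ₗ Matrix.toLin' x ∘ₗ g₁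
  let ψ : M₂ →ₗ[R] M₁ := f₁ ∘ₗ Matrix.toLin' y ∘ₗ g₂
  have hbij : Function.Bijective φ := by
    constructor
    · intro z z' hzz'
      apply hψφ.1
      change ψ (φ z) = ψ (φ z')
      rw [hzz']
    · intro w
      obtain ⟨w', hw'⟩ := hφψ.2 w
      exact ⟨ψ w', hw'⟩
  exact ⟨LinearEquiv.ofBijective φ hbij⟩

end Main

end Groth.Agent.H83
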