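import Mathlib
import Groth.Prelude.Def_W4c4lgringredgrpLG
import Groth.Agent.H83.LGIso
import Groth.Agent.S19588
import Groth.Agent.H97.Azumaya

/-!
# Modules over Azumaya algebras over LG-rings (helper83), part A

* `exists_split_of_finrank_le`: over a finite-dimensional simple algebra, a module of smaller
  dimension is a split quotient of one of bigger dimension.
* `rho`, `bcModule`: the `S ⊗ A`-module structure on `S ⊗ X`.
* `exists_lift`: lifting `S ⊗ A`-linear maps `S ⊗ X → S ⊗ Y` to `A`-linear maps `X → Y`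
  (`X` finite projective over `A`, `Y → S ⊗ Y` surjective).
* `local_step`: over an Azumaya algebra, at a maximal ideal `m` where `rank N ≤ rank M`, there are
  `A`-linear maps `f : M → N`, `g : N → M` with `f ∘ g ≡ id` modulo `m`.
-/

set_option autoImplicit false
universe u v w

open TensorProduct

namespace Groth.Agent.H83.LGAz

section Semisimple

theorem isIsotypicOfType_atom (E : Type*) [Ring E] [IsSimpleRing E] [IsArtinianRing E]
    (S₀ : Submodule E E) [IsSimpleModule E S₀] (Z : Type*) [AddCommGroup Z] [Module E Z] :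
    IsIsotypicOfType E Z S₀ := by
  intro m _
  obtain ⟨I, ⟨e⟩⟩ := IsSemisimpleRing.exists_linearEquiv_ideal_of_isSimpleModule E m
  have : IsSimpleModule E I := IsSimpleModule.congr e.symm
  exact ⟨e.trans ((IsSimpleRing.isIsotypic E E) S₀ I).some⟩

theorem exists_split_of_finrank_le (k : Type*) [Field k] (E : Type*) [Ring E] [Algebra k E]
    [IsSimpleRing E] [FiniteDimensional k E]
    (X : Type*) [AddCommGroup X] [Module E X] [Module k X] [IsScalarTower k E X]
    [FiniteDimensional k X]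
    (Y : Type*) [AddCommGroup Y] [Module E Y] [Module k Y] [IsScalarTower k E Y]
    [FiniteDimensional k Y]
    (h : Module.finrank k Y ≤ Module.finrank k X) :
    ∃ (f : X →ₗ[E] Y) (g : Y →ₗ[E] X), ∀ y, f (g y) = y := by
  classical
  have : IsArtinianRing E := IsArtinianRing.of_finite k E
  obtain ⟨S₀, hS₀⟩ := IsAtomic.exists_atom (Submodule E E)
  have : IsSimpleModule E S₀ := isSimpleModule_iff_isAtom.mpr hS₀
  have : Module.Finite E X := Module.Finite.of_restrictScalars_finite k E X
  have : Module.Finite E Y := Module.Finite.of_restrictScalars_finite k E Y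
  obtain ⟨x, ⟨eX⟩⟩ := (isIsotypicOfType_atom E S₀ X).linearEquiv_fun
  obtain ⟨y, ⟨eY⟩⟩ := (isIsotypicOfType_atom E S₀ Y).linearEquiv_fun
  have : Module.Finite k S₀ :=
    Module.Finite.of_injective ((Submodule.subtype S₀).restrictScalars k)
      (Submodule.subtype_injective S₀)
  have : Nontrivial S₀ := IsSimpleModule.nontrivial E S₀
  have hd : 0 < Module.finrank k S₀ := Module.finrank_pos
  have hx : Module.finrank k X = x * Module.finrank k S₀ := by
    rw [(eX.restrictScalars k).finrank_eq, Module.finrank_pi_fintype]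
    simp
  have hy : Module.finrank k Y = y * Module.finrank k S₀ := by
    rw [(eY.restrictScalars k).finrank_eq, Module.finrank_pi_fintype]
    simp
  have hyx : y ≤ x := by
    rw [hx, hy] at h
    exact Nat.le_of_mul_le_mul_right h hd
  let p : (Fin x → S₀) →ₗ[E] (Fin y → S₀) := LinearMap.funLeft E S₀ (Fin.castLE hyx)
  let q : (Fin y → S₀) →ₗ[E] (Fin x → S₀) :=
    LinearMap.pi (fun i => if hi : (i : ℕ) < y then LinearMap.proj ⟨i, hi⟩ else 0)
  have hpq : ∀ w, p (q w) = w := by
    intro w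
    funext j
    simp only [p, q, LinearMap.funLeft_apply, LinearMap.pi_apply]
    have hj : ((Fin.castLE hyx j : Fin x) : ℕ) < y := by simp
    rw [dif_pos hj]
    simp
  refine ⟨eY.symm.toLinearMap ∘ₗ p ∘ₗ eX.toLinearMap, eX.symm.toLinearMap ∘ₗ q ∘ₗ eY.toLinearMap,
    fun z => ?_⟩
  simp only [LinearMap.comp_apply, LinearEquiv.coe_coe, LinearEquiv.apply_symm_apply, hpq,
    LinearEquiv.symm_apply_apply]

end Semisimple

section BC

variable (R : Type*) [CommRing R] (S : Type*) [CommRing S] [Algebra R S] (A : Type*) [Ring A]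
  [Algebra R A] (X : Type*) [AddCommGroup X] [Module A X] [Module R X] [IsScalarTower R A X]

/-- The action of `S ⊗ A` on `S ⊗ X`. -/
noncomputable def rho : S ⊗[R] A →ₐ[S] Module.End S (S ⊗[R] X) :=
  Algebra.TensorProduct.lift (Algebra.ofId S _)
    ((Module.End.baseChangeHom R S X).comp (Algebra.lsmul R R X))
    (fun s a => Algebra.commutes s _)

theorem rho_tmul (s : S) (a : A) (s' : S) (x : X) :
    rho R S A X (s ⊗ₜ a) (s' ⊗ₜ x) = (s * s') ⊗ₜ (a • x) := by
  have h1 : (Module.End.baseChangeHom R S X) (Algebra.lsmul R R X a) (s' ⊗ₜ[R] x) =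
      s' ⊗ₜ[R] (a • x) := by
    change ((Algebra.lsmul R R X a).baseChange S) (s' ⊗ₜ[R] x) = _
    rw [LinearMap.baseChange_tmul]
    rfl
  rw [rho, Algebra.TensorProduct.lift_tmul, Module.End.mul_apply, AlgHom.comp_apply, h1,
    Algebra.ofId_apply, Module.algebraMap_end_apply, TensorProduct.smul_tmul', smul_eq_mul]

/-- The `S ⊗ A`-module structure on `S ⊗ X`. -/
@[reducible] noncomputable def bcModule : Module (S ⊗[R] A) (S ⊗[R] X) :=
  Module.compHom _ (rho R S A X).toRingHom

attribute [local instance] bcModule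

theorem bc_smul_def (e : S ⊗[R] A) (z : S ⊗[R] X) : e • z = rho R S A X e z := rfl

theorem bc_isScalarTower : IsScalarTower S (S ⊗[R] A) (S ⊗[R] X) :=
  ⟨fun c e z => by rw [bc_smul_def, bc_smul_def, map_smul, LinearMap.smul_apply]⟩

attribute [local instance] bc_isScalarTower

theorem one_tmul_smul (c : A) (x : X) :
    (1 : S) ⊗ₜ[R] (c • x) = ((1 : S) ⊗ₜ[R] c : S ⊗[R] A) • ((1 : S) ⊗ₜ[R] x) := by
  rw [bc_smul_def, rho_tmul, mul_one]

variable {R S A X}

theorem exists_lift [Module.Finite A X] [Module.Projective A X] {Y : Type*} [AddCommGroup Y]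
    [Module A Y] [Module R Y] [IsScalarTower R A Y]
    (hsurj : Function.Surjective (TensorProduct.mk R S Y 1))
    (fbar : S ⊗[R] X →ₗ[S ⊗[R] A] S ⊗[R] Y) :
    ∃ f : X →ₗ[A] Y, ∀ z, (1 : S) ⊗ₜ[R] f z = fbar ((1 : S) ⊗ₜ[R] z) := by
  classical
  obtain ⟨a, p, i, -, -, hpi⟩ := Module.Finite.exists_comp_eq_id_of_projective A X
  choose n hn using fun j : Fin a =>
    hsurj (fbar ((1 : S) ⊗ₜ[R] p (fun j' => if j = j' then 1 else 0)))
  have hn' : ∀ j, (1 : S) ⊗ₜ[R] n j =
      fbar ((1 : S) ⊗ₜ[R] p (fun j' => if j = j' then 1 else 0)) := hn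
  refine ⟨(Fintype.linearCombination A n) ∘ₗ i, fun z => ?_⟩
  have hz : z = ∑ j, (i z j) • p (fun j' => if j = j' then 1 else 0) := by
    conv_lhs => rw [← LinearMap.id_apply (R := A) z, ← hpi, LinearMap.comp_apply,
      LinearMap.pi_apply_eq_sum_univ p (i z)]
  conv_rhs => rw [hz]
  rw [LinearMap.comp_apply, Fintype.linearCombination_apply, TensorProduct.tmul_sum,
    TensorProduct.tmul_sum, map_sum]
  refine Finset.sum_congr rfl (fun j _ => ?_)
  rw [one_tmul_smul, one_tmul_smul, map_smul, hn']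

end BC

section LocalStep

variable {R : Type u} [CommRing R] {A : Type v} [Ring A] [Algebra R A] [IsAzumaya R A]

attribute [local instance] bcModule bc_isScalarTower

theorem local_step (m : Ideal R) [hm : m.IsMaximal]
    (M : Type*) [AddCommGroup M] [Module A M] [Module R M] [IsScalarTower R A M]
    [Module.Finite A M] [Module.Projective A M] [Module.Finite R M] [Module.Projective R M]
    (N : Type*) [AddCommGroup N] [Module A N] [Module R N] [IsScalarTower R A N]
    [Module.Finite A N] [Module.Projective A N] [Module.Finite R N] [Module.Projective R N]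
    (h : Module.rankAtStalk N ⟨m, hm.isPrime⟩ ≤ Module.rankAtStalk M ⟨m, hm.isPrime⟩) :
    ∃ (f : M →ₗ[A] N) (g : N →ₗ[A] M), ∀ z, f (g z) - z ∈ m • (⊤ : Submodule R N) := by
  classical
  let _ : Field (R ⧸ m) := Ideal.Quotient.field m
  have : IsAzumaya (R ⧸ m) ((R ⧸ m) ⊗[R] A) := Groth.Agent.S19588.result R (R ⧸ m) A
  have : IsSimpleRing ((R ⧸ m) ⊗[R] A) :=
    Groth.Agent.H97.isSimpleRing_of_isAzumaya_field (R ⧸ m) _
  have hfr : Module.finrank (R ⧸ m) ((R ⧸ m) ⊗[R] N) ≤
      Module.finrank (R ⧸ m) ((R ⧸ m) ⊗[R] M) := by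
    rw [finrank_quot_tensor m M, finrank_quot_tensor m N]
    exact h
  obtain ⟨fbar, gbar, hfg⟩ := exists_split_of_finrank_le (R ⧸ m) ((R ⧸ m) ⊗[R] A)
    ((R ⧸ m) ⊗[R] M) ((R ⧸ m) ⊗[R] N) hfr
  obtain ⟨f, hf⟩ := exists_lift (mk_one_surjective m N) fbar
  obtain ⟨g, hg⟩ := exists_lift (mk_one_surjective m M) gbar
  refine ⟨f, g, fun z => ?_⟩
  apply mem_smul_top_of_mk_one_eq_zero
  change (1 : R ⧸ m) ⊗ₜ[R] (f (g z) - z) = 0
  rw [TensorProduct.tmul_sub, hf, hg, hfg, sub_self]

end LocalStep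

end Groth.Agent.H83.LGAz
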