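import Groth.Agent.H83.LGAzA

/-!
# Modules over Azumaya algebras over LG-rings (helper83), part B

* `projective_of_tower`: finite projective over `A`, `A` projective over `R` ⇒ projective over `R`.
* `exists_hom_gens`: `Hom_A(M,N)` is spanned over `R` by finitely many maps.
* `exists_surjective`: over an LG-ring `R`, `A` Azumaya, `M`, `N` finite projective `A`-modules
  with `rank_R N ≤ rank_R M` at all primes: there is a surjective `A`-linear map `M → N`.
-/

set_option autoImplicit false
universe u v w

open TensorProduct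

namespace Groth.Agent.H83.LGAz

section Gens

variable {R : Type u} [CommRing R] {A : Type v} [Ring A] [Algebra R A]

theorem projective_of_tower [Module.Projective R A]
    (M : Type*) [AddCommGroup M] [Module A M] [Module R M] [IsScalarTower R A M]
    [Module.Finite A M] [Module.Projective A M] : Module.Projective R M := by
  obtain ⟨a, p, i, -, -, hpi⟩ := Module.Finite.exists_comp_eq_id_of_projective A M
  have : Module.Projective R (Fin a → A) :=
    Module.Projective.of_equiv (DirectSum.linearEquivFunOnFintype R (Fin a) (fun _ => A))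
  refine Module.Projective.of_split (i.restrictScalars R) (p.restrictScalars R) ?_
  ext z
  exact LinearMap.congr_fun hpi z

theorem exists_hom_gens [Module.Finite R A]
    (M : Type*) [AddCommGroup M] [Module A M] [Module R M] [IsScalarTower R A M]
    [Module.Finite A M] [Module.Projective A M]
    (N : Type*) [AddCommGroup N] [Module A N] [Module R N] [IsScalarTower R A N]
    [Module.Finite A N] :
    ∃ (r : ℕ) (φ : Fin r → (M →ₗ[A] N)), ∀ f : M →ₗ[A] N, ∃ x : Fin r → R,
      ∀ z, f z = ∑ s, x s • φ s z := by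
  classical
  obtain ⟨a, p, i, -, -, hpi⟩ := Module.Finite.exists_comp_eq_id_of_projective A M
  obtain ⟨b, ν, hν⟩ := Module.Finite.exists_fin (R := A) (M := N)
  obtain ⟨d, α, hα⟩ := Module.Finite.exists_fin (R := R) (M := A)
  let ι := Fin a × Fin b × Fin d
  let e : ι ≃ Fin (Fintype.card ι) := Fintype.equivFin ι
  let ψ : ι → (M →ₗ[A] N) := fun t =>
    (LinearMap.toSpanSingleton A N (ν t.2.1)) ∘ₗ (LinearMap.toSpanSingleton A A (α t.2.2)) ∘ₗ
      (LinearMap.proj t.1) ∘ₗ i
  have hψ : ∀ t z, ψ t z = (i z t.1 * α t.2.2) • ν t.2.1 := by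
    intro t z
    simp only [ψ, LinearMap.comp_apply, LinearMap.toSpanSingleton_apply, LinearMap.proj_apply,
      smul_eq_mul]
  refine ⟨Fintype.card ι, fun s => ψ (e.symm s), fun f => ?_⟩
  have h1 : ∀ j : Fin a, ∃ c : Fin b → A,
      ∑ l, c l • ν l = f (p (fun j' => if j = j' then 1 else 0)) := by
    intro j
    have hmem : f (p (fun j' => if j = j' then 1 else 0)) ∈ Submodule.span A (Set.range ν) := by
      rw [hν]; trivial
    exact (Submodule.mem_span_range_iff_exists_fun A).mp hmem
  choose c hc using h1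
  have h2 : ∀ (j : Fin a) (l : Fin b), ∃ y : Fin d → R, ∑ q, y q • α q = c j l := by
    intro j l
    have hmem : c j l ∈ Submodule.span R (Set.range α) := by
      rw [hα]; trivial
    exact (Submodule.mem_span_range_iff_exists_fun R).mp hmem
  choose y hy using h2
  refine ⟨fun s => y (e.symm s).1 (e.symm s).2.1 (e.symm s).2.2, fun z => ?_⟩
  have hz : f z = ∑ j, ∑ l, ∑ q, y j l q • ((i z j * α q) • ν l) := by
    have hz0 : z = p (i z) := by
      rw [← LinearMap.comp_apply, hpi, LinearMap.id_apply]
    conv_lhs => rw [hz0, LinearMap.pi_apply_eq_sum_univ p (i z), map_sum]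
    refine Finset.sum_congr rfl (fun j _ => ?_)
    rw [map_smul, ← hc j, Finset.smul_sum]
    refine Finset.sum_congr rfl (fun l _ => ?_)
    rw [← hy j l, Finset.sum_smul, Finset.smul_sum]
    refine Finset.sum_congr rfl (fun q _ => ?_)
    rw [smul_assoc (y j l q) (α q) (ν l), smul_comm (i z j) (y j l q), mul_smul]
  rw [hz]
  have hsum : ∑ s, (y (e.symm s).1 (e.symm s).2.1 (e.symm s).2.2) • ψ (e.symm s) z =
      ∑ t : ι, y t.1 t.2.1 t.2.2 • ψ t z :=
    Equiv.sum_comp e.symm (fun t : ι => y t.1 t.2.1 t.2.2 • ψ t z)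
  rw [hsum, Fintype.sum_prod_type]
  refine Finset.sum_congr rfl (fun j _ => ?_)
  rw [Fintype.sum_prod_type]
  refine Finset.sum_congr rfl (fun l _ => ?_)
  refine Finset.sum_congr rfl (fun q _ => ?_)
  rw [hψ]

end Gens

section Main

variable {R : Type u} [CommRing R] {A : Type v} [Ring A] [Algebra R A] [IsAzumaya R A]

theorem exists_surjective (hR : LGRing.IsLGRing R)
    (M : Type*) [AddCommGroup M] [Module A M] [Module R M] [IsScalarTower R A M]
    [Module.Finite A M] [Module.Projective A M]
    (N : Type*) [AddCommGroup N] [Module A N] [Module R N] [IsScalarTower R A N]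
    [Module.Finite A N] [Module.Projective A N]
    (h : ∀ p : PrimeSpectrum R, Module.rankAtStalk N p ≤ Module.rankAtStalk M p) :
    ∃ f : M →ₗ[A] N, Function.Surjective f := by
  classical
  have : Module.Finite R M := Module.Finite.trans A M
  have : Module.Finite R N := Module.Finite.trans A N
  have : Module.Projective R M := projective_of_tower (R := R) (A := A) M
  have : Module.Projective R N := projective_of_tower (R := R) (A := A) N
  obtain ⟨r₁, φ, hφ⟩ := exists_hom_gens (R := R) (A := A) M N
  obtain ⟨r₂, γ, hγ⟩ := exists_hom_gens (R := R) (A := A) N M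
  obtain ⟨c, π, ι, -, -, hπι0⟩ := Module.Finite.exists_comp_eq_id_of_projective R N
  have hπι : ∀ z, π (ι z) = z := fun z => LinearMap.congr_fun hπι0 z
  let E : Matrix (Fin c) (Fin c) R := LinearMap.toMatrix' (ι ∘ₗ π)
  let B : Fin r₁ → Fin r₂ → Matrix (Fin c) (Fin c) R := fun s t =>
    LinearMap.toMatrix' (ι ∘ₗ ((φ s).restrictScalars R ∘ₗ (γ t).restrictScalars R) ∘ₗ π)
  let σ := Fin r₁ ⊕ Fin r₂
  let P : Matrix (Fin c) (Fin c) (MvPolynomial σ R) :=
    (1 - E).map (MvPolynomial.C : R → MvPolynomial σ R) + ∑ s : Fin r₁, ∑ t : Fin r₂,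
      ((MvPolynomial.X (Sum.inl s) * MvPolynomial.X (Sum.inr t) : MvPolynomial σ R)) •
        (B s t).map (MvPolynomial.C : R → MvPolynomial σ R)
  let F : MvPolynomial σ R := P.det
  let T : (σ → R) → Matrix (Fin c) (Fin c) R := fun v =>
    (1 - E) + ∑ s, ∑ t, (v (Sum.inl s) * v (Sum.inr t)) • B s t
  have hev : ∀ v : σ → R, MvPolynomial.aeval v F = (T v).det := by
    intro v
    let ev : MvPolynomial σ R →+* R := (MvPolynomial.aeval v : MvPolynomial σ R →ₐ[R] R)
    change ev P.det = _
    rw [RingHom.map_det]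
    congr 1
    ext i j
    have hC : ∀ r, ev (MvPolynomial.C r) = r := fun r => by
      change MvPolynomial.aeval v (MvPolynomial.C r) = r
      simp
    have hX : ∀ i, ev (MvPolynomial.X i) = v i := fun i => by
      change MvPolynomial.aeval v (MvPolynomial.X i) = v i
      simp
    simp only [P, T, RingHom.mapMatrix_apply, Matrix.map_apply, Matrix.add_apply, Matrix.sum_apply,
      Matrix.smul_apply, smul_eq_mul, map_add, map_sum, map_mul, hC, hX]
  let fv : (σ → R) → (M →ₗ[A] N) := fun v => ∑ s, v (Sum.inl s) • φ s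
  let gv : (σ → R) → (N →ₗ[A] M) := fun v => ∑ t, v (Sum.inr t) • γ t
  have hfg : ∀ v n, fv v (gv v n) = ∑ s, ∑ t, (v (Sum.inl s) * v (Sum.inr t)) • φ s (γ t n) := by
    intro v n
    simp only [fv, gv, LinearMap.sum_apply, LinearMap.smul_apply, map_sum]
    rw [Finset.sum_comm]
    refine Finset.sum_congr rfl (fun s _ => Finset.sum_congr rfl (fun t _ => ?_))
    rw [LinearMap.map_smul_of_tower, smul_smul]
  have hT : ∀ v w, Matrix.toLin' (T v) w = w - ι (π w) + ι (fv v (gv v (π w))) := by
    intro v w
    rw [hfg]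
    simp only [T, E, B, map_add, map_sub, map_sum, map_smul, Matrix.toLin'_one,
      Matrix.toLin'_toMatrix', LinearMap.add_apply, LinearMap.sub_apply, LinearMap.sum_apply,
      LinearMap.smul_apply, LinearMap.comp_apply, LinearMap.id_apply,
      LinearMap.coe_restrictScalars]
  have hsurj : ∀ v, IsUnit (T v).det → Function.Surjective (fv v) := by
    intro v hu n
    have hU : IsUnit (T v) := (Matrix.isUnit_iff_isUnit_det _).mpr hu
    obtain ⟨U', hUU', -⟩ := isUnit_iff_exists.mp hU
    have hw : Matrix.toLin' (T v) (Matrix.toLin' U' (ι n)) = ι n := by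
      rw [← Matrix.toLin'_mul_apply, hUU', Matrix.toLin'_one]
      rfl
    rw [hT] at hw
    have h3 := congrArg π hw
    rw [map_add, map_sub, hπι, hπι, sub_self, zero_add, hπι] at h3
    exact ⟨gv v (π (Matrix.toLin' U' (ι n))), h3⟩
  let e : σ ≃ Fin (Fintype.card σ) := Fintype.equivFin σ
  have hloc : ∀ (m : Ideal R) [m.IsMaximal],
      LGRing.RepresentsUnit (MvPolynomial.rename e F) (R ⧸ m) := by
    intro m hm
    obtain ⟨f, g, hfgm⟩ := local_step (A := A) m M N (h ⟨m, hm.isPrime⟩)
    obtain ⟨x, hx⟩ := hφ f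
    obtain ⟨y, hy⟩ := hγ g
    let v : σ → R := Sum.elim x y
    have hfv : ∀ z, fv v z = f z := by
      intro z
      rw [hx z]
      simp only [fv, v, LinearMap.sum_apply, LinearMap.smul_apply, Sum.elim_inl]
    have hgv : ∀ z, gv v z = g z := by
      intro z
      rw [hy z]
      simp only [gv, v, LinearMap.sum_apply, LinearMap.smul_apply, Sum.elim_inr]
    refine ⟨fun i => algebraMap R (R ⧸ m) (v (e.symm i)), ?_⟩
    rw [MvPolynomial.aeval_rename]
    have hcomp : ((fun i => algebraMap R (R ⧸ m) (v (e.symm i))) ∘ e) =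
        (algebraMap R (R ⧸ m)) ∘ v := by
      funext i
      simp
    have hcomm : MvPolynomial.aeval ((algebraMap R (R ⧸ m)) ∘ v) F =
        algebraMap R (R ⧸ m) (MvPolynomial.aeval v F) :=
      (MvPolynomial.comp_aeval_apply (f := v) (Algebra.ofId R (R ⧸ m)) F).symm
    rw [hcomp, hcomm, hev v]
    have hdet : (T v).det - 1 ∈ m := by
      apply det_sub_one_mem
      intro i j
      have hlin : Matrix.toLin' (T v - 1) =
          ι ∘ₗ (((fv v).restrictScalars R ∘ₗ (gv v).restrictScalars R) - LinearMap.id) ∘ₗ π := by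
        apply LinearMap.ext
        intro w
        rw [map_sub, LinearMap.sub_apply, hT, Matrix.toLin'_one]
        simp only [LinearMap.comp_apply, LinearMap.sub_apply, LinearMap.id_apply, map_sub,
          LinearMap.coe_restrictScalars]
        abel
      have hmat : T v - 1 = LinearMap.toMatrix'
          (ι ∘ₗ (((fv v).restrictScalars R ∘ₗ (gv v).restrictScalars R) - LinearMap.id) ∘ₗ π) := by
        rw [← hlin, LinearMap.toMatrix'_toLin']
      have hentry : (T v - 1) i j =
          ι (fv v (gv v (π (Pi.single j 1))) - π (Pi.single j 1)) i := by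
        rw [hmat, LinearMap.toMatrix'_apply]
        rfl
      rw [← Matrix.sub_apply, hentry, hfv, hgv]
      exact apply_mem_of_mem_smul_top m ι _ (hfgm _) i
    have hone : algebraMap R (R ⧸ m) (T v).det = 1 := by
      rw [← map_one (algebraMap R (R ⧸ m))]
      exact Ideal.Quotient.eq.mpr hdet
    rw [hone]
    exact isUnit_one
  obtain ⟨s', hs'⟩ := hR (Fintype.card σ) (MvPolynomial.rename e F) hloc
  rw [MvPolynomial.aeval_rename, hev] at hs'
  exact ⟨fv (s' ∘ e), hsurj _ hs'⟩

end Main

end Groth.Agent.H83.LGAz
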