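import Groth.Agent.H83.LGAzB

/-!
# Modules over Azumaya algebras over LG-rings (helper83), part C

* `exists_linearEquiv`: over an LG-ring, finite projective modules over an Azumaya algebra with the
  same `R`-rank function are isomorphic.
* `Lid ε`: the left ideal `Γ ε`; for idempotent `ε` it is finite projective.
* `exists_conj`: idempotents `ε`, `ε'` of an Azumaya algebra over an LG-ring whose left ideals have
  the same rank are "equivalent": there are `a₀ ∈ ε Γ ε'`, `b₀ ∈ ε' Γ ε` with `a₀ b₀ = ε`,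
  `b₀ a₀ = ε'`.
* `algEquivOfCorners`: transfer of corner algebras.
-/

set_option autoImplicit false
universe u v w

open TensorProduct

namespace Groth.Agent.H83.LGAz

section Iso

variable {R : Type u} [CommRing R] {A : Type v} [Ring A] [Algebra R A] [IsAzumaya R A]

theorem exists_linearEquiv (hR : LGRing.IsLGRing R)
    (M : Type*) [AddCommGroup M] [Module A M] [Module R M] [IsScalarTower R A M]
    [Module.Finite A M] [Module.Projective A M]
    (N : Type*) [AddCommGroup N] [Module A N] [Module R N] [IsScalarTower R A N]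
    [Module.Finite A N] [Module.Projective A N]
    (h : ∀ p : PrimeSpectrum R, Module.rankAtStalk N p = Module.rankAtStalk M p) :
    Nonempty (M ≃ₗ[A] N) := by
  have : Module.Finite R M := Module.Finite.trans A M
  obtain ⟨f, hf⟩ := exists_surjective (A := A) hR M N (fun p => (h p).le)
  obtain ⟨g, hg⟩ := exists_surjective (A := A) hR N M (fun p => (h p).ge)
  have hgf : Function.Surjective ((g ∘ₗ f).restrictScalars R) := by
    intro z
    obtain ⟨y, rfl⟩ := hg z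
    obtain ⟨x, rfl⟩ := hf y
    exact ⟨x, rfl⟩
  have hinj := OrzechProperty.injective_of_surjective_endomorphism _ hgf
  have hfinj : Function.Injective f := by
    intro x y hxy
    apply hinj
    change g (f x) = g (f y)
    rw [hxy]
  exact ⟨LinearEquiv.ofBijective f ⟨hfinj, hf⟩⟩

end Iso

section Lid

variable {Γ : Type*} [Ring Γ]

/-- The left ideal `Γ ε`. -/
def Lid (ε : Γ) : Submodule Γ Γ := LinearMap.range (LinearMap.toSpanSingleton Γ Γ ε)

theorem mul_mem_Lid (ε x : Γ) : x * ε ∈ Lid ε := ⟨x, rfl⟩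

theorem mem_Lid_iff {ε : Γ} (hε : IsIdempotentElem ε) {y : Γ} : y ∈ Lid ε ↔ y * ε = y := by
  constructor
  · rintro ⟨x, rfl⟩
    change (x * ε) * ε = x * ε
    rw [mul_assoc, hε.eq]
  · intro h
    rw [← h]
    exact mul_mem_Lid ε y

theorem self_mem_Lid {ε : Γ} (hε : IsIdempotentElem ε) : ε ∈ Lid ε :=
  (mem_Lid_iff hε).mpr hε.eq

instance finite_Lid (ε : Γ) : Module.Finite Γ (Lid ε) :=
  Module.Finite.range (LinearMap.toSpanSingleton Γ Γ ε)

theorem projective_Lid {ε : Γ} (hε : IsIdempotentElem ε) : Module.Projective Γ (Lid ε) := by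
  refine Module.Projective.of_split (Lid ε).subtype
    (LinearMap.toSpanSingleton Γ Γ ε).rangeRestrict ?_
  ext y
  obtain ⟨y, hy⟩ := y
  change y * ε = y
  exact (mem_Lid_iff hε).mp hy

/-- From an isomorphism `Γ ε ≅ Γ ε'` we get `a₀`, `b₀`. -/
theorem conj_of_equiv {ε ε' : Γ} (hε : IsIdempotentElem ε) (hε' : IsIdempotentElem ε')
    (φ : Lid ε ≃ₗ[Γ] Lid ε') :
    ∃ a₀ b₀ : Γ, ε * a₀ = a₀ ∧ a₀ * ε' = a₀ ∧ ε' * b₀ = b₀ ∧ b₀ * ε = b₀ ∧
      a₀ * b₀ = ε ∧ b₀ * a₀ = ε' := by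
  let E : Lid ε := ⟨ε, self_mem_Lid hε⟩
  let E' : Lid ε' := ⟨ε', self_mem_Lid hε'⟩
  have hEE : ε • E = E := Subtype.ext hε.eq
  have hEE' : ε' • E' = E' := Subtype.ext hε'.eq
  have hgen : ∀ y : Lid ε, y = (y : Γ) • E := by
    intro y
    apply Subtype.ext
    change (y : Γ) = (y : Γ) * ε
    exact ((mem_Lid_iff hε).mp y.2).symm
  have hgen' : ∀ y : Lid ε', y = (y : Γ) • E' := by
    intro y
    apply Subtype.ext
    change (y : Γ) = (y : Γ) * ε'
    exact ((mem_Lid_iff hε').mp y.2).symm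
  refine ⟨(φ E : Γ), (φ.symm E' : Γ), ?_, ?_, ?_, ?_, ?_, ?_⟩
  · have h1 : φ E = ε • φ E := by
      conv_lhs => rw [← hEE, map_smul]
    have h2 := congrArg (Subtype.val) h1
    exact h2.symm
  · exact (mem_Lid_iff hε').mp (φ E).2
  · have h1 : φ.symm E' = ε' • φ.symm E' := by
      conv_lhs => rw [← hEE', map_smul]
    have h2 := congrArg (Subtype.val) h1
    exact h2.symm
  · exact (mem_Lid_iff hε).mp (φ.symm E').2
  · have h1 : E = ((φ E : Lid ε') : Γ) • φ.symm E' := by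
      conv_lhs => rw [← φ.symm_apply_apply E, hgen' (φ E), map_smul]
    have h2 := congrArg (Subtype.val) h1
    exact h2.symm
  · have h1 : E' = ((φ.symm E' : Lid ε) : Γ) • φ E := by
      conv_lhs => rw [← φ.apply_symm_apply E', hgen (φ.symm E'), map_smul]
    have h2 := congrArg (Subtype.val) h1
    exact h2.symm

end Lid

section Conj

variable {R : Type u} [CommRing R] {Γ : Type v} [Ring Γ] [Algebra R Γ] [IsAzumaya R Γ]

theorem exists_conj (hR : LGRing.IsLGRing R) {ε ε' : Γ} (hε : IsIdempotentElem ε)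
    (hε' : IsIdempotentElem ε')
    (h : ∀ p : PrimeSpectrum R, Module.rankAtStalk (R := R) (Lid ε') p =
      Module.rankAtStalk (R := R) (Lid ε) p) :
    ∃ a₀ b₀ : Γ, ε * a₀ = a₀ ∧ a₀ * ε' = a₀ ∧ ε' * b₀ = b₀ ∧ b₀ * ε = b₀ ∧
      a₀ * b₀ = ε ∧ b₀ * a₀ = ε' := by
  have := projective_Lid hε
  have := projective_Lid hε'
  obtain ⟨φ⟩ := exists_linearEquiv (A := Γ) hR (Lid ε) (Lid ε') h
  exact conj_of_equiv hε hε' φ

end Conj

section Corners

variable {R : Type*} [CommRing R] {A B Γ : Type*} [Ring A] [Algebra R A] [Ring B] [Algebra R B]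
  [Ring Γ] [Algebra R Γ]

/-- Transfer along equivalent idempotents: if `A ≅ ε Γ ε` and `B ≅ ε' Γ ε'` (given by non-unital
embeddings `iA`, `iB` with retractions `rA`, `rB`), and `ε`, `ε'` are equivalent, then `A ≅ B`. -/
theorem algEquivOfCorners (iA : A →ₗ[R] Γ) (rA : Γ →ₗ[R] A)
    (hiA : ∀ x y, iA (x * y) = iA x * iA y) (hrA : ∀ a, rA (iA a) = a)
    (hA : ∀ γ, iA (rA γ) = iA 1 * γ * iA 1)
    (iB : B →ₗ[R] Γ) (rB : Γ →ₗ[R] B)
    (hiB : ∀ x y, iB (x * y) = iB x * iB y) (hrB : ∀ b, rB (iB b) = b)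
    (hB : ∀ γ, iB (rB γ) = iB 1 * γ * iB 1)
    (a₀ b₀ : Γ) (h1 : iA 1 * a₀ = a₀) (h2 : a₀ * iB 1 = a₀) (h3 : iB 1 * b₀ = b₀)
    (h4 : b₀ * iA 1 = b₀) (h5 : a₀ * b₀ = iA 1) (h6 : b₀ * a₀ = iB 1) :
    Nonempty (A ≃ₐ[R] B) := by
  have hinjA : Function.Injective iA := Function.LeftInverse.injective hrA
  have hinjB : Function.Injective iB := Function.LeftInverse.injective hrB
  let ψ : A →ₗ[R] B := rB ∘ₗ LinearMap.mulLeft R b₀ ∘ₗ LinearMap.mulRight R a₀ ∘ₗ iA
  let ψ' : B →ₗ[R] A := rA ∘ₗ LinearMap.mulLeft R a₀ ∘ₗ LinearMap.mulRight R b₀ ∘ₗ iB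
  have hψ : ∀ a, iB (ψ a) = b₀ * iA a * a₀ := by
    intro a
    change iB (rB (b₀ * (iA a * a₀))) = _
    rw [hB]
    calc iB 1 * (b₀ * (iA a * a₀)) * iB 1 = (iB 1 * b₀) * iA a * (a₀ * iB 1) := by
          simp only [mul_assoc]
      _ = b₀ * iA a * a₀ := by rw [h3, h2]
  have hψ' : ∀ b, iA (ψ' b) = a₀ * iB b * b₀ := by
    intro b
    change iA (rA (a₀ * (iB b * b₀))) = _
    rw [hA]
    calc iA 1 * (a₀ * (iB b * b₀)) * iA 1 = (iA 1 * a₀) * iB b * (b₀ * iA 1) := by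
          simp only [mul_assoc]
      _ = a₀ * iB b * b₀ := by rw [h1, h4]
  have hA1 : ∀ a, iA 1 * iA a = iA a := fun a => by rw [← hiA, one_mul]
  have hA1' : ∀ a, iA a * iA 1 = iA a := fun a => by rw [← hiA, mul_one]
  have hB1 : ∀ b, iB 1 * iB b = iB b := fun b => by rw [← hiB, one_mul]
  have hB1' : ∀ b, iB b * iB 1 = iB b := fun b => by rw [← hiB, mul_one]
  have hleft : ∀ a, ψ' (ψ a) = a := by
    intro a
    apply hinjA
    rw [hψ', hψ]
    calc a₀ * (b₀ * iA a * a₀) * b₀ = (a₀ * b₀) * iA a * (a₀ * b₀) := by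
          simp only [mul_assoc]
      _ = iA a := by rw [h5, hA1, hA1']
  have hright : ∀ b, ψ (ψ' b) = b := by
    intro b
    apply hinjB
    rw [hψ, hψ']
    calc b₀ * (a₀ * iB b * b₀) * a₀ = (b₀ * a₀) * iB b * (b₀ * a₀) := by
          simp only [mul_assoc]
      _ = iB b := by rw [h6, hB1, hB1']
  let l : A ≃ₗ[R] B := LinearEquiv.ofLinearMap ψ ψ' (LinearMap.ext hright) (LinearMap.ext hleft)
  have hone : l 1 = 1 := by
    apply hinjB
    change iB (ψ 1) = iB 1
    rw [hψ, h4, h6]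
  have hmul : ∀ x y, l (x * y) = l x * l y := by
    intro x y
    apply hinjB
    change iB (ψ (x * y)) = iB (ψ x * ψ y)
    rw [hiB, hψ, hψ, hψ, hiA]
    calc b₀ * (iA x * iA y) * a₀ = b₀ * (iA x * iA 1) * iA y * a₀ := by
          rw [hA1']; simp only [mul_assoc]
      _ = b₀ * iA x * (a₀ * b₀) * iA y * a₀ := by rw [h5]; simp only [mul_assoc]
      _ = b₀ * iA x * a₀ * (b₀ * iA y * a₀) := by simp only [mul_assoc]
  exact ⟨AlgEquiv.ofLinearEquiv l hone hmul⟩

end Corners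

end Groth.Agent.H83.LGAz
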