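import Groth.Agent.H83.LGAzC
import Groth.Agent.S19587
import Groth.Agent.S19589

/-!
# Modules over Azumaya algebras over LG-rings (helper83), part D: cancellation

* `exists_rankOne`: a faithful finite projective module over an LG-ring has a rank one free summand.
* `algEquiv_of_tensor_end`: over an LG-ring, `A ⊗ End P ≅ B ⊗ End Q` with `A`, `B` Azumaya of the
  same degree and `P`, `Q` faithfully projective implies `A ≅ B`.
-/

set_option autoImplicit false
universe u v w

open TensorProduct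

namespace Groth.Agent.H83.LGAz

section RankOne

variable {R : Type u} [CommRing R]

theorem one_le_rankAtStalk (P : Type*) [AddCommGroup P] [Module R P] [Module.Finite R P]
    [Module.Projective R P] [FaithfulSMul R P] (p : PrimeSpectrum R) :
    1 ≤ Module.rankAtStalk P p := by
  have hs : p ∈ Module.support R P := by
    rw [Module.support_eq_zeroLocus, Module.annihilator_eq_bot.mpr inferInstance]
    simp
  exact (Module.rankAtStalk_pos_iff_mem_support p).mpr hs

theorem exists_rankOne (hR : LGRing.IsLGRing R) (P : Type*) [AddCommGroup P] [Module R P]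
    [Module.Finite R P] [Module.Projective R P] [FaithfulSMul R P] :
    ∃ (s : P →ₗ[R] R) (p₀ : P), s p₀ = 1 := by
  have h : ∀ p : PrimeSpectrum R, Module.rankAtStalk (R := R) R p ≤ Module.rankAtStalk P p := by
    intro p
    have : Nontrivial R :=
      ⟨⟨0, 1, fun h01 => p.2.ne_top ((Ideal.eq_top_iff_one _).mpr (h01 ▸ p.asIdeal.zero_mem))⟩⟩
    rw [Module.rankAtStalk_self, Pi.one_apply]
    exact one_le_rankAtStalk P p
  obtain ⟨s, hs⟩ := exists_surjective (A := R) hR P R h
  obtain ⟨p₀, hp₀⟩ := hs 1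
  exact ⟨s, p₀, hp₀⟩

theorem rankAtStalk_end (P : Type*) [AddCommGroup P] [Module R P] [Module.Finite R P]
    [Module.Projective R P] [FaithfulSMul R P] (p : PrimeSpectrum R) :
    Module.rankAtStalk (Module.End R P) p = Module.rankAtStalk P p ^ 2 := by
  have : IsAzumaya R (Module.End R P) := Groth.Agent.S19589.result R P
  rw [Module.rankAtStalk_eq, Module.rankAtStalk_eq]
  let e := LinearEquiv.ofBijective (Groth.Agent.H97.theta R p.asIdeal.ResidueField P P)
    (Groth.Agent.H97.theta_bijective R p.asIdeal.ResidueField P P)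
  change Module.finrank p.asIdeal.ResidueField (p.asIdeal.ResidueField ⊗[R] (P →ₗ[R] P)) =
    (Module.finrank p.asIdeal.ResidueField (p.asIdeal.ResidueField ⊗[R] P)) ^ 2
  rw [e.finrank_eq, Module.finrank_linearMap, sq]

end RankOne

section Corner

variable {R : Type*} [CommRing R] (A : Type*) [Ring A] [Algebra R A] {P : Type*} [AddCommGroup P]
  [Module R P] (s : P →ₗ[R] R) (p₀ : P)

/-- The rank one idempotent `x ↦ s x • p₀`. -/
def epsP : Module.End R P := s.smulRight p₀

/-- `φ ↦ s (φ p₀)`. -/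
def cP : Module.End R P →ₗ[R] R := s ∘ₗ (LinearMap.applyₗ p₀)

theorem epsP_apply (x : P) : epsP s p₀ x = s x • p₀ := rfl

theorem cP_apply (φ : Module.End R P) : cP s p₀ φ = s (φ p₀) := rfl

theorem epsP_mul_mul (φ : Module.End R P) :
    epsP s p₀ * φ * epsP s p₀ = cP s p₀ φ • epsP s p₀ := by
  ext x
  simp only [Module.End.mul_apply, epsP_apply, cP_apply, LinearMap.smul_apply, map_smul]
  rw [smul_comm]

theorem epsP_idem (hs : s p₀ = 1) : epsP s p₀ * epsP s p₀ = epsP s p₀ := by
  ext x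
  simp only [Module.End.mul_apply, epsP_apply, map_smul, hs, one_smul]

theorem cP_epsP (hs : s p₀ = 1) : cP s p₀ (epsP s p₀) = 1 := by
  simp only [cP_apply, epsP_apply, map_smul, smul_eq_mul, hs, mul_one]

/-- `a ↦ a ⊗ ε_P`. -/
def jA : A →ₗ[R] A ⊗[R] Module.End R P := (TensorProduct.mk R A (Module.End R P)).flip (epsP s p₀)

/-- `a ⊗ φ ↦ c(φ) a`. -/
def rhoA : A ⊗[R] Module.End R P →ₗ[R] A :=
  (TensorProduct.rid R A).toLinearMap ∘ₗ LinearMap.lTensor A (cP s p₀)

theorem jA_apply (a : A) : jA A s p₀ a = a ⊗ₜ epsP s p₀ := rfl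

theorem rhoA_tmul (a : A) (φ : Module.End R P) : rhoA A s p₀ (a ⊗ₜ φ) = cP s p₀ φ • a := by
  simp [rhoA]

theorem jA_mul (hs : s p₀ = 1) (x y : A) : jA A s p₀ (x * y) = jA A s p₀ x * jA A s p₀ y := by
  rw [jA_apply, jA_apply, jA_apply, Algebra.TensorProduct.tmul_mul_tmul, epsP_idem s p₀ hs]

theorem rhoA_jA (hs : s p₀ = 1) (a : A) : rhoA A s p₀ (jA A s p₀ a) = a := by
  rw [jA_apply, rhoA_tmul, cP_epsP s p₀ hs, one_smul]

theorem jA_rhoA (l : A ⊗[R] Module.End R P) :
    jA A s p₀ (rhoA A s p₀ l) = jA A s p₀ 1 * l * jA A s p₀ 1 := by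
  induction l using TensorProduct.induction_on with
  | zero => simp
  | tmul a φ =>
    rw [rhoA_tmul, jA_apply, jA_apply, Algebra.TensorProduct.tmul_mul_tmul,
      Algebra.TensorProduct.tmul_mul_tmul, one_mul, mul_one, epsP_mul_mul,
      TensorProduct.smul_tmul]
  | add x y hx hy => rw [map_add, map_add, hx, hy, mul_add, add_mul]

/-- `a ⊗ q ↦ a ⊗ (x ↦ s x • q)`. -/
def uA : A ⊗[R] P →ₗ[R] A ⊗[R] Module.End R P := LinearMap.lTensor A (LinearMap.smulRightₗ s)

/-- `a ⊗ φ ↦ a ⊗ φ p₀`. -/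
def wA : A ⊗[R] Module.End R P →ₗ[R] A ⊗[R] P := LinearMap.lTensor A (LinearMap.applyₗ p₀)

theorem wA_uA (hs : s p₀ = 1) (t : A ⊗[R] P) : wA A p₀ (uA A s t) = t := by
  induction t using TensorProduct.induction_on with
  | zero => simp
  | tmul a q =>
    simp only [uA, wA, LinearMap.lTensor_tmul, LinearMap.smulRightₗ_apply, LinearMap.applyₗ_apply_apply,
      LinearMap.smulRight_apply, hs, one_smul]
  | add x y hx hy => rw [map_add, map_add, hx, hy]

theorem uA_wA (l : A ⊗[R] Module.End R P) : uA A s (wA A p₀ l) = l * jA A s p₀ 1 := by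
  induction l using TensorProduct.induction_on with
  | zero => simp
  | tmul a φ =>
    have h1 : (LinearMap.smulRightₗ s) (φ p₀) = φ * epsP s p₀ := by
      ext x
      simp only [LinearMap.smulRightₗ_apply, LinearMap.smulRight_apply, Module.End.mul_apply,
        epsP_apply, map_smul]
    simp only [uA, wA, LinearMap.lTensor_tmul, LinearMap.applyₗ_apply_apply, jA_apply,
      Algebra.TensorProduct.tmul_mul_tmul, mul_one, h1]
  | add x y hx hy => rw [map_add, map_add, hx, hy, add_mul]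

end Corner

section LidRank

variable {R : Type*} [CommRing R] {Γ : Type*} [Ring Γ] [Algebra R Γ] {T : Type*} [AddCommGroup T]
  [Module R T]

theorem nonempty_Lid_equiv {ε : Γ} (hε : IsIdempotentElem ε) (U : T →ₗ[R] Γ) (W : Γ →ₗ[R] T)
    (hWU : ∀ t, W (U t) = t) (hUW : ∀ γ, U (W γ) = γ * ε) : Nonempty (Lid ε ≃ₗ[R] T) := by
  have hmem : ∀ t, U t ∈ Lid ε := by
    intro t
    rw [mem_Lid_iff hε, ← hUW, hWU]
  exact ⟨{ toFun := fun y => W y.1
           map_add' := fun x y => by simp
           map_smul' := fun r y => by simp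
           invFun := fun t => ⟨U t, hmem t⟩
           left_inv := fun y => Subtype.ext (by
             change U (W y.1) = y.1
             rw [hUW]
             exact (mem_Lid_iff hε).mp y.2)
           right_inv := fun t => hWU t }⟩

end LidRank

section Main

variable {R : Type u} [CommRing R]

theorem algEquiv_of_tensor_end (hR : LGRing.IsLGRing R)
    (A : Type*) [Ring A] [Algebra R A] [IsAzumaya R A]
    (B : Type*) [Ring B] [Algebra R B] [IsAzumaya R B]
    (hdeg : ∀ p : PrimeSpectrum R, Module.rankAtStalk A p = Module.rankAtStalk B p)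
    (P : Type*) [AddCommGroup P] [Module R P] [Module.Finite R P] [Module.Projective R P]
    [FaithfulSMul R P]
    (Q : Type*) [AddCommGroup Q] [Module R Q] [Module.Finite R Q] [Module.Projective R Q]
    [FaithfulSMul R Q]
    (e : A ⊗[R] Module.End R P ≃ₐ[R] B ⊗[R] Module.End R Q) : Nonempty (A ≃ₐ[R] B) := by
  classical
  obtain ⟨sP, p₀, hsP⟩ := exists_rankOne hR P
  obtain ⟨sQ, q₀, hsQ⟩ := exists_rankOne hR Q
  have : IsAzumaya R (Module.End R P) := Groth.Agent.S19589.result R P
  have : IsAzumaya R (Module.End R Q) := Groth.Agent.S19589.result R Q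
  have : IsAzumaya R (B ⊗[R] Module.End R Q) := Groth.Agent.S19587.result R B (Module.End R Q)
  let iA : A →ₗ[R] B ⊗[R] Module.End R Q := e.toLinearMap ∘ₗ jA A sP p₀
  let rA : B ⊗[R] Module.End R Q →ₗ[R] A := rhoA A sP p₀ ∘ₗ e.symm.toLinearMap
  let iB : B →ₗ[R] B ⊗[R] Module.End R Q := jA B sQ q₀
  let rB : B ⊗[R] Module.End R Q →ₗ[R] B := rhoA B sQ q₀
  have hiA : ∀ x y, iA (x * y) = iA x * iA y := by
    intro x y
    change e (jA A sP p₀ (x * y)) = e (jA A sP p₀ x) * e (jA A sP p₀ y)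
    rw [jA_mul A sP p₀ hsP, map_mul]
  have hrA : ∀ a, rA (iA a) = a := by
    intro a
    change rhoA A sP p₀ (e.symm (e (jA A sP p₀ a))) = a
    rw [e.symm_apply_apply, rhoA_jA A sP p₀ hsP]
  have hA : ∀ γ, iA (rA γ) = iA 1 * γ * iA 1 := by
    intro γ
    change e (jA A sP p₀ (rhoA A sP p₀ (e.symm γ))) = e (jA A sP p₀ 1) * γ * e (jA A sP p₀ 1)
    rw [jA_rhoA, map_mul, map_mul, e.apply_symm_apply]
  have hiB : ∀ x y, iB (x * y) = iB x * iB y := jA_mul B sQ q₀ hsQ
  have hrB : ∀ b, rB (iB b) = b := rhoA_jA B sQ q₀ hsQ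
  have hB : ∀ γ, iB (rB γ) = iB 1 * γ * iB 1 := jA_rhoA B sQ q₀
  have hε : IsIdempotentElem (iA 1) := by
    change iA 1 * iA 1 = iA 1
    rw [← hiA, one_mul]
  have hε' : IsIdempotentElem (iB 1) := by
    change iB 1 * iB 1 = iB 1
    rw [← hiB, one_mul]
  have hrk : ∀ p : PrimeSpectrum R, Module.rankAtStalk (R := R) (Lid (iB 1)) p =
      Module.rankAtStalk (R := R) (Lid (iA 1)) p := by
    intro p
    obtain ⟨E1⟩ := nonempty_Lid_equiv (R := R) hε' (uA B sQ) (wA B q₀) (wA_uA B sQ q₀ hsQ)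
      (uA_wA B sQ q₀)
    obtain ⟨E2⟩ := nonempty_Lid_equiv (R := R) hε (e.toLinearMap ∘ₗ uA A sP)
      (wA A p₀ ∘ₗ e.symm.toLinearMap)
      (fun t => by
        change wA A p₀ (e.symm (e (uA A sP t))) = t
        rw [e.symm_apply_apply, wA_uA A sP p₀ hsP])
      (fun γ => by
        change e (uA A sP (wA A p₀ (e.symm γ))) = γ * e (jA A sP p₀ 1)
        rw [uA_wA, map_mul, e.apply_symm_apply])
    rw [Module.rankAtStalk_eq_of_equiv E1, Module.rankAtStalk_eq_of_equiv E2,
      Module.rankAtStalk_tensorProduct, Module.rankAtStalk_tensorProduct, Pi.mul_apply,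
      Pi.mul_apply]
    have hrkAB : Module.rankAtStalk (A ⊗[R] Module.End R P) p =
        Module.rankAtStalk (B ⊗[R] Module.End R Q) p := by
      rw [Module.rankAtStalk_eq_of_equiv e.toLinearEquiv]
    rw [Module.rankAtStalk_tensorProduct, Module.rankAtStalk_tensorProduct, Pi.mul_apply,
      Pi.mul_apply, rankAtStalk_end, rankAtStalk_end, hdeg p] at hrkAB
    have hBpos : 0 < Module.rankAtStalk B p := one_le_rankAtStalk B p
    have hsq : Module.rankAtStalk P p ^ 2 = Module.rankAtStalk Q p ^ 2 :=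
      Nat.eq_of_mul_eq_mul_left hBpos hrkAB
    have hPQ : Module.rankAtStalk P p = Module.rankAtStalk Q p :=
      Nat.pow_left_injective (by norm_num : 2 ≠ 0) hsq
    rw [hdeg p, hPQ]
  obtain ⟨a₀, b₀, h1, h2, h3, h4, h5, h6⟩ := exists_conj hR hε hε' hrk
  exact algEquivOfCorners iA rA hiA hrA hA iB rB hiB hrB hB a₀ b₀ h1 h2 h3 h4 h5 h6

end Main

end Groth.Agent.H83.LGAz
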