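import Mathlib
import Groth.Agent.H83.LGAzC

/-!
# Corner algebras of Azumaya algebras (helper83), part E

* `rank_pos_of_connected`, `faithful_of_rank_pos`.
* `cornerAlgebra`: the `R`-algebra structure on the corner ring `ε A ε` (Mathlib's
  `IsIdempotentElem.Corner`), `incl`, `proj`.
* `bijective_of_corner`: abstract "corner of an isomorphism `X₁ ⊗ X₂ ≅ End M`".
-/

set_option autoImplicit false
universe u v w

open TensorProduct

namespace Groth.Agent.H83.LGAz

section Rank

variable {R : Type u} [CommRing R]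

theorem rank_pos_of_connected [ConnectedSpace (PrimeSpectrum R)] (M : Type*) [AddCommGroup M]
    [Module R M] [Module.Finite R M] [Module.Projective R M] [Nontrivial M]
    (p : PrimeSpectrum R) : 0 < Module.rankAtStalk M p := by
  have : Module.FinitePresentation R M := Module.finitePresentation_of_projective R M
  have hc := Module.isLocallyConstant_rankAtStalk (R := R) (M := M)
  by_contra h0
  have h0' : Module.rankAtStalk M p = 0 := by omega
  have hz : Module.rankAtStalk (R := R) M = 0 := by
    funext q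
    rw [hc.apply_eq_of_preconnectedSpace q p, h0', Pi.zero_apply]
  have hs := Module.rankAtStalk_eq_zero_iff_subsingleton.mp hz
  exact not_subsingleton M hs

theorem faithful_of_rank_pos (M : Type*) [AddCommGroup M] [Module R M] [Module.Finite R M]
    [Module.Projective R M] (h : ∀ p : PrimeSpectrum R, 0 < Module.rankAtStalk M p) :
    FaithfulSMul R M := by
  rw [← Module.annihilator_eq_bot, eq_bot_iff]
  intro r hr
  rw [Module.mem_annihilator] at hr
  rw [Submodule.mem_bot]
  by_contra hr0
  let I : Ideal R := LinearMap.ker (LinearMap.toSpanSingleton R R r)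
  have hI : I ≠ ⊤ := by
    intro htop
    have h1 : (1 : R) ∈ I := by rw [htop]; trivial
    rw [LinearMap.mem_ker, LinearMap.toSpanSingleton_apply, one_smul] at h1
    exact hr0 h1
  obtain ⟨m, hm, hIm⟩ := Ideal.exists_le_maximal I hI
  let p : PrimeSpectrum R := ⟨m, hm.isPrime⟩
  have hpos := h p
  rw [Module.rankAtStalk_eq_finrank_tensorProduct] at hpos
  have : Module.Free (Localization.AtPrime m) (Localization.AtPrime m ⊗[R] M) :=
    Module.free_of_flat_of_isLocalRing
  let b := Module.Free.chooseBasis (Localization.AtPrime m) (Localization.AtPrime m ⊗[R] M)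
  have hne : Nonempty (Module.Free.ChooseBasisIndex (Localization.AtPrime m)
      (Localization.AtPrime m ⊗[R] M)) := by
    by_contra hemp
    rw [not_nonempty_iff] at hemp
    have h0 : Module.finrank (Localization.AtPrime m) (Localization.AtPrime m ⊗[R] M) = 0 := by
      rw [Module.finrank_eq_card_chooseBasisIndex]
      exact Fintype.card_eq_zero
    change 0 < Module.finrank (Localization.AtPrime m) (Localization.AtPrime m ⊗[R] M) at hpos
    omega
  obtain ⟨i₀⟩ := hne
  have hkill : ∀ z : Localization.AtPrime m ⊗[R] M,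
      (algebraMap R (Localization.AtPrime m) r) • z = 0 := by
    intro z
    induction z using TensorProduct.induction_on with
    | zero => simp
    | tmul a x =>
      rw [algebraMap_smul, ← TensorProduct.tmul_smul, hr, TensorProduct.tmul_zero]
    | add x y hx hy => rw [smul_add, hx, hy, add_zero]
  have h2 : algebraMap R (Localization.AtPrime m) r = 0 := by
    have h3 := congrArg b.repr (hkill (b i₀))
    rw [map_smul, b.repr_self, map_zero] at h3
    have h4 := DFunLike.congr_fun h3 i₀
    rw [Algebra.algebraMap_eq_smul_one]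
    simpa using h4
  obtain ⟨s, hs⟩ := (IsLocalization.map_eq_zero_iff m.primeCompl (Localization.AtPrime m) r).mp h2
  have hsI : (s : R) ∈ I := by
    rw [LinearMap.mem_ker, LinearMap.toSpanSingleton_apply, smul_eq_mul]
    exact hs
  exact s.2 (hIm hsI)

end Rank

section CornerAlg

variable {R : Type*} [CommRing R] {A : Type*} [Ring A] [Algebra R A] {ε : A}
  (hε : IsIdempotentElem ε)

theorem corner_left (x : hε.Corner) : ε * x.1 = x.1 :=
  ((Subsemigroup.mem_corner_iff hε).mp x.2).1

theorem corner_right (x : hε.Corner) : x.1 * ε = x.1 :=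
  ((Subsemigroup.mem_corner_iff hε).mp x.2).2

/-- The structure map `R → ε A ε`. -/
noncomputable def cornerAlgebraMap : R →+* hε.Corner where
  toFun r := ⟨r • ε, (Subsemigroup.mem_corner_iff hε).mpr
    ⟨by rw [mul_smul_comm, hε.eq], by rw [smul_mul_assoc, hε.eq]⟩⟩
  map_one' := Subtype.ext (one_smul R ε)
  map_mul' r s := Subtype.ext (by
    change (r * s) • ε = (r • ε) * (s • ε)
    rw [smul_mul_smul_comm, hε.eq])
  map_zero' := Subtype.ext (zero_smul R ε)
  map_add' r s := Subtype.ext (add_smul r s ε)

noncomputable instance cornerAlgebra : Algebra R hε.Corner :=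
  RingHom.toAlgebra' (cornerAlgebraMap hε) (fun r x => Subtype.ext (by
    change (r • ε) * x.1 = x.1 * (r • ε)
    rw [smul_mul_assoc, mul_smul_comm, corner_left, corner_right]))

theorem coe_mul (x y : hε.Corner) : (x * y).1 = x.1 * y.1 := rfl

theorem coe_add (x y : hε.Corner) : (x + y).1 = x.1 + y.1 := rfl

theorem coe_one : (1 : hε.Corner).1 = ε := rfl

theorem coe_zero : (0 : hε.Corner).1 = 0 := rfl

theorem coe_smul (r : R) (x : hε.Corner) : (r • x).1 = r • x.1 := by
  change (r • ε) * x.1 = r • x.1
  rw [smul_mul_assoc, corner_left]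

/-- The inclusion `ε A ε → A`. -/
noncomputable def incl : hε.Corner →ₗ[R] A where
  toFun := Subtype.val
  map_add' _ _ := rfl
  map_smul' r x := coe_smul hε r x

/-- The projection `A → ε A ε`, `x ↦ ε x ε`. -/
noncomputable def proj : A →ₗ[R] hε.Corner where
  toFun x := ⟨ε * x * ε, ⟨x, rfl⟩⟩
  map_add' x y := Subtype.ext (by
    change ε * (x + y) * ε = ε * x * ε + ε * y * ε
    rw [mul_add, add_mul])
  map_smul' r x := by
    apply Subtype.ext
    rw [RingHom.id_apply, coe_smul]
    change ε * (r • x) * ε = r • (ε * x * ε)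
    rw [mul_smul_comm, smul_mul_assoc]

theorem incl_apply (x : hε.Corner) : incl (R := R) hε x = x.1 := rfl

theorem proj_apply (x : A) : (proj (R := R) hε x).1 = ε * x * ε := rfl

theorem proj_incl (x : hε.Corner) : proj (R := R) hε (incl (R := R) hε x) = x :=
  Subtype.ext (by
    change ε * x.1 * ε = x.1
    rw [corner_left, corner_right])

theorem finite_corner [Module.Finite R A] : Module.Finite R hε.Corner :=
  Module.Finite.of_surjective (proj (R := R) hε) (fun x => ⟨incl (R := R) hε x, proj_incl hε x⟩)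

theorem projective_corner [Module.Projective R A] : Module.Projective R hε.Corner :=
  Module.Projective.of_split (incl (R := R) hε) (proj (R := R) hε)
    (LinearMap.ext (proj_incl hε))

end CornerAlg

section AbstractCorner

variable {R : Type*} [CommRing R]
  {X₁ X₂ Y₁ Y₂ M N : Type*} [AddCommGroup X₁] [Module R X₁] [AddCommGroup X₂] [Module R X₂]
  [AddCommGroup Y₁] [Module R Y₁] [AddCommGroup Y₂] [Module R Y₂]
  [AddCommGroup M] [Module R M] [AddCommGroup N] [Module R N]

theorem bijective_of_corner
    (Φ : X₁ ⊗[R] X₂ →ₗ[R] (M →ₗ[R] M)) (hΦ : Function.Bijective Φ)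
    (Ψ : Y₁ ⊗[R] Y₂ →ₗ[R] (N →ₗ[R] N))
    (i₁ : Y₁ →ₗ[R] X₁) (p₁ : X₁ →ₗ[R] Y₁) (h₁ : ∀ y, p₁ (i₁ y) = y)
    (i₂ : Y₂ →ₗ[R] X₂) (p₂ : X₂ →ₗ[R] Y₂) (h₂ : ∀ y, p₂ (i₂ y) = y)
    (iN : N →ₗ[R] M) (pN : M →ₗ[R] N) (hN : ∀ y, pN (iN y) = y)
    (I1 : ∀ z x, Φ (TensorProduct.map i₁ i₂ z) x = iN (Ψ z (pN x)))
    (I2 : ∀ w y, Ψ (TensorProduct.map p₁ p₂ w) y = pN (Φ w (iN y))) :
    Function.Bijective Ψ := by
  have hKJ : ∀ z, TensorProduct.map p₁ p₂ (TensorProduct.map i₁ i₂ z) = z := by
    intro z
    rw [← LinearMap.comp_apply, ← TensorProduct.map_comp]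
    have e1 : p₁ ∘ₗ i₁ = LinearMap.id := LinearMap.ext h₁
    have e2 : p₂ ∘ₗ i₂ = LinearMap.id := LinearMap.ext h₂
    rw [e1, e2, TensorProduct.map_id, LinearMap.id_apply]
  constructor
  · rw [injective_iff_map_eq_zero]
    intro z hz
    have h0 : Φ (TensorProduct.map i₁ i₂ z) = 0 := by
      apply LinearMap.ext
      intro x
      rw [I1, hz, LinearMap.zero_apply, map_zero, LinearMap.zero_apply]
    have h1 : TensorProduct.map i₁ i₂ z = 0 := by
      apply hΦ.1
      rw [h0, map_zero]
    rw [← hKJ z, h1, map_zero]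
  · intro T
    obtain ⟨w, hw⟩ := hΦ.2 (iN ∘ₗ T ∘ₗ pN)
    refine ⟨TensorProduct.map p₁ p₂ w, ?_⟩
    apply LinearMap.ext
    intro y
    rw [I2, hw]
    simp only [LinearMap.comp_apply, hN]

/-- The opposite of a linear map. -/
noncomputable def opMap {X Y : Type*} [AddCommGroup X] [Module R X] [AddCommGroup Y] [Module R Y]
    (f : X →ₗ[R] Y) : Xᵐᵒᵖ →ₗ[R] Yᵐᵒᵖ :=
  (MulOpposite.opLinearEquiv R).toLinearMap ∘ₗ f ∘ₗ (MulOpposite.opLinearEquiv R).symm.toLinearMap

theorem opMap_apply {X Y : Type*} [AddCommGroup X] [Module R X] [AddCommGroup Y] [Module R Y]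
    (f : X →ₗ[R] Y) (x : Xᵐᵒᵖ) : opMap f x = MulOpposite.op (f x.unop) := rfl

end AbstractCorner

section AzCorner

variable {R : Type*} [CommRing R] {A : Type*} [Ring A] [Algebra R A] {ε : A}
  (hε : IsIdempotentElem ε)

theorem mulLeftRight_corner_bijective (hA : Function.Bijective (AlgHom.mulLeftRight R A)) :
    Function.Bijective (AlgHom.mulLeftRight R hε.Corner) := by
  refine bijective_of_corner (AlgHom.mulLeftRight R A).toLinearMap hA
    (AlgHom.mulLeftRight R hε.Corner).toLinearMap
    (incl hε) (proj hε) (proj_incl hε) (opMap (incl hε)) (opMap (proj hε))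
    (fun y => by rw [opMap_apply, opMap_apply, MulOpposite.unop_op, proj_incl, MulOpposite.op_unop])
    (incl hε) (proj hε) (proj_incl hε) ?_ ?_
  · intro z x
    induction z using TensorProduct.induction_on with
    | zero => simp
    | tmul b b' =>
      simp only [TensorProduct.map_tmul, AlgHom.toLinearMap_apply, AlgHom.mulLeftRight_apply,
        opMap_apply, MulOpposite.unop_op, incl_apply, coe_mul, proj_apply]
      conv_lhs => rw [← corner_right hε b, ← corner_left hε b'.unop]
      simp only [mul_assoc]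
    | add z w hz hw => simp only [map_add, LinearMap.add_apply, hz, hw]
  · intro w y
    induction w using TensorProduct.induction_on with
    | zero => simp
    | tmul a c =>
      apply Subtype.ext
      have hy1 : ∀ t, ε * (y.1 * t) = y.1 * t := fun t => by rw [← mul_assoc, corner_left]
      have hy2 : ∀ t, y.1 * (ε * t) = y.1 * t := fun t => by rw [← mul_assoc, corner_right]
      simp only [TensorProduct.map_tmul, AlgHom.toLinearMap_apply, AlgHom.mulLeftRight_apply,
        opMap_apply, MulOpposite.unop_op, incl_apply, coe_mul, proj_apply, mul_assoc, hy1, hy2]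
    | add z w hz hw => simp only [map_add, LinearMap.add_apply, hz, hw]

end AzCorner

section LidEnd

variable {R : Type*} [CommRing R] {A : Type*} [Ring A] [Algebra R A] {ε : A}
  (hε : IsIdempotentElem ε)

/-- The inclusion `A ε → A`. -/
noncomputable def inclL (ε : A) : Lid ε →ₗ[R] A := (Lid ε).subtype.restrictScalars R

/-- The projection `A → A ε`, `x ↦ x ε`. -/
noncomputable def projL (ε : A) : A →ₗ[R] Lid ε where
  toFun x := ⟨x * ε, mul_mem_Lid ε x⟩
  map_add' x y := Subtype.ext (add_mul x y ε)
  map_smul' r x := Subtype.ext (smul_mul_assoc r x ε)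

theorem inclL_apply (y : Lid ε) : inclL (R := R) ε y = y.1 := rfl

theorem projL_apply (x : A) : (projL (R := R) ε x).1 = x * ε := rfl

include hε in
theorem projL_inclL (y : Lid ε) : projL (R := R) ε (inclL (R := R) ε y) = y :=
  Subtype.ext ((mem_Lid_iff hε).mp y.2)

/-- Right multiplication by `b ∈ ε A ε` on `A ε`. -/
noncomputable def rmul (b : hε.Corner) : Lid ε →ₗ[R] Lid ε where
  toFun y := ⟨y.1 * b.1, (mem_Lid_iff hε).mpr (by rw [mul_assoc, corner_right])⟩
  map_add' y z := Subtype.ext (add_mul y.1 z.1 b.1)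
  map_smul' r y := Subtype.ext (smul_mul_assoc r y.1 b.1)

theorem rmul_apply (b : hε.Corner) (y : Lid ε) : (rmul (R := R) hε b y).1 = y.1 * b.1 := rfl

/-- Right multiplication as an algebra map `(ε A ε)ᵐᵒᵖ → End_R (A ε)`. -/
noncomputable def rho' : hε.Cornerᵐᵒᵖ →ₐ[R] Module.End R (Lid ε) where
  toFun b := rmul hε b.unop
  map_one' := by
    apply LinearMap.ext
    intro y
    apply Subtype.ext
    change y.1 * ε = y.1
    exact (mem_Lid_iff hε).mp y.2
  map_mul' b c := by
    apply LinearMap.ext
    intro y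
    apply Subtype.ext
    change y.1 * (c.unop * b.unop).1 = (y.1 * c.unop.1) * b.unop.1
    rw [coe_mul, mul_assoc]
  map_zero' := by
    apply LinearMap.ext
    intro y
    apply Subtype.ext
    change y.1 * (0 : A) = 0
    rw [mul_zero]
  map_add' b c := by
    apply LinearMap.ext
    intro y
    apply Subtype.ext
    change y.1 * (b.unop + c.unop).1 = y.1 * b.unop.1 + y.1 * c.unop.1
    rw [coe_add, mul_add]
  commutes' r := by
    apply LinearMap.ext
    intro y
    apply Subtype.ext
    change y.1 * (r • ε) = r • y.1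
    rw [mul_smul_comm, (mem_Lid_iff hε).mp y.2]

/-- `A ⊗ (ε A ε)ᵐᵒᵖ → End_R (A ε)`. -/
noncomputable def PsiL : A ⊗[R] hε.Cornerᵐᵒᵖ →ₐ[R] Module.End R (Lid ε) :=
  Algebra.TensorProduct.lift (Algebra.lsmul R R (Lid ε)) (rho' hε) (fun a b => by
    apply LinearMap.ext
    intro y
    apply Subtype.ext
    change a * (y.1 * b.unop.1) = (a * y.1) * b.unop.1
    rw [mul_assoc])

theorem PsiL_tmul (a : A) (b : hε.Cornerᵐᵒᵖ) (y : Lid ε) :
    (PsiL (R := R) hε (a ⊗ₜ b) y).1 = a * (y.1 * b.unop.1) := by
  rw [PsiL, Algebra.TensorProduct.lift_tmul]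
  rfl

theorem PsiL_bijective (hA : Function.Bijective (AlgHom.mulLeftRight R A)) :
    Function.Bijective (PsiL (R := R) hε) := by
  refine bijective_of_corner (AlgHom.mulLeftRight R A).toLinearMap hA
    (PsiL (R := R) hε).toLinearMap
    LinearMap.id LinearMap.id (fun _ => rfl) (opMap (incl hε)) (opMap (proj hε))
    (fun y => by rw [opMap_apply, opMap_apply, MulOpposite.unop_op, proj_incl, MulOpposite.op_unop])
    (inclL ε) (projL ε) (projL_inclL hε) ?_ ?_
  · intro z x
    induction z using TensorProduct.induction_on with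
    | zero => simp
    | tmul a b =>
      simp only [TensorProduct.map_tmul, AlgHom.toLinearMap_apply, AlgHom.mulLeftRight_apply,
        opMap_apply, MulOpposite.unop_op, incl_apply, LinearMap.id_apply, inclL_apply, PsiL_tmul,
        projL_apply]
      conv_lhs => rw [← corner_left hε b.unop]
      simp only [mul_assoc]
    | add z w hz hw => simp only [map_add, LinearMap.add_apply, hz, hw]
  · intro w y
    induction w using TensorProduct.induction_on with
    | zero => simp
    | tmul a c =>
      apply Subtype.ext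
      have hy2 : ∀ t, y.1 * (ε * t) = y.1 * t := fun t => by
        rw [← mul_assoc, (mem_Lid_iff hε).mp y.2]
      simp only [TensorProduct.map_tmul, AlgHom.toLinearMap_apply, AlgHom.mulLeftRight_apply,
        opMap_apply, MulOpposite.unop_op, LinearMap.id_apply, inclL_apply, PsiL_tmul,
        projL_apply, proj_apply, mul_assoc, hy2]
    | add z w hz hw => simp only [map_add, LinearMap.add_apply, hz, hw]

end LidEnd

section Decomp

variable {R : Type*} [CommRing R] {A : Type*} [Ring A] [Algebra R A]

/-- For orthogonal idempotents `φ`, `ψ`: `A (φ + ψ) ≅ A φ × A ψ`. -/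
theorem nonempty_Lid_prod {φ ψ : A} (hφ : IsIdempotentElem φ) (hψ : IsIdempotentElem ψ)
    (h1 : φ * ψ = 0) (h2 : ψ * φ = 0) (ε : A) (hsum : ε = φ + ψ) :
    Nonempty (Lid ε ≃ₗ[R] (Lid φ × Lid ψ)) := by
  have hε : IsIdempotentElem ε := by
    change ε * ε = ε
    rw [hsum, mul_add, add_mul, add_mul, hφ.eq, hψ.eq, h1, h2, add_zero, zero_add]
  have hφε : φ * ε = φ := by rw [hsum, mul_add, hφ.eq, h1, add_zero]
  have hψε : ψ * ε = ψ := by rw [hsum, mul_add, hψ.eq, h2, zero_add]
  have hmem : ∀ (u : Lid φ) (v : Lid ψ), u.1 + v.1 ∈ Lid ε := by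
    intro u v
    rw [mem_Lid_iff hε, add_mul]
    have hu := (mem_Lid_iff hφ).mp u.2
    have hv := (mem_Lid_iff hψ).mp v.2
    conv_lhs => rw [← hu, ← hv, mul_assoc, mul_assoc, hφε, hψε]
    rw [hu, hv]
  exact ⟨{ toFun := fun y => (⟨y.1 * φ, mul_mem_Lid φ y.1⟩, ⟨y.1 * ψ, mul_mem_Lid ψ y.1⟩)
           map_add' := fun x y => by
             apply Prod.ext <;> apply Subtype.ext
             · exact add_mul x.1 y.1 φ
             · exact add_mul x.1 y.1 ψ
           map_smul' := fun r y => by
             apply Prod.ext <;> apply Subtype.ext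
             · exact smul_mul_assoc r y.1 φ
             · exact smul_mul_assoc r y.1 ψ
           invFun := fun uv => ⟨uv.1.1 + uv.2.1, hmem uv.1 uv.2⟩
           left_inv := fun y => by
             apply Subtype.ext
             change y.1 * φ + y.1 * ψ = y.1
             rw [← mul_add, ← hsum]
             exact (mem_Lid_iff hε).mp y.2
           right_inv := fun uv => by
             obtain ⟨u, v⟩ := uv
             have hu := (mem_Lid_iff hφ).mp u.2
             have hv := (mem_Lid_iff hψ).mp v.2
             apply Prod.ext <;> apply Subtype.ext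
             · change (u.1 + v.1) * φ = u.1
               rw [add_mul, hu]
               conv_lhs => rw [← hv, mul_assoc, h2, mul_zero, add_zero]
             · change (u.1 + v.1) * ψ = v.1
               rw [add_mul, hv]
               conv_lhs => rw [← hu, mul_assoc, h1, mul_zero, zero_add] }⟩

end Decomp

end Groth.Agent.H83.LGAz
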