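import Mathlib

/-!
# (CNT) for S14471 (helper7): a valuation-like function on a finite-dimensional space takes exactly
`dim V` values on the nonzero vectors.
-/

set_option autoImplicit false
universe u

namespace Groth.Agent.H83.LSO_CNT

theorem aux (k : Type u) [Field k] : ∀ (n : ℕ) (V : Type u) [AddCommGroup V] [Module k V]
    [Module.Finite k V] (ν : V → ℕ∞),
    (∀ v, ν v = ⊤ ↔ v = 0) →
    (∀ v w, min (ν v) (ν w) ≤ ν (v + w)) →
    (∀ (a : k) v, a ≠ 0 → ν (a • v) = ν v) →
    (∀ v w, ν v = ν w → ν v ≠ ⊤ → ∃ a : k, a ≠ 0 ∧ ν v < ν (v - a • w)) →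
    Module.finrank k V = n →
    (ν '' {v | v ≠ 0}).Finite ∧ Set.ncard (ν '' {v | v ≠ 0}) = n := by
  intro n
  induction n with
  | zero =>
    intro V _ _ _ ν h0 hadd hsmul hlead hn
    haveI : Subsingleton V := Module.finrank_zero_iff.1 hn
    have he : {v : V | v ≠ 0} = ∅ := by
      ext v
      simp only [Set.mem_ofPred_eq, Set.mem_empty_iff_false, iff_false, not_not]
      exact Subsingleton.elim v 0
    rw [he, Set.image_empty]
    exact ⟨Set.finite_empty, Set.ncard_empty _⟩
  | succ n ih =>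
    intro V _ _ _ ν h0 hadd hsmul hlead hn
    have hpos : 0 < Module.finrank k V := by omega
    obtain ⟨v1, hv1⟩ := Module.finrank_pos_iff_exists_ne_zero.1 hpos
    have hT : (ν '' {v | v ≠ 0}).Nonempty := ⟨ν v1, v1, hv1, rfl⟩
    obtain ⟨n0, ⟨v0, hv0, rfl⟩, hmin⟩ := wellFounded_lt.has_min _ hT
    have hmin' : ∀ v : V, v ≠ 0 → ν v0 ≤ ν v := fun v hv => not_lt.1 (hmin (ν v) ⟨v, hv, rfl⟩)
    have hn0 : ν v0 ≠ ⊤ := fun h => hv0 ((h0 v0).1 h)
    have hν0 : ν 0 = ⊤ := (h0 0).2 rfl
    let W' : Submodule k V :=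
      { carrier := {w | ν v0 < ν w}
        add_mem' := fun {a b} ha hb => lt_of_lt_of_le (lt_min ha hb) (hadd a b)
        zero_mem' := by
          show ν v0 < ν 0
          rw [hν0]; exact lt_top_iff_ne_top.2 hn0
        smul_mem' := fun c x hx => by
          by_cases hc : c = 0
          · show ν v0 < ν (c • x)
            rw [hc, zero_smul, hν0]; exact lt_top_iff_ne_top.2 hn0
          · show ν v0 < ν (c • x)
            rw [hsmul c x hc]; exact hx }
    have hmemW' : ∀ w : V, w ∈ W' ↔ ν v0 < ν w := fun w => Iff.rfl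
    have hsup : (k ∙ v0) ⊔ W' = ⊤ := by
      rw [eq_top_iff]
      intro w _
      by_cases hw : w = 0
      · rw [hw]; exact zero_mem _
      rcases (hmin' w hw).lt_or_eq with hlt | heq
      · exact Submodule.mem_sup_right ((hmemW' w).2 hlt)
      · obtain ⟨a, -, ha⟩ := hlead w v0 heq.symm (heq ▸ hn0)
        have h1 : w - a • v0 ∈ W' := (hmemW' _).2 (heq ▸ ha)
        have h2 : a • v0 ∈ (k ∙ v0) := Submodule.smul_mem _ a (Submodule.mem_span_singleton_self v0)
        have h3 : w = a • v0 + (w - a • v0) := by abel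
        rw [h3]
        exact Submodule.add_mem_sup h2 h1
    have hinf : (k ∙ v0) ⊓ W' = ⊥ := by
      rw [eq_bot_iff]
      rintro w ⟨hw1, hw2⟩
      obtain ⟨a, rfl⟩ := Submodule.mem_span_singleton.1 hw1
      by_cases ha : a = 0
      · rw [ha, zero_smul]; exact zero_mem _
      · exfalso
        have h1 : ν v0 < ν (a • v0) := (hmemW' _).1 hw2
        rw [hsmul a v0 ha] at h1
        exact lt_irrefl _ h1
    have hfr : Module.finrank k W' = n := by
      have h1 := Submodule.finrank_sup_add_finrank_inf_eq (k ∙ v0) W'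
      rw [hsup, hinf, finrank_top, finrank_bot, finrank_span_singleton hv0, hn] at h1
      omega
    obtain ⟨hfin, hcard⟩ := ih W' (fun w => ν w.1)
      (fun w => by rw [h0 w.1]; exact Submodule.coe_eq_zero)
      (fun v w => by simpa using hadd v.1 w.1)
      (fun a v ha => by simpa using hsmul a v.1 ha)
      (fun v w hvw hv => by simpa using hlead v.1 w.1 hvw hv)
      hfr
    have himg : ν '' {v | v ≠ 0} = insert (ν v0) ((fun w : W' => ν w.1) '' {w | w ≠ 0}) := by
      ext t
      constructor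
      · rintro ⟨v, hv, rfl⟩
        rcases (hmin' v hv).lt_or_eq with hlt | heq
        · refine Set.mem_insert_of_mem _ ⟨⟨v, (hmemW' v).2 hlt⟩, ?_, rfl⟩
          intro h
          exact hv (congrArg Subtype.val h)
        · rw [← heq]; exact Set.mem_insert _ _
      · rintro (rfl | ⟨w, hw, rfl⟩)
        · exact ⟨v0, hv0, rfl⟩
        · refine ⟨w.1, ?_, rfl⟩
          intro h
          exact hw (Subtype.ext h)
    have hnot : ν v0 ∉ (fun w : W' => ν w.1) '' {w | w ≠ 0} := by
      rintro ⟨w, -, hw⟩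
      have h1 : ν v0 < ν w.1 := (hmemW' _).1 w.2
      have hw' : ν w.1 = ν v0 := hw
      rw [hw'] at h1
      exact lt_irrefl _ h1
    rw [himg]
    exact ⟨hfin.insert _, by rw [Set.ncard_insert_of_notMem hnot hfin, hcard]⟩

/-- (CNT) -/
theorem ncard_image_of_valuationLike {k V : Type u} [Field k] [AddCommGroup V] [Module k V]
    [Module.Finite k V] (ν : V → ℕ∞)
    (h0 : ∀ v, ν v = ⊤ ↔ v = 0)
    (hadd : ∀ v w, min (ν v) (ν w) ≤ ν (v + w))
    (hsmul : ∀ (a : k) v, a ≠ 0 → ν (a • v) = ν v)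
    (hlead : ∀ v w, ν v = ν w → ν v ≠ ⊤ → ∃ a : k, a ≠ 0 ∧ ν v < ν (v - a • w)) :
    Set.ncard (ν '' {v | v ≠ 0}) = Module.finrank k V :=
  (aux k (Module.finrank k V) V ν h0 hadd hsmul hlead rfl).2

end Groth.Agent.H83.LSO_CNT
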