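import Mathlib

/-!
# (LEAD) for S14471 (helper7): leading coefficients in a DVR whose residue field is the coefficient
field.
-/

set_option autoImplicit false
universe u

namespace Groth.Agent.H83.LSO_LEAD

open IsDiscreteValuationRing in
/-- (LEAD) -/
theorem exists_lead {k O : Type u} [Field k] [CommRing O] [IsDomain O]
    [IsDiscreteValuationRing O] (ι : k →+* O)
    (hι : Function.Bijective ((IsLocalRing.residue O).comp ι)) (x y : O) (hx : x ≠ 0)
    (h : IsDiscreteValuationRing.addVal O x = IsDiscreteValuationRing.addVal O y) :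
    ∃ a : k, a ≠ 0 ∧
      IsDiscreteValuationRing.addVal O x < IsDiscreteValuationRing.addVal O (x - ι a * y) := by
  obtain ⟨u, hu⟩ := ((addVal_eq_iff_associated y x).1 h.symm)
  -- hu : y * ↑u = x
  have hru : IsLocalRing.residue O (u : O) ≠ 0 :=
    ((IsLocalRing.residue O).isUnit_map u.isUnit).ne_zero
  obtain ⟨a, ha⟩ := hι.2 (IsLocalRing.residue O (u : O))
  have ha' : IsLocalRing.residue O (ι a) = IsLocalRing.residue O (u : O) := ha
  have ha0 : a ≠ 0 := by
    rintro rfl
    rw [map_zero, map_zero] at ha'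
    exact hru ha'.symm
  refine ⟨a, ha0, ?_⟩
  have hfact : x - ι a * y = ((u : O) - ι a) * y := by rw [← hu]; ring
  have hnu : ¬ IsUnit ((u : O) - ι a) := by
    intro hunit
    have h1 : IsLocalRing.residue O ((u : O) - ι a) ≠ 0 :=
      ((IsLocalRing.residue O).isUnit_map hunit).ne_zero
    apply h1
    rw [map_sub, ha', sub_self]
  have hm : addVal O ((u : O) - ι a) ≠ 0 := fun h0 => hnu (addVal_eq_zero_iff.1 h0)
  have hy : addVal O y ≠ ⊤ := by
    rw [← h]
    exact fun ht => hx (addVal_eq_top_iff.1 ht)
  rw [hfact, addVal_mul, h]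
  generalize addVal O ((u : O) - ι a) = m at hm
  generalize addVal O y = n at hy
  lift n to ℕ using hy
  rcases eq_or_ne m ⊤ with rfl | hmt
  · rw [top_add]; exact ENat.natCast_lt_top n
  · lift m to ℕ using hmt
    have hm' : m ≠ 0 := by exact_mod_cast hm
    have : n < m + n := by omega
    exact_mod_cast this

end Groth.Agent.H83.LSO_LEAD
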