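import Groth.Prelude.Def_W4swconnpcurvhiggsLogLam
import Groth.Agent.H83.ConnAlong
import Mathlib.RingTheory.Kaehler.Basic

set_option autoImplicit false
universe v u
open TensorProduct

namespace Groth.Agent.H83

section LogConnAux

variable {A : Type v} {B L E : Type u} [CommRing A] [CommRing B]
  [Algebra A B] [AddCommGroup L] [Module B L] [Module A L] [IsScalarTower A B L]
  [AddCommGroup E] [Module B E] [Module A E] [IsScalarTower A B E]
  (lam : B) {n : ℕ} (t : Fin n → B) (bΩ : Module.Basis (Fin n) B (KaehlerDifferential A B))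
  (hbΩ : ∀ i, bΩ i = KaehlerDifferential.D A B (t i))
  (ω : Module.Basis (Fin n) B L) (ι : KaehlerDifferential A B →ₗ[B] L)
  (hι : ∀ i, ι (KaehlerDifferential.D A B (t i)) = t i • ω i)
  (nabla : E →ₗ[A] E ⊗[B] L)
  (hc : Conn.IsLamConn (ι.compDer (KaehlerDifferential.D A B)) lam nabla)

/-- partial derivative with respect to the coordinate `t j` -/
noncomputable def pd (j : Fin n) : Derivation A B B :=
  (bΩ.coord j).compDer (KaehlerDifferential.D A B)

theorem pd_apply (j : Fin n) (b : B) : pd bΩ j b = bΩ.coord j (KaehlerDifferential.D A B b) := rfl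

include hbΩ in
theorem pd_t (i j : Fin n) : pd bΩ j (t i) = if i = j then 1 else 0 := by
  rw [pd_apply, ← hbΩ, Module.Basis.coord_apply, Module.Basis.repr_self, Finsupp.single_apply]

include hbΩ in
theorem pd_prod (j : Fin n) (S : Finset (Fin n)) (hj : j ∉ S) : pd bΩ j (∏ i ∈ S, t i) = 0 := by
  classical
  induction S using Finset.induction_on with
  | empty => simp
  | insert a S ha ih =>
    rw [Finset.prod_insert ha, Derivation.leibniz, ih (fun h => hj (Finset.mem_insert_of_mem h)),
      pd_t t bΩ hbΩ, if_neg (fun h : a = j => hj (h ▸ Finset.mem_insert_self a S))]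
    simp

include hbΩ hι in
theorem coord_ι (x : KaehlerDifferential A B) (j : Fin n) :
    ω.coord j (ι x) = bΩ.coord j x * t j := by
  classical
  conv_lhs => rw [← bΩ.sum_repr x]
  simp only [map_sum, map_smul, hbΩ, hι, Module.Basis.coord_apply, Module.Basis.repr_self,
    smul_eq_mul, Finsupp.single_apply]
  rw [Finset.sum_eq_single j]
  · simp
  · intro i _ hij
    simp [hij]
  · intro h
    exact absurd (Finset.mem_univ j) h

include hbΩ hι hc in
theorem comp_smul (j : Fin n) (b : B) (e : E) :
    LogConn.comp nabla ω j (b • e) =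
      b • LogConn.comp nabla ω j e + (lam * pd bΩ j b * t j) • e := by
  unfold LogConn.comp
  rw [along_eq, hc b e, map_add, map_smul, map_smul, contr_tmul, ← along_eq]
  have : (ι.compDer (KaehlerDifferential.D A B)) b = ι (KaehlerDifferential.D A B b) := rfl
  rw [this, coord_ι t bΩ hbΩ ω ι hι, smul_smul, ← pd_apply, mul_assoc]

theorem compProd_empty : LogConn.compProd nabla ω (∅ : Finset (Fin n)) = LinearMap.id := by
  simp [LogConn.compProd]

theorem compProd_insert (j : Fin n) (K : Finset (Fin n)) (h : ∀ x ∈ K, j < x) :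
    LogConn.compProd nabla ω (insert j K) =
      LogConn.comp nabla ω j ∘ₗ LogConn.compProd nabla ω K := by
  unfold LogConn.compProd
  rw [Finset.sort_insert (· ≤ ·) (fun b hb => (h b hb).le) (fun hj => lt_irrefl _ (h j hj))]
  rfl

theorem mem_piece (I K : Finset (Fin n)) (hK : K ⊆ I) (e : E) :
    (∏ i ∈ I \ K, t i) • LogConn.compProd nabla ω K e ∈ LogConn.piece nabla ω t I := by
  unfold LogConn.piece
  exact Submodule.mem_iSup_of_mem K (Submodule.mem_iSup_of_mem (Finset.mem_powerset.mpr hK) ⟨e, rfl⟩)

theorem piece_le (I : Finset (Fin n)) (S : Submodule A E)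
    (h : ∀ K, K ⊆ I → ∀ e : E, (∏ i ∈ I \ K, t i) • LogConn.compProd nabla ω K e ∈ S) :
    LogConn.piece nabla ω t I ≤ S := by
  unfold LogConn.piece
  refine iSup_le fun K => iSup_le fun hK => ?_
  rintro _ ⟨e, rfl⟩
  exact h K (Finset.mem_powerset.mp hK) e

theorem prod_sdiff_mul (I J K : Finset (Fin n)) (hKJ : K ⊆ J) (hJI : J ⊆ I) :
    (∏ i ∈ I \ J, t i) * (∏ i ∈ J \ K, t i) = ∏ i ∈ I \ K, t i := by
  classical
  rw [← Finset.prod_union]
  · congr 1
    ext x
    simp only [Finset.mem_union, Finset.mem_sdiff]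
    constructor
    · rintro (⟨h1, h2⟩ | ⟨h1, h2⟩)
      · exact ⟨h1, fun h => h2 (hKJ h)⟩
      · exact ⟨hJI h1, h2⟩
    · rintro ⟨h1, h2⟩
      by_cases hx : x ∈ J
      · exact Or.inr ⟨hx, h2⟩
      · exact Or.inl ⟨h1, hx⟩
  · rw [Finset.disjoint_left]
    intro x hx hx'
    exact (Finset.mem_sdiff.mp hx).2 (Finset.mem_sdiff.mp hx').1

/-- Lemma B: multiplication by `t_{I∖J}` maps `piece J` into `piece I`. -/
theorem smul_piece_le (I J : Finset (Fin n)) (hJI : J ⊆ I) (x : E)
    (hx : x ∈ LogConn.piece nabla ω t J) :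
    (∏ i ∈ I \ J, t i) • x ∈ LogConn.piece nabla ω t I := by
  have : LogConn.piece nabla ω t J ≤
      (LogConn.piece nabla ω t I).comap ((LinearMap.lsmul B E (∏ i ∈ I \ J, t i)).restrictScalars A) := by
    apply piece_le
    intro K hK e
    rw [Submodule.mem_comap]
    change (∏ i ∈ I \ J, t i) • ((∏ i ∈ J \ K, t i) • LogConn.compProd nabla ω K e) ∈ _
    rw [smul_smul, prod_sdiff_mul t I J K hK hJI]
    exact mem_piece t ω nabla I K (hK.trans hJI) e
  exact this hx

theorem sdiff_insert_insert (j : Fin n) (J' K : Finset (Fin n)) (hj : j ∉ J') :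
    insert j J' \ insert j K = J' \ K := by
  ext x
  simp only [Finset.mem_sdiff, Finset.mem_insert, not_or]
  constructor
  · rintro ⟨h1 | h1, h2, h3⟩
    · exact absurd h1 h2
    · exact ⟨h1, h3⟩
  · rintro ⟨h1, h2⟩
    exact ⟨Or.inr h1, fun h => hj (h ▸ h1), h2⟩

include hbΩ hι hc in
/-- Lemma C: `∇_j` maps `piece J'` into `piece (insert j J')` when `j` is below `J'`. -/
theorem comp_piece_le (j : Fin n) (J' : Finset (Fin n)) (hj : ∀ x ∈ J', j < x) (x : E)
    (hx : x ∈ LogConn.piece nabla ω t J') :
    LogConn.comp nabla ω j x ∈ LogConn.piece nabla ω t (insert j J') := by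
  have hjJ' : j ∉ J' := fun h => lt_irrefl _ (hj j h)
  have : LogConn.piece nabla ω t J' ≤
      (LogConn.piece nabla ω t (insert j J')).comap (LogConn.comp nabla ω j) := by
    apply piece_le
    intro K hK e
    rw [Submodule.mem_comap, comp_smul lam t bΩ hbΩ ω ι hι nabla hc,
      pd_prod t bΩ hbΩ j (J' \ K) (fun h => hjJ' (Finset.mem_sdiff.mp h).1)]
    simp only [mul_zero, zero_mul, zero_smul, add_zero]
    have h1 : LogConn.comp nabla ω j (LogConn.compProd nabla ω K e) =
        LogConn.compProd nabla ω (insert j K) e := by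
      rw [compProd_insert ω nabla j K (fun x hx => hj x (hK hx))]
      rfl
    rw [h1, ← sdiff_insert_insert j J' K hjJ']
    exact mem_piece t ω nabla _ _ (Finset.insert_subset_insert j hK) e
  exact this hx

include hbΩ hι hc in
/-- Lemma A: `b • ∇_J e ∈ piece J`. -/
theorem smul_compProd_mem_piece (J : Finset (Fin n)) :
    ∀ (b : B) (e : E), b • LogConn.compProd nabla ω J e ∈ LogConn.piece nabla ω t J := by
  classical
  induction J using Finset.induction_on_min with
  | empty =>
    intro b e
    have := mem_piece t ω nabla ∅ ∅ (Finset.Subset.refl _) (b • e)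
    simpa [compProd_empty] using this
  | insert j J' hj ih =>
    intro b e
    have hjJ' : j ∉ J' := fun h => lt_irrefl _ (hj j h)
    rw [compProd_insert ω nabla j J' hj, LinearMap.comp_apply]
    have h1 := comp_smul lam t bΩ hbΩ ω ι hι nabla hc j b (LogConn.compProd nabla ω J' e)
    have h2 : b • LogConn.comp nabla ω j (LogConn.compProd nabla ω J' e) =
        LogConn.comp nabla ω j (b • LogConn.compProd nabla ω J' e) -
          (lam * pd bΩ j b * t j) • LogConn.compProd nabla ω J' e := by
      rw [h1]; abel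
    rw [h2]
    apply Submodule.sub_mem
    · exact comp_piece_le lam t bΩ hbΩ ω ι hι nabla hc j J' hj _ (ih b e)
    · have h3 := smul_piece_le t ω nabla (insert j J') J' (Finset.subset_insert j J') _
        (ih (lam * pd bΩ j b) e)
      have h4 : insert j J' \ J' = {j} := by
        ext x
        simp only [Finset.mem_sdiff, Finset.mem_insert, Finset.mem_singleton]
        constructor
        · rintro ⟨h | h, h'⟩
          · exact h
          · exact absurd h h'
        · rintro rfl
          exact ⟨Or.inl rfl, hjJ'⟩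
      rw [h4, Finset.prod_singleton, smul_smul] at h3
      rwa [mul_comm] at h3

include hbΩ hι hc in
/-- `piece I` is stable under multiplication by `B`. -/
theorem smul_mem_piece (I : Finset (Fin n)) (b : B) (x : E)
    (hx : x ∈ LogConn.piece nabla ω t I) : b • x ∈ LogConn.piece nabla ω t I := by
  have : LogConn.piece nabla ω t I ≤
      (LogConn.piece nabla ω t I).comap ((LinearMap.lsmul B E b).restrictScalars A) := by
    apply piece_le
    intro K hK e
    rw [Submodule.mem_comap]
    change b • ((∏ i ∈ I \ K, t i) • LogConn.compProd nabla ω K e) ∈ _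
    rw [smul_comm]
    exact smul_piece_le t ω nabla I K hK _
      (smul_compProd_mem_piece lam t bΩ hbΩ ω ι hι nabla hc K b e)
  exact this hx

end LogConnAux

end Groth.Agent.H83
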