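import Groth.Agent.H83.LogConnAux

set_option autoImplicit false
universe v u
open TensorProduct

namespace Groth.Agent.H83

section LogConnAux2

variable {A : Type v} {B L E : Type u} [CommRing A] [CommRing B]
  [Algebra A B] [AddCommGroup L] [Module B L] [Module A L] [IsScalarTower A B L]
  [AddCommGroup E] [Module B E] [Module A E] [IsScalarTower A B E]
  (lam : B) {n : ℕ} (t : Fin n → B) (bΩ : Module.Basis (Fin n) B (KaehlerDifferential A B))
  (hbΩ : ∀ i, bΩ i = KaehlerDifferential.D A B (t i))
  (ω : Module.Basis (Fin n) B L) (ι : KaehlerDifferential A B →ₗ[B] L)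
  (hι : ∀ i, ι (KaehlerDifferential.D A B (t i)) = t i • ω i)
  (nabla : E →ₗ[A] E ⊗[B] L)
  (hc : Conn.IsLamConn (ι.compDer (KaehlerDifferential.D A B)) lam nabla)

/-- the `B`-span of the elements `t_{J∖K} ∇_K e'`, `K ⊆ J`, for a fixed `e'`. -/
noncomputable def genSpan (J : Finset (Fin n)) (e' : E) : Submodule B E :=
  Submodule.span B ((fun K : Finset (Fin n) => (∏ i ∈ J \ K, t i) • LogConn.compProd nabla ω K e') ''
    (J.powerset : Set (Finset (Fin n))))

theorem gen_mem_genSpan (J K : Finset (Fin n)) (hK : K ⊆ J) (e' : E) :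
    (∏ i ∈ J \ K, t i) • LogConn.compProd nabla ω K e' ∈ genSpan t ω nabla J e' :=
  Submodule.subset_span ⟨K, Finset.mem_coe.mpr (Finset.mem_powerset.mpr hK), rfl⟩

/-- D2 -/
theorem smul_genSpan_le (I J : Finset (Fin n)) (hJI : J ⊆ I) (e' y : E)
    (hy : y ∈ genSpan t ω nabla J e') :
    (∏ i ∈ I \ J, t i) • y ∈ genSpan t ω nabla I e' := by
  have : genSpan t ω nabla J e' ≤
      (genSpan t ω nabla I e').comap (LinearMap.lsmul B E (∏ i ∈ I \ J, t i)) := by
    unfold genSpan
    rw [Submodule.span_le]
    rintro _ ⟨K, hK, rfl⟩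
    have hK' : K ⊆ J := Finset.mem_powerset.mp (Finset.mem_coe.mp hK)
    rw [SetLike.mem_coe, Submodule.mem_comap, LinearMap.lsmul_apply, smul_smul,
      prod_sdiff_mul t I J K hK' hJI]
    exact gen_mem_genSpan t ω nabla I K (hK'.trans hJI) e'
  exact this hy

include hbΩ hι hc in
/-- D1 -/
theorem comp_genSpan_le (j : Fin n) (J' : Finset (Fin n)) (hj : ∀ x ∈ J', j < x) (e' y : E)
    (hy : y ∈ genSpan t ω nabla J' e') :
    LogConn.comp nabla ω j y ∈ genSpan t ω nabla (insert j J') e' := by
  have hjJ' : j ∉ J' := fun h => lt_irrefl _ (hj j h)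
  unfold genSpan at hy
  induction hy using Submodule.span_induction with
  | mem x hx =>
    obtain ⟨K, hK, rfl⟩ := hx
    have hK' : K ⊆ J' := Finset.mem_powerset.mp (Finset.mem_coe.mp hK)
    rw [comp_smul lam t bΩ hbΩ ω ι hι nabla hc,
      pd_prod t bΩ hbΩ j (J' \ K) (fun h => hjJ' (Finset.mem_sdiff.mp h).1)]
    simp only [mul_zero, zero_mul, zero_smul, add_zero]
    have h1 : LogConn.comp nabla ω j (LogConn.compProd nabla ω K e') =
        LogConn.compProd nabla ω (insert j K) e' := by
      rw [compProd_insert ω nabla j K (fun x hx => hj x (hK' hx))]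
      rfl
    rw [h1, ← sdiff_insert_insert j J' K hjJ']
    exact gen_mem_genSpan t ω nabla _ _ (Finset.insert_subset_insert j hK') e'
  | zero => simp
  | add x y hx hy ihx ihy => rw [map_add]; exact Submodule.add_mem _ ihx ihy
  | smul c x hx ih =>
    rw [comp_smul lam t bΩ hbΩ ω ι hι nabla hc]
    apply Submodule.add_mem _ (Submodule.smul_mem _ c ih)
    have h3 := smul_genSpan_le t ω nabla (insert j J') J' (Finset.subset_insert j J') e' x hx
    have h4 : insert j J' \ J' = {j} := by
      ext z
      simp only [Finset.mem_sdiff, Finset.mem_insert, Finset.mem_singleton]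
      constructor
      · rintro ⟨h | h, h'⟩
        · exact h
        · exact absurd h h'
      · rintro rfl
        exact ⟨Or.inl rfl, hjJ'⟩
    rw [h4, Finset.prod_singleton] at h3
    rw [mul_smul]
    exact Submodule.smul_mem _ _ h3

include hbΩ hι hc in
/-- D -/
theorem compProd_smul_mem_genSpan (J : Finset (Fin n)) (e' : E) :
    ∀ b : B, LogConn.compProd nabla ω J (b • e') ∈ genSpan t ω nabla J e' := by
  classical
  induction J using Finset.induction_on_min with
  | empty =>
    intro b
    have := gen_mem_genSpan t ω nabla ∅ ∅ (Finset.Subset.refl _) e'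
    have h2 := Submodule.smul_mem _ b this
    simpa [compProd_empty] using h2
  | insert j J' hj ih =>
    intro b
    rw [compProd_insert ω nabla j J' hj, LinearMap.comp_apply]
    exact comp_genSpan_le lam t bΩ hbΩ ω ι hι nabla hc j J' hj e' _ (ih b)

end LogConnAux2

end Groth.Agent.H83
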