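import Groth.Agent.H83.LogConnFlat
import Mathlib

set_option autoImplicit false
universe v u
open TensorProduct

namespace Groth.Agent.H83

section CommLight

variable {A : Type v} {B L E : Type u} [CommRing A] [CommRing B]
  [Algebra A B] [AddCommGroup L] [Module B L] [Module A L] [IsScalarTower A B L]
  [AddCommGroup E] [Module B E] [Module A E] [IsScalarTower A B E]
  (lam : B) {n : ℕ}
  (ω : Module.Basis (Fin n) B L)
  (nabla : E →ₗ[A] E ⊗[B] L)
  (d : ∀ p : ℕ, ↥(⋀[B]^p L) →ₗ[A] ↥(⋀[B]^(p + 1) L))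
  (nablas : ∀ p : ℕ, E ⊗[B] ↥(⋀[B]^p L) →ₗ[A] E ⊗[B] ↥(⋀[B]^(p + 1) L))
  (hrule : Conn.IsCxRule nabla (fun p => lam • d p) nablas)

include hrule in
theorem nablas_tmul_ω' (p : ℕ) (f : Fin p → Fin n)
    (hdz : d p (exteriorPower.ιMulti B p (fun k => ω (f k))) = 0) (y : E) :
    nablas p (y ⊗ₜ[B] exteriorPower.ιMulti B p (fun k => ω (f k))) =
      ∑ i, LogConn.comp nabla ω i y ⊗ₜ[B]
        exteriorPower.ιMulti B (p + 1) (Fin.cons (ω i) (fun k => ω (f k))) := by
  rw [hrule p y _]
  have h0 : (lam • d p) (exteriorPower.ιMulti B p fun k => ω (f k)) = 0 := by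
    rw [LinearMap.smul_apply, hdz, smul_zero]
  beta_reduce
  rw [h0, tmul_zero, add_zero]
  conv_lhs => rw [nabla_expand ω nabla y]
  rw [map_sum, map_sum, LinearMap.sum_apply]
  refine Finset.sum_congr rfl fun i _ => ?_
  rw [Conn.toOne_tmul, Conn.twedge_tmul, wedge_ιMulti]

include hrule in
theorem comp_comm_aux' (hd1 : ∀ j, d 1 (exteriorPower.ιMulti B 1 (fun _ : Fin 1 => ω j)) = 0)
    (hflat : ∀ m : E, nablas 1 (Conn.toOne (nabla m)) = 0)
    (K : Set.powersetCard (Fin n) 2) (m : E) :
    LogConn.comp nabla ω (Finset.orderEmbOfFin K.val K.prop 0)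
        (LogConn.comp nabla ω (Finset.orderEmbOfFin K.val K.prop 1) m) =
      LogConn.comp nabla ω (Finset.orderEmbOfFin K.val K.prop 1)
        (LogConn.comp nabla ω (Finset.orderEmbOfFin K.val K.prop 0) m) := by
  classical
  have h := hflat m
  rw [nabla_expand ω nabla m, map_sum, map_sum] at h
  have h1 : ∀ j, nablas 1 (Conn.toOne (LogConn.comp nabla ω j m ⊗ₜ[B] ω j)) =
      ∑ i, LogConn.comp nabla ω i (LogConn.comp nabla ω j m) ⊗ₜ[B]
        exteriorPower.ιMulti B 2 (Fin.cons (ω i) (fun _ : Fin 1 => ω j)) := by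
    intro j
    rw [Conn.toOne_tmul, exteriorPower.oneEquiv_symm_apply]
    exact nablas_tmul_ω' lam ω nabla d nablas hrule 1 (fun _ => j) (hd1 j) _
  simp only [h1] at h
  have h2 := congrArg (LogConn.coordE ω 2 K) h
  simp only [map_sum, map_zero, coordE_tmul, exteriorPower.basis_coord,
    exteriorPower.ιMultiDual_apply_ιMulti, Matrix.det_fin_two, Matrix.of_apply] at h2
  have hσ : ∀ j, (Set.powersetCard.ofFinEmbEquiv.symm K) j = Finset.orderEmbOfFin K.val K.prop j :=
    fun j => rfl
  simp only [hσ, Fin.cons_zero, Fin.cons_one, Module.Basis.coord_apply, Module.Basis.repr_self,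
    Finsupp.single_apply, sub_smul, Finset.sum_sub_distrib, mul_smul, ite_smul, one_smul,
    zero_smul, smul_ite, smul_zero] at h2
  have e1 : ∀ (a b : Fin n) (F : Fin n → Fin n → E),
      (∑ x, ∑ x₁, if x = a then (if x₁ = b then F x₁ x else 0) else 0) = F b a := by
    intro a b F
    rw [Finset.sum_eq_single a]
    · simp
    · intro x _ hx
      simp [hx]
    · simp
  rw [e1, e1] at h2
  exact sub_eq_zero.mp h2

include hrule in
theorem comp_comm' (hd1 : ∀ j, d 1 (exteriorPower.ιMulti B 1 (fun _ : Fin 1 => ω j)) = 0)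
    (hflat : ∀ m : E, nablas 1 (Conn.toOne (nabla m)) = 0) (i j : Fin n) (m : E) :
    LogConn.comp nabla ω i (LogConn.comp nabla ω j m) =
      LogConn.comp nabla ω j (LogConn.comp nabla ω i m) := by
  classical
  by_cases hij : i = j
  · rw [hij]
  · let K : Set.powersetCard (Fin n) 2 := ⟨{i, j}, Finset.card_pair hij⟩
    have h := comp_comm_aux' lam ω nabla d nablas hrule hd1 hflat K m
    have h0 : Finset.orderEmbOfFin K.val K.prop 0 ∈ ({i, j} : Finset (Fin n)) :=
      Finset.orderEmbOfFin_mem K.val K.prop 0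
    have h1 : Finset.orderEmbOfFin K.val K.prop 1 ∈ ({i, j} : Finset (Fin n)) :=
      Finset.orderEmbOfFin_mem K.val K.prop 1
    have hne : Finset.orderEmbOfFin K.val K.prop 0 ≠ Finset.orderEmbOfFin K.val K.prop 1 := by
      intro h'
      have := (Finset.orderEmbOfFin K.val K.prop).injective h'
      exact absurd this (by decide)
    rw [Finset.mem_insert, Finset.mem_singleton] at h0 h1
    rcases h0 with h0 | h0 <;> rcases h1 with h1 | h1
    · exact absurd (h0.trans h1.symm) hne
    · rw [h0, h1] at h; exact h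
    · rw [h0, h1] at h; exact h.symm
    · exact absurd (h0.trans h1.symm) hne

end CommLight

section OneSystem

variable {A : Type v} {B L E : Type u} [CommRing A] [CommRing B]
  [Algebra A B] [AddCommGroup L] [Module B L] [Module A L] [IsScalarTower A B L]
  [AddCommGroup E] [Module B E] [Module A E] [IsScalarTower A B E]
  (lam : B) {n : ℕ} (t : Fin n → B) (bΩ : Module.Basis (Fin n) B (KaehlerDifferential A B))
  (hbΩ : ∀ i, bΩ i = KaehlerDifferential.D A B (t i))
  (ω : Module.Basis (Fin n) B L) (ι : KaehlerDifferential A B →ₗ[B] L)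
  (hι : ∀ i, ι (KaehlerDifferential.D A B (t i)) = t i • ω i)
  (nabla : E →ₗ[A] E ⊗[B] L)
  (hc : Conn.IsLamConn (ι.compDer (KaehlerDifferential.D A B)) lam nabla)
  (hcomm : ∀ (i j : Fin n) (m : E), LogConn.comp nabla ω i (LogConn.comp nabla ω j m) =
      LogConn.comp nabla ω j (LogConn.comp nabla ω i m))

include hbΩ in
theorem pd_prod_mul (i : Fin n) (S : Finset (Fin n)) (hi : i ∈ S) :
    pd bΩ i (∏ x ∈ S, t x) * t i = ∏ x ∈ S, t x := by
  classical
  rw [← Finset.mul_prod_erase S t hi, Derivation.leibniz,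
    pd_prod t bΩ hbΩ i (S.erase i) (Finset.notMem_erase i S), pd_t t bΩ hbΩ, if_pos rfl]
  simp [mul_comm]

include hcomm in
theorem comp_compProd_comm (i : Fin n) (K : Finset (Fin n)) : ∀ e : E,
    LogConn.comp nabla ω i (LogConn.compProd nabla ω K e) =
      LogConn.compProd nabla ω K (LogConn.comp nabla ω i e) := by
  classical
  induction K using Finset.induction_on_min with
  | empty => intro e; simp [compProd_empty]
  | insert j K' hj ih =>
    intro e
    rw [compProd_insert ω nabla j K' hj, LinearMap.comp_apply, LinearMap.comp_apply, hcomm, ih]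

include hbΩ hι hc hcomm in
/-- `piece J` is stable under every component `∇_i`. -/
theorem comp_mem_piece_self (i : Fin n) (J : Finset (Fin n)) (y : E)
    (hy : y ∈ LogConn.piece nabla ω t J) :
    LogConn.comp nabla ω i y ∈ LogConn.piece nabla ω t J := by
  classical
  have : LogConn.piece nabla ω t J ≤
      (LogConn.piece nabla ω t J).comap (LogConn.comp nabla ω i) := by
    apply piece_le
    intro K hK e
    rw [Submodule.mem_comap, comp_smul lam t bΩ hbΩ ω ι hι nabla hc,
      comp_compProd_comm ω nabla hcomm i K e]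
    apply Submodule.add_mem
    · exact mem_piece t ω nabla J K hK _
    · by_cases hi : i ∈ J \ K
      · rw [mul_assoc, pd_prod_mul t bΩ hbΩ i _ hi, mul_smul]
        exact smul_mem_piece lam t bΩ hbΩ ω ι hι nabla hc J _ _ (mem_piece t ω nabla J K hK e)
      · rw [pd_prod t bΩ hbΩ i _ hi]
        simp
  exact this hy

include hbΩ hι hc hcomm in
theorem piece_insert_le (i : Fin n) (J : Finset (Fin n)) (hi : i ∉ J) :
    LogConn.piece nabla ω t (insert i J) ≤ LogConn.piece nabla ω t J := by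
  classical
  apply piece_le
  intro K₁ hK₁ e
  by_cases hiK : i ∈ K₁
  · have hK₂ : K₁.erase i ⊆ J := by
      intro x hx
      rcases Finset.mem_insert.mp (hK₁ (Finset.mem_of_mem_erase hx)) with h | h
      · exact absurd h (Finset.ne_of_mem_erase hx)
      · exact h
    have hK₁eq : K₁ = insert i (K₁.erase i) := (Finset.insert_erase hiK).symm
    have hiK₂ : i ∉ K₁.erase i := Finset.notMem_erase i K₁
    rw [hK₁eq, sdiff_insert_insert i J (K₁.erase i) hi,
      ← comp_compProd ω nabla hcomm (K₁.erase i) i hiK₂ e]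
    have h1 := comp_smul lam t bΩ hbΩ ω ι hι nabla hc i (∏ x ∈ J \ K₁.erase i, t x)
      (LogConn.compProd nabla ω (K₁.erase i) e)
    rw [pd_prod t bΩ hbΩ i _ (fun h => hi (Finset.mem_sdiff.mp h).1)] at h1
    simp only [mul_zero, zero_mul, zero_smul, add_zero] at h1
    rw [← h1]
    exact comp_mem_piece_self lam t bΩ hbΩ ω ι hι nabla hc hcomm i J _
      (mem_piece t ω nabla J _ hK₂ e)
  · have hK₁J : K₁ ⊆ J := by
      intro x hx
      rcases Finset.mem_insert.mp (hK₁ hx) with h | h
      · exact absurd (h ▸ hx) hiK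
      · exact h
    have hsd : insert i J \ K₁ = insert i (J \ K₁) := Finset.insert_sdiff_of_notMem _ hiK
    rw [hsd, Finset.prod_insert (fun h => hi (Finset.mem_sdiff.mp h).1), mul_smul]
    exact smul_mem_piece lam t bΩ hbΩ ω ι hι nabla hc J _ _ (mem_piece t ω nabla J K₁ hK₁J e)

include hbΩ hι hc hcomm in
theorem piece_anti (I J : Finset (Fin n)) (hJI : J ⊆ I) :
    LogConn.piece nabla ω t I ≤ LogConn.piece nabla ω t J := by
  classical
  have key : ∀ S : Finset (Fin n), Disjoint S J →
      LogConn.piece nabla ω t (S ∪ J) ≤ LogConn.piece nabla ω t J := by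
    intro S
    induction S using Finset.induction_on with
    | empty => intro _; rw [Finset.empty_union]
    | insert i S hiS ih =>
      intro hdis
      rw [Finset.disjoint_insert_left] at hdis
      rw [Finset.insert_union]
      exact (piece_insert_le lam t bΩ hbΩ ω ι hι nabla hc hcomm i (S ∪ J)
        (by rw [Finset.mem_union]; rintro (h | h); exact hiS h; exact hdis.1 h)).trans (ih hdis.2)
  have := key (I \ J) Finset.sdiff_disjoint
  rwa [Finset.sdiff_union_of_subset hJI] at this

end OneSystem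

section TwoSystems

variable {A : Type v} {B L E : Type u} [CommRing A] [CommRing B]
  [Algebra A B] [AddCommGroup L] [Module B L] [Module A L] [IsScalarTower A B L]
  [AddCommGroup E] [Module B E] [Module A E] [IsScalarTower A B E]
  (lam : B) {n : ℕ} (t : Fin n → B) (bΩ : Module.Basis (Fin n) B (KaehlerDifferential A B))
  (hbΩ : ∀ i, bΩ i = KaehlerDifferential.D A B (t i))
  (ω : Module.Basis (Fin n) B L) (ι : KaehlerDifferential A B →ₗ[B] L)
  (hι : ∀ i, ι (KaehlerDifferential.D A B (t i)) = t i • ω i)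
  (nabla : E →ₗ[A] E ⊗[B] L)
  (hc : Conn.IsLamConn (ι.compDer (KaehlerDifferential.D A B)) lam nabla)
  (hcomm : ∀ (i j : Fin n) (m : E), LogConn.comp nabla ω i (LogConn.comp nabla ω j m) =
      LogConn.comp nabla ω j (LogConn.comp nabla ω i m))
  (t' : Fin n → B) (bΩ' : Module.Basis (Fin n) B (KaehlerDifferential A B))
  (hbΩ' : ∀ i, bΩ' i = KaehlerDifferential.D A B (t' i))
  (ω' : Module.Basis (Fin n) B L)
  (hι' : ∀ i, ι (KaehlerDifferential.D A B (t' i)) = t' i • ω' i)
  (ht' : ∀ i, ∃ b, t' i = b * t i)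
  (H1 : ∀ i, ∃ η, ω i = ω' i + ι η)
  (H2 : ∀ i, ∃ η, ω' i = ω i + ι η)

omit [Module A L] [IsScalarTower A B L] in
theorem comp'_eq (j : Fin n) (y : E) :
    LogConn.comp nabla ω' j y = ∑ i, (ω'.coord j (ω i)) • LogConn.comp nabla ω i y := by
  have : LogConn.comp nabla ω' j y = contr (ω'.coord j) (nabla y) := rfl
  rw [this]
  conv_lhs => rw [nabla_expand ω nabla y]
  rw [map_sum]
  refine Finset.sum_congr rfl fun i _ => ?_
  rw [contr_tmul]

include hbΩ hι hc hcomm hbΩ' hι' ht' H1 in
theorem compProd'_mem_piece (J : Finset (Fin n)) : ∀ e : E,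
    LogConn.compProd nabla ω' J e ∈ LogConn.piece nabla ω t J := by
  classical
  induction J using Finset.induction_on_min with
  | empty =>
    intro e
    have := mem_piece t ω nabla ∅ ∅ (Finset.Subset.refl _) e
    simpa [compProd_empty] using this
  | insert j J' hj ih =>
    intro e
    have hjJ' : j ∉ J' := fun h => lt_irrefl _ (hj j h)
    rw [compProd_insert ω' nabla j J' hj, LinearMap.comp_apply, comp'_eq ω nabla ω']
    apply Submodule.sum_mem
    intro i _
    obtain ⟨η, hη⟩ := H1 i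
    obtain ⟨b, hb⟩ := ht' j
    have hcoord : ω'.coord j (ω i) = (if i = j then 1 else 0) + bΩ'.coord j η * b * t j := by
      rw [hη, map_add, Module.Basis.coord_apply, Module.Basis.repr_self, Finsupp.single_apply,
        coord_ι t' bΩ' hbΩ' ω' ι hι', hb, mul_assoc]
    rw [hcoord, add_smul]
    apply Submodule.add_mem
    · split_ifs with h
      · rw [one_smul, h]
        exact comp_piece_le lam t bΩ hbΩ ω ι hι nabla hc j J' hj _ (ih e)
      · rw [zero_smul]
        exact Submodule.zero_mem _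
    · rw [mul_smul]
      apply smul_mem_piece lam t bΩ hbΩ ω ι hι nabla hc
      have h3 := smul_piece_le t ω nabla (insert j J') J' (Finset.subset_insert j J') _
        (comp_mem_piece_self lam t bΩ hbΩ ω ι hι nabla hc hcomm i J' _ (ih e))
      have h4 : insert j J' \ J' = {j} := by
        ext z
        simp only [Finset.mem_sdiff, Finset.mem_insert, Finset.mem_singleton]
        constructor
        · rintro ⟨h | h, h'⟩
          · exact h
          · exact absurd h h'
        · rintro rfl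
          exact ⟨Or.inl rfl, hjJ'⟩
      rwa [h4, Finset.prod_singleton] at h3

omit [Module A L] [IsScalarTower A B L] [Algebra A B] in
theorem coord_ιMulti_factor (p : ℕ) (K : Set.powersetCard (Fin n) p) (S : Finset (Fin n))
    (v : Fin p → L)
    (hv : ∀ r, ∀ x ∈ (K : Finset (Fin n)), x ∉ S → ∃ m, ω.coord x (v r) = t x * m) :
    ∃ b, (ω.exteriorPower p).coord K (exteriorPower.ιMulti B p v) =
      (∏ x ∈ (K : Finset (Fin n)) \ S, t x) * b := by
  classical
  rw [exteriorPower.basis_coord, exteriorPower.ιMultiDual_apply_ιMulti]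
  have hσ : ∀ j, (Set.powersetCard.ofFinEmbEquiv.symm K) j = Finset.orderEmbOfFin K.val K.prop j :=
    fun j => rfl
  simp only [hσ]
  set σ : Fin p ↪o Fin n := Finset.orderEmbOfFin K.val K.prop with hσdef
  have hσK : ∀ j, σ j ∈ (K : Finset (Fin n)) := fun j => Finset.orderEmbOfFin_mem _ _ _
  have hcol : ∀ (r c : Fin p), ∃ m : B,
      ω.coord (σ c) (v r) = (if σ c ∈ S then 1 else t (σ c)) * m := by
    intro r c
    by_cases h : σ c ∈ S
    · exact ⟨ω.coord (σ c) (v r), by rw [if_pos h, one_mul]⟩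
    · obtain ⟨m, hm⟩ := hv r (σ c) (hσK c) h
      exact ⟨m, by rw [if_neg h, hm]⟩
  choose m hm using hcol
  have hM : (Matrix.of fun i j => ω.coord (σ j) (v i)) =
      Matrix.of fun i j => (if σ j ∈ S then 1 else t (σ j)) * m i j := by
    ext i j; exact hm i j
  have hprod : ∏ j : Fin p, (if σ j ∈ S then 1 else t (σ j)) =
      ∏ x ∈ (K : Finset (Fin n)) \ S, t x := by
    rw [← prod_ite_mem t p K S]
    conv_rhs => rw [← Finset.map_orderEmbOfFin_univ K.val K.prop, Finset.prod_map]
    rfl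
  have hdet : (Matrix.of fun i j => (if σ j ∈ S then 1 else t (σ j)) * m i j).det =
      (∏ j : Fin p, (if σ j ∈ S then 1 else t (σ j))) * (Matrix.of m).det :=
    Matrix.det_mul_row (fun j => if σ j ∈ S then 1 else t (σ j)) (Matrix.of m)
  exact ⟨(Matrix.of m).det, by rw [hM, hdet, hprod]⟩

include hbΩ hι hc hcomm hbΩ' hι' ht' H1 H2 in
theorem gen'_coord_mem (p : ℕ) (K : Set.powersetCard (Fin n) p) (I : Finset (Fin n))
    (_hI : I.card ≤ p) (e : E) (v : Fin p → L)
    (hv1 : ∀ (k : Fin p) (hk : k.val < I.card), v k = ω' (I.orderEmbOfFin rfl ⟨k.val, hk⟩))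
    (hv2 : ∀ k : Fin p, I.card ≤ k.val → v k ∈ LinearMap.range ι) :
    LogConn.coordE ω p K (LogConn.compProd nabla ω' I e ⊗ₜ[B] exteriorPower.ιMulti B p v) ∈
      LogConn.piece nabla ω t (K : Finset (Fin n)) := by
  classical
  rw [coordE_tmul]
  obtain ⟨b, hb⟩ := coord_ιMulti_factor t ω p K I v (by
    intro r x hxK hxI
    by_cases hr : r.val < I.card
    · obtain ⟨η, hη⟩ := H2 (I.orderEmbOfFin rfl ⟨r.val, hr⟩)
      refine ⟨bΩ.coord x η, ?_⟩
      rw [hv1 r hr, hη, map_add, Module.Basis.coord_apply, Module.Basis.repr_self,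
        Finsupp.single_apply, if_neg, zero_add,
        coord_ι t bΩ hbΩ ω ι hι, mul_comm]
      intro h
      apply hxI
      rw [← h]
      exact Finset.orderEmbOfFin_mem _ _ _
    · obtain ⟨η, hη⟩ := hv2 r (not_lt.mp hr)
      exact ⟨bΩ.coord x η, by rw [← hη, coord_ι t bΩ hbΩ ω ι hι, mul_comm]⟩)
  rw [hb, mul_comm, mul_smul]
  apply smul_mem_piece lam t bΩ hbΩ ω ι hι nabla hc
  have h1 : LogConn.compProd nabla ω' I e ∈ LogConn.piece nabla ω t (I ∩ (K : Finset (Fin n))) :=
    piece_anti lam t bΩ hbΩ ω ι hι nabla hc hcomm I _ Finset.inter_subset_left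
      (compProd'_mem_piece lam t bΩ hbΩ ω ι hι nabla hc hcomm t' bΩ' hbΩ' ω' hι' ht' H1 I e)
  have h2 := smul_piece_le t ω nabla (K : Finset (Fin n)) (I ∩ (K : Finset (Fin n)))
    Finset.inter_subset_right _ h1
  rwa [Finset.sdiff_inter_self_right] at h2

include hbΩ hι hc hcomm hbΩ' hι' ht' H1 H2 in
theorem layer'_le (p : ℕ) : LogConn.layer nabla ω' t' p ≤ LogConn.layer nabla ω t p := by
  classical
  rw [← span_gens_eq_layer lam t' bΩ' hbΩ' ω' ι hι' nabla hc p]
  let LB : Submodule B (E ⊗[B] ⋀[B]^p L) :=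
    { carrier := {x | ∀ K : Set.powersetCard (Fin n) p,
        LogConn.coordE ω p K x ∈ LogConn.piece nabla ω t (K : Finset (Fin n))}
      add_mem' := fun {x y} hx hy K => by
        rw [map_add]; exact Submodule.add_mem _ (hx K) (hy K)
      zero_mem' := fun K => by rw [map_zero]; exact Submodule.zero_mem _
      smul_mem' := fun b x hx K => by
        rw [map_smul]
        exact smul_mem_piece lam t bΩ hbΩ ω ι hι nabla hc _ b _ (hx K) }
  have hle : Submodule.span B (LogConn.gens nabla ω' ι p) ≤ LB := by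
    apply Submodule.span_le.mpr
    rintro _ ⟨I, hI, e, v, hv1, hv2, rfl⟩ K
    exact gen'_coord_mem lam t bΩ hbΩ ω ι hι nabla hc hcomm t' bΩ' hbΩ' ω' hι' ht' H1 H2
      p K I hI e v hv1 hv2
  intro x hx
  have hx' : x ∈ LB := hle hx
  unfold LogConn.layer
  rw [Submodule.mem_iInf]
  intro K
  exact hx' K

end TwoSystems

section Main

variable {A : Type v} {B L E : Type u} [CommRing A] [CommRing B]
  [Algebra A B] [AddCommGroup L] [Module B L] [Module A L] [IsScalarTower A B L]
  [AddCommGroup E] [Module B E] [Module A E] [IsScalarTower A B E]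

theorem layer_eq_of_units
    (lam : B) {n : ℕ} (t : Fin n → B) (bΩ : Module.Basis (Fin n) B (KaehlerDifferential A B))
    (hbΩ : ∀ i, bΩ i = KaehlerDifferential.D A B (t i))
    (ω : Module.Basis (Fin n) B L) (ι : KaehlerDifferential A B →ₗ[B] L)
    (hι : ∀ i, ι (KaehlerDifferential.D A B (t i)) = t i • ω i)
    (nabla : E →ₗ[A] E ⊗[B] L)
    (hc : Conn.IsLamConn (ι.compDer (KaehlerDifferential.D A B)) lam nabla)
    (d : ∀ p : ℕ, ↥(⋀[B]^p L) →ₗ[A] ↥(⋀[B]^(p + 1) L))
    (hd : LogDiff.IsLogRule (KaehlerDifferential.D A B) ι (⇑ω) d)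
    (nablas : ∀ p : ℕ, E ⊗[B] ↥(⋀[B]^p L) →ₗ[A] E ⊗[B] ↥(⋀[B]^(p + 1) L))
    (hint : Conn.IsIntegrable nabla (fun p => lam • d p) nablas)
    (u : Fin n → Bˣ) (bΩ' : Module.Basis (Fin n) B (KaehlerDifferential A B))
    (hbΩ' : ∀ i, bΩ' i = KaehlerDifferential.D A B ((u i : B) * t i))
    (ω' : Module.Basis (Fin n) B L)
    (hω' : ∀ i, ω' i = ω i + ((u i)⁻¹ : Bˣ).val • ι (KaehlerDifferential.D A B (u i : B)))
    (p : ℕ) :
    LogConn.layer nabla ω t p = LogConn.layer nabla ω' (fun i => (u i : B) * t i) p := by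
  classical
  have hι' : ∀ i, ι (KaehlerDifferential.D A B ((u i : B) * t i)) =
      ((u i : B) * t i) • ω' i := by
    intro i
    have hu : (u i : B) * t i * ((u i)⁻¹ : Bˣ).val = t i := by
      rw [mul_comm (u i : B), mul_assoc, Units.mul_inv, mul_one]
    rw [Derivation.leibniz, map_add, map_smul, map_smul, hι, hω', smul_add, smul_smul, smul_smul,
      hu]
  have hcomm := comp_comm lam ω ι nabla d hd nablas hint
  have hd1' : ∀ j, d 1 (exteriorPower.ιMulti B 1 (fun _ : Fin 1 => ω' j)) = 0 := by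
    intro j
    rw [← exteriorPower.oneEquiv_symm_apply, hω', map_add, map_smul,
      exteriorPower.oneEquiv_symm_apply, exteriorPower.oneEquiv_symm_apply, map_add,
      d_ιMulti_ω ω ι d hd 1 (fun _ => j), zero_add,
      hd 1 _ (fun _ : Fin 1 => ι (KaehlerDifferential.D A B (u j : B)))
        (fun _ => Or.inl ⟨(u j : B), rfl⟩),
      Derivation.leibniz_of_mul_eq_one _ (Units.inv_mul (u j)), map_smul]
    have := Fin.update_cons_zero (α := fun _ : Fin 2 => L) (ι (KaehlerDifferential.D A B (u j : B)))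
      (fun _ : Fin 1 => ι (KaehlerDifferential.D A B (u j : B)))
      ((-((u j)⁻¹ : Bˣ).val ^ 2) • ι (KaehlerDifferential.D A B (u j : B)))
    rw [← this, AlternatingMap.map_update_smul, Fin.update_cons_zero (α := fun _ : Fin 2 => L),
      (exteriorPower.ιMulti B 2).map_eq_zero_of_eq _ (i := 0) (j := 1) (by simp) (by decide),
      smul_zero]
  have hcomm' := comp_comm' lam ω' nabla d nablas hint.1 hd1' hint.2
  have H2 : ∀ i, ∃ η, ω' i = ω i + ι η := fun i =>
    ⟨((u i)⁻¹ : Bˣ).val • KaehlerDifferential.D A B (u i : B), by rw [hω', map_smul]⟩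
  have H1 : ∀ i, ∃ η, ω i = ω' i + ι η := fun i =>
    ⟨-(((u i)⁻¹ : Bˣ).val • KaehlerDifferential.D A B (u i : B)), by
      rw [hω', map_neg, map_smul, add_neg_cancel_right]⟩
  have ht' : ∀ i, ∃ b, (u i : B) * t i = b * t i := fun i => ⟨u i, rfl⟩
  have ht : ∀ i, ∃ b, t i = b * ((u i : B) * t i) := fun i =>
    ⟨((u i)⁻¹ : Bˣ).val, by rw [← mul_assoc, Units.inv_mul, one_mul]⟩
  apply le_antisymm
  · exact layer'_le lam (fun i => (u i : B) * t i) bΩ' hbΩ' ω' ι hι' nabla hc hcomm'
      t bΩ hbΩ ω hι ht H2 H1 p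
  · exact layer'_le lam t bΩ hbΩ ω ι hι nabla hc hcomm
      (fun i => (u i : B) * t i) bΩ' hbΩ' ω' hι' ht' H1 H2 p

end Main

end Groth.Agent.H83
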