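import Groth.Agent.H83.LogConnLayer
import Groth.Prelude.Def_LogDiff
import Mathlib

set_option autoImplicit false
universe v u
open TensorProduct

namespace Groth.Agent.H83

section LogConnFlat

variable {A : Type v} {B L E : Type u} [CommRing A] [CommRing B]
  [Algebra A B] [AddCommGroup L] [Module B L] [Module A L] [IsScalarTower A B L]
  [AddCommGroup E] [Module B E] [Module A E] [IsScalarTower A B E]
  (lam : B) {n : ℕ} (t : Fin n → B) (bΩ : Module.Basis (Fin n) B (KaehlerDifferential A B))
  (hbΩ : ∀ i, bΩ i = KaehlerDifferential.D A B (t i))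
  (ω : Module.Basis (Fin n) B L) (ι : KaehlerDifferential A B →ₗ[B] L)
  (hι : ∀ i, ι (KaehlerDifferential.D A B (t i)) = t i • ω i)
  (nabla : E →ₗ[A] E ⊗[B] L)
  (hc : Conn.IsLamConn (ι.compDer (KaehlerDifferential.D A B)) lam nabla)
  (d : ∀ p : ℕ, ↥(⋀[B]^p L) →ₗ[A] ↥(⋀[B]^(p + 1) L))
  (hd : LogDiff.IsLogRule (KaehlerDifferential.D A B) ι (⇑ω) d)
  (nablas : ∀ p : ℕ, E ⊗[B] ↥(⋀[B]^p L) →ₗ[A] E ⊗[B] ↥(⋀[B]^(p + 1) L))
  (hint : Conn.IsIntegrable nabla (fun p => lam • d p) nablas)

theorem contr_expand (x : E ⊗[B] L) : x = ∑ i, contr (ω.coord i) x ⊗ₜ[B] ω i := by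
  induction x using TensorProduct.induction_on with
  | zero => simp
  | tmul e z =>
    conv_lhs => rw [← ω.sum_repr z]
    rw [TensorProduct.tmul_sum]
    refine Finset.sum_congr rfl fun i _ => ?_
    rw [contr_tmul, TensorProduct.tmul_smul, TensorProduct.smul_tmul']
    rfl
  | add x y hx hy =>
    conv_lhs => rw [hx, hy]
    rw [← Finset.sum_add_distrib]
    refine Finset.sum_congr rfl fun i _ => ?_
    rw [map_add, TensorProduct.add_tmul]

omit [Module A L] [IsScalarTower A B L] in
theorem nabla_expand (m : E) : nabla m = ∑ i, LogConn.comp nabla ω i m ⊗ₜ[B] ω i := by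
  conv_lhs => rw [contr_expand ω (nabla m)]
  rfl

theorem wedge_ιMulti (p : ℕ) (x : L) (v : Fin p → L) :
    Conn.wedge p ((exteriorPower.oneEquiv B L).symm x) (exteriorPower.ιMulti B p v) =
      exteriorPower.ιMulti B (p + 1) (Fin.cons x v) := by
  apply Subtype.ext
  rw [Conn.wedge_apply_coe, exteriorPower.oneEquiv_symm_apply]
  simp only [exteriorPower.ιMulti_apply_coe, ExteriorAlgebra.ιMulti_succ_apply,
    ExteriorAlgebra.ιMulti_zero_apply, mul_one, Fin.cons_zero]
  congr 2

include hd in
theorem d_ιMulti_ω (p : ℕ) (f : Fin p → Fin n) :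
    d p (exteriorPower.ιMulti B p (fun k => ω (f k))) = 0 := by
  have := hd p 1 (fun k => ω (f k)) (fun k => Or.inr ⟨f k, rfl⟩)
  rw [one_smul] at this
  rw [this]
  have h0 : ι (KaehlerDifferential.D A B 1) = 0 := by
    rw [Derivation.map_one_eq_zero, map_zero]
  rw [h0]
  exact (exteriorPower.ιMulti B (p + 1)).map_coord_zero 0 (by simp)

include hd hint in
theorem nablas_tmul_ω (p : ℕ) (f : Fin p → Fin n) (y : E) :
    nablas p (y ⊗ₜ[B] exteriorPower.ιMulti B p (fun k => ω (f k))) =
      ∑ i, LogConn.comp nabla ω i y ⊗ₜ[B]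
        exteriorPower.ιMulti B (p + 1) (Fin.cons (ω i) (fun k => ω (f k))) := by
  rw [hint.1 p y _]
  have h0 : (lam • d p) (exteriorPower.ιMulti B p fun k => ω (f k)) = 0 := by
    rw [LinearMap.smul_apply, d_ιMulti_ω ω ι d hd p f, smul_zero]
  beta_reduce
  rw [h0, tmul_zero, add_zero]
  conv_lhs => rw [nabla_expand ω nabla y]
  rw [map_sum, map_sum, LinearMap.sum_apply]
  refine Finset.sum_congr rfl fun i _ => ?_
  rw [Conn.toOne_tmul, Conn.twedge_tmul, wedge_ιMulti]

theorem coord_ιMulti_eq_zero (q : ℕ) (K' : Set.powersetCard (Fin n) q) (v : Fin q → L)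
    (S : Finset (Fin n)) (hv : ∀ r, ∃ y ∈ S, v r = ω y) (hK' : ¬ (K' : Finset (Fin n)) ⊆ S) :
    (ω.exteriorPower q).coord K' (exteriorPower.ιMulti B q v) = 0 := by
  classical
  rw [exteriorPower.basis_coord, exteriorPower.ιMultiDual_apply_ιMulti]
  obtain ⟨x, hxK, hxS⟩ := Finset.not_subset.mp hK'
  obtain ⟨c, hc⟩ := (Set.powersetCard.mem_range_ofFinEmbEquiv_symm_iff_mem K' x).mpr hxK
  apply Matrix.det_eq_zero_of_column_eq_zero c
  intro r
  obtain ⟨y, hyS, hy⟩ := hv r
  rw [Matrix.of_apply, hc, hy, Module.Basis.coord_apply, Module.Basis.repr_self,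
    Finsupp.single_apply, if_neg]
  rintro rfl
  exact hxS hyS

include hd hint in
theorem comp_comm_aux (K : Set.powersetCard (Fin n) 2) (m : E) :
    LogConn.comp nabla ω (Finset.orderEmbOfFin K.val K.prop 0)
        (LogConn.comp nabla ω (Finset.orderEmbOfFin K.val K.prop 1) m) =
      LogConn.comp nabla ω (Finset.orderEmbOfFin K.val K.prop 1)
        (LogConn.comp nabla ω (Finset.orderEmbOfFin K.val K.prop 0) m) := by
  classical
  have h := hint.2 m
  rw [nabla_expand ω nabla m, map_sum, map_sum] at h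
  have h1 : ∀ j, nablas 1 (Conn.toOne (LogConn.comp nabla ω j m ⊗ₜ[B] ω j)) =
      ∑ i, LogConn.comp nabla ω i (LogConn.comp nabla ω j m) ⊗ₜ[B]
        exteriorPower.ιMulti B 2 (Fin.cons (ω i) (fun _ : Fin 1 => ω j)) := by
    intro j
    rw [Conn.toOne_tmul, exteriorPower.oneEquiv_symm_apply]
    exact nablas_tmul_ω lam ω ι nabla d hd nablas hint 1 (fun _ => j) _
  simp only [h1] at h
  have h2 := congrArg (LogConn.coordE ω 2 K) h
  simp only [map_sum, map_zero, coordE_tmul, exteriorPower.basis_coord,
    exteriorPower.ιMultiDual_apply_ιMulti, Matrix.det_fin_two, Matrix.of_apply] at h2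
  have hσ : ∀ j, (Set.powersetCard.ofFinEmbEquiv.symm K) j = Finset.orderEmbOfFin K.val K.prop j :=
    fun j => rfl
  simp only [hσ, Fin.cons_zero, Fin.cons_one, Module.Basis.coord_apply, Module.Basis.repr_self,
    Finsupp.single_apply, sub_smul, Finset.sum_sub_distrib, mul_smul, ite_smul, one_smul,
    zero_smul, smul_ite, smul_zero] at h2
  have e1 : ∀ (a b : Fin n) (F : Fin n → Fin n → E),
      (∑ x, ∑ x₁, if x = a then (if x₁ = b then F x₁ x else 0) else 0) = F b a := by
    intro a b F
    rw [Finset.sum_eq_single a]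
    · simp
    · intro x _ hx
      simp [hx]
    · simp
  rw [e1, e1] at h2
  exact sub_eq_zero.mp h2

include hd hint in
theorem comp_comm (i j : Fin n) (m : E) :
    LogConn.comp nabla ω i (LogConn.comp nabla ω j m) =
      LogConn.comp nabla ω j (LogConn.comp nabla ω i m) := by
  classical
  by_cases hij : i = j
  · rw [hij]
  · let K : Set.powersetCard (Fin n) 2 := ⟨{i, j}, Finset.card_pair hij⟩
    have h := comp_comm_aux lam ω ι nabla d hd nablas hint K m
    have h0 : Finset.orderEmbOfFin K.val K.prop 0 ∈ ({i, j} : Finset (Fin n)) :=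
      Finset.orderEmbOfFin_mem K.val K.prop 0
    have h1 : Finset.orderEmbOfFin K.val K.prop 1 ∈ ({i, j} : Finset (Fin n)) :=
      Finset.orderEmbOfFin_mem K.val K.prop 1
    have hne : Finset.orderEmbOfFin K.val K.prop 0 ≠ Finset.orderEmbOfFin K.val K.prop 1 := by
      intro h'
      have := (Finset.orderEmbOfFin K.val K.prop).injective h'
      exact absurd this (by decide)
    rw [Finset.mem_insert, Finset.mem_singleton] at h0 h1
    rcases h0 with h0 | h0 <;> rcases h1 with h1 | h1
    · exact absurd (h0.trans h1.symm) hne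
    · rw [h0, h1] at h; exact h
    · rw [h0, h1] at h; exact h.symm
    · exact absurd (h0.trans h1.symm) hne

theorem comp_compProd
    (hcomm : ∀ (i j : Fin n) (m : E), LogConn.comp nabla ω i (LogConn.comp nabla ω j m) =
      LogConn.comp nabla ω j (LogConn.comp nabla ω i m))
    (J : Finset (Fin n)) : ∀ (i : Fin n), i ∉ J → ∀ e : E,
      LogConn.comp nabla ω i (LogConn.compProd nabla ω J e) =
        LogConn.compProd nabla ω (insert i J) e := by
  classical
  induction J using Finset.induction_on_min with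
  | empty =>
    intro i _ e
    rw [compProd_insert ω nabla i ∅ (by simp)]
    rfl
  | insert j J' hj ih =>
    intro i hi e
    have hij : i ≠ j := fun h => hi (h ▸ Finset.mem_insert_self _ _)
    have hiJ' : i ∉ J' := fun h => hi (Finset.mem_insert_of_mem h)
    rcases lt_or_gt_of_ne hij with h | h
    · rw [compProd_insert ω nabla i (insert j J') (by
        intro x hx
        rcases Finset.mem_insert.mp hx with rfl | hx
        · exact h
        · exact h.trans (hj x hx))]
      rfl
    · rw [Finset.insert_comm i j J', compProd_insert ω nabla j (insert i J') (by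
        intro x hx
        rcases Finset.mem_insert.mp hx with rfl | hx
        · exact h
        · exact hj x hx), LinearMap.comp_apply, ← ih i hiJ' e, compProd_insert ω nabla j J' hj,
        LinearMap.comp_apply, hcomm]

include hbΩ hι hc hd hint in
theorem nablas_mem_layer (p : ℕ) (x : E ⊗[B] ⋀[B]^p L) (hx : x ∈ LogConn.layer nabla ω t p) :
    nablas p x ∈ LogConn.layer nabla ω t (p + 1) := by
  classical
  have hcomm := comp_comm lam ω ι nabla d hd nablas hint
  unfold LogConn.layer at hx
  rw [Submodule.mem_iInf] at hx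
  rw [tensor_expand ω p x, map_sum]
  apply Submodule.sum_mem
  intro K _
  have hK' : LogConn.coordE ω p K x ∈ LogConn.piece nabla ω t (K : Finset (Fin n)) := hx K
  have : LogConn.piece nabla ω t (K : Finset (Fin n)) ≤
      (LogConn.layer nabla ω t (p + 1)).comap
        ((nablas p) ∘ₗ (((TensorProduct.mk B E (⋀[B]^p L)).flip
          (ω.exteriorPower p K)).restrictScalars A)) := by
    apply piece_le
    intro J hJ e
    rw [Submodule.mem_comap]
    change nablas p (((∏ i ∈ (K : Finset (Fin n)) \ J, t i) • LogConn.compProd nabla ω J e) ⊗ₜ[B]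
      (ω.exteriorPower p K)) ∈ _
    rw [exteriorPower.basis_apply]
    change nablas p (_ ⊗ₜ[B] exteriorPower.ιMulti B p
      (fun k => ω (Finset.orderEmbOfFin K.val K.prop k))) ∈ _
    rw [nablas_tmul_ω lam ω ι nabla d hd nablas hint]
    unfold LogConn.layer
    rw [Submodule.mem_iInf]
    intro K'
    rw [Submodule.mem_comap, LinearMap.restrictScalars_apply, map_sum]
    apply Submodule.sum_mem
    intro i _
    rw [coordE_tmul]
    by_cases hsub : (K' : Finset (Fin n)) ⊆ insert i (K : Finset (Fin n))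
    · have hKc : (K : Finset (Fin n)).card = p := K.prop
      have hK'c : (K' : Finset (Fin n)).card = p + 1 := K'.prop
      have hcard : (insert i (K : Finset (Fin n))).card ≤ p + 1 :=
        (Finset.card_insert_le _ _).trans (by rw [hKc])
      have heq : (K' : Finset (Fin n)) = insert i (K : Finset (Fin n)) :=
        Finset.eq_of_subset_of_card_le hsub (by rw [hK'c]; exact hcard)
      have hiK : i ∉ (K : Finset (Fin n)) := by
        intro h
        rw [heq, Finset.insert_eq_of_mem h, hKc] at hK'c
        omega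
      have hiJ : i ∉ J := fun h => hiK (hJ h)
      apply smul_mem_piece lam t bΩ hbΩ ω ι hι nabla hc
      rw [heq, comp_smul lam t bΩ hbΩ ω ι hι nabla hc,
        pd_prod t bΩ hbΩ i ((K : Finset (Fin n)) \ J) (fun h => hiK (Finset.mem_sdiff.mp h).1)]
      simp only [mul_zero, zero_mul, zero_smul, add_zero]
      rw [comp_compProd ω nabla hcomm J i hiJ e, ← sdiff_insert_insert i (K : Finset (Fin n)) J hiK]
      exact mem_piece t ω nabla _ _ (Finset.insert_subset_insert i hJ) e
    · rw [coord_ιMulti_eq_zero ω (p + 1) K' _ (insert i (K : Finset (Fin n))) ?_ hsub, zero_smul]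
      · exact Submodule.zero_mem _
      · intro r
        refine Fin.cases ?_ (fun r' => ?_) r
        · exact ⟨i, Finset.mem_insert_self _ _, by simp⟩
        · exact ⟨Finset.orderEmbOfFin K.val K.prop r',
            Finset.mem_insert_of_mem (Finset.orderEmbOfFin_mem _ _ _), by simp⟩
  exact this hK'

end LogConnFlat

end Groth.Agent.H83
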