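import Groth.Agent.H83.LogConnAux
import Mathlib

set_option autoImplicit false
universe v u
open TensorProduct

namespace Groth.Agent.H83

section LogConnLayer

variable {A : Type v} {B L E : Type u} [CommRing A] [CommRing B]
  [Algebra A B] [AddCommGroup L] [Module B L] [Module A L] [IsScalarTower A B L]
  [AddCommGroup E] [Module B E] [Module A E] [IsScalarTower A B E]
  (lam : B) {n : ℕ} (t : Fin n → B) (bΩ : Module.Basis (Fin n) B (KaehlerDifferential A B))
  (hbΩ : ∀ i, bΩ i = KaehlerDifferential.D A B (t i))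
  (ω : Module.Basis (Fin n) B L) (ι : KaehlerDifferential A B →ₗ[B] L)
  (hι : ∀ i, ι (KaehlerDifferential.D A B (t i)) = t i • ω i)
  (nabla : E →ₗ[A] E ⊗[B] L)
  (hc : Conn.IsLamConn (ι.compDer (KaehlerDifferential.D A B)) lam nabla)

theorem coordE_tmul (p : ℕ) (K : Set.powersetCard (Fin n) p) (e : E) (z : ⋀[B]^p L) :
    LogConn.coordE ω p K (e ⊗ₜ[B] z) = ((ω.exteriorPower p).coord K z) • e := by
  simp [LogConn.coordE]

theorem tensor_expand (p : ℕ) (x : E ⊗[B] ⋀[B]^p L) :
    x = ∑ K : Set.powersetCard (Fin n) p,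
      LogConn.coordE ω p K x ⊗ₜ[B] (ω.exteriorPower p K) := by
  induction x using TensorProduct.induction_on with
  | zero => simp
  | tmul e z =>
    conv_lhs => rw [← (ω.exteriorPower p).sum_repr z]
    rw [TensorProduct.tmul_sum]
    refine Finset.sum_congr rfl fun K _ => ?_
    rw [coordE_tmul, TensorProduct.tmul_smul, TensorProduct.smul_tmul']
    rfl
  | add x y hx hy =>
    conv_lhs => rw [hx, hy]
    rw [← Finset.sum_add_distrib]
    refine Finset.sum_congr rfl fun K _ => ?_
    rw [map_add, TensorProduct.add_tmul]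

theorem prod_ite_mem (p : ℕ) (K : Set.powersetCard (Fin n) p) (J : Finset (Fin n)) :
    ∏ x ∈ (K : Finset (Fin n)), (if x ∈ J then 1 else t x) =
      ∏ x ∈ (K : Finset (Fin n)) \ J, t x := by
  classical
  rw [Finset.sdiff_eq_filter, Finset.prod_filter]
  refine Finset.prod_congr rfl fun j _ => ?_
  simp only [ite_not]

include hbΩ hι hc in
theorem gen_coord_mem (p : ℕ) (K : Set.powersetCard (Fin n) p) (I : Finset (Fin n))
    (hI : I.card ≤ p) (e : E) (v : Fin p → L)
    (hv1 : ∀ (k : Fin p) (hk : k.val < I.card), v k = ω (I.orderEmbOfFin rfl ⟨k.val, hk⟩))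
    (hv2 : ∀ k : Fin p, I.card ≤ k.val → v k ∈ LinearMap.range ι) :
    LogConn.coordE ω p K (LogConn.compProd nabla ω I e ⊗ₜ[B] exteriorPower.ιMulti B p v) ∈
      LogConn.piece nabla ω t (K : Finset (Fin n)) := by
  classical
  rw [coordE_tmul, exteriorPower.basis_coord, exteriorPower.ιMultiDual_apply_ιMulti]
  have hσ : ∀ j, (Set.powersetCard.ofFinEmbEquiv.symm K) j = Finset.orderEmbOfFin K.val K.prop j :=
    fun j => rfl
  simp only [hσ]
  set σ : Fin p ↪o Fin n := Finset.orderEmbOfFin K.val K.prop with hσdef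
  have hσK : ∀ j, σ j ∈ (K : Finset (Fin n)) := fun j => Finset.orderEmbOfFin_mem _ _ _
  by_cases hIK : I ⊆ (K : Finset (Fin n))
  · have hcol : ∀ i : Fin p, ∃ m : Fin p → B, ∀ j,
        ω.coord (σ j) (v i) = (if σ j ∈ I then 1 else t (σ j)) * m j := by
      intro i
      by_cases hi : i.val < I.card
      · refine ⟨fun j => if I.orderEmbOfFin rfl ⟨i.val, hi⟩ = σ j then 1 else 0, fun j => ?_⟩
        rw [hv1 i hi, Module.Basis.coord_apply, Module.Basis.repr_self, Finsupp.single_apply]
        beta_reduce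
        by_cases h1 : I.orderEmbOfFin rfl ⟨i.val, hi⟩ = σ j
        · have h2 : σ j ∈ I := by rw [← h1]; exact Finset.orderEmbOfFin_mem _ _ _
          rw [if_pos h1, if_pos h2, one_mul]
        · rw [if_neg h1, mul_zero]
      · obtain ⟨η, hη⟩ := hv2 i (not_lt.mp hi)
        refine ⟨fun j => if σ j ∈ I then ω.coord (σ j) (v i) else bΩ.coord (σ j) η, fun j => ?_⟩
        beta_reduce
        by_cases h : σ j ∈ I
        · rw [if_pos h, if_pos h, one_mul]
        · rw [if_neg h, if_neg h, ← hη, coord_ι t bΩ hbΩ ω ι hι, mul_comm]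
    choose m hm using hcol
    have hM : (Matrix.of fun i j => ω.coord (σ j) (v i)) =
        Matrix.of fun i j => (if σ j ∈ I then 1 else t (σ j)) * m i j := by
      ext i j; exact hm i j
    have hprod : ∏ j : Fin p, (if σ j ∈ I then 1 else t (σ j)) =
        ∏ x ∈ (K : Finset (Fin n)) \ I, t x := by
      rw [← prod_ite_mem t p K I]
      conv_rhs => rw [← Finset.map_orderEmbOfFin_univ K.val K.prop, Finset.prod_map]
      rfl
    have hdet : (Matrix.of fun i j => (if σ j ∈ I then 1 else t (σ j)) * m i j).det =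
        (∏ j : Fin p, (if σ j ∈ I then 1 else t (σ j))) * (Matrix.of m).det :=
      Matrix.det_mul_row (fun j => if σ j ∈ I then 1 else t (σ j)) (Matrix.of m)
    rw [hM, hdet, hprod, mul_comm, mul_smul]
    exact smul_mem_piece lam t bΩ hbΩ ω ι hι nabla hc _ _ _ (mem_piece t ω nabla _ _ hIK e)
  · obtain ⟨x, hxI, hxK⟩ := Finset.not_subset.mp hIK
    have : x ∈ Set.range (I.orderEmbOfFin rfl) := by
      rw [Finset.range_orderEmbOfFin]; exact hxI
    obtain ⟨k, hk⟩ := this
    have hkp : (k : ℕ) < p := lt_of_lt_of_le k.isLt hI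
    have hdet : (Matrix.of fun i j => ω.coord (σ j) (v i)).det = 0 := by
      apply Matrix.det_eq_zero_of_row_eq_zero (⟨k, hkp⟩ : Fin p)
      intro j
      rw [Matrix.of_apply, hv1 ⟨k, hkp⟩ k.isLt, Module.Basis.coord_apply, Module.Basis.repr_self,
        Finsupp.single_apply, if_neg]
      intro h
      apply hxK
      rw [← hk]
      have : (I.orderEmbOfFin rfl) ⟨(⟨k, hkp⟩ : Fin p).val, k.isLt⟩ = σ j := h
      rw [show k = ⟨(⟨k, hkp⟩ : Fin p).val, k.isLt⟩ from rfl, this]
      exact hσK j
    rw [hdet, zero_smul]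
    exact Submodule.zero_mem _

omit [Module A L] [IsScalarTower A B L] in
include hι in
theorem tmul_basis_mem_span (p : ℕ) (K : Set.powersetCard (Fin n) p) (J : Finset (Fin n))
    (hJK : J ⊆ (K : Finset (Fin n))) (e : E) :
    ((∏ i ∈ (K : Finset (Fin n)) \ J, t i) • LogConn.compProd nabla ω J e) ⊗ₜ[B]
        (ω.exteriorPower p K) ∈ Submodule.span B (LogConn.gens nabla ω ι p) := by
  classical
  have hKc : (K : Finset (Fin n)).card = p := K.prop
  have hJp : J.card ≤ p := hKc ▸ Finset.card_le_card hJK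
  let σ : Fin p ↪o Fin n := Finset.orderEmbOfFin K.val hKc
  let f : Fin p → Fin n := fun k =>
    if hk : k.val < J.card then J.orderEmbOfFin rfl ⟨k.val, hk⟩ else σ k
  have hf : ∀ (k : Fin p) (hk : k.val < J.card), f k = J.orderEmbOfFin rfl ⟨k.val, hk⟩ :=
    fun k hk => dif_pos hk
  obtain ⟨g, hg⟩ := Set.MapsTo.exists_equiv_extend_of_card_eq (α := Fin p) (t := K.val)
    (s := {k : Fin p | k.val < J.card}) (f := f) (by simp [hKc])
    (by
      intro k hk
      have hk' : k.val < J.card := hk
      rw [hf k hk']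
      exact hJK (Finset.orderEmbOfFin_mem _ _ _))
    (by
      intro k hk k' hk' h
      have hk1 : k.val < J.card := hk
      have hk2 : k'.val < J.card := hk'
      rw [hf k hk1, hf k' hk2] at h
      have := (J.orderEmbOfFin rfl).injective h
      exact Fin.ext (by simpa using this))
  let u : Fin p → Fin n := fun k => (g k : Fin n)
  have hu_inj : Function.Injective u := fun a b h => g.injective (Subtype.ext h)
  have hu_lt : ∀ (k : Fin p) (hk : k.val < J.card), u k = J.orderEmbOfFin rfl ⟨k.val, hk⟩ :=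
    fun k hk => (hg k hk).trans (hf k hk)
  have hu_mem : ∀ k, u k ∈ J ↔ k.val < J.card := by
    intro k
    constructor
    · intro h
      have : u k ∈ Set.range (J.orderEmbOfFin rfl) := by
        rw [Finset.range_orderEmbOfFin]; exact h
      obtain ⟨m, hm⟩ := this
      have hm' : (m : ℕ) < p := lt_of_lt_of_le m.isLt hJp
      have h2 := hu_lt ⟨m, hm'⟩ m.isLt
      have hk : k = ⟨m, hm'⟩ := hu_inj (by rw [h2, ← hm])
      rw [hk]; exact m.isLt
    · intro hk
      rw [hu_lt k hk]; exact Finset.orderEmbOfFin_mem _ _ _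
  let c : Fin p → B := fun k => if k.val < J.card then 1 else t (u k)
  let v : Fin p → L := fun k => c k • ω (u k)
  have hgen : LogConn.compProd nabla ω J e ⊗ₜ[B] exteriorPower.ιMulti B p v ∈
      LogConn.gens nabla ω ι p := by
    refine ⟨J, hJp, e, v, ?_, ?_, rfl⟩
    · intro k hk
      simp only [v, c, if_pos hk, one_smul, hu_lt k hk]
    · intro k hk
      simp only [v, c, if_neg (not_lt.mpr hk)]
      exact ⟨KaehlerDifferential.D A B (t (u k)), hι _⟩
  -- the permutation
  let π : Equiv.Perm (Fin p) := g.trans (K.val.orderIsoOfFin hKc).symm.toEquiv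
  have hπ : ∀ k, σ (π k) = u k := by
    intro k
    have : σ (π k) = ((K.val.orderIsoOfFin hKc) (π k) : Fin n) := rfl
    rw [this]
    simp [π, u]
  have hcprod : ∏ k, c k = ∏ i ∈ (K : Finset (Fin n)) \ J, t i := by
    rw [← prod_ite_mem t p K J]
    have h1 : ∀ k, c k = (fun y : ↥K.val => if (y : Fin n) ∈ J then 1 else t y) (g k) := by
      intro k
      by_cases hk : k.val < J.card
      · have : u k ∈ J := (hu_mem k).mpr hk
        simp only [c, if_pos hk]
        rw [if_pos this]
      · have : u k ∉ J := fun h => hk ((hu_mem k).mp h)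
        simp only [c, if_neg hk]
        rw [if_neg this]
    rw [Finset.prod_congr rfl (fun k _ => h1 k),
      Equiv.prod_comp g (fun y : ↥K.val => if (y : Fin n) ∈ J then 1 else t y)]
    exact Finset.prod_coe_sort K.val (fun x => if x ∈ J then 1 else t x)
  have hv : exteriorPower.ιMulti B p v =
      (∏ k, c k) • ((Equiv.Perm.sign π : ℤ) : B) • (ω.exteriorPower p K) := by
    have h1 : v = fun k => c k • ((ω ∘ σ) ∘ π) k := by
      funext k
      simp only [v, Function.comp_apply, hπ]
    rw [h1, AlternatingMap.map_smul_univ, AlternatingMap.map_perm, exteriorPower.basis_apply,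
      Units.smul_def, ← Int.cast_smul_eq_zsmul B]
    rfl
  have hε : ((Equiv.Perm.sign π : ℤ) : B) * ((Equiv.Perm.sign π : ℤ) : B) = 1 := by
    rw [← Int.cast_mul, Int.units_coe_mul_self, Int.cast_one]
  have hfinal : ((∏ i ∈ (K : Finset (Fin n)) \ J, t i) • LogConn.compProd nabla ω J e) ⊗ₜ[B]
      (ω.exteriorPower p K) = ((Equiv.Perm.sign π : ℤ) : B) •
        (LogConn.compProd nabla ω J e ⊗ₜ[B] exteriorPower.ιMulti B p v) := by
    rw [hv, hcprod, TensorProduct.tmul_smul, TensorProduct.tmul_smul, smul_smul, smul_comm,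
      ← mul_smul, ← mul_assoc, hε, one_mul, TensorProduct.smul_tmul']
  rw [hfinal]
  exact Submodule.smul_mem _ _ (Submodule.subset_span hgen)

include hbΩ hι hc in
theorem span_gens_eq_layer (p : ℕ) :
    (Submodule.span B (LogConn.gens nabla ω ι p)).restrictScalars A =
      LogConn.layer nabla ω t p := by
  classical
  apply le_antisymm
  · let LB : Submodule B (E ⊗[B] ⋀[B]^p L) :=
      { carrier := {x | ∀ K : Set.powersetCard (Fin n) p,
          LogConn.coordE ω p K x ∈ LogConn.piece nabla ω t (K : Finset (Fin n))}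
        add_mem' := fun {x y} hx hy K => by
          rw [map_add]; exact Submodule.add_mem _ (hx K) (hy K)
        zero_mem' := fun K => by rw [map_zero]; exact Submodule.zero_mem _
        smul_mem' := fun b x hx K => by
          rw [map_smul]
          exact smul_mem_piece lam t bΩ hbΩ ω ι hι nabla hc _ b _ (hx K) }
    have hle : Submodule.span B (LogConn.gens nabla ω ι p) ≤ LB := by
      apply Submodule.span_le.mpr
      rintro _ ⟨I, hI, e, v, hv1, hv2, rfl⟩ K
      exact gen_coord_mem lam t bΩ hbΩ ω ι hι nabla hc p K I hI e v hv1 hv2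
    intro x hx
    have hx' : x ∈ LB := hle hx
    unfold LogConn.layer
    rw [Submodule.mem_iInf]
    intro K
    exact hx' K
  · intro x hx
    unfold LogConn.layer at hx
    rw [Submodule.mem_iInf] at hx
    rw [tensor_expand ω p x]
    apply Submodule.sum_mem
    intro K _
    have hK' : LogConn.coordE ω p K x ∈ LogConn.piece nabla ω t (K : Finset (Fin n)) := hx K
    have : LogConn.piece nabla ω t (K : Finset (Fin n)) ≤
        ((Submodule.span B (LogConn.gens nabla ω ι p)).restrictScalars A).comap
          (((TensorProduct.mk B E (⋀[B]^p L)).flip (ω.exteriorPower p K)).restrictScalars A) := by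
      apply piece_le
      intro J hJ e
      rw [Submodule.mem_comap]
      exact tmul_basis_mem_span t ω ι hι nabla p K J hJ e
    exact this hK'

end LogConnLayer

end Groth.Agent.H83
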