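import Mathlib

set_option autoImplicit false
universe u

namespace Groth.Agent.H83.MHS

open MvPolynomial

/-- evaluation of a univariate polynomial plugged into the variable `X j` -/
theorem eval_comp_algebraMap {n : ℕ} (y : Fin n → ℚ) :
    (eval y).comp (algebraMap ℚ (MvPolynomial (Fin n) ℚ)) = RingHom.id ℚ :=
  RingHom.ext fun r => by simp [MvPolynomial.algebraMap_eq]

theorem eval_aeval_X {n : ℕ} (j : Fin n) (R : Polynomial ℚ) (y : Fin n → ℚ) :
    eval y (Polynomial.aeval (X j : MvPolynomial (Fin n) ℚ) R) = R.eval (y j) := by
  rw [Polynomial.aeval_def, Polynomial.hom_eval₂, eval_X, eval_comp_algebraMap,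
    Polynomial.eval₂_id]

/-- indefinite sum in direction `j` -/
theorem exists_indefSum {n : ℕ} (j : Fin n) (Q : MvPolynomial (Fin n) ℚ) :
    ∃ S : MvPolynomial (Fin n) ℚ, ∀ x : Fin n → ℚ,
      eval (x + (Pi.single j (1:ℚ) : Fin n → ℚ)) S - eval x S = eval x Q := by
  classical
  induction Q using MvPolynomial.induction_on' with
  | monomial a c =>
    set d := a j with hd
    set a' := a.erase j with ha'
    have haa : a' + Finsupp.single j d = a := Finsupp.erase_add_single j a
    obtain ⟨R, hR⟩ : ∃ R : Polynomial ℚ, ∀ z : ℚ, R.eval (1 + z) - R.eval z = z ^ d := by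
      refine ⟨Polynomial.C (1 / ((d : ℚ) + 1)) * Polynomial.bernoulli (d + 1), fun z => ?_⟩
      have h1 := Polynomial.bernoulli_eval_one_add (d + 1) z
      simp only [Polynomial.eval_mul, Polynomial.eval_C, h1]
      have hd1 : ((d : ℚ) + 1) ≠ 0 := by positivity
      push_cast
      field_simp
      ring
    refine ⟨monomial a' c * Polynomial.aeval (X j : MvPolynomial (Fin n) ℚ) R, ?_⟩
    intro x
    have hE : eval (x + (Pi.single j (1:ℚ) : Fin n → ℚ)) (monomial a' c) =
        eval x (monomial a' c) := by
      rw [eval_monomial, eval_monomial]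
      congr 1
      apply Finset.prod_congr rfl
      intro i hi
      have hij : i ≠ j := by
        rintro rfl
        simp [ha'] at hi
      simp [hij]
    have hx : (x + (Pi.single j (1:ℚ) : Fin n → ℚ)) j = 1 + x j := by simp [add_comm]
    rw [map_mul, map_mul, hE, eval_aeval_X, eval_aeval_X, ← mul_sub, hx, hR, ← haa,
      monomial_add_single, map_mul, map_pow, eval_X]
  | add p q hp hq =>
    obtain ⟨S1, h1⟩ := hp
    obtain ⟨S2, h2⟩ := hq
    refine ⟨S1 + S2, fun x => ?_⟩
    rw [map_add, map_add, map_add, ← h1 x, ← h2 x]
    ring

/-- substitution `X j ↦ c` -/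
theorem eval_aeval_update {n : ℕ} (j : Fin n) (c : ℚ) (F : MvPolynomial (Fin n) ℚ)
    (y : Fin n → ℚ) :
    eval y (aeval (fun l => if l = j then (C c : MvPolynomial (Fin n) ℚ) else X l) F) =
      eval (Function.update y j c) F := by
  rw [aeval_def, eval₂_comp_left (eval y)]
  have h1 : (eval y).comp (algebraMap ℚ (MvPolynomial (Fin n) ℚ)) = RingHom.id ℚ :=
    eval_comp_algebraMap y
  have h2 : (⇑(eval y) ∘ fun l => if l = j then (C c : MvPolynomial (Fin n) ℚ) else X l) =
      Function.update y j c := by
    funext l
    by_cases hl : l = j
    · subst hl; simp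
    · simp [hl, Function.update_of_ne hl]
  rw [h1, h2, eval₂_id]

/-- (INT) a function on `ℕ^n` all of whose forward differences are polynomial on `i ≥ m`
is polynomial on `i ≥ m`. -/
theorem exists_mvPoly_of_fwdDiff {n : ℕ} (h : (Fin n → ℕ) → ℚ) (m : Fin n → ℕ)
    (Q : Fin n → MvPolynomial (Fin n) ℚ)
    (hQ : ∀ j i, m ≤ i →
      h (i + Pi.single j 1) - h i = MvPolynomial.eval (fun l => (i l : ℚ)) (Q j)) :
    ∃ P : MvPolynomial (Fin n) ℚ, ∀ i, m ≤ i →
      h i = MvPolynomial.eval (fun l => (i l : ℚ)) P := by
  classical
  have claim : ∀ k : ℕ, k ≤ n → ∃ P : MvPolynomial (Fin n) ℚ, ∀ i, m ≤ i →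
      (∀ l : Fin n, k ≤ l.val → i l = m l) → h i = eval (fun l => (i l : ℚ)) P := by
    intro k
    induction k with
    | zero =>
      intro _
      refine ⟨C (h m), fun i hi hfix => ?_⟩
      have : i = m := funext fun l => hfix l (Nat.zero_le _)
      rw [this, eval_C]
    | succ k ih =>
      intro hk
      obtain ⟨P, hP⟩ := ih (by omega)
      let j : Fin n := ⟨k, by omega⟩
      obtain ⟨S, hS⟩ := exists_indefSum j (Q j)
      let g : Fin n → MvPolynomial (Fin n) ℚ := fun l => if l = j then C (m j : ℚ) else X l
      refine ⟨aeval g P + S - aeval g S, ?_⟩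
      have key : ∀ t : ℕ, ∀ i : Fin n → ℕ, m ≤ i → (∀ l : Fin n, k + 1 ≤ l.val → i l = m l) →
          i j = m j + t → h i = eval (fun l => (i l : ℚ)) (aeval g P + S - aeval g S) := by
        intro t
        induction t with
        | zero =>
          intro i hi hfix hij
          have hfix' : ∀ l : Fin n, k ≤ l.val → i l = m l := by
            intro l hl
            rcases Nat.eq_or_lt_of_le hl with h1 | h1
            · have : l = j := Fin.ext h1.symm
              rw [this, hij, add_zero]
            · exact hfix l h1
          have hup : Function.update (fun l => (i l : ℚ)) j (m j : ℚ) = fun l => (i l : ℚ) := by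
            funext l
            by_cases hl : l = j
            · subst hl; simp [hij]
            · simp [Function.update_of_ne hl]
          rw [map_sub, map_add, eval_aeval_update, eval_aeval_update, hup, hP i hi hfix']
          ring
        | succ t iht =>
          intro i hi hfix hij
          set i' : Fin n → ℕ := Function.update i j (m j + t) with hi'
          have hii' : i = i' + (Pi.single j (1:ℕ) : Fin n → ℕ) := by
            funext l
            by_cases hl : l = j
            · subst hl; simp [hi', hij, add_assoc]
            · simp [hi', Function.update_of_ne hl, Pi.single_apply, hl]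
          have hmi' : m ≤ i' := by
            intro l
            by_cases hl : l = j
            · subst hl; simp [hi']
            · simp [hi', Function.update_of_ne hl]; exact hi l
          have hfix' : ∀ l : Fin n, k + 1 ≤ l.val → i' l = m l := by
            intro l hl
            have hlj : l ≠ j := by
              intro h1; rw [h1] at hl; simp [j] at hl
            simp [hi', Function.update_of_ne hlj]; exact hfix l hl
          have hi'j : i' j = m j + t := by simp [hi']
          have h1 := iht i' hmi' hfix' hi'j
          have h2 := hQ j i' hmi'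
          have hcast : (fun l => (((i' + (Pi.single j (1:ℕ) : Fin n → ℕ)) l : ℕ) : ℚ)) =
              (fun l => (i' l : ℚ)) + (Pi.single j (1:ℚ) : Fin n → ℚ) := by
            funext l
            by_cases hl : l = j
            · subst hl; simp
            · simp [Pi.single_apply, hl]
          have h3 := hS (fun l => (i' l : ℚ))
          have hupd : Function.update (fun l => (((i' + (Pi.single j (1:ℕ) : Fin n → ℕ)) l : ℕ) : ℚ)) j (m j : ℚ) =
              Function.update (fun l => (i' l : ℚ)) j (m j : ℚ) := by
            funext l
            by_cases hl : l = j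
            · subst hl; simp
            · simp [Function.update_of_ne hl, Pi.single_apply, hl]
          rw [hii']
          rw [map_sub, map_add, eval_aeval_update, eval_aeval_update, hupd]
          rw [map_sub, map_add, eval_aeval_update, eval_aeval_update] at h1
          rw [hcast]
          linarith
      intro i hi hfix
      have hle : m j ≤ i j := hi j
      exact key (i j - m j) i hi hfix (by omega)
  obtain ⟨P, hP⟩ := claim n le_rfl
  exact ⟨P, fun i hi => hP i hi (fun l hl => absurd l.isLt (by omega))⟩

end Groth.Agent.H83.MHS
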