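import Mathlib
universe u
namespace Groth.Agent.H83.ND

theorem span_image_isTwoSided {A : Type u} [CommRing A] (I : Ideal A)
    {E : Type u} [Ring E] [Algebra A E] :
    (Ideal.span (algebraMap A E '' (I : Set A))).IsTwoSided := by
  refine ⟨fun {a} b ha => ?_⟩
  induction ha using Submodule.span_induction with
  | mem x hx =>
    obtain ⟨i, hi, rfl⟩ := hx
    rw [Algebra.commutes]
    exact Ideal.mul_mem_left _ b (Ideal.subset_span ⟨i, hi, rfl⟩)
  | zero => simp
  | add x y _ _ hx hy => rw [add_mul]; exact Ideal.add_mem _ hx hy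
  | smul r x _ hx =>
    rw [smul_eq_mul, mul_assoc]
    exact Ideal.mul_mem_left _ r hx

/-- (AR) the radical ideal of a module-finite algebra modulo an ideal with Artinian quotient -/
theorem exists_semisimple_ideal
    {A : Type u} [CommRing A] (I : Ideal A) [IsArtinianRing (A ⧸ I)]
    {E : Type u} [Ring E] [Algebra A E] [Module.Finite A E] :
    (Ideal.span (algebraMap A E '' (I : Set A))).IsTwoSided ∧
    ∃ (J : Ideal E) (_ : J.IsTwoSided) (n : ℕ),
      J ^ n ≤ Ideal.span (algebraMap A E '' (I : Set A)) ∧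
      ∀ (M : Type u) [AddCommGroup M] [Module E M], (∀ j ∈ J, ∀ m : M, j • m = 0) →
        IsSemisimpleModule E M := by
  have h2 := span_image_isTwoSided I (E := E)
  refine ⟨h2, ?_⟩
  set 𝔫 : Ideal E := Ideal.span (algebraMap A E '' (I : Set A)) with h𝔫
  -- Γ := E ⧸ 𝔫 is an Artinian ring
  have htors : Module.IsTorsionBySet A (E ⧸ 𝔫) (I : Set A) := by
    intro x a
    obtain ⟨e, rfl⟩ := Ideal.Quotient.mk_surjective x
    obtain ⟨a, ha⟩ := a
    change Ideal.Quotient.mk 𝔫 (a • e) = 0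
    rw [Ideal.Quotient.eq_zero_iff_mem, Algebra.smul_def]
    exact h2.mul_mem_of_left e (Ideal.subset_span ⟨a, ha, rfl⟩)
  letI modQ : Module (A ⧸ I) (E ⧸ 𝔫) := htors.module
  have tower : IsScalarTower (A ⧸ I) (E ⧸ 𝔫) (E ⧸ 𝔫) := by
    refine ⟨fun r x y => ?_⟩
    obtain ⟨r, rfl⟩ := Ideal.Quotient.mk_surjective r
    change (r • x) • y = r • (x • y)
    exact smul_assoc r x y
  have tower2 : IsScalarTower A (A ⧸ I) (E ⧸ 𝔫) := by
    refine ⟨fun a r x => ?_⟩
    obtain ⟨r, rfl⟩ := Ideal.Quotient.mk_surjective r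
    change (Ideal.Quotient.mk I (a • r)) • x = a • (r • x)
    change (a • r) • x = a • (r • x)
    exact smul_assoc a r x
  have fin : Module.Finite (A ⧸ I) (E ⧸ 𝔫) := Module.Finite.of_restrictScalars_finite A (A ⧸ I) (E ⧸ 𝔫)
  have art : IsArtinianRing (E ⧸ 𝔫) := IsArtinianRing.of_finite (A ⧸ I) (E ⧸ 𝔫)
  -- the map to the semisimple quotient
  let f : E →+* (E ⧸ 𝔫) ⧸ Ring.jacobson (E ⧸ 𝔫) :=
    (Ideal.Quotient.mk (Ring.jacobson (E ⧸ 𝔫))).comp (Ideal.Quotient.mk 𝔫)
  have hf : Function.Surjective f :=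
    Ideal.Quotient.mk_surjective.comp Ideal.Quotient.mk_surjective
  have hmemJ : ∀ e : E, e ∈ RingHom.ker f ↔ Ideal.Quotient.mk 𝔫 e ∈ Ring.jacobson (E ⧸ 𝔫) := by
    intro e
    rw [RingHom.mem_ker]
    change Ideal.Quotient.mk _ (Ideal.Quotient.mk 𝔫 e) = 0 ↔ _
    rw [Ideal.Quotient.eq_zero_iff_mem]
  obtain ⟨n, hn⟩ := (IsSemiprimaryRing.isNilpotent (R := E ⧸ 𝔫))
  refine ⟨RingHom.ker f, inferInstance, n, ?_, ?_⟩
  · have key : ∀ k : ℕ, (RingHom.ker f) ^ k ≤ ((Ring.jacobson (E ⧸ 𝔫)) ^ k).comap (Ideal.Quotient.mk 𝔫) := by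
      intro k
      induction k with
      | zero =>
        intro x _
        rw [Ideal.mem_comap, Submodule.pow_zero, Ideal.one_eq_top]
        trivial
      | succ k ih =>
        rw [Submodule.pow_succ, Ideal.mul_le]
        intro r hr s hs
        rw [Ideal.mem_comap, map_mul, Submodule.pow_succ]
        exact Ideal.mul_mem_mul (ih hr) ((hmemJ s).1 hs)
    refine (key n).trans ?_
    rw [hn]
    intro x hx
    rw [Ideal.mem_comap, Ideal.zero_eq_bot, Ideal.mem_bot, Ideal.Quotient.eq_zero_iff_mem] at hx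
    exact hx
  · intro M _ _ hM
    have hMt : Module.IsTorsionBySet E M (RingHom.ker f : Set E) := by
      intro m a
      exact hM a.1 a.2 m
    have ss : IsSemisimpleRing (E ⧸ RingHom.ker f) :=
      (RingHom.quotientKerEquivOfSurjective hf).symm.isSemisimpleRing
    letI := hMt.module
    exact hMt.isSemisimpleModule_iff.1 inferInstance

end Groth.Agent.H83.ND
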