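import Mathlib
universe u
namespace Groth.Agent.H83.ND

/-- (SL) semilocal: quotient by Jacobson radical is Artinian -/
theorem isArtinianRing_quotient_jacobson {A : Type u} [CommRing A] (hA : Finite (MaximalSpectrum A)) :
    IsArtinianRing (A ⧸ Ideal.jacobson (⊥ : Ideal A)) := by
  classical
  have h1 : Ideal.jacobson (⊥ : Ideal A) = ⨅ m : MaximalSpectrum A, m.asIdeal := by
    rw [Ideal.jacobson_bot, Ring.jacobson_eq_sInf_isMaximal]
    apply le_antisymm
    · refine le_iInf fun m => sInf_le m.isMaximal
    · refine le_sInf fun I hI => ?_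
      exact iInf_le (fun m : MaximalSpectrum A => m.asIdeal) ⟨I, hI⟩
  rw [h1]
  have hcop : Pairwise (Function.onFun IsCoprime fun m : MaximalSpectrum A => m.asIdeal) := by
    intro m m' hne
    have := m.isMaximal
    have := m'.isMaximal
    exact Ideal.isCoprime_of_isMaximal (fun h => hne (MaximalSpectrum.ext h))
  let e := Ideal.quotientInfRingEquivPiQuotient (fun m : MaximalSpectrum A => m.asIdeal) hcop
  have : ∀ m : MaximalSpectrum A, IsArtinianRing (A ⧸ m.asIdeal) := by
    intro m
    have := m.isMaximal
    letI := Ideal.Quotient.field m.asIdeal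
    infer_instance
  exact e.symm.isArtinianRing

end Groth.Agent.H83.ND
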