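import Mathlib

/-!
# S2499: cyclicity of modules from a kernel condition (semisimple case and nilpotent lifting)
-/

universe u

namespace Groth.Agent.H83.ND

section SS

variable {E : Type u} [Ring E] (J : Ideal E) [J.IsTwoSided]
  {M : Type u} [AddCommGroup M] [Module E M]

/-- `E ⧸ J → M`, `g ↦ g • x`, for a module killed by `J`. -/
noncomputable def sig (hJM : ∀ j ∈ J, ∀ m : M, j • m = 0) (x : M) : (E ⧸ J) →ₗ[E] M :=
  Submodule.liftQ J (LinearMap.toSpanSingleton E M x) (fun j hj => by
    simp [LinearMap.mem_ker, hJM j hj x])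

lemma sig_mk (hJM : ∀ j ∈ J, ∀ m : M, j • m = 0) (x : M) (g : E) :
    sig J hJM x (Submodule.Quotient.mk g) = g • x := rfl

/-- (SS) cyclicity of a semisimple module from the kernel condition -/
theorem exists_span_singleton_eq_top_of_semisimple
    [IsSemisimpleModule E M] [IsNoetherian E M]
    [IsSemisimpleModule E (E ⧸ J)]
    (hJM : ∀ j ∈ J, ∀ m : M, j • m = 0)
    (hyp : ∀ (I : Ideal E) [I.IsTwoSided], J ≤ I → ∀ π : M →ₗ[E] (E ⧸ I),
      Function.Surjective π → LinearMap.ker π ≤ I • (⊤ : Submodule E M)) :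
    ∃ x : M, Submodule.span E {x} = ⊤ := by
  classical
  -- a maximal cyclic submodule
  obtain ⟨P, ⟨x, rfl⟩, hmax⟩ := (wellFounded_gt (α := Submodule E M)).has_min
    {P | ∃ x : M, P = Submodule.span E {x}} ⟨_, 0, rfl⟩
  refine ⟨x, ?_⟩
  by_contra hne
  obtain ⟨Y, hPY⟩ := exists_isCompl (Submodule.span E {x})
  have hY : Y ≠ ⊥ := by
    rintro rfl
    exact hne (by simpa using hPY.sup_eq_top)
  obtain ⟨T, hTY, hT⟩ := (IsSemisimpleModule.eq_bot_or_exists_simple_le Y).resolve_left hY
  have hTbot : T ≠ ⊥ := (isSimpleModule_iff_isAtom.mp hT).1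
  have hTP : Disjoint T (Submodule.span E {x}) := hPY.disjoint.symm.mono_left hTY
  by_cases hA : ∃ θ' : T →ₗ[E] (E ⧸ J), Function.Injective θ' ∧
      LinearMap.range θ' ≤ LinearMap.ker (sig J hJM x)
  · -- Case A: enlarge `x`
    obtain ⟨θ', hθinj, hθK⟩ := hA
    obtain ⟨C', hTC⟩ := exists_isCompl (LinearMap.range θ')
    have h1 : (Submodule.Quotient.mk (1 : E) : E ⧸ J) ∈ LinearMap.range θ' ⊔ C' := by
      rw [hTC.sup_eq_top]; exact Submodule.mem_top
    obtain ⟨n₁, hn₁, c, hc, h1c⟩ := Submodule.mem_sup.mp h1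
    obtain ⟨t₀, rfl⟩ := hn₁
    have hT' : ∀ t : T, (t : M) ∈ Submodule.span E {x + (t₀ : M)} := by
      intro t
      obtain ⟨g, hg⟩ := Submodule.Quotient.mk_surjective J (θ' t)
      have hg1 : g • (Submodule.Quotient.mk (1 : E) : E ⧸ J) = θ' t := by
        rw [← Submodule.Quotient.mk_smul, smul_eq_mul, mul_one]; exact hg
      have hgc : g • c = 0 := by
        have hmem : g • c ∈ LinearMap.range θ' ⊓ C' := by
          refine ⟨?_, C'.smul_mem g hc⟩
          have : g • c = θ' t - g • θ' t₀ := by
            rw [← hg1, ← h1c, smul_add, add_sub_cancel_left]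
          rw [this]
          exact Submodule.sub_mem _ ⟨t, rfl⟩ ((LinearMap.range θ').smul_mem g ⟨t₀, rfl⟩)
        rw [hTC.inf_eq_bot] at hmem
        exact (Submodule.mem_bot E).mp hmem
      have hgt : g • t₀ = t := by
        apply hθinj
        rw [map_smul, ← hg1, ← h1c, smul_add, hgc, add_zero]
      have hgx : g • x = 0 := by
        have := hθK ⟨t, rfl⟩
        rw [LinearMap.mem_ker, ← hg, sig_mk] at this
        exact this
      have : (t : M) = g • (x + (t₀ : M)) := by
        rw [smul_add, hgx, zero_add, ← hgt]; rfl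
      rw [this]
      exact Submodule.smul_mem _ g (Submodule.mem_span_singleton_self _)
    have hx' : x ∈ Submodule.span E {x + (t₀ : M)} := by
      have h := Submodule.sub_mem _
        (Submodule.mem_span_singleton_self (R := E) (x + (t₀ : M))) (hT' t₀)
      rwa [add_sub_cancel_right] at h
    have hle : Submodule.span E {x} ≤ Submodule.span E {x + (t₀ : M)} :=
      (Submodule.span_singleton_le_iff_mem _ _).mpr hx'
    have hlt : Submodule.span E {x} < Submodule.span E {x + (t₀ : M)} := by
      refine lt_of_le_of_ne hle fun heq => hTbot ?_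
      have hTle : T ≤ Submodule.span E {x} := fun t ht => by
        rw [heq]; exact hT' ⟨t, ht⟩
      exact le_bot_iff.mp (hTP le_rfl hTle)
    exact hmax _ ⟨_, rfl⟩ hlt
  · -- Case B: the kernel condition gives a contradiction
    have hJI : J ≤ Module.annihilator E T := fun j hj =>
      Module.mem_annihilator.mpr fun t => Subtype.ext (by simpa using hJM j hj (t : M))
    have hann : ∀ g : E, g • x = 0 → g ∈ Module.annihilator E T := by
      intro g hgx
      by_contra hg
      rw [Module.mem_annihilator] at hg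
      push Not at hg
      obtain ⟨t, ht⟩ := hg
      have hJT : ∀ j ∈ J, ∀ m : T, j • m = 0 := fun j hj m =>
        Subtype.ext (by simpa using hJM j hj (m : M))
      let ρK : LinearMap.ker (sig J hJM x) →ₗ[E] T :=
        (sig J hJT t) ∘ₗ (LinearMap.ker (sig J hJM x)).subtype
      have hmem : (Submodule.Quotient.mk g : E ⧸ J) ∈ LinearMap.ker (sig J hJM x) := by
        rw [LinearMap.mem_ker, sig_mk]; exact hgx
      have hρ : ρK ⟨_, hmem⟩ ≠ 0 := by
        show sig J hJT t (Submodule.Quotient.mk g) ≠ 0
        rw [sig_mk]; exact ht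
      have hsurj : Function.Surjective ρK := by
        rw [← LinearMap.range_eq_top]
        refine (eq_bot_or_eq_top (LinearMap.range ρK)).resolve_left fun hbot => hρ ?_
        have : ρK ⟨_, hmem⟩ ∈ LinearMap.range ρK := ⟨_, rfl⟩
        rw [hbot] at this
        exact (Submodule.mem_bot E).mp this
      obtain ⟨s, hs⟩ := IsSemisimpleModule.lifting_property ρK hsurj LinearMap.id
      refine hA ⟨(LinearMap.ker (sig J hJM x)).subtype ∘ₗ s, ?_, ?_⟩
      · intro a b hab
        have h' : s a = s b := Subtype.ext hab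
        have := congrArg ρK h'
        have e1 : ∀ z, ρK (s z) = z := fun z => LinearMap.congr_fun hs z
        rwa [e1, e1] at this
      · rintro _ ⟨a, rfl⟩
        exact (s a).2
    -- the map π
    let τ : E →ₗ[E] M := LinearMap.toSpanSingleton E M x
    have hτ : LinearMap.range τ = Submodule.span E {x} := LinearMap.range_toSpanSingleton x
    have hPY' : IsCompl (LinearMap.range τ) Y := hτ ▸ hPY
    have hker : LinearMap.ker τ ≤ LinearMap.ker (Module.annihilator E T).mkQ := by
      intro g hg
      rw [Submodule.ker_mkQ]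
      exact hann g (by simpa [τ] using hg)
    let κ : LinearMap.range τ →ₗ[E] (E ⧸ Module.annihilator E T) :=
      ((LinearMap.ker τ).liftQ (Module.annihilator E T).mkQ hker) ∘ₗ
        τ.quotKerEquivRange.symm.toLinearMap
    let π : M →ₗ[E] (E ⧸ Module.annihilator E T) :=
      κ ∘ₗ Submodule.projectionOnto (LinearMap.range τ) Y hPY'
    have hπg : ∀ g : E, π (g • x) = Submodule.Quotient.mk g := by
      intro g
      have hmem : τ g ∈ LinearMap.range τ := ⟨g, rfl⟩
      have h1 : Submodule.projectionOnto (LinearMap.range τ) Y hPY' (g • x) = ⟨τ g, hmem⟩ :=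
        Submodule.projectionOnto_apply_of_mem_left hPY' hmem
      show κ (Submodule.projectionOnto (LinearMap.range τ) Y hPY' (g • x)) = _
      rw [h1]
      show ((LinearMap.ker τ).liftQ (Module.annihilator E T).mkQ hker)
        (τ.quotKerEquivRange.symm ⟨τ g, hmem⟩) = _
      rw [LinearMap.quotKerEquivRange_symm_apply_image]
      simp
    have hπY : ∀ y ∈ Y, π y = 0 := by
      intro y hy
      show κ (Submodule.projectionOnto (LinearMap.range τ) Y hPY' y) = 0
      rw [Submodule.projectionOnto_apply_of_mem_right hPY' hy, map_zero]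
    have hπsurj : Function.Surjective π := by
      intro z
      obtain ⟨g, rfl⟩ := Submodule.Quotient.mk_surjective _ z
      exact ⟨g • x, hπg g⟩
    have hkey := hyp (Module.annihilator E T) hJI π hπsurj
    -- the projection onto `T`
    obtain ⟨C, hTC⟩ := exists_isCompl T
    have hq : ∀ m ∈ Module.annihilator E T • (⊤ : Submodule E M),
        Submodule.projectionOnto T C hTC m = 0 := by
      intro m hm
      refine Submodule.smul_induction_on hm (fun i hi m' _ => ?_) (fun a b ha hb => ?_)
      · rw [map_smul]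
        exact Module.mem_annihilator.mp hi _
      · rw [map_add, ha, hb, add_zero]
    refine hTbot (le_bot_iff.mp fun t ht => ?_)
    have h0 := hq t (hkey (by rw [LinearMap.mem_ker]; exact hπY t (hTY ht)))
    rw [Submodule.projectionOnto_apply_of_mem_left hTC ht] at h0
    have : t = 0 := congrArg Subtype.val h0
    rw [this]; exact Submodule.zero_mem _

end SS

section NK

/-- (NK) relative version with nilpotency -/
theorem exists_span_sup_smul_eq_top
    {E : Type u} [Ring E] (J N : Ideal E) [J.IsTwoSided] [N.IsTwoSided] (n : ℕ) (hJN : J ^ n ≤ N)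
    {X : Type u} [AddCommGroup X] [Module E X] [IsNoetherian E X]
    [IsSemisimpleModule E (E ⧸ J)] [IsSemisimpleModule E (X ⧸ J • (⊤ : Submodule E X))]
    (hyp : ∀ (I : Ideal E) [I.IsTwoSided], J ≤ I → ∀ π : X →ₗ[E] (E ⧸ I),
      Function.Surjective π → LinearMap.ker π ≤ I • (⊤ : Submodule E X)) :
    ∃ x : X, Submodule.span E {x} ⊔ N • (⊤ : Submodule E X) = ⊤ := by
  have hJM : ∀ j ∈ J, ∀ m : X ⧸ J • (⊤ : Submodule E X), j • m = 0 := by
    intro j hj m
    obtain ⟨x, rfl⟩ := Submodule.Quotient.mk_surjective _ m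
    rw [← Submodule.Quotient.mk_smul, Submodule.Quotient.mk_eq_zero]
    exact Submodule.smul_mem_smul hj Submodule.mem_top
  have hypM : ∀ (I : Ideal E) [I.IsTwoSided], J ≤ I →
      ∀ π : (X ⧸ J • (⊤ : Submodule E X)) →ₗ[E] (E ⧸ I), Function.Surjective π →
        LinearMap.ker π ≤ I • (⊤ : Submodule E (X ⧸ J • (⊤ : Submodule E X))) := by
    intro I _ hJI π hπ m hm
    obtain ⟨x, rfl⟩ := Submodule.Quotient.mk_surjective _ m
    have hx : x ∈ LinearMap.ker (π ∘ₗ (J • (⊤ : Submodule E X)).mkQ) := by
      rw [LinearMap.mem_ker] at hm ⊢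
      exact hm
    have := hyp I hJI (π ∘ₗ (J • (⊤ : Submodule E X)).mkQ)
      (hπ.comp (Submodule.mkQ_surjective _)) hx
    refine Submodule.smul_induction_on this (fun i hi x' _ => ?_) (fun a b ha hb => ?_)
    · rw [Submodule.Quotient.mk_smul]
      exact Submodule.smul_mem_smul hi Submodule.mem_top
    · rw [Submodule.Quotient.mk_add]; exact Submodule.add_mem _ ha hb
  obtain ⟨xb, hxb⟩ := exists_span_singleton_eq_top_of_semisimple J hJM hypM
  obtain ⟨x, rfl⟩ := Submodule.Quotient.mk_surjective _ xb
  refine ⟨x, ?_⟩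
  have h1 : Submodule.span E {x} ⊔ J • (⊤ : Submodule E X) = ⊤ := by
    rw [eq_top_iff]
    intro y _
    have hy : (Submodule.Quotient.mk y : X ⧸ J • (⊤ : Submodule E X)) ∈
        Submodule.span E {Submodule.Quotient.mk x} := by rw [hxb]; exact Submodule.mem_top
    obtain ⟨g, hg⟩ := Submodule.mem_span_singleton.mp hy
    rw [← Submodule.Quotient.mk_smul, Submodule.Quotient.eq] at hg
    have : y = g • x + (-(g • x - y)) := by abel
    rw [this]
    exact Submodule.add_mem_sup (Submodule.smul_mem _ g (Submodule.mem_span_singleton_self x))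
      (Submodule.neg_mem _ hg)
  have hk : ∀ k : ℕ, Submodule.span E {x} ⊔ (J ^ k) • (⊤ : Submodule E X) = ⊤ := by
    intro k
    induction k with
    | zero =>
      rw [Submodule.pow_zero, Ideal.one_eq_top, Submodule.top_smul]
      exact sup_top_eq _
    | succ k ih =>
      rw [eq_top_iff]
      calc (⊤ : Submodule E X) = Submodule.span E {x} ⊔ (J ^ k) • (⊤ : Submodule E X) := ih.symm
        _ = Submodule.span E {x} ⊔
            (J ^ k) • (Submodule.span E {x} ⊔ J • (⊤ : Submodule E X)) := by rw [h1]
        _ = Submodule.span E {x} ⊔ ((J ^ k) • Submodule.span E {x} ⊔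
            (J ^ (k + 1)) • (⊤ : Submodule E X)) := by
              rw [Submodule.smul_sup, Submodule.pow_succ, Submodule.mul_smul]
        _ ≤ Submodule.span E {x} ⊔ (J ^ (k + 1)) • (⊤ : Submodule E X) :=
              sup_le le_sup_left (sup_le (Submodule.smul_le_right.trans le_sup_left) le_sup_right)
  rw [eq_top_iff]
  calc (⊤ : Submodule E X) = Submodule.span E {x} ⊔ (J ^ n) • (⊤ : Submodule E X) := (hk n).symm
    _ ≤ Submodule.span E {x} ⊔ N • (⊤ : Submodule E X) :=
        sup_le_sup_left (Submodule.smul_mono_left hJN) _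

end NK

end Groth.Agent.H83.ND
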