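import Mathlib
import Groth.Agent.H57.NoEmb.Defs
import Groth.Agent.H57.RelAssSU.Key
import Groth.Agent.H57.RelAssSU.Bridge
import Groth.Agent.H38.GenericConstr

/-!
# (NEG) for S5871 (helper57): the no-embedded-point locus misses a neighbourhood of the generic
point if it misses the generic point.
-/

set_option autoImplicit false
set_option linter.style.haveILetI false
universe u
open AlgebraicGeometry CategoryTheory Limits TopologicalSpace
open Groth.Agent.H57.NoEmb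

namespace Groth.Agent.H83.NE_NEG

open Groth.Agent.H57.RelAssSU

/-- The image of the closure of a point over the generic point contains a neighbourhood of the
generic point. -/
theorem exists_open_subset_image_closure {X S : Scheme.{u}} [IsIntegral S] [IsNoetherian S]
    (f : X ⟶ S) [LocallyOfFiniteType f] [QuasiCompact f] (x₀ : X)
    (hx₀ : f x₀ = genericPoint S) :
    ∃ V : S.Opens, genericPoint S ∈ V ∧ ∀ s ∈ V, ∃ x₁ : X, x₀ ⤳ x₁ ∧ f x₁ = s := by
  haveI : IsLocallyNoetherian X := LocallyOfFiniteType.isLocallyNoetherian f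
  haveI : CompactSpace X := QuasiCompact.compactSpace_of_compactSpace f
  haveI : IsNoetherian X := { }
  haveI : LocallyOfFinitePresentation f := inferInstance
  have h1 : Topology.IsConstructible (closure ({x₀} : Set X)) :=
    Groth.Agent.H38.GenericConstr.isConstructible_of_isClosed isClosed_closure
  have h2 : Topology.IsConstructible (f '' closure ({x₀} : Set X)) :=
    f.isConstructible_image h1
  have hgen : IsGenericPoint (genericPoint S) (Set.univ : Set S) := genericPoint_spec S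
  obtain ⟨U, hU, hηU, hUC⟩ :=
    (Groth.Agent.H38.GenericConstr.nhds_or_of_isConstructible hgen h2).1
      ⟨x₀, subset_closure rfl, hx₀⟩
  refine ⟨⟨U, hU⟩, hηU, fun s hs => ?_⟩
  obtain ⟨x₁, hx₁, rfl⟩ := hUC hs
  exact ⟨x₁, specializes_iff_mem_closure.2 hx₁, rfl⟩

/-- (NEG). -/
theorem neg_generic {X S : Scheme.{u}} [IsIntegral S] [IsNoetherian S]
    (f : X ⟶ S) [LocallyOfFiniteType f] [QuasiCompact f]
    (F : X.Modules) (hF : Coh.IsCoh F) (hη : genericPoint S ∉ NE f F) :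
    ∃ U : S.Opens, genericPoint S ∈ U ∧ ∀ s ∈ U, s ∉ NE f F := by
  haveI : F.IsQuasicoherent := hF.1
  have hη' : ¬ AssSch.NoEmbedded
      ((Scheme.Modules.pullback (f.fiberι (genericPoint S))).obj F) := hη
  unfold AssSch.NoEmbedded at hη'
  push_neg at hη'
  obtain ⟨zx, hzx, zy, hzy, hsp, hne⟩ := hη'
  have hx₀ : f.fiberι (genericPoint S) zx ∈ MoreMor.relAss f F :=
    (mem_ass_fiber_iff f F _ zx).1 hzx
  have hy₀ : f.fiberι (genericPoint S) zy ∈ MoreMor.relAss f F :=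
    (mem_ass_fiber_iff f F _ zy).1 hzy
  have hfx₀ := fiberι_apply_fiber f (genericPoint S) zx
  have hfy₀ := fiberι_apply_fiber f (genericPoint S) zy
  have hsp₀ := (fiberι_specializes_iff f (genericPoint S) zx zy).2 hsp
  have hne₀ : f.fiberι (genericPoint S) zx ≠ f.fiberι (genericPoint S) zy :=
    fun h => hne (fiberι_injective f _ h)
  generalize f.fiberι (genericPoint S) zx = x₀ at hx₀ hfx₀ hsp₀ hne₀
  generalize f.fiberι (genericPoint S) zy = y₀ at hy₀ hfy₀ hsp₀ hne₀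
  have hnsp : ¬ x₀ ⤳ y₀ := fun h => hne₀ (h.antisymm hsp₀).eq
  obtain ⟨U, hηU, K1, -, K3⟩ := key f F hF
  obtain ⟨V, hηV, hV⟩ := exists_open_subset_image_closure f x₀ hfx₀
  refine ⟨U ⊓ V, ⟨hηU, hηV⟩, ?_⟩
  rintro s ⟨hsU, hsV⟩ hs
  obtain ⟨x₁, hx₁, hfx₁⟩ := hV s hsV
  obtain ⟨w, hx₀w, hwx₁, hfw, hwmin⟩ := exists_fibMin f x₀ x₁ hx₁
  have hfw' : f w = s := hfw.trans hfx₁
  have hw : w ∈ MoreMor.relAss f F := K1 x₀ w hx₀ hfx₀ hx₀w (by rw [hfw']; exact hsU) hwmin
  have hy₀w : y₀ ⤳ w := hsp₀.trans hx₀w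
  obtain ⟨v, hy₀v, hvw, hfv, hvmin⟩ := exists_fibMin f y₀ w hy₀w
  have hfv' : f v = s := hfv.trans hfw'
  have hv : v ∈ MoreMor.relAss f F := K1 y₀ v hy₀ hfy₀ hy₀v (by rw [hfv']; exact hsU) hvmin
  have hnv : ¬ x₀ ⤳ v :=
    K3 y₀ x₀ v hy₀ hfy₀ hx₀ hfx₀ hnsp hy₀v (by rw [hfv']; exact hsU) hvmin
  have hvw_ne : w ≠ v := fun h => hnv (h ▸ hx₀w)
  obtain ⟨zw, hzw⟩ := exists_fiberι_eq f s w hfw'
  obtain ⟨zv, hzv⟩ := exists_fiberι_eq f s v hfv'
  have h1 : zw ∈ AssSch.Ass ((Scheme.Modules.pullback (f.fiberι s)).obj F) :=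
    (mem_ass_fiber_iff f F s zw).2 (by rw [hzw]; exact hw)
  have h2 : zv ∈ AssSch.Ass ((Scheme.Modules.pullback (f.fiberι s)).obj F) :=
    (mem_ass_fiber_iff f F s zv).2 (by rw [hzv]; exact hv)
  have h3 : zv ⤳ zw := (fiberι_specializes_iff f s zw zv).1 (by rw [hzw, hzv]; exact hvw)
  have h4 : zw = zv := hs zw h1 zv h2 h3
  exact hvw_ne (by rw [← hzw, ← hzv, h4])

end Groth.Agent.H83.NE_NEG
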