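import Mathlib
import Groth.Agent.H83.NilLiftB

/-!
# Lifting across nil ideals for groups of multiplicative type: global statements (helper83)

`R` a ring, `I` an ideal of nilpotent elements, `A` a Hopf algebra of multiplicative type over `R`.
* `gl_unique`: group-like elements of `A` congruent modulo `I` are equal.
* `exists_gl_lift`: an element of `A` which is group-like modulo `I` is congruent to a group-like element.
* `bijective_lift`: a family of group-likes `χ : M →* A` which is "a basis modulo `I`" is a basis.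
* `isDiag_of_quot`: if `(R ⧸ I) ⊗ A ≅ (R ⧸ I)[M]` then `A ≅ R[M]`.
-/

set_option autoImplicit false

universe u

open TensorProduct

namespace Groth.Agent.H83.NilLift

section Basic

variable {R : Type u} [CommRing R]

theorem lin_mem_of_mem_smul_top {E : Type*} [AddCommGroup E] [Module R E] (J : Ideal R)
    (φ : E →ₗ[R] R) {x : E} (hx : x ∈ J • (⊤ : Submodule R E)) : φ x ∈ J := by
  refine Submodule.smul_induction_on hx ?_ ?_
  · intro r hr n _
    rw [map_smul, smul_eq_mul]
    exact J.mul_mem_right _ hr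
  · intro a b ha hb
    rw [map_add]
    exact J.add_mem ha hb

theorem exists_fg_le_of_mem_smul_top {E : Type*} [AddCommGroup E] [Module R E] (I : Ideal R)
    {x : E} (hx : x ∈ I • (⊤ : Submodule R E)) :
    ∃ I₀ : Ideal R, I₀.FG ∧ I₀ ≤ I ∧ x ∈ I₀ • (⊤ : Submodule R E) := by
  refine Submodule.smul_induction_on hx ?_ ?_
  · intro r hr n _
    refine ⟨Ideal.span {r}, Submodule.fg_span_singleton r, ?_, ?_⟩
    · exact Ideal.span_le.2 (Set.singleton_subset_iff.2 hr)
    · exact Submodule.smul_mem_smul (Ideal.subset_span (Set.mem_singleton r)) Submodule.mem_top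
  · rintro a b ⟨I₁, h1, h1', ha⟩ ⟨I₂, h2, h2', hb⟩
    refine ⟨I₁ ⊔ I₂, Submodule.FG.sup h1 h2, sup_le h1' h2', ?_⟩
    exact Submodule.add_mem _ (Submodule.smul_mono_left le_sup_left ha)
      (Submodule.smul_mono_left le_sup_right hb)

end Basic

section LkDef

variable (S : Type u) [CommRing S] (B : Type u) [CommRing B] [Bialgebra S B]

/-- The linearised obstruction `v ↦ (a ⊗ a) * (Δ v - v ⊗ 1 - 1 ⊗ v)`. -/
noncomputable def Lk (a : B) : B →ₗ[S] B ⊗[S] B :=
  LinearMap.mulLeft S (a ⊗ₜ[S] a) ∘ₗ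
    ((Coalgebra.comul : B →ₗ[S] B ⊗[S] B) - (TensorProduct.mk S B B).flip 1 -
      TensorProduct.mk S B B 1)

theorem Lk_apply (a v : B) :
    Lk S B a v = (a ⊗ₜ[S] a) *
      (Coalgebra.comul (R := S) v - v ⊗ₜ[S] (1 : B) - (1 : B) ⊗ₜ[S] v) := rfl

end LkDef

section Transfer2

variable {R K : Type u} [CommRing R] [CommRing K] [Algebra R K] {A : Type u} [CommRing A]
  [HopfAlgebra R A] {N : Type u} [CommGroup N] (e : (K ⊗[R] A) ≃ₐc[K] MonoidAlgebra K N)

theorem tau2_Lk (a x : A) :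
    tau2 e (Lk R A a x) = Lk K (MonoidAlgebra K N) (tau e a) (tau e x) := by
  rw [Lk_apply, Lk_apply, tau2_mul, tau2_sub, tau2_sub, tau2_comul, tau2_tmul, tau2_tmul,
    tau2_tmul, tau_one]

end Transfer2

section Main

variable {R : Type u} [CommRing R] {A : Type u} [CommRing A] [HopfAlgebra R A]

/-- Group-like elements congruent modulo a nil ideal are equal. -/
theorem gl_unique (h : SGA3b.IsMultType R A) {I : Ideal R} (hI : ∀ x ∈ I, IsNilpotent x)
    {g g' : A} (hg : IsGroupLikeElem R g) (hg' : IsGroupLikeElem R g')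
    (hd : g - g' ∈ I • (⊤ : Submodule R A)) : g = g' := by
  rw [← sub_eq_zero]
  apply eq_zero_of_isMultType h (g - g')
  intro K _ _ _ N _ e
  apply EquivLike.injective e
  rw [map_zero]
  show tau e (g - g') = 0
  rw [tau_sub, sub_eq_zero]
  apply gl_eq_of_sub_mem (isNilpotent_of_mem_map (K := K) hI) (tau_gl e hg) (tau_gl e hg')
  rw [← tau_sub]
  exact tau_mem e I hd

theorem comul_sub_mem (h : SGA3b.IsMultType R A) {I₀ : Ideal R}
    (hI₀ : ∀ x ∈ I₀, IsNilpotent x) (k : ℕ) (hk : 1 ≤ k) {a : A}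
    (hε : Coalgebra.counit (R := R) a - 1 ∈ I₀)
    (hc : Coalgebra.comul (R := R) a - a ⊗ₜ[R] a ∈
      (I₀ ^ k) • (⊤ : Submodule R (A ⊗[R] A))) :
    Coalgebra.comul (R := R) a - a ⊗ₜ[R] a ∈
      Submodule.map (Lk R A a) ((I₀ ^ k) • (⊤ : Submodule R A)) ⊔
        (I₀ ^ (k + 1)) • (⊤ : Submodule R (A ⊗[R] A)) := by
  obtain ⟨W, hW⟩ : ∃ W : Submodule R (A ⊗[R] A),
      W = Submodule.map (Lk R A a) ((I₀ ^ k) • (⊤ : Submodule R A)) ⊔
        (I₀ ^ (k + 1)) • (⊤ : Submodule R (A ⊗[R] A)) := ⟨_, rfl⟩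
  rw [← hW]
  obtain ⟨c, hcdef⟩ : ∃ c : A ⊗[R] A, c = Coalgebra.comul (R := R) a - a ⊗ₜ[R] a := ⟨_, rfl⟩
  rw [← hcdef] at hc ⊢
  have hW1 : ∀ v ∈ (I₀ ^ k) • (⊤ : Submodule R A), Lk R A a v ∈ W := by
    intro v hv
    rw [hW]
    exact Submodule.mem_sup_left (Submodule.mem_map_of_mem hv)
  have hW2 : (I₀ ^ (k + 1)) • (⊤ : Submodule R (A ⊗[R] A)) ≤ W := by
    rw [hW]
    exact le_sup_right
  refine (Submodule.Quotient.mk_eq_zero W).1 (eq_zero_of_isMultType h _ ?_)
  intro K _ _ _ N _ e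
  have hβ : ∀ (κ : K) (t : A ⊗[R] A),
      (W.mkQ.baseChange K) (κ ⊗ₜ[R] t) = κ ⊗ₜ[R] (W.mkQ t) :=
    fun κ t => LinearMap.baseChange_tmul W.mkQ κ t
  let S : Submodule K (MonoidAlgebra K N ⊗[K] MonoidAlgebra K N) :=
    Submodule.comap ((Xi e).symm.toLinearMap) (LinearMap.ker (W.mkQ.baseChange K))
  have hSdef : ∀ y, y ∈ S ↔ (W.mkQ.baseChange K) ((Xi e).symm y) = 0 := fun y => Iff.rfl
  have hS : ∀ w ∈ W, tau2 e w ∈ S := by
    intro w hw
    rw [hSdef]
    unfold tau2
    rw [LinearEquiv.symm_apply_apply, hβ, Submodule.mkQ_apply,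
      (Submodule.Quotient.mk_eq_zero W).2 hw, TensorProduct.tmul_zero]
  suffices hmem : tau2 e c ∈ S by
    rw [hSdef] at hmem
    unfold tau2 at hmem
    rw [LinearEquiv.symm_apply_apply, hβ, Submodule.mkQ_apply] at hmem
    exact hmem
  obtain ⟨b, hb⟩ : ∃ b : MonoidAlgebra K N, b = tau e a := ⟨_, rfl⟩
  have hJ : ∀ x ∈ I₀.map (algebraMap R K), IsNilpotent x := isNilpotent_of_mem_map hI₀
  have hτc : tau2 e c = Coalgebra.comul (R := K) b - b ⊗ₜ[K] b := by
    rw [hcdef, tau2_sub, tau2_comul, tau2_tmul, hb]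
  have hεb : Coalgebra.counit (R := K) b - 1 ∈ I₀.map (algebraMap R K) := by
    rw [hb, tau_counit, ← map_one (algebraMap R K), ← map_sub]
    exact Ideal.mem_map_of_mem _ hε
  have hcb : Coalgebra.comul (R := K) b - b ⊗ₜ[K] b ∈ ((I₀.map (algebraMap R K)) ^ k) •
      (⊤ : Submodule K (MonoidAlgebra K N ⊗[K] MonoidAlgebra K N)) := by
    rw [← hτc, ← Ideal.map_pow]
    exact tau2_mem e (I₀ ^ k) hc
  obtain ⟨v, hv, hcl⟩ := claimB hJ k hk hεb hcb
  have hcl' : Coalgebra.comul (R := K) b - b ⊗ₜ[K] b - Lk K (MonoidAlgebra K N) b v ∈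
      ((I₀.map (algebraMap R K)) ^ (k + 1)) •
        (⊤ : Submodule K (MonoidAlgebra K N ⊗[K] MonoidAlgebra K N)) := by
    rw [Lk_apply]
    exact hcl
  have hi : ((I₀.map (algebraMap R K)) ^ (k + 1)) •
      (⊤ : Submodule K (MonoidAlgebra K N ⊗[K] MonoidAlgebra K N)) ≤ S := by
    rw [← Ideal.map_pow]
    apply map_smul_top_le
    intro i hi y
    let S₁ : Submodule K (MonoidAlgebra K N ⊗[K] MonoidAlgebra K N) :=
      Submodule.comap (DistribMulAction.toLinearMap K _ (algebraMap R K i)) S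
    have hy : y ∈ S₁ := by
      apply mem_of_forall_tau2 e S₁
      intro t
      show algebraMap R K i • tau2 e t ∈ S
      rw [← tau2_smul]
      apply hS
      exact hW2 (Submodule.smul_mem_smul hi Submodule.mem_top)
    exact hy
  have hii : (((I₀.map (algebraMap R K)) ^ k) • (⊤ : Submodule K (MonoidAlgebra K N))) ≤
      Submodule.comap (Lk K (MonoidAlgebra K N) b) S := by
    rw [← Ideal.map_pow]
    apply map_smul_top_le
    intro i hi y
    let S₂ : Submodule K (MonoidAlgebra K N) :=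
      Submodule.comap ((Lk K (MonoidAlgebra K N) b) ∘ₗ
        DistribMulAction.toLinearMap K _ (algebraMap R K i)) S
    have hy : y ∈ S₂ := by
      apply mem_of_forall_tau e S₂
      intro x
      show Lk K (MonoidAlgebra K N) b (algebraMap R K i • tau e x) ∈ S
      rw [← tau_smul, hb, ← tau2_Lk]
      apply hS
      exact hW1 _ (Submodule.smul_mem_smul hi Submodule.mem_top)
    exact hy
  rw [hτc]
  have hsplit : Coalgebra.comul (R := K) b - b ⊗ₜ[K] b =
      (Coalgebra.comul (R := K) b - b ⊗ₜ[K] b - Lk K (MonoidAlgebra K N) b v) +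
        Lk K (MonoidAlgebra K N) b v := by abel
  rw [hsplit]
  exact S.add_mem (hi hcl') (hii hv)

theorem lift_step (h : SGA3b.IsMultType R A) {I₀ : Ideal R} (hI₀ : ∀ x ∈ I₀, IsNilpotent x)
    (a₀ : A) (h0 : Coalgebra.counit (R := R) a₀ - 1 ∈ I₀) (k : ℕ) (hk : 1 ≤ k)
    (ih : ∃ a : A, a - a₀ ∈ I₀ • (⊤ : Submodule R A) ∧
      Coalgebra.comul (R := R) a - a ⊗ₜ[R] a ∈ (I₀ ^ k) • (⊤ : Submodule R (A ⊗[R] A))) :
    ∃ a : A, a - a₀ ∈ I₀ • (⊤ : Submodule R A) ∧
      Coalgebra.comul (R := R) a - a ⊗ₜ[R] a ∈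
        (I₀ ^ (k + 1)) • (⊤ : Submodule R (A ⊗[R] A)) := by
  obtain ⟨a, ha, hc⟩ := ih
  have hε : Coalgebra.counit (R := R) a - 1 ∈ I₀ := by
    have h1 : Coalgebra.counit (R := R) (a - a₀) ∈ I₀ :=
      lin_mem_of_mem_smul_top I₀ Coalgebra.counit ha
    have h2 : Coalgebra.counit (R := R) a - 1 =
        Coalgebra.counit (R := R) (a - a₀) + (Coalgebra.counit (R := R) a₀ - 1) := by
      rw [map_sub]
      ring
    rw [h2]
    exact I₀.add_mem h1 h0
  have hW := comul_sub_mem h hI₀ k hk hε hc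
  obtain ⟨y, hy, r, hr, hyr⟩ := Submodule.mem_sup.1 hW
  obtain ⟨v, hv, rfl⟩ := (Submodule.mem_map).1 hy
  have hle1 : (I₀ ^ k) • (⊤ : Submodule R A) ≤ I₀ • (⊤ : Submodule R A) := by
    have := pow_smul_top_le (E := A) I₀ hk
    rwa [pow_one] at this
  refine ⟨a - a * v, ?_, ?_⟩
  · have h3 : a - a * v - a₀ = (a - a₀) - a * v := by ring
    rw [h3]
    exact Submodule.sub_mem _ ha (hle1 (mul_mem_smul_top _ a hv))
  · let Δ := Bialgebra.comulAlgHom R A
    let ιL : A →ₐ[R] A ⊗[R] A := Algebra.TensorProduct.includeLeft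
    let ιR : A →ₐ[R] A ⊗[R] A := Algebra.TensorProduct.includeRight
    have e2 : ∀ x y : A, x ⊗ₜ[R] y = ιL x * ιR y := by
      intro x y
      show x ⊗ₜ[R] y = (x ⊗ₜ[R] 1) * (1 ⊗ₜ[R] y)
      rw [Algebra.TensorProduct.tmul_mul_tmul, mul_one, one_mul]
    have hcr : Δ a - ιL a * ιR a = ιL a * ιR a * (Δ v - ιL v - ιR v) + r := by
      have h3 := hyr.symm
      rw [Lk_apply] at h3
      rw [← e2]
      exact h3
    have hD : Δ v ∈ (I₀ ^ k) • (⊤ : Submodule R (A ⊗[R] A)) :=
      map_mem_smul_top _ Δ.toLinearMap hv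
    have hV1 : ιL v ∈ (I₀ ^ k) • (⊤ : Submodule R (A ⊗[R] A)) :=
      map_mem_smul_top _ ιL.toLinearMap hv
    have hV2 : ιR v ∈ (I₀ ^ k) • (⊤ : Submodule R (A ⊗[R] A)) :=
      map_mem_smul_top _ ιR.toLinearMap hv
    have key : Δ (a - a * v) - ιL (a - a * v) * ιR (a - a * v) =
        r - (Δ a - ιL a * ιR a) * Δ v - ιL a * ιR a * (ιL v * ιR v) := by
      simp only [map_sub, map_mul]
      linear_combination hcr
    rw [e2 (a - a * v) (a - a * v)]
    change Δ (a - a * v) - ιL (a - a * v) * ιR (a - a * v) ∈ _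
    rw [key]
    have h2k : (I₀ ^ k * I₀ ^ k) ≤ I₀ ^ (k + 1) := by
      rw [← pow_add]
      exact Ideal.pow_le_pow_right (by omega)
    have hc' : Δ a - ιL a * ιR a ∈ (I₀ ^ k) • (⊤ : Submodule R (A ⊗[R] A)) := by
      rw [← e2]
      exact hc
    refine Submodule.sub_mem _ (Submodule.sub_mem _ hr ?_) ?_
    · exact Submodule.smul_mono_left h2k (mul_mem_smul_top_mul hc' hD)
    · exact mul_mem_smul_top _ _ (Submodule.smul_mono_left h2k (mul_mem_smul_top_mul hV1 hV2))

/-- Lifting group-like elements across a nil ideal. -/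
theorem exists_gl_lift (h : SGA3b.IsMultType R A) {I : Ideal R} (hI : ∀ x ∈ I, IsNilpotent x)
    (a₀ : A) (h1 : Coalgebra.counit (R := R) a₀ - 1 ∈ I)
    (h2 : Coalgebra.comul (R := R) a₀ - a₀ ⊗ₜ[R] a₀ ∈ I • (⊤ : Submodule R (A ⊗[R] A))) :
    ∃ g : A, IsGroupLikeElem R g ∧ g - a₀ ∈ I • (⊤ : Submodule R A) := by
  obtain ⟨I₁, hfg1, hle1, hmem1⟩ := exists_fg_le_of_mem_smul_top I h2
  obtain ⟨I₀, hfg, hle, hmem, hε0⟩ : ∃ I₀ : Ideal R, I₀.FG ∧ I₀ ≤ I ∧
      Coalgebra.comul (R := R) a₀ - a₀ ⊗ₜ[R] a₀ ∈ I₀ • (⊤ : Submodule R (A ⊗[R] A)) ∧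
      Coalgebra.counit (R := R) a₀ - 1 ∈ I₀ :=
    ⟨I₁ ⊔ Ideal.span {Coalgebra.counit (R := R) a₀ - 1},
      Submodule.FG.sup hfg1 (Submodule.fg_span_singleton _),
      sup_le hle1 (Ideal.span_le.2 (Set.singleton_subset_iff.2 h1)),
      Submodule.smul_mono_left le_sup_left hmem1,
      Submodule.mem_sup_right (Ideal.subset_span (Set.mem_singleton _))⟩
  have hI₀ : ∀ x ∈ I₀, IsNilpotent x := fun x hx => hI x (hle hx)
  have hnil : IsNilpotent I₀ :=
    (Ideal.FG.isNilpotent_iff_le_nilradical hfg).2 (fun x hx => mem_nilradical.2 (hI₀ x hx))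
  obtain ⟨n, hn⟩ := hnil
  have all : ∀ k : ℕ, 1 ≤ k → ∃ a : A, a - a₀ ∈ I₀ • (⊤ : Submodule R A) ∧
      Coalgebra.comul (R := R) a - a ⊗ₜ[R] a ∈ (I₀ ^ k) • (⊤ : Submodule R (A ⊗[R] A)) := by
    intro k hk
    induction k, hk using Nat.le_induction with
    | base =>
      refine ⟨a₀, ?_, ?_⟩
      · rw [sub_self]
        exact Submodule.zero_mem _
      · rw [pow_one]
        exact hmem
    | succ k hk ih => exact lift_step h hI₀ a₀ hε0 k hk ih
  obtain ⟨a, ha, hc⟩ := all (max n 1) (le_max_right _ _)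
  have hc0 : Coalgebra.comul (R := R) a - a ⊗ₜ[R] a = 0 := by
    have hle2 := pow_smul_top_le (E := A ⊗[R] A) I₀ (le_max_left n 1)
    have h3 := hle2 hc
    rw [hn, Ideal.zero_eq_bot, Submodule.bot_smul] at h3
    exact (Submodule.mem_bot R).1 h3
  have hcom : Coalgebra.comul (R := R) a = a ⊗ₜ[R] a := sub_eq_zero.1 hc0
  have hεa : Coalgebra.counit (R := R) a - 1 ∈ I₀ := by
    have h3 : Coalgebra.counit (R := R) (a - a₀) ∈ I₀ :=
      lin_mem_of_mem_smul_top I₀ Coalgebra.counit ha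
    have h4 : Coalgebra.counit (R := R) a - 1 =
        Coalgebra.counit (R := R) (a - a₀) + (Coalgebra.counit (R := R) a₀ - 1) := by
      rw [map_sub]
      ring
    rw [h4]
    exact I₀.add_mem h3 hε0
  have hsm : Coalgebra.counit (R := R) a • a = a := by
    have h3 := Coalgebra.rTensor_counit_comul (R := R) a
    rw [hcom, LinearMap.rTensor_tmul] at h3
    have h4 := congrArg (TensorProduct.lid R A) h3
    rwa [TensorProduct.lid_tmul, TensorProduct.lid_tmul, one_smul] at h4
  have hidem : IsIdempotentElem (Coalgebra.counit (R := R) a) := by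
    have h5 := congrArg (Coalgebra.counit (R := R)) hsm
    rwa [map_smul, smul_eq_mul] at h5
  have hone : Coalgebra.counit (R := R) a = 1 :=
    eq_of_isNilpotent_sub_of_isIdempotentElem hidem IsIdempotentElem.one (hI₀ _ hεa)
  exact ⟨a, ⟨hone, hcom⟩, Submodule.smul_mono_left hle ha⟩

/-- A family of group-likes which is a basis modulo a nil ideal is a basis. -/
theorem bijective_lift (h : SGA3b.IsMultType R A) {I : Ideal R} (hI : ∀ x ∈ I, IsNilpotent x)
    {M : Type u} [CommGroup M] (χ : M →* A) (hgl : ∀ m, IsGroupLikeElem R (χ m))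
    (hind : ∀ m m' : M, m ≠ m' → ∀ r : R, r • (χ m - χ m') = 0 → r ∈ I)
    (hsurj : ∀ a : A, ∃ y : MonoidAlgebra R M,
      a - MonoidAlgebra.lift R A M χ y ∈ I • (⊤ : Submodule R A)) :
    Function.Bijective (MonoidAlgebra.lift R A M χ) := by
  classical
  obtain ⟨φ, hφ⟩ : ∃ φ : MonoidAlgebra R M →ₐ[R] A, φ = MonoidAlgebra.lift R A M χ := ⟨_, rfl⟩
  rw [← hφ] at hsurj ⊢
  have hφs : ∀ (m : M) (r : R), φ (MonoidAlgebra.single m r) = r • χ m := by
    intro m r
    rw [hφ, MonoidAlgebra.lift_single]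
  have local_ : ∀ (K : Type u) [CommRing K] [Algebra R K] [Module.Flat R K] (N : Type u)
      [CommGroup N] (e : (K ⊗[R] A) ≃ₐc[K] MonoidAlgebra K N),
      ∃ ψ : MonoidAlgebra K M →ₗ[K] MonoidAlgebra K N, Function.Bijective ψ ∧
        (∀ (m : M) (u : K), ψ (MonoidAlgebra.single m u) = u • tau e (χ m)) ∧
        (∀ x : MonoidAlgebra R M, ∃ xK : MonoidAlgebra K M, ψ xK = tau e (φ x) ∧
          ∀ m, xK.coeff m = algebraMap R K (x.coeff m)) := by
    intro K _ _ _ N _ e
    let χK : M →* MonoidAlgebra K N :=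
      { toFun := fun m => tau e (χ m)
        map_one' := by rw [map_one, tau_one]
        map_mul' := fun m m' => by rw [map_mul, tau_mul] }
    let ψ : MonoidAlgebra K M →ₗ[K] MonoidAlgebra K N :=
      (MonoidAlgebra.lift K (MonoidAlgebra K N) M χK).toLinearMap
    have hψs : ∀ (m : M) (u : K), ψ (MonoidAlgebra.single m u) = u • tau e (χ m) := by
      intro m u
      show MonoidAlgebra.lift K (MonoidAlgebra K N) M χK (MonoidAlgebra.single m u) = _
      rw [MonoidAlgebra.lift_single]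
      rfl
    have hψ1 : ∀ m, ψ (MonoidAlgebra.single m 1) = tau e (χ m) := by
      intro m
      rw [hψs, one_smul]
    have hstar : ∀ x : MonoidAlgebra R M, ∃ xK : MonoidAlgebra K M, ψ xK = tau e (φ x) ∧
        ∀ m, xK.coeff m = algebraMap R K (x.coeff m) := by
      intro x
      induction x using MonoidAlgebra.induction_linear with
      | zero =>
        refine ⟨0, ?_, ?_⟩
        · rw [map_zero, map_zero, tau_zero]
        · intro m
          rw [MonoidAlgebra.coeff_zero, MonoidAlgebra.coeff_zero, Finsupp.zero_apply,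
            Finsupp.zero_apply, map_zero]
      | add f g hf hg =>
        obtain ⟨fK, hf1, hf2⟩ := hf
        obtain ⟨gK, hg1, hg2⟩ := hg
        refine ⟨fK + gK, ?_, ?_⟩
        · rw [map_add, map_add, tau_add, hf1, hg1]
        · intro m
          rw [MonoidAlgebra.coeff_add, MonoidAlgebra.coeff_add, Finsupp.add_apply,
            Finsupp.add_apply, map_add, hf2, hg2]
      | single m r =>
        refine ⟨MonoidAlgebra.single m (algebraMap R K r), ?_, ?_⟩
        · rw [hψs, hφs, tau_smul]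
        · intro m'
          rw [MonoidAlgebra.coeff_single, MonoidAlgebra.coeff_single, Finsupp.single_apply,
            Finsupp.single_apply]
          split_ifs
          · rfl
          · rw [map_zero]
    have hJ : ∀ x ∈ I.map (algebraMap R K), IsNilpotent x := isNilpotent_of_mem_map hI
    have hbij : Function.Bijective ψ := by
      apply bijective_of_gl hJ ψ
      · intro m
        rw [hψ1]
        exact tau_gl e (hgl m)
      · intro m m' hne u hu
        rw [hψ1, hψ1, ← tau_sub] at hu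
        have h3 : u • ((1 : K) ⊗ₜ[R] (χ m - χ m')) = 0 := by
          apply EquivLike.injective e
          rw [map_smul, map_zero]
          exact hu
        have h4 := DiagSub.mem_map_ann_of_smul_eq_zero (χ m - χ m') u h3
        refine Ideal.map_mono ?_ h4
        intro r hr
        exact hind m m' hne r (DiagSub.mem_ann.1 hr)
      · intro b
        let S : Submodule K (MonoidAlgebra K N) :=
          LinearMap.range ψ ⊔ (I.map (algebraMap R K)) • (⊤ : Submodule K (MonoidAlgebra K N))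
        have hb : b ∈ S := by
          apply mem_of_forall_tau e S
          intro a
          obtain ⟨y, hy⟩ := hsurj a
          obtain ⟨yK, hyK, _⟩ := hstar y
          have h5 : tau e a = ψ yK + tau e (a - φ y) := by
            rw [hyK, ← tau_add]
            congr 1
            abel
          rw [h5]
          exact S.add_mem (Submodule.mem_sup_left ⟨yK, rfl⟩)
            (Submodule.mem_sup_right (tau_mem e I hy))
        obtain ⟨y1, ⟨y, rfl⟩, j, hj, hyj⟩ := Submodule.mem_sup.1 hb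
        refine ⟨y, ?_⟩
        rw [← hyj, add_sub_cancel_left]
        exact hj
    exact ⟨ψ, hbij, hψs, hstar⟩
  refine ⟨(injective_iff_map_eq_zero φ).2 ?_, ?_⟩
  · intro x hx
    apply MonoidAlgebra.coeff_injective
    ext m₀
    rw [MonoidAlgebra.coeff_zero, Finsupp.zero_apply]
    apply eq_zero_of_isMultType h (x.coeff m₀)
    intro K _ _ _ N _ e
    obtain ⟨ψ, hbij, _, hstar⟩ := local_ K N e
    obtain ⟨xK, h1, h2⟩ := hstar x
    rw [hx, tau_zero] at h1
    have h3 : xK = 0 := hbij.1 (by rw [h1, map_zero])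
    have h4 : algebraMap R K (x.coeff m₀) = 0 := by
      rw [← h2, h3, MonoidAlgebra.coeff_zero, Finsupp.zero_apply]
    have h5 : (1 : K) ⊗ₜ[R] (x.coeff m₀) = (algebraMap R K (x.coeff m₀)) ⊗ₜ[R] (1 : R) := by
      rw [Algebra.algebraMap_eq_smul_one, TensorProduct.smul_tmul, smul_eq_mul, mul_one]
    rw [h5, h4, TensorProduct.zero_tmul]
  · intro a
    obtain ⟨P, hP⟩ : ∃ P : Submodule R A, P = LinearMap.range φ.toLinearMap := ⟨_, rfl⟩
    have hmem : a ∈ P := by
      refine (Submodule.Quotient.mk_eq_zero P).1 (eq_zero_of_isMultType h _ ?_)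
      intro K _ _ _ N _ e
      obtain ⟨ψ, hbij, hψs, hstar⟩ := local_ K N e
      let eL : (K ⊗[R] A) ≃ₗ[K] MonoidAlgebra K N := e.toCoalgEquiv.toLinearEquiv
      let T : Submodule K (MonoidAlgebra K N) :=
        Submodule.comap eL.symm.toLinearMap (LinearMap.ker (P.mkQ.baseChange K))
      have hTdef : ∀ a' : A, tau e a' ∈ T ↔
          (P.mkQ.baseChange K) (eL.symm (eL ((1 : K) ⊗ₜ[R] a'))) = 0 := fun a' => Iff.rfl
      have hT : ∀ a' ∈ P, tau e a' ∈ T := by
        intro a' ha'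
        rw [hTdef, LinearEquiv.symm_apply_apply, LinearMap.baseChange_tmul, Submodule.mkQ_apply,
          (Submodule.Quotient.mk_eq_zero P).2 ha', TensorProduct.tmul_zero]
      have hψT : ∀ z : MonoidAlgebra K M, ψ z ∈ T := by
        intro z
        induction z using MonoidAlgebra.induction_linear with
        | zero =>
          rw [map_zero]
          exact T.zero_mem
        | add f g hf hg =>
          rw [map_add]
          exact T.add_mem hf hg
        | single m u =>
          rw [hψs]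
          apply T.smul_mem
          apply hT
          rw [hP]
          exact ⟨MonoidAlgebra.single m 1, by rw [AlgHom.toLinearMap_apply, hφs, one_smul]⟩
      obtain ⟨z, hz⟩ := hbij.2 (tau e a)
      have h6 : tau e a ∈ T := by
        rw [← hz]
        exact hψT z
      rw [hTdef, LinearEquiv.symm_apply_apply, LinearMap.baseChange_tmul,
        Submodule.mkQ_apply] at h6
      exact h6
    rw [hP] at hmem
    obtain ⟨y, hy⟩ := hmem
    exact ⟨y, hy⟩

end Main

section Quot

variable {R : Type u} [CommRing R] (I : Ideal R)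

theorem mem_smul_top_of_one_tmul_eq_zero {P : Type*} [AddCommGroup P] [Module R P] {p : P}
    (hp : (1 : R ⧸ I) ⊗ₜ[R] p = 0) : p ∈ I • (⊤ : Submodule R P) := by
  have h1 := congrArg (TensorProduct.quotTensorEquivQuotSMul P I) hp
  rw [TensorProduct.quotTensorEquivQuotSMul_mk_one_tmul, map_zero] at h1
  exact (Submodule.Quotient.mk_eq_zero _).1 h1

theorem exists_one_tmul {P : Type*} [AddCommGroup P] [Module R P] (w : (R ⧸ I) ⊗[R] P) :
    ∃ p : P, (1 : R ⧸ I) ⊗ₜ[R] p = w := by
  induction w using TensorProduct.induction_on with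
  | zero => exact ⟨0, TensorProduct.tmul_zero _ _⟩
  | tmul r p =>
    obtain ⟨r, rfl⟩ := Ideal.Quotient.mk_surjective r
    refine ⟨r • p, ?_⟩
    have h1 : Ideal.Quotient.mk I r = r • (1 : R ⧸ I) := by
      rw [Algebra.smul_def, mul_one]
      rfl
    rw [h1, TensorProduct.smul_tmul]
  | add x y hx hy =>
    obtain ⟨p, rfl⟩ := hx
    obtain ⟨q, rfl⟩ := hy
    exact ⟨p + q, TensorProduct.tmul_add _ _ _⟩

variable {A : Type u} [CommRing A] [HopfAlgebra R A]

/-- Diagonalisability lifts across a nil ideal for groups of multiplicative type. -/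
theorem isDiag_of_quot (h : SGA3b.IsMultType R A) (hI : ∀ x ∈ I, IsNilpotent x)
    {M : Type u} [CommGroup M]
    (e₀ : ((R ⧸ I) ⊗[R] A) ≃ₐc[R ⧸ I] MonoidAlgebra (R ⧸ I) M) :
    Nonempty (A ≃ₐc[R] MonoidAlgebra R M) := by
  classical
  have hz1 : ∀ a : A, tau e₀ a = 0 → a ∈ I • (⊤ : Submodule R A) := by
    intro a ha
    apply mem_smul_top_of_one_tmul_eq_zero I
    apply EquivLike.injective e₀
    rw [map_zero]
    exact ha
  have hz2 : ∀ a : A, a ∈ I • (⊤ : Submodule R A) → tau e₀ a = 0 := by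
    intro a ha
    have h1 := tau_mem e₀ I ha
    have h2 : I.map (algebraMap R (R ⧸ I)) = ⊥ := Ideal.map_quotient_self I
    rw [h2, Submodule.bot_smul] at h1
    exact (Submodule.mem_bot _).1 h1
  have hex : ∀ m : M, ∃ g : A, IsGroupLikeElem R g ∧
      tau e₀ g = MonoidAlgebra.single m (1 : R ⧸ I) := by
    intro m
    obtain ⟨w, hw⟩ := EquivLike.surjective e₀ (MonoidAlgebra.single m (1 : R ⧸ I))
    obtain ⟨a, rfl⟩ := exists_one_tmul I w
    have hta : tau e₀ a = MonoidAlgebra.single m (1 : R ⧸ I) := hw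
    have hglm : IsGroupLikeElem (R ⧸ I)
        (MonoidAlgebra.single m (1 : R ⧸ I) : MonoidAlgebra (R ⧸ I) M) :=
      MonoidAlgebra.isGroupLikeElem_single_one (R := R ⧸ I) (A := R ⧸ I) m
    have h1 : Coalgebra.counit (R := R) a - 1 ∈ I := by
      have h3 := tau_counit e₀ a
      rw [hta, hglm.counit_eq_one] at h3
      apply Ideal.Quotient.eq.1
      rw [map_one]
      exact h3.symm
    have h2 : Coalgebra.comul (R := R) a - a ⊗ₜ[R] a ∈ I • (⊤ : Submodule R (A ⊗[R] A)) := by
      apply mem_smul_top_of_one_tmul_eq_zero I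
      apply (Xi e₀).injective
      rw [map_zero]
      show tau2 e₀ (Coalgebra.comul (R := R) a - a ⊗ₜ[R] a) = 0
      rw [tau2_sub, tau2_comul, tau2_tmul, hta, hglm.comul_eq_tmul_self, sub_self]
    obtain ⟨g, hg, hga⟩ := exists_gl_lift h hI a h1 h2
    refine ⟨g, hg, ?_⟩
    rw [← hta, ← sub_eq_zero, ← tau_sub]
    exact hz2 _ hga
  choose g hg hgt using hex
  have huniq : ∀ x y : A, IsGroupLikeElem R x → IsGroupLikeElem R y → tau e₀ x = tau e₀ y →
      x = y := by
    intro x y hx hy hxy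
    apply gl_unique h hI hx hy
    apply hz1
    rw [tau_sub, hxy, sub_self]
  have g_one : g 1 = 1 := by
    apply huniq _ _ (hg 1) (IsGroupLikeElem.one (R := R))
    rw [hgt, tau_one, MonoidAlgebra.one_def]
  have g_mul : ∀ m m', g (m * m') = g m * g m' := by
    intro m m'
    apply huniq _ _ (hg _) ((hg m).mul (hg m'))
    rw [hgt, tau_mul, hgt, hgt, MonoidAlgebra.single_mul_single, mul_one]
  let χ : M →* A := { toFun := g, map_one' := g_one, map_mul' := g_mul }
  have hχ : ∀ m, χ m = g m := fun m => rfl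
  have hind : ∀ m m' : M, m ≠ m' → ∀ r : R, r • (χ m - χ m') = 0 → r ∈ I := by
    intro m m' hne r hr
    have h3 := congrArg (tau e₀) hr
    rw [tau_smul, tau_sub, tau_zero, hχ, hχ, hgt, hgt] at h3
    have h4 := congrArg (DiagSub.lc (S := R ⧸ I) m) h3
    rw [map_smul, map_sub, map_zero, DiagSub.lc_apply, DiagSub.lc_apply,
      MonoidAlgebra.coeff_single, MonoidAlgebra.coeff_single, Finsupp.single_apply,
      Finsupp.single_apply, if_pos rfl, if_neg (Ne.symm hne), sub_zero, smul_eq_mul,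
      mul_one] at h4
    exact Ideal.Quotient.eq_zero_iff_mem.1 h4
  have hsurj : ∀ a : A, ∃ y : MonoidAlgebra R M,
      a - MonoidAlgebra.lift R A M χ y ∈ I • (⊤ : Submodule R A) := by
    intro a
    have key : ∀ z : MonoidAlgebra (R ⧸ I) M, ∃ y : MonoidAlgebra R M,
        tau e₀ (MonoidAlgebra.lift R A M χ y) = z := by
      intro z
      induction z using MonoidAlgebra.induction_linear with
      | zero => exact ⟨0, by rw [map_zero, tau_zero]⟩
      | add f f' hf hf' =>
        obtain ⟨y1, rfl⟩ := hf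
        obtain ⟨y2, rfl⟩ := hf'
        exact ⟨y1 + y2, by rw [map_add, tau_add]⟩
      | single m u =>
        obtain ⟨r, rfl⟩ := Ideal.Quotient.mk_surjective u
        refine ⟨MonoidAlgebra.single m r, ?_⟩
        have h3 : algebraMap R (R ⧸ I) r = Ideal.Quotient.mk I r := rfl
        rw [MonoidAlgebra.lift_single, tau_smul, hχ, hgt, MonoidAlgebra.smul_single,
          smul_eq_mul, mul_one, h3]
    obtain ⟨y, hy⟩ := key (tau e₀ a)
    refine ⟨y, hz1 _ ?_⟩
    rw [tau_sub, hy, sub_self]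
  have hbij := bijective_lift h hI χ (fun m => hg m) hind hsurj
  let φ₀ : MonoidAlgebra R M →ₐ[R] A := MonoidAlgebra.lift R A M χ
  have hφ₀ : ∀ m, φ₀ (MonoidAlgebra.single m 1) = g m := by
    intro m
    show MonoidAlgebra.lift R A M χ (MonoidAlgebra.single m 1) = g m
    rw [MonoidAlgebra.lift_single, one_smul, hχ]
  let φ : MonoidAlgebra R M →ₐc[R] A := BialgHom.ofAlgHom φ₀
    (by
      ext m
      rw [AlgHom.comp_apply, hφ₀]
      have h1 : (Bialgebra.counitAlgHom R A) (g m) = 1 := (hg m).counit_eq_one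
      rw [h1]
      exact ((MonoidAlgebra.isGroupLikeElem_single_one (R := R) (A := R) m).counit_eq_one).symm)
    (by
      ext m
      rw [AlgHom.comp_apply, AlgHom.comp_apply, hφ₀]
      have h1 : (Bialgebra.comulAlgHom R (MonoidAlgebra R M)) (MonoidAlgebra.single m 1) =
          MonoidAlgebra.single m 1 ⊗ₜ[R] MonoidAlgebra.single m 1 :=
        (MonoidAlgebra.isGroupLikeElem_single_one (R := R) (A := R) m).comul_eq_tmul_self
      rw [h1, Algebra.TensorProduct.map_tmul, hφ₀]
      exact ((hg m).comul_eq_tmul_self).symm)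
  have hφ : ∀ x, φ x = φ₀ x := fun x => rfl
  have hbij' : Function.Bijective φ := by
    have h7 : (⇑φ : MonoidAlgebra R M → A) = ⇑φ₀ := funext hφ
    rw [h7]
    exact hbij
  exact ⟨(BialgEquiv.ofBijective φ hbij').symm⟩

end Quot

end Groth.Agent.H83.NilLift
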