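import Mathlib
import Groth.Agent.H69.DirColim
import Groth.Agent.H15.NilPair.Base
import Groth.Agent.H15.NilPair.Defs
import Groth.Agent.H15.NilPair.Sys

/-!
# (SDb) for S18016 (helper15): surjectivity onto `D'` in the integral, non-surjective mode.
-/

set_option autoImplicit false
universe u
open CategoryTheory MvPolynomial Limits
open Groth.Agent.H69 Groth.Agent.H15.NilPair
open scoped Classical

namespace Groth.Agent.H83.NilPair_SDb

variable {R B D D' P : Type u} [CommRing R] [CommRing B] [CommRing D] [CommRing D'] [CommRing P]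
  [Algebra R B] [Algebra R D] [Algebra R D'] [Algebra R P]
variable {f : B →ₐ[R] D} {i : D' →ₐ[R] D} {q₁ : P →ₐ[R] B} {q₂ : P →ₐ[R] D'}

theorem surj_D'_of_integral (hf : ¬ Function.Surjective f) (hint : f.toRingHom.IsIntegral)
    (hw : ∀ p, f (q₁ p) = i (q₂ p)) (hq₁ : Function.Surjective q₁)
    (hnil : ∀ x ∈ RingHom.ker i.toRingHom, IsNilpotent x) :
    ∀ d' : D', ∃ (j : J f i q₁ q₂) (y : FD' j), toD' j y = d' := by
  intro d'
  obtain ⟨h, hmon, hh0⟩ := hint (i d')
  set n := h.natDegree with hn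
  choose pk hpk using fun k : ℕ => hq₁ (h.coeff k)
  let Z : Finset P := (Finset.univ : Finset (Fin n)).image (fun k : Fin n => pk (k : ℕ))
  let W : Finset (P ⊕ D') := Z.disjSum {d'}
  have hYmem : (X (Sum.inr d') : MvPolynomial (P ⊕ D') R) ∈ PS R W :=
    X_mem_PS (Finset.inr_mem_disjSum.mpr (Finset.mem_singleton_self d'))
  have hZmem : ∀ k : Fin n, pk k ∈ Z := fun k =>
    Finset.mem_image_of_mem (fun k : Fin n => pk (k : ℕ)) (Finset.mem_univ k)
  have hXmem : ∀ k : Fin n, (X (Sum.inl (pk k)) : MvPolynomial (P ⊕ D') R) ∈ PS R W :=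
    fun k => X_mem_PS (Finset.inl_mem_disjSum.mpr (hZmem k))
  let Yel : PS R W := ⟨X (Sum.inr d'), hYmem⟩
  let Xel : Fin n → PS R W := fun k => ⟨X (Sum.inl (pk k)), hXmem k⟩
  let GS : PS R W := Yel ^ n + ∑ k : Fin n, Xel k * Yel ^ (k : ℕ)
  let G : MvPolynomial (P ⊕ D') R := (GS : MvPolynomial (P ⊕ D') R)
  have hR : ∀ (T : Finset (MvPolynomial (P ⊕ D') R)), mkq W T GS =
      (mkq W T Yel) ^ n + ∑ k : Fin n, mkq W T (Xel k) * (mkq W T Yel) ^ (k : ℕ) := by
    intro T
    simp only [GS, map_add, map_pow, map_sum, map_mul]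
  have hevY : evD' q₂ (X (Sum.inr d') : MvPolynomial (P ⊕ D') R) = d' := by simp [evD']
  have hevX : ∀ k : Fin n, evD' q₂ (X (Sum.inl (pk k)) : MvPolynomial (P ⊕ D') R) = q₂ (pk k) := by
    intro k; simp [evD']
  have hevG : evD' q₂ G = d' ^ n + ∑ k : Fin n, q₂ (pk k) * d' ^ (k : ℕ) := by
    simp only [G, GS, Subalgebra.coe_add, Subalgebra.coe_pow, AddSubmonoidClass.coe_finsetSum,
      Subalgebra.coe_mul, map_add, map_pow, map_sum, map_mul, Xel, Yel, hevY, hevX]
  have hiG : i (evD' q₂ G) = 0 := by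
    rw [hevG, map_add, map_pow, map_sum]
    simp only [map_mul, map_pow, ← hw, hpk]
    have h1 := hh0
    rw [Polynomial.eval₂_eq_sum_range, Finset.sum_range_succ, ← hn] at h1
    have h2 : h.coeff n = 1 := hmon.coeff_natDegree
    rw [h2, map_one, one_mul, Finset.sum_range] at h1
    simp only [AlgHom.toRingHom_eq_coe, RingHom.coe_coe] at h1
    rw [add_comm]
    exact h1
  have hmem : evD' q₂ G ∈ RingHom.ker i.toRingHom := by
    rw [RingHom.mem_ker]; exact hiG
  obtain ⟨m, hm⟩ := hnil _ hmem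
  have hm1 : (evD' q₂ G) ^ (m + 1) = 0 := by rw [pow_succ, hm, zero_mul]
  let jr : Raw R P D' := ⟨Z, {d'}, ∅, {G ^ (m + 1)}, {G}⟩
  have hG : G ∈ PS R jr.WD := GS.2
  have hXB : ∀ k : Fin n, (X (Sum.inl (pk k)) : MvPolynomial (P ⊕ D') R) ∈ PS R jr.WB :=
    fun k => X_mem_PS (Finset.inl_mem_disjSum.mpr (hZmem k))
  -- integrality of the new variable
  have key : jr.phi.toRingHom.IsIntegralElem (mkq jr.WD jr.TD Yel) := by
    let pB : Polynomial jr.CB := Polynomial.X ^ n + ∑ k : Fin n,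
      Polynomial.C (mkq jr.WB jr.TB ⟨X (Sum.inl (pk k)), hXB k⟩) * Polynomial.X ^ (k : ℕ)
    have hmonic : pB.Monic := by
      apply Polynomial.monic_X_pow_add
      rw [← Polynomial.mem_degreeLT]
      apply Submodule.sum_mem
      intro k _
      rw [Polynomial.mem_degreeLT]
      exact (Polynomial.degree_C_mul_X_pow_le _ _).trans_lt (by exact_mod_cast k.2)
    refine ⟨pB, hmonic, ?_⟩
    have h0 : mkq jr.WD jr.TD GS = 0 :=
      mkq_eq_zero GS (Raw.N_sub_TD (j := jr) (Finset.mem_singleton_self G))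
    rw [← h0]
    simp only [pB, Polynomial.eval₂_add, Polynomial.eval₂_pow, Polynomial.eval₂_X,
      Polynomial.eval₂_finsetSum, Polynomial.eval₂_mul, Polynomial.eval₂_C]
    exact (hR jr.TD).symm
  have hvalid : Valid f i q₁ q₂ jr := by
    refine ⟨?_, ?_, ?_, ?_, ?_, ?_, ?_⟩
    · intro t ht; exact absurd ht (Finset.notMem_empty t)
    · intro t ht
      have ht' : t = G ^ (m + 1) := Finset.mem_singleton.mp ht
      rw [ht']
      exact ⟨Subalgebra.pow_mem _ hG _, by rw [map_pow, hm1]⟩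
    · intro t ht
      have ht' : t = G := Finset.mem_singleton.mp ht
      rw [ht']
      exact ⟨hG, hiG⟩
    · intro x hx
      have hx' : (x : MvPolynomial (P ⊕ D') R) = G := by
        have : (x : MvPolynomial (P ⊕ D') R) ∈ (∅ : Finset (MvPolynomial (P ⊕ D') R)) ∪ {G} := hx
        simpa using this
      refine ⟨m + 1, ?_⟩
      rw [← map_pow]
      apply mkq_eq_zero
      show ((x ^ (m + 1) : PS R jr.WD) : MvPolynomial (P ⊕ D') R) ∈
        ({G ^ (m + 1)} : Finset (MvPolynomial (P ⊕ D') R))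
      rw [Finset.mem_singleton, Subalgebra.coe_pow, hx']
    · intro hs; exact absurd hs hf
    · intro hs; exact absurd hs hf
    · intro _ s hs
      have hsd : s = d' := Finset.mem_singleton.mp hs
      have e : (⟨X (Sum.inr s), X_mem_PS (Finset.inr_mem_disjSum.mpr hs)⟩ : PS R jr.WD) = Yel :=
        Subtype.ext (by
          show (X (Sum.inr s) : MvPolynomial (P ⊕ D') R) = X (Sum.inr d')
          rw [hsd])
      rw [e]
      exact key
  refine ⟨⟨jr, hvalid⟩, mkq jr.WD jr.T' Yel, ?_⟩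
  show toE (evD' q₂) _ (mkq jr.WD jr.T' ⟨X (Sum.inr d'), hYmem⟩) = d'
  rw [toE_mkq]
  exact hevY

end Groth.Agent.H83.NilPair_SDb
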