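import Mathlib
import Groth.Prelude.Def_QCohCat
import Groth.Prelude.Def_Coh
import Groth.Agent.S9819
import Groth.Agent.H18.Serre.Generation
import Groth.Agent.H8.CohKerCoker

/-!
# (N2b) for S11129 (helper22): a Noetherian object of `QCoh(Y)` is coherent (Y Noetherian).
-/

set_option autoImplicit false
set_option linter.style.haveILetI false
universe u
open CategoryTheory CategoryTheory.Limits AlgebraicGeometry TopologicalSpace Opposite

namespace Groth.Agent.H83.NoethObj_N2b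

/-- finite type transfers along isomorphisms. -/
theorem isFiniteType_of_iso {Y : Scheme.{u}} {A B : Y.Modules} (e : A ≅ B)
    (hA : SheafOfModules.IsFiniteType (R := Y.ringCatSheaf) A) :
    SheafOfModules.IsFiniteType (R := Y.ringCatSheaf) B := by
  haveI := hA
  exact Groth.Agent.H8.isFiniteType_of_epi e.hom

/-- (N2b), with (N1a) and (N2a) as hypotheses. -/
theorem coh_of_noeth_of (Y : Scheme.{u}) [IsNoetherian Y]
    (hN1a : ∀ {A B : QCohCat.QCoh Y} (f : A ⟶ B) [Mono f], Mono f.hom)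
    (hN2a : ∀ (M : Y.Modules) [M.IsQuasicoherent] {N₁ N₂ : Y.Modules} (i₁ : N₁ ⟶ M) (i₂ : N₂ ⟶ M)
      [Mono i₁] [Mono i₂] (_ : Coh.IsCoh N₁) (_ : Coh.IsCoh N₂),
      ∃ (N : Y.Modules) (i : N ⟶ M) (j₁ : N₁ ⟶ N) (j₂ : N₂ ⟶ N),
        Mono i ∧ Coh.IsCoh N ∧ j₁ ≫ i = i₁ ∧ j₂ ≫ i = i₂)
    (M : QCohCat.QCoh Y) (h : IsNoetherianObject M) : Coh.IsCoh M.obj := by
  haveI := h
  haveI hMq : M.obj.IsQuasicoherent := M.property
  -- subobjects from finite type quasi-coherent submodules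
  have hmk : ∀ (G : Y.Modules) (i : G ⟶ M.obj) (_ : Mono i) (hGq : Coh.IsQCoh G)
      (_ : SheafOfModules.IsFiniteType (R := Y.ringCatSheaf) G),
      ∃ (N : Subobject M) (k : (N : QCohCat.QCoh Y).obj ≅ G),
        k.hom ≫ i = N.arrow.hom ∧
        SheafOfModules.IsFiniteType (R := Y.ringCatSheaf) (N : QCohCat.QCoh Y).obj := by
    intro G i hi hGq hGf
    let G' : QCohCat.QCoh Y := ⟨G, hGq⟩
    let f : G' ⟶ M := ObjectProperty.homMk i
    haveI : Mono f := by
      haveI : Mono ((QCohCat.isQCoh Y).ι.map f) := hi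
      exact (QCohCat.isQCoh Y).ι.mono_of_mono_map this
    let e : ((Subobject.mk f : Subobject M) : QCohCat.QCoh Y) ≅ G' := Subobject.underlyingIso f
    let k : ((Subobject.mk f : Subobject M) : QCohCat.QCoh Y).obj ≅ G :=
      (QCohCat.isQCoh Y).ι.mapIso e
    refine ⟨Subobject.mk f, k, ?_, isFiniteType_of_iso k.symm hGf⟩
    have h1 : e.hom ≫ f = (Subobject.mk f).arrow := Subobject.underlyingIso_hom_comp_eq_mk f
    exact congrArg (fun g => g.hom) h1
  -- the set of finite type subobjects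
  let 𝒮 : Set (Subobject M) :=
    {N | SheafOfModules.IsFiniteType (R := Y.ringCatSheaf) (N : QCohCat.QCoh Y).obj}
  have hne : 𝒮.Nonempty := by
    obtain ⟨G, i, hi, hGq, hGf, -⟩ := Groth.Agent.S9819.result M.obj ⟨⊥, isAffineOpen_bot Y⟩ 0
    obtain ⟨N, -, -, hN⟩ := hmk G i hi hGq hGf
    exact ⟨N, hN⟩
  obtain ⟨N, hN, hmax⟩ := (wellFounded_gt (α := Subobject M)).has_min 𝒮 hne
  haveI hNf : SheafOfModules.IsFiniteType (R := Y.ringCatSheaf) (N : QCohCat.QCoh Y).obj := hN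
  haveI hNm : Mono N.arrow.hom := hN1a N.arrow
  have hNcoh : Coh.IsCoh (N : QCohCat.QCoh Y).obj := ⟨(N : QCohCat.QCoh Y).property, hN⟩
  have hsurj : ∀ V : Y.affineOpens, Function.Surjective (N.arrow.hom.app V.1) := by
    intro V s
    obtain ⟨G, i, hi, hGq, hGf, g, hg⟩ := Groth.Agent.S9819.result M.obj V s
    haveI := hi
    obtain ⟨N', i', j₁, j₂, hi', hN'coh, hj₁, hj₂⟩ :=
      hN2a M.obj N.arrow.hom i hNcoh ⟨hGq, hGf⟩
    obtain ⟨N'', k, hk, hN''⟩ := hmk N' i' hi' hN'coh.1 hN'coh.2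
    have hle : N ≤ N'' := by
      refine Subobject.le_of_comm (ObjectProperty.homMk (j₁ ≫ k.inv)) ?_
      apply ObjectProperty.hom_ext
      show (j₁ ≫ k.inv) ≫ N''.arrow.hom = N.arrow.hom
      rw [← hk, Category.assoc, Iso.inv_hom_id_assoc, hj₁]
    have heq : N'' = N := by
      by_contra hne'
      exact hmax N'' hN'' (lt_of_le_of_ne hle (Ne.symm hne'))
    subst heq
    -- now i' factors through N''.arrow.hom via k.inv
    have hfac : i' = k.inv ≫ N''.arrow.hom := by rw [← hk, Iso.inv_hom_id_assoc]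
    refine ⟨(k.inv.app V.1) ((j₂.app V.1) g), ?_⟩
    have h2 : j₂ ≫ k.inv ≫ N''.arrow.hom = i := by rw [← hfac, hj₂]
    have h3 : (N''.arrow.hom.app V.1) ((k.inv.app V.1) ((j₂.app V.1) g)) =
        ((j₂ ≫ k.inv ≫ N''.arrow.hom).app V.1) g := rfl
    rw [h3, h2]
    exact hg
  haveI : Epi N.arrow.hom :=
    Groth.Agent.H18.Serre.epi_of_surjective_affine_cover N.arrow.hom
      (fun V : Y.affineOpens => V.1) (iSup_affineOpens_eq_top Y) (fun V => V.2) hsurj
  exact ⟨M.property, Groth.Agent.H8.isFiniteType_of_epi N.arrow.hom⟩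

end Groth.Agent.H83.NoethObj_N2b
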