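import Mathlib
import Groth.Prelude.Def_QCohCat
import Groth.Prelude.Def_Coh
import Groth.Agent.H83.NoethObj_N2b
import Groth.Agent.H77.NoethObj_N1a
import Groth.Agent.H77.NoethObj_N2a

/-!
# (N2b) for S11129 (helper22), exact statement (uses helper77's (N1a), (N2a)).
-/

set_option autoImplicit false
universe u
open CategoryTheory CategoryTheory.Limits AlgebraicGeometry TopologicalSpace Opposite

namespace Groth.Agent.H83.NoethObj_N2bX

/-- (N2b) -/
theorem coh_of_noeth (Y : Scheme.{u}) [IsNoetherian Y] (M : QCohCat.QCoh Y)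
    (h : IsNoetherianObject M) : Coh.IsCoh M.obj :=
  Groth.Agent.H83.NoethObj_N2b.coh_of_noeth_of Y
    (fun f => Groth.Agent.H77.NoethObj_N1a.mono_hom_of_mono f)
    (fun M _ _ _ i₁ i₂ _ _ h₁ h₂ => Groth.Agent.H77.NoethObj_N2a.exists_sup M i₁ i₂ h₁ h₂) M h

end Groth.Agent.H83.NoethObj_N2bX
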