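import Mathlib
import Groth.Prelude.Def_CohB1

/-!
# (PSI) for S2448 (helper18): a graded algebra generated by finitely many degree-one elements is a
graded quotient of a polynomial ring.
-/

set_option autoImplicit false
universe u
open CategoryTheory CategoryTheory.Limits AlgebraicGeometry Opposite

namespace Groth.Agent.H83.PGE_PSI

theorem exists_gradedHom_of_gens {A S : Type u} [CommRing A] [CommRing S] [Algebra A S]
    (𝒜 : ℕ → Submodule A S) [GradedAlgebra 𝒜] (r : ℕ) (g : Fin (r + 1) → S)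
    (hg1 : ∀ i, g i ∈ 𝒜 1) (hgen : Algebra.adjoin A (Set.range g) = ⊤) :
    ∃ ψ : CohB1.polyGrading r A →+*ᵍ 𝒜, Function.Surjective ψ := by
  have hmem : ∀ {i : ℕ} {x : MvPolynomial (Fin (r + 1)) A},
      x ∈ CohB1.polyGrading r A i → (MvPolynomial.aeval g).toRingHom x ∈ 𝒜 i := by
    intro i x hx
    have hx' : x.IsHomogeneous i := (MvPolynomial.mem_homogeneousSubmodule i x).1 hx
    show MvPolynomial.aeval g x ∈ 𝒜 i
    rw [MvPolynomial.as_sum x, map_sum]
    refine Submodule.sum_mem _ (fun d hd => ?_)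
    have hd' : MvPolynomial.coeff d x ≠ 0 := MvPolynomial.mem_support_iff.1 hd
    have hdeg : Finsupp.weight (1 : Fin (r + 1) → ℕ) d = i := hx' hd'
    rw [MvPolynomial.aeval_monomial, ← Algebra.smul_def]
    refine Submodule.smul_mem _ _ ?_
    have h1 : (d.prod fun j k => g j ^ k) ∈ 𝒜 (∑ j ∈ d.support, d j • 1) := by
      unfold Finsupp.prod
      refine SetLike.prod_mem_graded _ _ _ (fun j _ => ?_)
      exact SetLike.pow_mem_graded (d j) (hg1 j)
    have h2 : (∑ j ∈ d.support, d j • 1) = i := by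
      rw [← hdeg, Finsupp.weight_apply]
      rfl
    rw [← h2]
    exact h1
  refine ⟨{ toRingHom := (MvPolynomial.aeval g).toRingHom, map_mem := hmem }, ?_⟩
  intro s
  have hs : s ∈ (MvPolynomial.aeval g : MvPolynomial (Fin (r + 1)) A →ₐ[A] S).range := by
    rw [← Algebra.adjoin_range_eq_range_aeval, hgen]
    exact Algebra.mem_top
  obtain ⟨x, hx⟩ := hs
  exact ⟨x, hx⟩

end Groth.Agent.H83.PGE_PSI
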