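import Mathlib

set_option autoImplicit false
universe u
open CategoryTheory CategoryTheory.Limits AlgebraicGeometry
open scoped TensorProduct

namespace Groth.Agent.H83.QFStrat_PT1

section algebra

variable (K A : Type u) [Field K] [CommRing A] [Algebra K A] [Module.Finite K A]

/-- A finite subextension of the algebraic closure containing the image of every `K`-algebra
map `A → K̄`. -/
theorem exists_splitting_field :
    ∃ Lf : IntermediateField K (AlgebraicClosure K), FiniteDimensional K Lf ∧
      ∀ (σ : A →ₐ[K] AlgebraicClosure K) (a : A), σ a ∈ Lf := by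
  classical
  obtain ⟨s, hs⟩ := (Module.finite_def.1 (inferInstance : Module.Finite K A))
  let S : Set (AlgebraicClosure K) :=
    ⋃ a ∈ (s : Set A), (minpoly K a).rootSet (AlgebraicClosure K)
  have hSfin : S.Finite :=
    Set.Finite.biUnion s.finite_toSet (fun a _ => Polynomial.rootSet_finite _ _)
  haveI : Finite S := hSfin.to_subtype
  refine ⟨IntermediateField.adjoin K S,
    IntermediateField.finiteDimensional_adjoin (fun x _ => Algebra.IsIntegral.isIntegral x), ?_⟩
  intro σ a
  have ha : a ∈ Submodule.span K (s : Set A) := by rw [hs]; exact Submodule.mem_top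
  induction ha using Submodule.span_induction with
  | mem x hx =>
    apply IntermediateField.subset_adjoin K S
    refine Set.mem_biUnion hx ?_
    have hint : IsIntegral K x := Algebra.IsIntegral.isIntegral x
    rw [Polynomial.mem_rootSet]
    refine ⟨minpoly.ne_zero hint, ?_⟩
    rw [Polynomial.aeval_algHom_apply, minpoly.aeval, map_zero]
  | zero => rw [map_zero]; exact zero_mem _
  | add x y _ _ hx hy => rw [map_add]; exact add_mem hx hy
  | smul k x _ hx =>
    rw [map_smul, Algebra.smul_def]
    exact mul_mem (IntermediateField.algebraMap_mem _ k) hx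

end algebra

section etale

variable (K A : Type u) [Field K] [CommRing A] [Algebra K A]
  (Lf : IntermediateField K (AlgebraicClosure K))
  (C : Type u) [CommRing C] [Algebra Lf C] [Algebra K C] [IsScalarTower K Lf C]
  [Module.Finite Lf C]

instance finite_D : Module.Finite Lf (C ⧸ nilradical C) :=
  Module.Finite.of_surjective (Ideal.Quotient.mkₐ (↥Lf) (nilradical C)).toLinearMap
    (Ideal.Quotient.mkₐ_surjective (↥Lf) (nilradical C))

theorem residue_surjective (ι : A →ₐ[K] C)
    (hgen : ∀ c : C, c ∈ Submodule.span Lf (Set.range ι))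
    (hLf : ∀ (σ : A →ₐ[K] AlgebraicClosure K) (a : A), σ a ∈ Lf)
    (M : Ideal (C ⧸ nilradical C)) [hM : M.IsMaximal] :
    Function.Surjective (algebraMap Lf ((C ⧸ nilradical C) ⧸ M)) := by
  letI : Field ((C ⧸ nilradical C) ⧸ M) := Ideal.Quotient.field M
  haveI : Module.Finite Lf ((C ⧸ nilradical C) ⧸ M) :=
    Module.Finite.of_surjective (Ideal.Quotient.mkₐ (↥Lf) M).toLinearMap
      (Ideal.Quotient.mkₐ_surjective (↥Lf) M)
  haveI : Algebra.IsAlgebraic Lf ((C ⧸ nilradical C) ⧸ M) :=
    Algebra.IsAlgebraic.of_finite _ _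
  let τ : ((C ⧸ nilradical C) ⧸ M) →ₐ[Lf] AlgebraicClosure K := IsAlgClosed.lift
  let q : C →ₐ[Lf] ((C ⧸ nilradical C) ⧸ M) :=
    (Ideal.Quotient.mkₐ Lf M).comp (Ideal.Quotient.mkₐ Lf (nilradical C))
  let σ₀ : A →ₐ[K] AlgebraicClosure K :=
    (τ.restrictScalars K).comp ((q.restrictScalars K).comp ι)
  have key : ∀ a : A, ∃ l : Lf, algebraMap Lf _ l = q (ι a) := by
    intro a
    refine ⟨⟨σ₀ a, hLf σ₀ a⟩, ?_⟩
    apply τ.toRingHom.injective
    show τ (algebraMap Lf _ _) = τ (q (ι a))
    rw [AlgHom.commutes]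
    rfl
  intro y
  obtain ⟨d, rfl⟩ := Ideal.Quotient.mk_surjective y
  obtain ⟨c, rfl⟩ := Ideal.Quotient.mk_surjective d
  show ∃ l, algebraMap Lf _ l = q c
  have hc := hgen c
  induction hc using Submodule.span_induction with
  | mem x hx =>
    obtain ⟨a, rfl⟩ := hx
    exact key a
  | zero => exact ⟨0, by simp⟩
  | add x y _ _ hx hy =>
    obtain ⟨l1, h1⟩ := hx
    obtain ⟨l2, h2⟩ := hy
    exact ⟨l1 + l2, by rw [map_add, map_add, h1, h2]⟩
  | smul l x _ hx =>
    obtain ⟨l', hl'⟩ := hx
    exact ⟨l * l', by rw [map_smul, ← hl', map_mul, Algebra.smul_def]⟩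

theorem etale_D (ι : A →ₐ[K] C)
    (hgen : ∀ c : C, c ∈ Submodule.span Lf (Set.range ι))
    (hLf : ∀ (σ : A →ₐ[K] AlgebraicClosure K) (a : A), σ a ∈ Lf) :
    Algebra.Etale Lf (C ⧸ nilradical C) := by
  haveI : IsArtinianRing (C ⧸ nilradical C) := IsArtinianRing.of_finite Lf _
  haveI : IsReduced (C ⧸ nilradical C) :=
    (Ideal.isRadical_iff_quotient_reduced _).1 (Ideal.radical_isRadical ⊥)
  have hfe : Algebra.FormallyEtale Lf (C ⧸ nilradical C) := by
    rw [Algebra.FormallyEtale.iff_exists_algEquiv_prod]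
    refine ⟨MaximalSpectrum (C ⧸ nilradical C), inferInstance,
      fun M => (C ⧸ nilradical C) ⧸ M.asIdeal, fun M => Ideal.Quotient.field M.asIdeal,
      fun M => inferInstance,
      (IsArtinianRing.equivPi (C ⧸ nilradical C)).restrictScalars Lf, fun M => ?_⟩
    constructor
    intro x
    obtain ⟨l, rfl⟩ := residue_surjective K A Lf C ι hgen hLf M.asIdeal x
    exact isSeparable_algebraMap l
  haveI : Algebra.FinitePresentation Lf (C ⧸ nilradical C) :=
    Algebra.FinitePresentation.of_finiteType.1 inferInstance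
  exact { }

end etale

section scheme

/-- The reduction of a commutative ring. -/
abbrev Dq (C : Type u) [CommRing C] : Type u := C ⧸ nilradical C

/-- The quotient map to the reduction. -/
abbrev mkq (C : Type u) [CommRing C] : C →+* Dq C := Ideal.Quotient.mk (nilradical C)

theorem spec_version (K A : Type u) [Field K] [CommRing A] [Algebra K A] [Module.Finite K A] :
    ∃ (L : Type u) (_ : Field L) (_ : Algebra K L), Module.Finite K L ∧
      ∃ (Z : Scheme.{u}) (c : Z ⟶ pullback (Spec.map (CommRingCat.ofHom (algebraMap K L)))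
          (Spec.map (CommRingCat.ofHom (algebraMap K A)))),
        IsClosedImmersion c ∧ Surjective c ∧
        IsFinite (c ≫ pullback.fst (Spec.map (CommRingCat.ofHom (algebraMap K L)))
          (Spec.map (CommRingCat.ofHom (algebraMap K A)))) ∧
        Etale (c ≫ pullback.fst (Spec.map (CommRingCat.ofHom (algebraMap K L)))
          (Spec.map (CommRingCat.ofHom (algebraMap K A)))) := by
  obtain ⟨Lf, hfin, hLf⟩ := exists_splitting_field K A
  haveI := hfin
  have hgen : ∀ c : Lf ⊗[K] A, c ∈ Submodule.span Lf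
      (Set.range (Algebra.TensorProduct.includeRight : A →ₐ[K] Lf ⊗[K] A)) := by
    intro c
    induction c using TensorProduct.induction_on with
    | zero => exact zero_mem _
    | tmul l a =>
      have e : l ⊗ₜ[K] a = l • ((1 : Lf) ⊗ₜ[K] a) := by
        rw [TensorProduct.smul_tmul', smul_eq_mul, mul_one]
      rw [e]
      exact Submodule.smul_mem _ _ (Submodule.subset_span ⟨a, rfl⟩)
    | add x y hx hy => exact add_mem hx hy
  have het := etale_D K A Lf (Lf ⊗[K] A) Algebra.TensorProduct.includeRight hgen hLf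
  refine ⟨Lf, inferInstance, inferInstance, hfin,
    Spec (CommRingCat.of (Dq (Lf ⊗[K] A))),
    Spec.map (CommRingCat.ofHom (mkq (Lf ⊗[K] A))) ≫
      (pullbackSpecIso K Lf A).inv, ?_, ?_, ?_, ?_⟩
  · haveI : IsClosedImmersion (Spec.map (CommRingCat.ofHom (mkq (Lf ⊗[K] A)))) :=
      IsClosedImmersion.spec_of_surjective _ Ideal.Quotient.mk_surjective
    infer_instance
  · haveI : Surjective (Spec.map (CommRingCat.ofHom (mkq (Lf ⊗[K] A)))) := by
      rw [surjective_iff]
      exact (PrimeSpectrum.comap_quotientMk_bijective_of_le_nilradical le_rfl).2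
    infer_instance
  · rw [Category.assoc, pullbackSpecIso_inv_fst', ← Spec.map_comp, IsFinite.SpecMap_iff]
    have h1 : (algebraMap Lf (Lf ⊗[K] A)).Finite :=
      RingHom.finite_algebraMap.2 inferInstance
    have h2 : (mkq (Lf ⊗[K] A)).Finite :=
      RingHom.Finite.of_surjective _ Ideal.Quotient.mk_surjective
    exact h2.comp h1
  · rw [Category.assoc, pullbackSpecIso_inv_fst', ← Spec.map_comp,
      HasRingHomProperty.Spec_iff (P := @Etale)]
    exact RingHom.etale_algebraMap.2 het

/-- (PT1) For a finite `K`-scheme `V`, there is a finite extension `L/K` such that the reduction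
of `V_L` is finite étale over `L` (closed, surjective in `V_L`). -/
theorem exists_finite_ext_red_etale {K : Type u} [Field K] {V : Scheme.{u}}
    (p : V ⟶ Spec (CommRingCat.of K)) [IsFinite p] :
    ∃ (L : Type u) (_ : Field L) (φ : K →+* L), φ.Finite ∧
      ∃ (Z : Scheme.{u}) (c : Z ⟶ pullback (Spec.map (CommRingCat.ofHom φ)) p),
        IsClosedImmersion c ∧ Surjective c ∧
        IsFinite (c ≫ pullback.fst (Spec.map (CommRingCat.ofHom φ)) p) ∧
        Etale (c ≫ pullback.fst (Spec.map (CommRingCat.ofHom φ)) p) := by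
  haveI : IsAffine V := isAffine_of_isAffineHom p
  let ψ : CommRingCat.of K ⟶ Γ(V, ⊤) := (Scheme.ΓSpecIso (CommRingCat.of K)).inv ≫ p.appTop
  letI : Algebra K Γ(V, ⊤) := ψ.hom.toAlgebra
  have hp : p = V.isoSpec.hom ≫ Spec.map ψ := by
    rw [Spec.map_comp, Scheme.isoSpec_hom_naturality_assoc, Scheme.isoSpec_Spec_hom,
      ← Spec.map_comp, Iso.inv_hom_id, Spec.map_id, Category.comp_id]
  haveI : Module.Finite K Γ(V, ⊤) := by
    have h1 : IsFinite (Spec.map ψ) := by
      have h2 : Spec.map ψ = V.isoSpec.inv ≫ p := by rw [hp, Iso.inv_hom_id_assoc]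
      rw [h2]; infer_instance
    rw [IsFinite.SpecMap_iff] at h1
    exact RingHom.finite_algebraMap.1 h1
  obtain ⟨L, hL, hKL, hfin, Z, c, h1, h2, h3, h4⟩ := spec_version K Γ(V, ⊤)
  have hψ : CommRingCat.ofHom (algebraMap K Γ(V, ⊤)) = ψ := rfl
  let f := Spec.map (CommRingCat.ofHom (algebraMap K L))
  let e : pullback f (Spec.map ψ) ⟶ pullback f p :=
    pullback.map f (Spec.map ψ) f p (𝟙 _) V.isoSpec.inv (𝟙 _) (by simp)
      (by rw [hp, Iso.inv_hom_id_assoc, Category.comp_id])
  haveI : IsIso e := by dsimp only [e]; infer_instance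
  have he : e ≫ pullback.fst f p = pullback.fst f (Spec.map ψ) := by
    dsimp only [e]; rw [pullback.lift_fst, Category.comp_id]
  refine ⟨L, hL, algebraMap K L, RingHom.finite_algebraMap.2 hfin, Z, c ≫ e, ?_, ?_, ?_, ?_⟩
  · infer_instance
  · infer_instance
  · rw [Category.assoc, he]; exact h3
  · rw [Category.assoc, he]; exact h4

end scheme

end Groth.Agent.H83.QFStrat_PT1
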