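import Groth.Agent.H83.TkTheta

/-!
# Spreading out flatness by translations (helper library for the Takeuchi cluster)
-/

set_option autoImplicit false

open TensorProduct WithConv

namespace Groth.Agent.H83.Tk

attribute [local instance] grp

/-- If `T` is faithfully flat over `B` and flat over `A`, then `B` is flat over `A`. -/
theorem flat_descent (A B T : Type*) [CommRing A] [CommRing B] [CommRing T]
    [Algebra A B] [Algebra B T] [Algebra A T] [IsScalarTower A B T]
    [Module.FaithfullyFlat B T] [Module.Flat A T] : Module.Flat A B := by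
  rw [Module.Flat.iff_lTensor_preserves_injective_linearMap]
  intro N P _ _ _ _ g hg
  let gB : B ⊗[A] N →ₗ[B] B ⊗[A] P :=
    TensorProduct.AlgebraTensorModule.map (LinearMap.id : B →ₗ[B] B) g
  have hgB : ∀ x, gB x = g.lTensor B x := fun x => rfl
  suffices h : Function.Injective gB from fun x y hxy => h (by rw [hgB, hgB]; exact hxy)
  rw [← Module.FaithfullyFlat.lTensor_injective_iff_injective B T gB]
  have hcomm : ∀ x, TensorProduct.AlgebraTensorModule.cancelBaseChange A B T T P
      (gB.lTensor T x) =
      g.lTensor T (TensorProduct.AlgebraTensorModule.cancelBaseChange A B T T N x) := by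
    intro x
    induction x using TensorProduct.induction_on with
    | zero => simp
    | tmul t y =>
      induction y using TensorProduct.induction_on with
      | zero => simp
      | tmul b n => simp [gB]
      | add y z hy hz => simp only [TensorProduct.tmul_add, map_add, hy, hz]
    | add x y hx hy => simp only [map_add, hx, hy]
  have hT : Function.Injective (g.lTensor T) :=
    Module.Flat.lTensor_preserves_injective_linearMap g hg
  intro x y hxy
  apply (TensorProduct.AlgebraTensorModule.cancelBaseChange A B T T N).injective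
  apply hT
  rw [← hcomm, ← hcomm, hxy]

/-- Descent of flatness along a flat ring map which is surjective on spectra. -/
theorem flat_of_twisted (A B T : Type*) [CommRing A] [CommRing B] [CommRing T] [Algebra A B]
    (θ : B →+* T) (hθ : θ.Flat) (hθf : (θ.comp (algebraMap A B)).Flat)
    (hJ : ∀ J : Ideal B, J ≠ ⊤ → Ideal.map θ J ≠ ⊤) : Module.Flat A B := by
  letI : Algebra B T := θ.toAlgebra
  letI : Algebra A T := (θ.comp (algebraMap A B)).toAlgebra
  haveI : IsScalarTower A B T := IsScalarTower.of_algebraMap_eq' rfl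
  haveI : Module.Flat B T := hθ
  haveI : Module.Flat A T := hθf
  haveI : Module.FaithfullyFlat B T := by
    rw [Module.FaithfullyFlat.iff_flat_and_proper_ideal]
    refine ⟨inferInstance, fun J hJ' htop => hJ J hJ' ?_⟩
    rw [Ideal.smul_top_eq_map] at htop
    have h1 : (1 : T) ∈ (Ideal.map (algebraMap B T) J).restrictScalars B := by
      rw [htop]; exact Submodule.mem_top
    exact (Ideal.eq_top_iff_one _).mpr h1
  exact flat_descent A B T

/-- **Spreading out**: if some nonzero flat `B`-algebra `Y` is flat over `A`, then `B` is flat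
over `A`. -/
theorem flat_of_generic {k : Type*} [Field k] {A B : Type*} [CommRing A] [CommRing B]
    [HopfAlgebra k A] [HopfAlgebra k B] (f : A →ₐc[k] B)
    [Algebra A B] (hf : ∀ a, algebraMap A B a = f a)
    {Y : Type*} [CommRing Y] [Algebra k Y] [Nontrivial Y] (ι : B →ₐ[k] Y)
    (hι : ι.toRingHom.Flat) (hιf : (ι.comp (f : A →ₐ[k] B)).toRingHom.Flat) :
    Module.Flat A B := by
  let g : B →ₐ[k] B ⊗[k] Y := Algebra.TensorProduct.includeLeft
  let g₀ : Y →ₐ[k] B ⊗[k] Y := Algebra.TensorProduct.includeRight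
  let w : B →ₐ[k] B ⊗[k] Y := (toConv g * (toConv (g₀.comp ι))⁻¹).ofConv
  let θ : B →ₐ[k] (B ⊗[k] Y) ⊗[k] Y := thetaHom w ι
  have hθ : θ.toRingHom.Flat := thetaHom_flat w ι hι
  have hθf : (θ.comp (f : A →ₐ[k] B)).toRingHom.Flat := by
    change ((thetaHom w ι).comp (f : A →ₐ[k] B)).toRingHom.Flat
    rw [thetaHom_comp]
    exact thetaHom_flat _ _ hιf
  let ev : (B ⊗[k] Y) ⊗[k] Y →ₐ[B ⊗[k] Y] B ⊗[k] Y :=
    Algebra.TensorProduct.lift (AlgHom.id _ _) g₀ (fun _ _ => Commute.all _ _)
  have hev : ∀ b, ev (θ b) = b ⊗ₜ 1 := by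
    intro b
    have h1 := evalK_thetaHom w ι g₀
    have h2 : (toConv w * toConv (g₀.comp ι)) = toConv g := by
      change toConv g * (toConv (g₀.comp ι))⁻¹ * toConv (g₀.comp ι) = toConv g
      rw [inv_mul_cancel_right]
    rw [h2] at h1
    exact DFunLike.congr_fun h1 b
  refine flat_of_twisted A B ((B ⊗[k] Y) ⊗[k] Y) θ.toRingHom hθ ?_ ?_
  · have h0 : θ.toRingHom.comp (algebraMap A B) = (θ.comp (f : A →ₐ[k] B)).toRingHom :=
      RingHom.ext fun a => congrArg θ (hf a)
    rw [h0]
    exact hθf
  · intro J hJ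
    haveI : Nontrivial (B ⧸ J) := Ideal.Quotient.nontrivial_iff.mpr hJ
    let q : B ⊗[k] Y →ₐ[k] (B ⧸ J) ⊗[k] Y :=
      Algebra.TensorProduct.map (Ideal.Quotient.mkₐ k J) (AlgHom.id k Y)
    have hle : Ideal.map θ.toRingHom J ≤ RingHom.ker (q.toRingHom.comp ev.toRingHom) := by
      rw [Ideal.map_le_iff_le_comap]
      intro b hb
      rw [Ideal.mem_comap, RingHom.mem_ker]
      change q (ev (θ b)) = 0
      rw [hev]
      simp [q, Ideal.Quotient.eq_zero_iff_mem.mpr hb]
    intro htop
    exact RingHom.ker_ne_top (q.toRingHom.comp ev.toRingHom) (top_le_iff.mp (htop ▸ hle))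

end Groth.Agent.H83.Tk
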