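import Groth.Agent.H83.TkConv

/-!
# Twisted inclusions `B → K ⊗ Y` and their flatness (helper library for the Takeuchi cluster)
-/

set_option autoImplicit false

open TensorProduct WithConv

namespace Groth.Agent.H83.Tk

attribute [local instance] grp

section Theta

variable {k : Type*} [Field k] {B : Type*} [CommRing B] [HopfAlgebra k B]
variable {K : Type*} [CommRing K] [Algebra k K] {Y : Type*} [CommRing Y] [Algebra k Y]

/-- The point `(incl ∘ w) * (incl ∘ φ)` of `B` with values in `K ⊗ Y`. -/
noncomputable def thetaHom (w : B →ₐ[k] K) (φ : B →ₐ[k] Y) : B →ₐ[k] K ⊗[k] Y :=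
  (postComp (Algebra.TensorProduct.includeLeft : K →ₐ[k] K ⊗[k] Y) (toConv w) *
    toConv ((Algebra.TensorProduct.includeRight : Y →ₐ[k] K ⊗[k] Y).comp φ)).ofConv

theorem toConv_thetaHom (w : B →ₐ[k] K) (φ : B →ₐ[k] Y) :
    toConv (thetaHom w φ) =
      postComp (Algebra.TensorProduct.includeLeft : K →ₐ[k] K ⊗[k] Y) (toConv w) *
        toConv ((Algebra.TensorProduct.includeRight : Y →ₐ[k] K ⊗[k] Y).comp φ) := rfl

theorem thetaHom_eq (w : B →ₐ[k] K) (φ : B →ₐ[k] Y) :
    thetaHom w φ =
      ((Algebra.TensorProduct.map (AlgHom.id K K) φ).restrictScalars k).comp (lamHom w) := by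
  apply WithConv.toConv_injective
  change _ = postComp ((Algebra.TensorProduct.map (AlgHom.id K K) φ).restrictScalars k)
    (toConv (lamHom w))
  have hl : ((Algebra.TensorProduct.map (AlgHom.id K K) φ).restrictScalars k).comp
      (Algebra.TensorProduct.includeLeft : K →ₐ[k] K ⊗[k] B) =
      Algebra.TensorProduct.includeLeft := by
    ext c; simp
  have hr : ((Algebra.TensorProduct.map (AlgHom.id K K) φ).restrictScalars k).comp
      (Algebra.TensorProduct.includeRight : B →ₐ[k] K ⊗[k] B) =
      (Algebra.TensorProduct.includeRight : Y →ₐ[k] K ⊗[k] Y).comp φ := by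
    ext b; simp
  have h2 : postComp ((Algebra.TensorProduct.map (AlgHom.id K K) φ).restrictScalars k)
      (toConv (Algebra.TensorProduct.includeRight : B →ₐ[k] K ⊗[k] B)) =
      toConv ((Algebra.TensorProduct.includeRight : Y →ₐ[k] K ⊗[k] Y).comp φ) := by
    rw [postComp_apply, ofConv_toConv, hr]
  rw [toConv_lamHom, map_mul, postComp_comp, hl, h2]
  rfl

theorem thetaHom_comp {A : Type*} [CommRing A] [HopfAlgebra k A] (f : A →ₐc[k] B)
    (w : B →ₐ[k] K) (φ : B →ₐ[k] Y) :
    (thetaHom w φ).comp (f : A →ₐ[k] B) =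
      thetaHom (w.comp (f : A →ₐ[k] B)) (φ.comp (f : A →ₐ[k] B)) := by
  apply WithConv.toConv_injective
  change preComp _ f (postComp _ (toConv w) * toConv _) = _
  rw [map_mul]
  rfl

theorem evalK_thetaHom (w : B →ₐ[k] K) (φ : B →ₐ[k] Y) (g₀ : Y →ₐ[k] K) :
    ((Algebra.TensorProduct.lift (AlgHom.id K K) g₀ (fun _ _ => Commute.all _ _) :
      K ⊗[k] Y →ₐ[K] K).restrictScalars k).comp (thetaHom w φ) =
      (toConv w * toConv (g₀.comp φ)).ofConv := by
  apply WithConv.toConv_injective
  change postComp _ (postComp _ (toConv w) * toConv _) = _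
  rw [map_mul, postComp_comp, toConv_ofConv]
  congr 1
  · apply WithConv.ofConv_injective
    ext b
    simp
  · apply WithConv.ofConv_injective
    ext b
    simp

end Theta

section Flat

/-- `includeRight : B → K ⊗ B` is flat when `K` is flat over the base. -/
theorem includeRight_flat {k : Type*} [CommRing k] {B : Type*} [CommRing B] [Algebra k B]
    {K : Type*} [CommRing K] [Algebra k K] [Module.Flat k K] :
    (Algebra.TensorProduct.includeRight : B →ₐ[k] K ⊗[k] B).toRingHom.Flat := by
  have h1 : (algebraMap B (B ⊗[k] K)).Flat := RingHom.flat_algebraMap_iff.mpr inferInstance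
  have h2 : ((Algebra.TensorProduct.comm k B K : B ⊗[k] K ≃ₐ[k] K ⊗[k] B) :
      B ⊗[k] K →+* K ⊗[k] B).Flat := RingHom.Flat.of_bijective (AlgEquiv.bijective _)
  have h3 := RingHom.Flat.comp h1 h2
  convert h3 using 1
  ext b
  simp

variable {k : Type*} [Field k] {B : Type*} [CommRing B]
variable {K : Type*} [CommRing K] [Algebra k K] {Y : Type*} [CommRing Y] [Algebra k Y]

variable [HopfAlgebra k B]

theorem lamHom_flat (w : B →ₐ[k] K) : (lamHom w).toRingHom.Flat := by
  rw [← Lam_comp_includeRight]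
  exact RingHom.Flat.comp includeRight_flat (RingHom.Flat.of_bijective (Lam_bijective w))

theorem thetaHom_flat (w : B →ₐ[k] K) (φ : B →ₐ[k] Y) (hφ : φ.toRingHom.Flat) :
    (thetaHom w φ).toRingHom.Flat := by
  rw [thetaHom_eq]
  exact RingHom.Flat.comp (lamHom_flat w) (RingHom.Flat.lTensor (S := K) K hφ)

end Flat

end Groth.Agent.H83.Tk
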