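import Mathlib
import Groth.Prelude.Def_SGA3b
import Groth.Agent.H83.MultTors2

/-!
# Schematic density of the torsion subgroups of a diagonalisable group (helper83)

For a commutative ring `K`, a finitely generated commutative group `M` and `b y : K[M]`:
if for every `n > 0` some power of the image of `b` kills the image of `y` in `K[M / Mⁿ]`, then some
power of `b` kills `y` (`core_all`).  Proof: split off the torsion of `M` into the base ring, descend
to a finitely generated (Noetherian) subring of coefficients, Noetherian induction on ideals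
(domain case through the fraction field; otherwise a pair of zero divisors), and in the field case
Maschke (`K[M / Mⁿ]` is reduced for `n` prime to the characteristic).
-/

set_option autoImplicit false

universe u v w

open TensorProduct

namespace Groth.Agent.H83.TorsDense

section Defs

variable (K : Type u) [CommRing K] (M : Type v) [CommGroup M]

/-- The subgroup of `n`-th powers. -/
abbrev Pn (n : ℕ) : Subgroup M := (powMonoidHom n : M →* M).range

/-- `M / Mⁿ`. -/
abbrev Qn (n : ℕ) : Type v := M ⧸ Pn M n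

/-- The quotient map `M → M / Mⁿ`. -/
abbrev qn (n : ℕ) : M →* Qn M n := QuotientGroup.mk' (Pn M n)

/-- The induced map `K[M] → K[M / Mⁿ]`. -/
noncomputable abbrev pin (n : ℕ) : MonoidAlgebra K M →ₐ[K] MonoidAlgebra K (Qn M n) :=
  MonoidAlgebra.mapDomainAlgHom K K (qn M n)

variable {K M}

/-- `y` is `b`-power torsion in every `K[M / Mⁿ]`. -/
def Hyp (b y : MonoidAlgebra K M) : Prop :=
  ∀ n : ℕ, 0 < n → ∃ l : ℕ, pin K M n b ^ l * pin K M n y = 0

variable (K M)

/-- The density statement for `K[M]`. -/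
def Core : Prop := ∀ b y : MonoidAlgebra K M, Hyp b y → ∃ l : ℕ, b ^ l * y = 0

end Defs

section Functorial

variable {K : Type u} [CommRing K] {K' : Type w} [CommRing K'] {M : Type v} [CommGroup M]

theorem pin_map (f : K →+* K') (n : ℕ) (x : MonoidAlgebra K M) :
    MonoidAlgebra.mapRingHom (Qn M n) f (pin K M n x) =
      pin K' M n (MonoidAlgebra.mapRingHom M f x) := by
  have h := RingHom.congr_fun
    (MonoidAlgebra.mapRingHom_comp_mapDomainRingHom (M := M) f (qn M n)) x
  exact h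

theorem hyp_map (f : K →+* K') {b y : MonoidAlgebra K M} (h : Hyp b y) :
    Hyp (MonoidAlgebra.mapRingHom M f b) (MonoidAlgebra.mapRingHom M f y) := by
  intro n hn
  obtain ⟨l, hl⟩ := h n hn
  refine ⟨l, ?_⟩
  rw [← pin_map, ← pin_map, ← map_pow, ← map_mul, hl, map_zero]

theorem mapRingHom_eq_zero_iff (f : K →+* K') (x : MonoidAlgebra K M) :
    MonoidAlgebra.mapRingHom M f x = 0 ↔ ∀ m, f (x.coeff m) = 0 := by
  constructor
  · intro h m
    have h1 : (MonoidAlgebra.mapRingHom M f x).coeff m = 0 := by rw [h]; rfl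
    rwa [MonoidAlgebra.coeff_mapRingHom] at h1
  · intro h
    apply MonoidAlgebra.coeff_injective
    ext m
    rw [MonoidAlgebra.coeff_mapRingHom, h m]
    rfl

theorem mapRingHom_injective (f : K →+* K') (hf : Function.Injective f) :
    Function.Injective (MonoidAlgebra.mapRingHom M f) := by
  intro x y h
  apply MonoidAlgebra.coeff_injective
  ext m
  apply hf
  have h1 := congrArg (fun z => z.coeff m) h
  simp only [MonoidAlgebra.coeff_mapRingHom] at h1
  exact h1

theorem core_of_injective (f : K →+* K') (hf : Function.Injective f) (h : Core K' M) :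
    Core K M := by
  intro b y hyp
  obtain ⟨l, hl⟩ := h _ _ (hyp_map f hyp)
  refine ⟨l, mapRingHom_injective f hf ?_⟩
  rw [map_mul, map_pow, hl, map_zero]

theorem exists_smul_eq (s : K) (w : MonoidAlgebra K M)
    (h : ∀ m, w.coeff m ∈ Ideal.span {s}) : ∃ z : MonoidAlgebra K M, w = s • z := by
  classical
  let g : K → K := fun c => if hc : c ≠ 0 ∧ ∃ a, s * a = c then hc.2.choose else 0
  have hg0 : g 0 = 0 := by
    simp only [g]
    rw [dif_neg]
    exact fun h => h.1 rfl
  have hg : ∀ c ∈ Ideal.span {s}, s * g c = c := by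
    intro c hc
    by_cases h0 : c = 0
    · rw [h0, hg0, mul_zero]
    · obtain ⟨a, ha⟩ := Ideal.mem_span_singleton'.1 hc
      have hex : c ≠ 0 ∧ ∃ a, s * a = c := ⟨h0, a, by rw [mul_comm]; exact ha⟩
      simp only [g]
      rw [dif_pos hex]
      exact hex.2.choose_spec
  refine ⟨MonoidAlgebra.ofCoeff (w.coeff.mapRange g hg0), ?_⟩
  apply MonoidAlgebra.coeff_injective
  ext m
  rw [MonoidAlgebra.coeff_smul, Finsupp.smul_apply, MonoidAlgebra.coeff_ofCoeff,
    Finsupp.mapRange_apply, smul_eq_mul, hg _ (h m)]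

end Functorial

section Field

variable {κ : Type u} [Field κ] {M : Type v} [CommGroup M]

theorem Qn_pow (n : ℕ) (g : Qn M n) : g ^ n = 1 := by
  obtain ⟨x, rfl⟩ := QuotientGroup.mk'_surjective (Pn M n) g
  rw [← map_pow]
  exact (QuotientGroup.eq_one_iff _).2 ⟨x, rfl⟩

variable [Group.FG M]

theorem finite_Qn {n : ℕ} (hn : 0 < n) : Finite (Qn M n) := by
  apply CommGroup.finite_of_fg_isMulTorsion
  intro g
  rw [isOfFinOrder_iff_pow_eq_one]
  exact ⟨n, hn, Qn_pow n g⟩

theorem card_ne_zero (p : ℕ) [CharP κ p] {n : ℕ} (hn : 0 < n) (hpn : ¬ p ∣ n) :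
    (Nat.card (Qn M n) : κ) ≠ 0 := by
  have := finite_Qn (M := M) hn
  intro h0
  have hdvd : p ∣ Nat.card (Qn M n) := (CharP.cast_eq_zero_iff κ p _).1 h0
  rcases CharP.char_is_prime_or_zero κ p with hp | hp
  · have := Fact.mk hp
    obtain ⟨g, hg⟩ := exists_prime_orderOf_dvd_card' p hdvd
    apply hpn
    rw [← hg]
    exact orderOf_dvd_of_pow_eq_one (Qn_pow n g)
  · subst hp
    rw [zero_dvd_iff] at hdvd
    exact (Nat.card_pos (α := Qn M n)).ne' hdvd

theorem core_field (htf : ∀ c : ℕ, c ≠ 0 → ∀ m : M, m ^ c = 1 → m = 1) : Core κ M := by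
  classical
  intro b y hyp
  refine ⟨1, ?_⟩
  rw [pow_one]
  have hc : ringChar κ = 0 ∨ (ringChar κ).Prime :=
    (CharP.char_is_prime_or_zero κ (ringChar κ)).symm
  obtain ⟨n, hn, hpn, hinj⟩ :=
    MultTors.exists_injOn hc (fun h0 => htf _ h0) (b * y).coeff.support
  obtain ⟨l, hl⟩ := hyp n hn
  have := finite_Qn (M := M) hn
  have : NeZero (Nat.card (Qn M n) : κ) := ⟨card_ne_zero (ringChar κ) hn hpn⟩
  have hnil : IsNilpotent (pin κ M n (b * y)) := by
    refine ⟨l + 1, ?_⟩
    rw [map_mul, mul_pow, pow_succ, pow_succ', mul_mul_mul_comm, hl, zero_mul]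
  have h1 : pin κ M n (b * y) = 0 := hnil.eq_zero
  rw [MonoidAlgebra.mapDomainAlgHom_apply] at h1
  have hinjOn : Set.InjOn (qn M n) ((b * y).coeff.support : Set M) := by
    intro a ha b' hb hab
    refine hinj a (Finset.mem_coe.1 ha) b' (Finset.mem_coe.1 hb) ?_
    obtain ⟨x, hx⟩ := (QuotientGroup.eq).1 hab
    exact ⟨x, hx⟩
  have h2 : Finsupp.mapDomain (qn M n) (b * y).coeff = Finsupp.mapDomain (qn M n) 0 := by
    rw [Finsupp.mapDomain_zero]
    exact congrArg MonoidAlgebra.coeff h1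
  have h3 := Finsupp.mapDomain_injOn _ hinjOn
    (show (((b * y).coeff.support : Finset M) : Set M) ⊆ _ from subset_rfl) (by simp) h2
  exact MonoidAlgebra.coeff_injective h3

end Field

section Step

variable {K : Type u} [CommRing K] {M : Type v} [CommGroup M] [Group.FG M]

theorem core_step (htf : ∀ c : ℕ, c ≠ 0 → ∀ m : M, m ^ c = 1 → m = 1)
    (h : ∀ J : Ideal K, J ≠ ⊥ → Core (K ⧸ J) M) : Core K M := by
  classical
  rcases subsingleton_or_nontrivial K with hK | hK
  · intro b y _
    refine ⟨0, ?_⟩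
    apply MonoidAlgebra.coeff_injective
    ext m
    exact Subsingleton.elim _ _
  by_cases hdom : ∀ s s' : K, s * s' = 0 → s = 0 ∨ s' = 0
  · have : NoZeroDivisors K := ⟨fun {a b} hab => hdom a b hab⟩
    have : IsDomain K := NoZeroDivisors.to_isDomain K
    exact core_of_injective (algebraMap K (FractionRing K))
      (IsFractionRing.injective K (FractionRing K)) (core_field htf)
  · push Not at hdom
    obtain ⟨s, s', hss, hs, hs'⟩ := hdom
    intro b y hyp
    have hJ : Ideal.span {s} ≠ (⊥ : Ideal K) := by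
      rw [Ne, Ideal.span_singleton_eq_bot]
      exact hs
    obtain ⟨J', memJ'⟩ : ∃ J' : Ideal K, ∀ c : K, c ∈ J' ↔ s * c = 0 :=
      ⟨LinearMap.ker (LinearMap.mul K K s), fun c => by
        rw [LinearMap.mem_ker, LinearMap.mul_apply']⟩
    have hJ' : J' ≠ ⊥ := by
      intro hbot
      have h1 : s' ∈ J' := (memJ' s').2 hss
      rw [hbot, Ideal.mem_bot] at h1
      exact hs' h1
    -- step 1
    obtain ⟨l, hl⟩ := h _ hJ _ _ (hyp_map (Ideal.Quotient.mk (Ideal.span {s})) hyp)
    rw [← map_pow, ← map_mul, mapRingHom_eq_zero_iff] at hl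
    obtain ⟨z, hz⟩ := exists_smul_eq s (b ^ l * y)
      (fun m => Ideal.Quotient.eq_zero_iff_mem.1 (hl m))
    -- step 2
    have hyp' : Hyp (MonoidAlgebra.mapRingHom M (Ideal.Quotient.mk J') b)
        (MonoidAlgebra.mapRingHom M (Ideal.Quotient.mk J') z) := by
      intro n hn
      obtain ⟨l', hl'⟩ := hyp n hn
      refine ⟨l', ?_⟩
      have e1 : s • (pin K M n b ^ l' * pin K M n z) = 0 := by
        rw [← mul_smul_comm, ← map_smul, ← hz, map_mul, map_pow, ← mul_assoc,
          mul_comm (_ ^ l') (_ ^ l), mul_assoc, hl', mul_zero]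
      rw [← pin_map, ← pin_map, ← map_pow, ← map_mul, mapRingHom_eq_zero_iff]
      intro m
      rw [Ideal.Quotient.eq_zero_iff_mem, memJ']
      have h3 : (s • (pin K M n b ^ l' * pin K M n z)).coeff m = 0 := by rw [e1]; rfl
      rwa [MonoidAlgebra.coeff_smul, Finsupp.smul_apply, smul_eq_mul] at h3
    obtain ⟨l₂, hl₂⟩ := h J' hJ' _ _ hyp'
    rw [← map_pow, ← map_mul, mapRingHom_eq_zero_iff] at hl₂
    refine ⟨l₂ + l, ?_⟩
    have e2 : s • (b ^ l₂ * z) = 0 := by
      apply MonoidAlgebra.coeff_injective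
      ext m
      rw [MonoidAlgebra.coeff_smul, Finsupp.smul_apply, smul_eq_mul]
      exact (memJ' _).1 (Ideal.Quotient.eq_zero_iff_mem.1 (hl₂ m))
    rw [pow_add, mul_assoc, hz, mul_smul_comm, e2]

theorem core_noeth [IsNoetherianRing K]
    (htf : ∀ c : ℕ, c ≠ 0 → ∀ m : M, m ^ c = 1 → m = 1) : Core K M := by
  have key : ∀ I : Ideal K, Core (K ⧸ I) M := by
    intro I
    refine IsNoetherian.induction (P := fun I : Ideal K => Core (K ⧸ I) M) ?_ I
    intro I ih
    apply core_step htf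
    intro Jb hJb
    let f : K →+* (K ⧸ I) ⧸ Jb := (Ideal.Quotient.mk Jb).comp (Ideal.Quotient.mk I)
    have hf : Function.Surjective f :=
      Ideal.Quotient.mk_surjective.comp Ideal.Quotient.mk_surjective
    have hlt : I < RingHom.ker f := by
      refine lt_of_le_of_ne ?_ ?_
      · intro x hx
        rw [RingHom.mem_ker]
        show Ideal.Quotient.mk Jb (Ideal.Quotient.mk I x) = 0
        rw [Ideal.Quotient.eq_zero_iff_mem.2 hx, map_zero]
      · intro heq
        apply hJb
        rw [eq_bot_iff]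
        intro t ht
        obtain ⟨x, rfl⟩ := Ideal.Quotient.mk_surjective t
        have hx : x ∈ RingHom.ker f := by
          rw [RingHom.mem_ker]
          exact Ideal.Quotient.eq_zero_iff_mem.2 ht
        rw [← heq] at hx
        rw [Ideal.mem_bot]
        exact Ideal.Quotient.eq_zero_iff_mem.2 hx
    have e := RingHom.quotientKerEquivOfSurjective hf
    exact core_of_injective (e.symm : _ →+* _) e.symm.injective (ih _ hlt)
  refine core_of_injective (Ideal.Quotient.mk (⊥ : Ideal K)) ?_ (key ⊥)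
  rw [RingHom.injective_iff_ker_eq_bot, Ideal.mk_ker]

end Step

section General

variable {M : Type v} [CommGroup M] [Group.FG M]

theorem core_general (K : Type u) [CommRing K]
    (htf : ∀ c : ℕ, c ≠ 0 → ∀ m : M, m ^ c = 1 → m = 1) : Core K M := by
  classical
  intro b y hyp
  have hSfin : (Set.range b.coeff ∪ Set.range y.coeff).Finite :=
    (Finsupp.finite_range _).union (Finsupp.finite_range _)
  obtain ⟨K₀, hK₀, hSK₀⟩ : ∃ K₀ : Subalgebra ℤ K, K₀.FG ∧
      Set.range b.coeff ∪ Set.range y.coeff ⊆ K₀ :=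
    ⟨Algebra.adjoin ℤ _, Subalgebra.fg_def.2 ⟨_, hSfin, rfl⟩, Algebra.subset_adjoin⟩
  have : Algebra.FiniteType ℤ K₀ := (Subalgebra.fg_iff_finiteType K₀).1 hK₀
  have : IsNoetherianRing K₀ := Algebra.FiniteType.isNoetherianRing ℤ K₀
  have hι : Function.Injective (K₀.val : K₀ →+* K) := Subtype.val_injective
  have hres : ∀ x : MonoidAlgebra K M, (∀ m, x.coeff m ∈ K₀) →
      ∃ x₀ : MonoidAlgebra K₀ M, MonoidAlgebra.mapRingHom M (K₀.val : K₀ →+* K) x₀ = x := by
    intro x hx
    let g : K → K₀ := fun c => if hc : c ∈ K₀ then ⟨c, hc⟩ else 0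
    have hg0 : g 0 = 0 := by
      simp only [g]
      rw [dif_pos (zero_mem _)]
      rfl
    refine ⟨MonoidAlgebra.ofCoeff (x.coeff.mapRange g hg0), ?_⟩
    apply MonoidAlgebra.coeff_injective
    ext m
    rw [MonoidAlgebra.coeff_mapRingHom, MonoidAlgebra.coeff_ofCoeff, Finsupp.mapRange_apply]
    simp only [g]
    rw [dif_pos (hx m)]
    rfl
  obtain ⟨b₀, hb₀⟩ := hres b (fun m => hSK₀ (Or.inl ⟨m, rfl⟩))
  obtain ⟨y₀, hy₀⟩ := hres y (fun m => hSK₀ (Or.inr ⟨m, rfl⟩))
  have hyp₀ : Hyp b₀ y₀ := by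
    intro n hn
    obtain ⟨l, hl⟩ := hyp n hn
    refine ⟨l, mapRingHom_injective (K₀.val : K₀ →+* K) hι ?_⟩
    rw [map_mul, map_pow, pin_map, pin_map, hb₀, hy₀, hl, map_zero]
  obtain ⟨l, hl⟩ := core_noeth (K := K₀) htf b₀ y₀ hyp₀
  refine ⟨l, ?_⟩
  rw [← hb₀, ← hy₀, ← map_pow, ← map_mul, hl, map_zero]

end General

section Split

universe w'

variable (K : Type u) [CommRing K] {M : Type v} [CommGroup M] {Fr : Type w} [CommGroup Fr]
  {Fi : Type w'} [CommGroup Fi] (φ : M ≃* Fr × Fi)

/-- `x ↦ e_{fi x} · e_{fr x}`, the monoid map defining `K[M] → K[Fi][Fr]`. -/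
noncomputable def theta : M →* MonoidAlgebra (MonoidAlgebra K Fi) Fr where
  toFun x := MonoidAlgebra.single (φ x).1 (MonoidAlgebra.single (φ x).2 1)
  map_one' := by simp [MonoidAlgebra.one_def]
  map_mul' x y := by simp [MonoidAlgebra.single_mul_single]

theorem theta_apply (x : M) :
    theta K φ x = MonoidAlgebra.single (φ x).1 (MonoidAlgebra.single (φ x).2 1) := rfl

/-- `K[M] → K[Fi][Fr]`. -/
noncomputable def Theta : MonoidAlgebra K M →ₐ[K] MonoidAlgebra (MonoidAlgebra K Fi) Fr :=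
  MonoidAlgebra.lift K _ M (theta K φ)

theorem Theta_single (x : M) (r : K) :
    Theta K φ (MonoidAlgebra.single x r) =
      MonoidAlgebra.single (φ x).1 (MonoidAlgebra.single (φ x).2 r) := by
  unfold Theta
  rw [MonoidAlgebra.lift_single, theta_apply, MonoidAlgebra.smul_single, MonoidAlgebra.smul_single,
    smul_eq_mul, mul_one]

theorem Theta_coeff (y : MonoidAlgebra K M) (a : Fr) (f : Fi) :
    ((Theta K φ y).coeff a).coeff f = y.coeff (φ.symm (a, f)) := by
  classical
  induction y using MonoidAlgebra.induction_linear with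
  | zero => simp
  | add x y hx hy =>
    rw [map_add, MonoidAlgebra.coeff_add, Finsupp.add_apply, MonoidAlgebra.coeff_add,
      Finsupp.add_apply, hx, hy, MonoidAlgebra.coeff_add, Finsupp.add_apply]
  | single x r =>
    rw [Theta_single, MonoidAlgebra.coeff_single, Finsupp.single_apply,
      MonoidAlgebra.coeff_single, Finsupp.single_apply]
    by_cases h : φ x = (a, f)
    · have h1 : (φ x).1 = a := by rw [h]
      have h2 : (φ x).2 = f := by rw [h]
      have h3 : x = φ.symm (a, f) := by rw [← h, φ.symm_apply_apply]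
      rw [if_pos h1, MonoidAlgebra.coeff_single, Finsupp.single_apply, if_pos h2, if_pos h3]
    · have h3 : ¬ x = φ.symm (a, f) := fun h3 => h (by rw [h3, φ.apply_symm_apply])
      rw [if_neg h3]
      by_cases h1 : (φ x).1 = a
      · rw [if_pos h1, MonoidAlgebra.coeff_single, Finsupp.single_apply, if_neg]
        intro h2
        exact h (Prod.ext h1 h2)
      · rw [if_neg h1]
        rfl

theorem Theta_injective : Function.Injective (Theta K φ) := by
  intro x y h
  apply MonoidAlgebra.coeff_injective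
  ext m
  have h1 := Theta_coeff K φ x (φ m).1 (φ m).2
  have h2 := Theta_coeff K φ y (φ m).1 (φ m).2
  rw [h] at h1
  rw [Prod.mk.eta, φ.symm_apply_apply] at h1 h2
  rw [← h1, h2]

/-- `M → K[Fi][Fr / Frⁿ]`. -/
noncomputable def thetaQ (n : ℕ) : M →* MonoidAlgebra (MonoidAlgebra K Fi) (Qn Fr n) :=
  ((pin (MonoidAlgebra K Fi) Fr n).toRingHom : _ →* _).comp (theta K φ)

theorem thetaQ_apply (n : ℕ) (x : M) :
    thetaQ K φ n x =
      MonoidAlgebra.single (qn Fr n (φ x).1) (MonoidAlgebra.single (φ x).2 1) := by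
  show pin (MonoidAlgebra K Fi) Fr n (theta K φ x) = _
  rw [theta_apply, MonoidAlgebra.mapDomainAlgHom_apply, MonoidAlgebra.mapDomain_single]

variable (N₀ : ℕ) (hFi : ∀ f : Fi, f ^ N₀ = 1)

include hFi in
theorem thetaQ_ker (n : ℕ) : Pn M (N₀ * n) ≤ (thetaQ K φ n).ker := by
  intro x hx
  obtain ⟨z, rfl⟩ := hx
  rw [MonoidHom.mem_ker, thetaQ_apply, powMonoidHom_apply]
  have h1 : (φ (z ^ (N₀ * n))).2 = 1 := by
    rw [map_pow, Prod.pow_snd, pow_mul, hFi, one_pow]
  have h2 : qn Fr n (φ (z ^ (N₀ * n))).1 = 1 := by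
    rw [map_pow, Prod.pow_fst, pow_mul]
    exact (QuotientGroup.eq_one_iff _).2 ⟨(φ z).1 ^ N₀, rfl⟩
  rw [h1, h2, ← MonoidAlgebra.one_def, ← MonoidAlgebra.one_def]

/-- `K[M / M^{N₀ n}] → K[Fi][Fr / Frⁿ]`. -/
noncomputable def ThetaQ (n : ℕ) :
    MonoidAlgebra K (Qn M (N₀ * n)) →ₐ[K] MonoidAlgebra (MonoidAlgebra K Fi) (Qn Fr n) :=
  MonoidAlgebra.lift K _ _
    (QuotientGroup.lift (Pn M (N₀ * n)) (thetaQ K φ n) (thetaQ_ker K φ N₀ hFi n))

theorem ThetaQ_single (n : ℕ) (x : M) (r : K) :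
    ThetaQ K φ N₀ hFi n (MonoidAlgebra.single (qn M (N₀ * n) x) r) =
      MonoidAlgebra.single (qn Fr n (φ x).1) (MonoidAlgebra.single (φ x).2 r) := by
  unfold ThetaQ
  rw [MonoidAlgebra.lift_single]
  show r • thetaQ K φ n x = _
  rw [thetaQ_apply, MonoidAlgebra.smul_single, MonoidAlgebra.smul_single, smul_eq_mul, mul_one]

theorem ThetaQ_comm (n : ℕ) (x : MonoidAlgebra K M) :
    ThetaQ K φ N₀ hFi n (pin K M (N₀ * n) x) = pin (MonoidAlgebra K Fi) Fr n (Theta K φ x) := by
  induction x using MonoidAlgebra.induction_linear with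
  | zero => simp
  | add x y hx hy => rw [map_add, map_add, map_add, map_add, hx, hy]
  | single x r =>
    rw [Theta_single, MonoidAlgebra.mapDomainAlgHom_apply, MonoidAlgebra.mapDomain_single,
      MonoidAlgebra.mapDomainAlgHom_apply, MonoidAlgebra.mapDomain_single]
    exact ThetaQ_single K φ N₀ hFi n x r

include φ hFi in
theorem core_split (hN₀ : 0 < N₀) (hcore : Core (MonoidAlgebra K Fi) Fr) : Core K M := by
  intro b y hyp
  have hyp' : Hyp (Theta K φ b) (Theta K φ y) := by
    intro n hn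
    obtain ⟨l, hl⟩ := hyp (N₀ * n) (Nat.mul_pos hN₀ hn)
    refine ⟨l, ?_⟩
    rw [← ThetaQ_comm K φ N₀ hFi, ← ThetaQ_comm K φ N₀ hFi, ← map_pow, ← map_mul, hl, map_zero]
  obtain ⟨l, hl⟩ := hcore _ _ hyp'
  refine ⟨l, Theta_injective K φ ?_⟩
  rw [map_mul, map_pow, hl, map_zero]

end Split

section All

theorem core_all (K : Type u) [CommRing K] (M : Type v) [CommGroup M] [Group.FG M] :
    Core K M := by
  obtain ⟨ι, j, _, _, p, hp, e, ⟨φ⟩⟩ := CommGroup.equiv_free_prod_prod_multiplicative_zmod M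
  have hFrfg : Group.FG (j → Multiplicative ℤ) := by
    refine Group.fg_of_surjective
      (f := (MonoidHom.fst (j → Multiplicative ℤ) _).comp φ.toMonoidHom) ?_
    intro a
    exact ⟨φ.symm (a, 1), by simp⟩
  have htf : ∀ c : ℕ, c ≠ 0 → ∀ m : j → Multiplicative ℤ, m ^ c = 1 → m = 1 := by
    intro c hc m hm
    funext i
    have h1 : (m i) ^ c = 1 := congrFun hm i
    apply Multiplicative.toAdd.injective
    have h2 : c • Multiplicative.toAdd (m i) = 0 := by
      rw [← toAdd_pow, h1, toAdd_one]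
    show Multiplicative.toAdd (m i) = 0
    rcases smul_eq_zero.1 h2 with h | h
    · exact absurd h hc
    · exact h
  have hN₀ : 0 < ∏ i, p i ^ e i := Finset.prod_pos (fun i _ => pow_pos (hp i).pos _)
  have hFi : ∀ f : ((i : ι) → Multiplicative (ZMod (p i ^ e i))), f ^ (∏ i, p i ^ e i) = 1 := by
    intro f
    funext i
    show (f i) ^ (∏ i, p i ^ e i) = 1
    obtain ⟨k, hk⟩ : p i ^ e i ∣ ∏ i, p i ^ e i := Finset.dvd_prod_of_mem _ (Finset.mem_univ i)
    rw [hk, pow_mul, MultTors.zmod_pow_eq_one, one_pow]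
  exact core_split K φ _ hFi hN₀ (core_general (MonoidAlgebra K _) htf)

end All

end Groth.Agent.H83.TorsDense
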