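import Mathlib

set_option autoImplicit false
universe u

namespace Groth.Agent.H83.WF_PB

/-- degree of a ring hom: rank of the target as a module over the source -/
noncomputable def deg {A B : Type*} [CommRing A] [CommRing B] (f : A →+* B) : ℕ :=
  @Module.finrank A B _ _ f.toAlgebra.toModule

theorem deg_def {A B : Type*} [CommRing A] [CommRing B] (f : A →+* B) :
    deg f = (letI := f.toAlgebra; Module.finrank A B) := rfl

theorem deg_algebraMap {A B : Type*} [CommRing A] [CommRing B] [inst : Algebra A B] :
    deg (algebraMap A B) = Module.finrank A B := by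
  have h : (algebraMap A B).toAlgebra = inst := Algebra.algebra_ext _ _ (fun r => rfl)
  unfold deg
  rw [h]

theorem deg_comp {A B C : Type*} [Field A] [Field B] [Field C] (f : A →+* B) (g : B →+* C) :
    deg (g.comp f) = deg f * deg g := by
  letI := f.toAlgebra
  letI := g.toAlgebra
  letI := (g.comp f).toAlgebra
  haveI : IsScalarTower A B C := IsScalarTower.of_algebraMap_eq (fun x => rfl)
  exact (Module.finrank_mul_finrank A B C).symm

theorem deg_of_bijective {A B : Type*} [Field A] [Field B] (f : A →+* B)
    (hf : Function.Bijective f) : deg f = 1 := by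
  letI := f.toAlgebra
  have e : A ≃ₗ[A] B := LinearEquiv.ofBijective (Algebra.linearMap A B) hf
  show Module.finrank A B = 1
  rw [← e.finrank_eq, Module.finrank_self]

/-- the degree of the iterated Frobenius is invariant under finite extensions -/
theorem deg_frob_eq {M L : Type*} [Field M] [Field L] (p : ℕ) [ExpChar M p] [ExpChar L p] (e : ℕ)
    (i : M →+* L) (hi : deg i ≠ 0) :
    deg (iterateFrobenius L p e) = deg (iterateFrobenius M p e) := by
  have h : i.comp (iterateFrobenius M p e) = (iterateFrobenius L p e).comp i := by
    ext x; simp [iterateFrobenius_def]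
  have h1 := deg_comp (iterateFrobenius M p e) i
  have h2 := deg_comp i (iterateFrobenius L p e)
  rw [h] at h1
  rw [h1, mul_comm] at h2
  exact (Nat.eq_of_mul_eq_mul_left (Nat.pos_of_ne_zero hi) h2).symm

/-- two ring homs into a field with the same range have the same degree -/
theorem deg_eq_of_range {E L : Type*} [Field E] [Field L] (F : L →+* L) (ρ : E →+* L)
    (h1 : ∀ t : L, ∃ u : E, ρ u = F t) (h2 : ∀ u : E, ∃ t : L, ρ u = F t) :
    deg ρ = deg F := by
  choose τ hτ using h2
  have hF : Function.Injective F := F.injective
  let σ : E →+* L :=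
    { toFun := τ
      map_one' := hF (by rw [← hτ, map_one, map_one])
      map_mul' := fun a b => hF (by rw [← hτ, map_mul, map_mul, hτ, hτ])
      map_zero' := hF (by rw [← hτ, map_zero, map_zero])
      map_add' := fun a b => hF (by rw [← hτ, map_add, map_add, hτ, hτ]) }
  have hσ : F.comp σ = ρ := RingHom.ext fun u => (hτ u).symm
  have hbij : Function.Bijective σ := by
    refine ⟨σ.injective, fun t => ?_⟩
    obtain ⟨u, hu⟩ := h1 t
    exact ⟨u, hF (by rw [← hu]; exact (hτ u).symm)⟩
  rw [← hσ, deg_comp, deg_of_bijective σ hbij, one_mul]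

end Groth.Agent.H83.WF_PB
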