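import Mathlib

set_option autoImplicit false
universe u

namespace Groth.Agent.H83.WF_PB

open MvPolynomial

section Poly

variable {ι : Type*} [Fintype ι] [DecidableEq ι] {k : Type*} [CommRing k] (q : ℕ)

/-- exponent vector of a residue tuple -/
noncomputable def fs (a : ι → Fin q) : ι →₀ ℕ :=
  Finsupp.equivFunOnFinite.symm (fun i => (a i : ℕ))

@[simp] theorem fs_apply (a : ι → Fin q) (i : ι) : fs q a i = (a i : ℕ) := by
  simp [fs]

theorem expand_basis_exists (hq : 0 < q) (y : MvPolynomial ι k) :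
    ∃ c : (ι → Fin q) → MvPolynomial ι k, y = ∑ a, expand q (c a) * monomial (fs q a) 1 := by
  classical
  induction y using MvPolynomial.induction_on' with
  | monomial d r =>
    let a₁ : ι → Fin q := fun i => ⟨d i % q, Nat.mod_lt _ hq⟩
    let d₁ : ι →₀ ℕ := Finsupp.equivFunOnFinite.symm (fun i => d i / q)
    have hd : q • d₁ + fs q a₁ = d := by
      ext i
      simp [a₁, d₁, Nat.div_add_mod]
    refine ⟨Pi.single a₁ (monomial d₁ r), ?_⟩
    rw [Fintype.sum_eq_single a₁ (fun a ha => by rw [Pi.single_eq_of_ne ha, map_zero, zero_mul]),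
      Pi.single_eq_same, expand_monomial, monomial_mul, mul_one, hd]
  | add y₁ y₂ h₁ h₂ =>
    obtain ⟨c₁, hc₁⟩ := h₁
    obtain ⟨c₂, hc₂⟩ := h₂
    refine ⟨c₁ + c₂, ?_⟩
    simp only [Pi.add_apply, map_add, add_mul, Finset.sum_add_distrib]
    rw [← hc₁, ← hc₂]

theorem expand_basis_unique (hq : 0 < q) (c : (ι → Fin q) → MvPolynomial ι k)
    (h : ∑ a, expand q (c a) * monomial (fs q a) 1 = 0) : c = 0 := by
  classical
  funext a₀
  ext m
  have h' := congrArg (coeff (q • m + fs q a₀)) h
  rw [coeff_sum, coeff_zero] at h'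
  rw [Finset.sum_eq_single a₀] at h'
  · rw [coeff_mul_monomial', if_pos le_add_self, add_tsub_cancel_right,
      coeff_expand_smul q hq.ne', mul_one] at h'
    simpa using h'
  · intro a _ ha
    rw [coeff_mul_monomial']
    split_ifs with hle
    · obtain ⟨i, hi⟩ : ∃ i, a i ≠ a₀ i := Function.ne_iff.mp ha
      rw [coeff_expand_of_not_dvd (i := i), zero_mul]
      have hle' := hle i
      simp only [Finsupp.coe_tsub, Finsupp.coe_add, Finsupp.coe_smul, Pi.sub_apply, Pi.add_apply,
        Pi.smul_apply, fs_apply, smul_eq_mul] at hle' ⊢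
      intro hdvd
      apply hi
      obtain ⟨w, hw⟩ := hdvd
      have hxy : q * w + (a i : ℕ) = q * m i + (a₀ i : ℕ) := by omega
      have e1 : (q * w + (a i : ℕ)) % q = (a i : ℕ) % q := Nat.mul_add_mod _ _ _
      have e2 : (q * m i + (a₀ i : ℕ)) % q = (a₀ i : ℕ) % q := Nat.mul_add_mod _ _ _
      rw [hxy, e2, Nat.mod_eq_of_lt (a i).isLt, Nat.mod_eq_of_lt (a₀ i).isLt] at e1
      exact Fin.ext e1.symm
    · rfl
  · intro h; exact absurd (Finset.mem_univ _) h

theorem expand_basis_existsUnique (hq : 0 < q) (y : MvPolynomial ι k) :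
    ∃! c : (ι → Fin q) → MvPolynomial ι k, y = ∑ a, expand q (c a) * monomial (fs q a) 1 := by
  obtain ⟨c, hc⟩ := expand_basis_exists q hq y
  refine ⟨c, hc, fun c' hc' => ?_⟩
  have : c' - c = 0 := by
    apply expand_basis_unique q hq
    simp only [Pi.sub_apply, map_sub, sub_mul, Finset.sum_sub_distrib]
    rw [← hc, ← hc', sub_self]
  exact sub_eq_zero.mp this

end Poly

end Groth.Agent.H83.WF_PB
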