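import Mathlib
import Groth.Agent.H83.WF_PBcore
import Groth.Agent.H83.WF_PBpoly

set_option autoImplicit false
universe u

namespace Groth.Agent.H83.WF_PB

open MvPolynomial

/-- degree of the induced map on fraction fields, from an elementary basis of the ring map -/
theorem deg_of_basis {R R₂ K K₂ : Type*} [CommRing R] [IsDomain R] [CommRing R₂] [IsDomain R₂]
    [Field K] [Field K₂] [Algebra R K] [IsFractionRing R K] [Algebra R₂ K₂] [IsFractionRing R₂ K₂]
    (f : R →+* R₂) (hf : Function.Injective f) (g : K →+* K₂)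
    (hfg : ∀ r, g (algebraMap R K r) = algebraMap R₂ K₂ (f r))
    {I : Type*} [Fintype I] (v : I → R₂)
    (hv : ∀ y : R₂, ∃! c : I → R, y = ∑ i, f (c i) * v i)
    (hint : ∀ b : R₂, b ≠ 0 → ∃ c : R₂, ∃ s : R, s ≠ 0 ∧ b * c = f s) :
    deg g = Fintype.card I := by
  classical
  letI := f.toAlgebra
  letI := g.toAlgebra
  letI : Algebra R K₂ := ((algebraMap R₂ K₂).comp f).toAlgebra
  haveI : IsScalarTower R R₂ K₂ := IsScalarTower.of_algebraMap_eq (fun x => rfl)
  haveI : IsScalarTower R K K₂ := IsScalarTower.of_algebraMap_eq (fun x => (hfg x).symm)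
  have hsmul : ∀ (r : R) (y : R₂), r • y = f r * y := fun r y => rfl
  have hli : LinearIndependent R v := by
    rw [Fintype.linearIndependent_iff]
    intro c hc i
    obtain ⟨c₀, -, huniq⟩ := hv 0
    have h1 : c = c₀ := huniq c (by rw [← hc]; simp [hsmul])
    have h2 : (0 : I → R) = c₀ := huniq 0 (by simp)
    rw [h1, ← h2]; rfl
  have hsp : ⊤ ≤ Submodule.span R (Set.range v) := by
    intro y _
    obtain ⟨c, hc, -⟩ := hv y
    rw [hc]
    exact Submodule.sum_mem _ fun i _ => by
      rw [← hsmul]; exact Submodule.smul_mem _ _ (Submodule.subset_span ⟨i, rfl⟩)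
  let b : Module.Basis I R R₂ := Module.Basis.mk hli hsp
  haveI : IsLocalization (Algebra.algebraMapSubmonoid R₂ (nonZeroDivisors R)) K₂ := by
    rw [isLocalization_iff]
    refine ⟨?_, ?_, ?_⟩
    · rintro ⟨y, s, hs, rfl⟩
      have hs0 : s ≠ 0 := nonZeroDivisors.ne_zero hs
      apply IsUnit.mk0
      intro h0
      have : f s = 0 := (IsFractionRing.injective R₂ K₂) (by rw [map_zero]; exact h0)
      exact hs0 (hf (by rw [this, map_zero]))
    · intro z
      obtain ⟨⟨a, bb⟩, hab⟩ := IsLocalization.surj (nonZeroDivisors R₂) z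
      obtain ⟨c, s, hs0, hcs⟩ := hint bb (nonZeroDivisors.ne_zero bb.2)
      refine ⟨⟨a * c, ⟨f s, s, mem_nonZeroDivisors_of_ne_zero hs0, rfl⟩⟩, ?_⟩
      show z * algebraMap R₂ K₂ (f s) = algebraMap R₂ K₂ (a * c)
      rw [← hcs, map_mul, map_mul, ← mul_assoc, hab]
    · intro x y hxy
      exact ⟨1, by rw [(IsFractionRing.injective R₂ K₂) hxy]⟩
  let b' := b.localizationLocalization K (nonZeroDivisors R) K₂
  show Module.finrank K K₂ = _
  rw [Module.finrank_eq_card_basis b']

end Groth.Agent.H83.WF_PB
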