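import Mathlib
import Groth.Agent.H83.WF_PBloc

set_option autoImplicit false
universe u

namespace Groth.Agent.H83.WF_PB

open MvPolynomial

/-- degree of the `p^e`-Frobenius on a purely transcendental extension of a perfect field -/
theorem deg_frob_fractionRing {ι : Type*} [Fintype ι] [DecidableEq ι] {k : Type*} [Field k]
    [PerfectField k] (p : ℕ) [hp : Fact p.Prime] [CharP k p] (e : ℕ) (K : Type*) [Field K]
    [Algebra (MvPolynomial ι k) K] [IsFractionRing (MvPolynomial ι k) K] [ExpChar K p] :
    deg (iterateFrobenius K p e) = (p ^ e) ^ Fintype.card ι := by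
  haveI : ExpChar k p := ExpChar.prime hp.out
  haveI : PerfectRing k p := PerfectField.toPerfectRing p
  set q := p ^ e with hq
  have hq0 : 0 < q := pow_pos hp.out.pos e
  have key := deg_of_basis (R := MvPolynomial ι k) (R₂ := MvPolynomial ι k) (K := K) (K₂ := K)
    (iterateFrobenius (MvPolynomial ι k) p e) (iterateFrobenius_inj _ p e) (iterateFrobenius K p e)
    (fun r => by simp [iterateFrobenius_def]) (fun a : ι → Fin q => monomial (fs q a) (1 : k)) ?_ ?_
  · rw [key]; simp
  · intro y
    obtain ⟨c', hc', huniq⟩ := expand_basis_existsUnique q hq0 y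
    have hsurj : Function.Surjective (MvPolynomial.map (σ := ι) (iterateFrobenius k p e)) :=
      MvPolynomial.map_surjective _ (bijective_iterateFrobenius k p e).2
    have hinj : Function.Injective (MvPolynomial.map (σ := ι) (iterateFrobenius k p e)) :=
      MvPolynomial.map_injective _ (iterateFrobenius_inj k p e)
    have hpow : ∀ c : MvPolynomial ι k, iterateFrobenius (MvPolynomial ι k) p e c =
        expand q (map (iterateFrobenius k p e) c) := by
      intro c
      rw [iterateFrobenius_def, ← map_iterateFrobenius_expand, map_expand]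
    choose c hc using fun a => hsurj (c' a)
    refine ⟨c, ?_, ?_⟩
    · simp only [hpow, hc]; exact hc'
    · intro c₂ hc₂
      simp only [hpow] at hc₂
      have := huniq (fun a => map (iterateFrobenius k p e) (c₂ a)) hc₂
      funext a
      apply hinj
      rw [hc a, ← this]
  · intro b hb
    refine ⟨b ^ (q - 1), b, hb, ?_⟩
    rw [iterateFrobenius_def, ← pow_succ', Nat.sub_add_cancel hq0]

end Groth.Agent.H83.WF_PB
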