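import Mathlib
import Groth.Agent.H83.WF_PBfrac

set_option autoImplicit false
universe u

namespace Groth.Agent.H83.WF_PB

open MvPolynomial

/-- (PB) degree of the `p^e`-Frobenius on a finitely generated field extension of a perfect
field. -/
theorem finrank_of_range_eq_pow (k L E : Type u) [Field k] [Field L] [Field E] [Algebra k L]
    [PerfectField k] [Algebra.EssFiniteType k L] (p : ℕ) [Fact p.Prime] [CharP k p] (e n : ℕ)
    (hn : Algebra.trdeg k L = (n : Cardinal.{u}))
    (ρ : E →+* L) (h1 : ∀ t : L, ∃ u : E, ρ u = t ^ (p ^ e))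
    (h2 : ∀ u : E, ∃ t : L, ρ u = t ^ (p ^ e)) :
    letI := ρ.toAlgebra
    Module.finrank E L = p ^ (e * n) := by
  classical
  have hp : p.Prime := Fact.out
  haveI : ExpChar k p := ExpChar.prime hp
  haveI : CharP L p := charP_of_injective_algebraMap (algebraMap k L).injective p
  haveI : ExpChar L p := ExpChar.prime hp
  obtain ⟨s, hs, -⟩ := exists_isTranscendenceBasis_and_isSeparable_of_perfectField k L
  have hcard : Fintype.card s = n := by
    have h := hs.cardinalMk_eq_trdeg
    rw [hn] at h
    simpa using h
  let x : s → L := (↑)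
  let M := IntermediateField.adjoin k (Set.range x)
  let K := FractionRing (MvPolynomial s k)
  let ε : K ≃ₐ[k] M := hs.1.aevalEquivField
  haveI : Algebra.IsAlgebraic M L := hs.isAlgebraic_field
  haveI : Algebra.EssFiniteType M L := Algebra.EssFiniteType.of_comp k M L
  haveI : Module.Finite M L := Algebra.finite_of_essFiniteType_of_isAlgebraic
  haveI : ExpChar K p := ExpChar.prime hp
  let i' : K →+* L := (algebraMap M L).comp (ε : K →+* M)
  have hdeg : deg i' ≠ 0 := by
    rw [deg_comp, deg_of_bijective _ ε.bijective, one_mul, deg_algebraMap]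
    exact Module.finrank_pos.ne'
  have h3 : deg ρ = deg (iterateFrobenius L p e) :=
    deg_eq_of_range _ ρ (fun t => by simpa [iterateFrobenius_def] using h1 t)
      (fun u => by simpa [iterateFrobenius_def] using h2 u)
  show deg ρ = _
  rw [h3, deg_frob_eq p e i' hdeg, deg_frob_fractionRing (ι := s) (k := k) p e K, hcard, pow_mul]

end Groth.Agent.H83.WF_PB
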